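import Mathlib

/-!
# Ring-level lemmas for absolute Noetherian approximation

Setting: rings `B`, `Rl`, `Ri` with maps `s : B →+* Rl`, `t : Ri →+* Rl`; elements `g : B`,
`fi : Ri` with `t fi = s g`, such that `B_g ≅ Rl_{s g}` (expressed elementwise).  We study
subrings `A` of the fibre product `B ×_{Rl} Ri ⊆ B × Ri` and show that `(Ri)_{fi}` is the
localization of `A` at `(g, fi)` as soon as `A` contains finitely many suitable elements.
-/

set_option autoImplicit false
universe u

namespace Groth.Agent.Lib.Helper70.AbsApproxC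

variable {B Rl Ri : Type*} [CommRing B] [CommRing Rl] [CommRing Ri]
  (s : B →+* Rl) (t : Ri →+* Rl)

/-- The fibre product `B ×_{Rl} Ri` as a subring of `B × Ri`. -/
def eqLoc : Subring (B × Ri) :=
  RingHom.eqLocus (s.comp (RingHom.fst B Ri)) (t.comp (RingHom.snd B Ri))

lemma mem_eqLoc {z : B × Ri} : z ∈ eqLoc s t ↔ s z.1 = t z.2 := Iff.rfl

variable {s t}

section Away

variable {g : B} {fi : Ri} (hgf : t fi = s g)
  (hinj : ∀ x : B, s x = 0 → ∃ n : ℕ, g ^ n * x = 0)
  (hsurj : ∀ r : Rl, ∃ (n : ℕ) (x : B), s g ^ n * r = s x)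

include hgf in
lemma pair_mem_eqLoc : (g, fi) ∈ eqLoc s t := by
  rw [mem_eqLoc]; exact hgf.symm

include hgf hinj in
/-- Injectivity part: an element of the fibre product whose second component is killed by a
power of `fi` is killed by a power of `(g, fi)`. -/
lemma exists_pow_mul_eq_zero {z : B × Ri} (hz : z ∈ eqLoc s t) {m : ℕ}
    (hm : fi ^ m * z.2 = 0) : ∃ N : ℕ, (g, fi) ^ N * z = 0 := by
  have h1 : s (g ^ m * z.1) = 0 := by
    rw [map_mul, map_pow, ← hgf, ((mem_eqLoc s t).mp hz), ← map_pow, ← map_mul, hm, map_zero]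
  obtain ⟨n, hn⟩ := hinj _ h1
  refine ⟨n + m, ?_⟩
  ext
  · simp only [Prod.fst_mul, Prod.pow_fst, Prod.fst_zero]
    rw [pow_add, mul_assoc, hn]
  · simp only [Prod.snd_mul, Prod.pow_snd, Prod.snd_zero]
    rw [pow_add, mul_assoc, hm, mul_zero]

include hgf hsurj in
/-- Surjectivity part: every element of `Ri` becomes, after multiplication by a power of `fi`,
the second component of an element of the fibre product. -/
lemma exists_mem_eqLoc_snd (r : Ri) : ∃ (n : ℕ) (z : B × Ri), z ∈ eqLoc s t ∧ z.2 = fi ^ n * r := by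
  obtain ⟨n, x, hx⟩ := hsurj (t r)
  refine ⟨n, (x, fi ^ n * r), ?_, rfl⟩
  rw [mem_eqLoc]
  simp only
  rw [map_mul, map_pow, hgf, ← hx]

variable {C : Type*} [CommRing C] [Algebra Ri C] [IsLocalization.Away fi C]

include hgf hinj in
/-- Injectivity of `A_{(g, fi)} → C` for subrings `A` of the fibre product. -/
lemma exists_pow_mul_eq_zero_of_algebraMap_eq_zero {z : B × Ri} (hz : z ∈ eqLoc s t)
    (h0 : algebraMap Ri C z.2 = 0) : ∃ N : ℕ, (g, fi) ^ N * z = 0 := by
  have h1 : algebraMap Ri C z.2 = algebraMap Ri C 0 := by rw [h0, map_zero]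
  obtain ⟨m, hm⟩ := IsLocalization.Away.exists_of_eq fi h1
  rw [mul_zero] at hm
  exact exists_pow_mul_eq_zero hgf hinj hz hm

include hgf hsurj in
/-- If `C = (Ri)_{fi}` is a finitely generated ring, there is a finite subset `T` of the fibre
product such that for every subring `A` containing `T` and `(g, fi)` the map `A_{(g,fi)} → C` is
surjective. -/
theorem exists_finset_surj (hC : ∃ S : Finset C, Subring.closure (S : Set C) = ⊤) :
    ∃ T : Finset (B × Ri), (↑T ⊆ (eqLoc s t : Set (B × Ri))) ∧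
      ∀ A : Subring (B × Ri), (g, fi) ∈ A → (↑T ⊆ (A : Set (B × Ri))) →
        ∀ c : C, ∃ (n : ℕ) (z : B × Ri), z ∈ A ∧
          c * algebraMap Ri C fi ^ n = algebraMap Ri C z.2 := by
  classical
  obtain ⟨S, hS⟩ := hC
  have key : ∀ c : C, ∃ (n : ℕ) (z : B × Ri), z ∈ eqLoc s t ∧
      c * algebraMap Ri C fi ^ n = algebraMap Ri C z.2 := by
    intro c
    obtain ⟨n, r, hr⟩ := IsLocalization.Away.surj fi c
    obtain ⟨n', z, hz, hz2⟩ := exists_mem_eqLoc_snd hgf hsurj r
    refine ⟨n + n', z, hz, ?_⟩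
    rw [hz2, map_mul, map_pow, ← hr, pow_add]
    ring
  choose nf zf hzf1 hzf2 using key
  refine ⟨S.image zf, ?_, ?_⟩
  · intro z hz
    simp only [Finset.coe_image, Set.mem_image] at hz
    obtain ⟨c, -, rfl⟩ := hz
    exact hzf1 c
  · intro A hA hT c
    have hc : c ∈ Subring.closure (S : Set C) := by rw [hS]; trivial
    induction hc using Subring.closure_induction with
    | mem x hx =>
      refine ⟨nf x, zf x, hT ?_, hzf2 x⟩
      simp only [Finset.coe_image, Set.mem_image]
      exact ⟨x, hx, rfl⟩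
    | zero => exact ⟨0, 0, A.zero_mem, by simp⟩
    | one => exact ⟨0, 1, A.one_mem, by simp⟩
    | add x y _ _ hx hy =>
      obtain ⟨n, z, hz, e1⟩ := hx
      obtain ⟨n', z', hz', e2⟩ := hy
      refine ⟨n + n', (g, fi) ^ n' * z + (g, fi) ^ n * z',
        A.add_mem (A.mul_mem (A.pow_mem hA _) hz) (A.mul_mem (A.pow_mem hA _) hz'), ?_⟩
      simp only [Prod.snd_add, Prod.snd_mul, Prod.pow_snd, map_add, map_mul, map_pow]
      rw [← e1, ← e2, pow_add]
      ring
    | neg x _ hx =>
      obtain ⟨n, z, hz, e1⟩ := hx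
      refine ⟨n, -z, A.neg_mem hz, ?_⟩
      simp only [Prod.snd_neg, map_neg, ← e1, neg_mul]
    | mul x y _ _ hx hy =>
      obtain ⟨n, z, hz, e1⟩ := hx
      obtain ⟨n', z', hz', e2⟩ := hy
      refine ⟨n + n', z * z', A.mul_mem hz hz', ?_⟩
      simp only [Prod.snd_mul, map_mul]
      rw [← e1, ← e2, pow_add]
      ring

end Away

end Groth.Agent.Lib.Helper70.AbsApproxC
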