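import Mathlib

/-!
# A criterion for `X ⟶ Spec A` to be an open immersion
-/

set_option autoImplicit false
universe u

open CategoryTheory AlgebraicGeometry

namespace Groth.Agent.Lib.Helper70.AbsApproxD

variable {X : Scheme.{u}} {A : CommRingCat.{u}} (φ : A ⟶ Γ(X, ⊤))

/-- The ring map `A ⟶ Γ(X, X_{φ a})`. -/
noncomputable def resHom (a : A) : A ⟶ Γ(X, X.basicOpen (φ.hom a)) :=
  φ ≫ X.presheaf.map (homOfLE le_top).op

/-- The morphism `X ⟶ Spec A` attached to `φ : A ⟶ Γ(X, ⊤)`. -/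
noncomputable def toSpec : X ⟶ Spec A := X.toSpecΓ ≫ Spec.map φ

lemma toSpec_preimage_basicOpen (a : A) :
    toSpec φ ⁻¹ᵁ (PrimeSpectrum.basicOpen a) = X.basicOpen (φ.hom a) := by
  rw [toSpec, Scheme.Hom.comp_preimage]
  have h1 : Spec.map φ ⁻¹ᵁ (PrimeSpectrum.basicOpen a) = PrimeSpectrum.basicOpen (φ.hom a) := by
    ext x
    rfl
  rw [h1, Scheme.toSpecΓ_preimage_basicOpen]

lemma basicOpen_ι_toSpec (a : A) (ha : IsAffineOpen (X.basicOpen (φ.hom a))) :
    (X.basicOpen (φ.hom a)).ι ≫ toSpec φ = ha.isoSpec.hom ≫ Spec.map (resHom φ a) := by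
  rw [toSpec, resHom, Spec.map_comp, ← Scheme.Opens.toSpecΓ_SpecMap_presheaf_map_top_assoc]
  rfl

/-- `X ⟶ Spec A` is an open immersion if `X` is covered by affine opens `X_{φ a_k}` whose rings of
functions are the localizations `A_{a_k}`. -/
theorem isOpenImmersion_toSpec {κ : Type*} (a : κ → A)
    (hcov : ∀ x : X, ∃ k, x ∈ X.basicOpen (φ.hom (a k)))
    (haff : ∀ k, IsAffineOpen (X.basicOpen (φ.hom (a k))))
    (hsurj : ∀ k (c : Γ(X, X.basicOpen (φ.hom (a k)))), ∃ (n : ℕ) (z : A),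
      c * (resHom φ (a k)).hom (a k) ^ n = (resHom φ (a k)).hom z)
    (hinj : ∀ k (z : A), (resHom φ (a k)).hom z = 0 → ∃ n : ℕ, a k ^ n * z = 0) :
    IsOpenImmersion (toSpec φ) ∧
      Set.range (toSpec φ) = ⋃ k, (PrimeSpectrum.basicOpen (a k) : Set (PrimeSpectrum A)) := by
  have hloc : ∀ k, letI := (resHom φ (a k)).hom.toAlgebra
      IsLocalization.Away (a k) Γ(X, X.basicOpen (φ.hom (a k))) := by
    intro k
    letI := (resHom φ (a k)).hom.toAlgebra
    refine IsLocalization.Away.mk (a k) ?_ (hsurj k) ?_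
    · exact RingedSpace.isUnit_res_basicOpen X.toRingedSpace (φ.hom (a k))
    · intro x y hxy
      obtain ⟨n, hn⟩ := hinj k (x - y) (by
        rw [map_sub, sub_eq_zero]; exact hxy)
      exact ⟨n, by rw [mul_sub, sub_eq_zero] at hn; exact hn⟩
  have hOI : ∀ k, IsOpenImmersion (Spec.map (resHom φ (a k))) := by
    intro k
    letI := (resHom φ (a k)).hom.toAlgebra
    haveI := hloc k
    exact IsOpenImmersion.of_isLocalization (R := A) (S := Γ(X, X.basicOpen (φ.hom (a k)))) (a k)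
  have hrange : ∀ k, Set.range (Spec.map (resHom φ (a k))) =
      (PrimeSpectrum.basicOpen (a k) : Set (PrimeSpectrum A)) := by
    intro k
    letI := (resHom φ (a k)).hom.toAlgebra
    haveI := hloc k
    exact PrimeSpectrum.localization_away_comap_range Γ(X, X.basicOpen (φ.hom (a k))) (a k)
  constructor
  · refine IsZariskiLocalAtTarget.of_forall_source_exists_preimage _ fun x ↦ ?_
    obtain ⟨k, hk⟩ := hcov x
    refine ⟨PrimeSpectrum.basicOpen (a k), (toSpec_preimage_basicOpen φ (a k)).ge hk, ?_⟩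
    suffices IsOpenImmersion ((X.basicOpen (φ.hom (a k))).ι ≫ toSpec φ) by
      convert! this <;> rw [toSpec_preimage_basicOpen]
    rw [basicOpen_ι_toSpec φ (a k) (haff k)]
    haveI := hOI k
    infer_instance
  · apply Set.Subset.antisymm
    · rintro _ ⟨x, rfl⟩
      obtain ⟨k, hk⟩ := hcov x
      exact Set.mem_iUnion.mpr ⟨k, (toSpec_preimage_basicOpen φ (a k)).ge hk⟩
    · intro y hy
      obtain ⟨k, hk⟩ := Set.mem_iUnion.mp hy
      rw [← hrange k] at hk
      obtain ⟨y', rfl⟩ := hk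
      refine ⟨(X.basicOpen (φ.hom (a k))).ι ((haff k).isoSpec.inv y'), ?_⟩
      rw [← Scheme.Hom.comp_apply, basicOpen_ι_toSpec φ (a k) (haff k), ← Scheme.Hom.comp_apply,
        Iso.inv_hom_id_assoc]

end Groth.Agent.Lib.Helper70.AbsApproxD
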