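import Mathlib
import Groth.Agent.Lib.Helper70.AbsApproxC
import Groth.Agent.Lib.Helper70.AbsApproxD

/-!
# Absolute Noetherian approximation: the inductive step, set-up

`I` is a directed preorder with a bottom element, `D : Iᵒᵖ ⥤ Scheme` a diagram with affine
transition maps and `W₁` an open of `D(⊥)`.  We define the diagram `Gfun` of the preimages of `W₁`,
their rings of global sections, and the index type `J` of the new inverse system.
-/

set_option autoImplicit false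
universe u

open CategoryTheory Limits AlgebraicGeometry Opposite

namespace Groth.Agent.Lib.Helper70.AbsApproxE

variable {I : Type u} [Preorder I] [OrderBot I]
  (D : Iᵒᵖ ⥤ Scheme.{u}) (c : Cone D) (W₁ : (D.obj (op ⊥)).Opens)

/-- The canonical functor `Iᵒᵖ ⥤ Over (op ⊥)`. -/
def toOver : Iᵒᵖ ⥤ Over (op (⊥ : I)) where
  obj X := Over.mk ((homOfLE (bot_le : ⊥ ≤ X.unop)).op : X ⟶ op ⊥)
  map f := Over.homMk f (Subsingleton.elim _ _)

/-- The diagram of preimages of `W₁`. -/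
noncomputable def Gfun : Iᵒᵖ ⥤ Scheme.{u} := toOver ⋙ opensDiagram D (op ⊥) W₁

/-- The open of `D(i)` underlying `Gfun`. -/
noncomputable abbrev Wi (i : I) : (D.obj (op i)).Opens :=
  D.map (homOfLE (bot_le : ⊥ ≤ i)).op ⁻¹ᵁ W₁

lemma Gfun_obj (i : I) : (Gfun D W₁).obj (op i) = (Wi D W₁ i).toScheme := rfl

/-- The inclusion of the diagram of opens. -/
noncomputable def αI : Gfun D W₁ ⟶ D where
  app X := (Wi D W₁ X.unop).ι
  naturality X Y f := by
    have := (opensDiagramι D (op ⊥) W₁).naturality ((toOver (I := I)).map f)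
    exact this

instance (X : Iᵒᵖ) : IsOpenImmersion ((αI D W₁).app X) :=
  inferInstanceAs (IsOpenImmersion (Scheme.Opens.ι (Wi D W₁ X.unop)))

/-- The open of the limit. -/
noncomputable abbrev Wlim : c.pt.Opens := c.π.app (op ⊥) ⁻¹ᵁ W₁

/-- The cone over `Gfun` with apex `Wlim`. -/
noncomputable def gcone : Cone (Gfun D W₁) := (opensCone D c (op ⊥) W₁).whisker toOver

lemma gcone_pt : (gcone D c W₁).pt = (Wlim D c W₁).toScheme := rfl

lemma gcone_comm (X : Iᵒᵖ) :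
    (gcone D c W₁).π.app X ≫ (αI D W₁).app X = (Wlim D c W₁).ι ≫ c.π.app X := by
  exact Scheme.Hom.resLE_comp_ι _ _

section Rings

/-- The ring of functions on the `i`-th open. -/
noncomputable abbrev R (i : I) : CommRingCat.{u} := Γ((Gfun D W₁).obj (op i), ⊤)

/-- Transition maps of the rings of functions. -/
noncomputable def ρ {i i' : I} (h : i ≤ i') : R D W₁ i ⟶ R D W₁ i' :=
  ((Gfun D W₁).map (homOfLE h).op).appTop

lemma ρ_refl (i : I) : ρ D W₁ (le_refl i) = 𝟙 _ := by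
  have : (homOfLE (le_refl i)).op = 𝟙 (op i) := Subsingleton.elim _ _
  rw [ρ, this, (Gfun D W₁).map_id]
  rfl

lemma ρ_trans {i i' i'' : I} (h : i ≤ i') (h' : i' ≤ i'') :
    ρ D W₁ (h.trans h') = ρ D W₁ h ≫ ρ D W₁ h' := by
  have : (homOfLE (h.trans h')).op = (homOfLE h').op ≫ (homOfLE h).op := Subsingleton.elim _ _
  rw [ρ, this, (Gfun D W₁).map_comp]
  rfl

/-- The maps to the ring of functions of the limit. -/
noncomputable def t (i : I) : R D W₁ i ⟶ Γ((gcone D c W₁).pt, ⊤) :=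
  ((gcone D c W₁).π.app (op i)).appTop

lemma ρ_t {i i' : I} (h : i ≤ i') : ρ D W₁ h ≫ t D c W₁ i' = t D c W₁ i := by
  have := (gcone D c W₁).w (homOfLE h).op
  rw [t, t, ← this]
  rfl

variable {B : CommRingCat.{u}}

/-- The transition maps on `B × R i`. -/
noncomputable def τ {i i' : I} (h : i ≤ i') : ↑B × ↑(R D W₁ i) →+* ↑B × ↑(R D W₁ i') :=
  RingHom.prodMap (RingHom.id B) (ρ D W₁ h).hom

lemma τ_apply {i i' : I} (h : i ≤ i') (z : ↑B × ↑(R D W₁ i)) :
    τ D W₁ h z = (z.1, (ρ D W₁ h).hom z.2) := rfl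

lemma τ_refl (i : I) (z : ↑B × ↑(R D W₁ i)) : τ D W₁ (le_refl i) z = z := by
  rw [τ_apply, ρ_refl, CommRingCat.hom_id, RingHom.id_apply]

lemma τ_trans {i i' i'' : I} (h : i ≤ i') (h' : i' ≤ i'') (z : ↑B × ↑(R D W₁ i)) :
    τ D W₁ (h.trans h') z = τ D W₁ h' (τ D W₁ h z) := by
  rw [τ_apply, τ_apply, τ_apply, ρ_trans, CommRingCat.hom_comp, RingHom.comp_apply]

end Rings

section Index

open Groth.Agent.Lib.Helper70.AbsApproxC

variable {B : CommRingCat.{u}} (s : B ⟶ Γ((gcone D c W₁).pt, ⊤))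
  {κ : Type} (g : κ → B) (f : κ → R D W₁ ⊥)

/-- The sections `f k` transported to the `i`-th stage. -/
noncomputable def fi (i : I) (k : κ) : R D W₁ i := (ρ D W₁ (bot_le : ⊥ ≤ i)).hom (f k)

lemma ρ_fi {i i' : I} (h : i ≤ i') (k : κ) : (ρ D W₁ h).hom (fi D W₁ f i k) = fi D W₁ f i' k := by
  have := ρ_trans D W₁ (bot_le : ⊥ ≤ i) h
  have e : (bot_le : ⊥ ≤ i).trans h = (bot_le : ⊥ ≤ i') := rfl
  rw [fi, fi, ← RingHom.comp_apply, ← CommRingCat.hom_comp, ← this]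

/-- The ring of functions on the basic open of `fi i k`. -/
noncomputable abbrev Ck (i : I) (k : κ) : CommRingCat.{u} :=
  Γ((Gfun D W₁).obj (op i), ((Gfun D W₁).obj (op i)).basicOpen (fi D W₁ f i k))

/-- Restriction to the basic open of `fi i k`. -/
noncomputable def resB (i : I) (k : κ) : R D W₁ i ⟶ Ck D W₁ f i k :=
  ((Gfun D W₁).obj (op i)).presheaf.map (homOfLE le_top).op

/-- The hypotheses on the data of the inductive step. -/
structure Hyp : Prop where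
  tf : ∀ k, (t D c W₁ ⊥).hom (f k) = s.hom (g k)
  binj : ∀ k (x : B), s.hom x = 0 → ∃ n : ℕ, g k ^ n * x = 0
  bsurj : ∀ k (r : Γ((gcone D c W₁).pt, ⊤)), ∃ (n : ℕ) (x : B), s.hom (g k) ^ n * r = s.hom x
  loc : ∀ i k, letI := (resB D W₁ f i k).hom.toAlgebra
    IsLocalization.Away (fi D W₁ f i k) (Ck D W₁ f i k)
  fgC : ∀ i k, ∃ S : Finset (Ck D W₁ f i k),
      Subring.closure (S : Set (Ck D W₁ f i k)) = ⊤
  cov : ∀ i (x : (Gfun D W₁).obj (op i)),
    ∃ k, x ∈ ((Gfun D W₁).obj (op i)).basicOpen (fi D W₁ f i k)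
  aff : ∀ i k, IsAffineOpen (((Gfun D W₁).obj (op i)).basicOpen (fi D W₁ f i k))
  gb : ∀ k, (PrimeSpectrum.basicOpen (g k) : Set (PrimeSpectrum B)) ⊆
    Set.range (AbsApproxD.toSpec s)
  csurj : ∀ r : Γ((gcone D c W₁).pt, ⊤), ∃ (i : I) (r' : R D W₁ i), (t D c W₁ i).hom r' = r
  cinj : ∀ (i : I) (r : R D W₁ i), (t D c W₁ i).hom r = 0 →
    ∃ (i' : I) (h : i ≤ i'), (ρ D W₁ h).hom r = 0

variable {D c W₁ s g f}

lemma Hyp.t_fi (H : Hyp D c W₁ s g f) (i : I) (k : κ) :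
    (t D c W₁ i).hom (fi D W₁ f i k) = s.hom (g k) := by
  rw [← H.tf k, fi, ← RingHom.comp_apply, ← CommRingCat.hom_comp, ρ_t]

variable (D c W₁ s g f)

/-- The fibre product `B ×_{Γ(Wlim)} R i` as a subring of `B × R i`. -/
noncomputable abbrev eqL (i : I) : Subring (↑B × ↑(R D W₁ i)) := eqLoc s.hom (t D c W₁ i).hom

lemma τ_mem_eqL {i i' : I} (h : i ≤ i') {z : ↑B × ↑(R D W₁ i)} (hz : z ∈ eqL D c W₁ s i) :
    τ D W₁ h z ∈ eqL D c W₁ s i' := by
  rw [mem_eqLoc] at hz ⊢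
  rw [τ_apply]
  simp only
  rw [hz, ← RingHom.comp_apply, ← CommRingCat.hom_comp, ρ_t]

/-- The admissible subrings at stage `i`. -/
structure Good (i : I) (A : Subring (↑B × ↑(R D W₁ i))) : Prop where
  le_eq : A ≤ eqL D c W₁ s i
  fg : ∃ S : Finset (↑B × ↑(R D W₁ i)), Subring.closure (S : Set (↑B × ↑(R D W₁ i))) = A
  mem : ∀ k, (g k, fi D W₁ f i k) ∈ A
  surj : ∀ k (cc : Ck D W₁ f i k),
    ∃ (n : ℕ) (z : ↑B × ↑(R D W₁ i)), z ∈ A ∧
      cc * (resB D W₁ f i k).hom (fi D W₁ f i k) ^ n = (resB D W₁ f i k).hom z.2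

variable {D c W₁ s g f}

lemma Good.mono {i : I} {A A' : Subring (↑B × ↑(R D W₁ i))} (hA : Good D c W₁ s g f i A)
    (hle : A ≤ A') (hA' : A' ≤ eqL D c W₁ s i)
    (hfg : ∃ S : Finset (↑B × ↑(R D W₁ i)), Subring.closure (S : Set (↑B × ↑(R D W₁ i))) = A') :
    Good D c W₁ s g f i A' where
  le_eq := hA'
  fg := hfg
  mem k := hle (hA.mem k)
  surj k cc := by
    obtain ⟨n, z, hz, e⟩ := hA.surj k cc
    exact ⟨n, z, hle hz, e⟩

lemma Good.map_sup {i i' : I} (h : i ≤ i') {A : Subring (↑B × ↑(R D W₁ i))}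
    {A₀ : Subring (↑B × ↑(R D W₁ i'))} (hA : Good D c W₁ s g f i A)
    (hA₀ : Good D c W₁ s g f i' A₀) :
    Good D c W₁ s g f i' (A.map (τ D W₁ h) ⊔ A₀) := by
  classical
  refine hA₀.mono le_sup_right (sup_le ?_ hA₀.le_eq) ?_
  · rintro _ ⟨z, hz, rfl⟩
    exact τ_mem_eqL D c W₁ s h (hA.le_eq hz)
  · obtain ⟨S, hS⟩ := hA.fg
    obtain ⟨S₀, hS₀⟩ := hA₀.fg
    refine ⟨S.image (τ D W₁ h) ∪ S₀, ?_⟩
    rw [Finset.coe_union, Subring.closure_union, Finset.coe_image, ← RingHom.map_closure, hS, hS₀]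

theorem exists_good [Finite κ] (H : Hyp D c W₁ s g f) (i : I) (S : Finset (↑B × ↑(R D W₁ i)))
    (hS : (↑S : Set (↑B × ↑(R D W₁ i))) ⊆ eqL D c W₁ s i) :
    ∃ A, Good D c W₁ s g f i A ∧ (↑S : Set (↑B × ↑(R D W₁ i))) ⊆ A := by
  classical
  haveI := Fintype.ofFinite κ
  have key : ∀ k, ∃ T : Finset (↑B × ↑(R D W₁ i)),
      (↑T ⊆ (eqL D c W₁ s i : Set (↑B × ↑(R D W₁ i)))) ∧
      ∀ A : Subring (↑B × ↑(R D W₁ i)), (g k, fi D W₁ f i k) ∈ A →
        (↑T ⊆ (A : Set (↑B × ↑(R D W₁ i)))) →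
        ∀ cc : Ck D W₁ f i k, ∃ (n : ℕ) (z : ↑B × ↑(R D W₁ i)), z ∈ A ∧
          cc * (resB D W₁ f i k).hom (fi D W₁ f i k) ^ n = (resB D W₁ f i k).hom z.2 := by
    intro k
    letI := (resB D W₁ f i k).hom.toAlgebra
    haveI := H.loc i k
    exact exists_finset_surj (H.t_fi i k) (H.bsurj k) (H.fgC i k)
  choose T hT1 hT2 using key
  let S' : Finset (↑B × ↑(R D W₁ i)) :=
    S ∪ (Finset.univ.image fun k => (g k, fi D W₁ f i k)) ∪ Finset.univ.biUnion T
  have hS' : (↑S' : Set (↑B × ↑(R D W₁ i))) ⊆ eqL D c W₁ s i := by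
    intro z hz
    simp only [S', Finset.coe_union, Finset.coe_image, Finset.coe_univ, Set.image_univ,
      Finset.coe_biUnion, Set.mem_union, Set.mem_range, Set.mem_iUnion, Finset.mem_coe,
      Finset.mem_univ, true_and] at hz
    rcases hz with (hz | ⟨k, rfl⟩) | ⟨k, -, hz⟩
    · exact hS hz
    · exact pair_mem_eqLoc (H.t_fi i k)
    · exact hT1 k hz
  have hsub : ∀ {z}, z ∈ S' → z ∈ Subring.closure (S' : Set (↑B × ↑(R D W₁ i))) :=
    fun hz => Subring.subset_closure hz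
  refine ⟨Subring.closure (S' : Set (↑B × ↑(R D W₁ i))), ⟨?_, ⟨S', rfl⟩, ?_, ?_⟩, ?_⟩
  · exact Subring.closure_le.mpr hS'
  · intro k
    apply hsub
    simp only [S', Finset.mem_union, Finset.mem_image, Finset.mem_univ, true_and]
    exact Or.inl (Or.inr ⟨k, rfl⟩)
  · intro k
    refine hT2 k _ ?_ ?_
    · apply hsub
      simp only [S', Finset.mem_union, Finset.mem_image, Finset.mem_univ, true_and]
      exact Or.inl (Or.inr ⟨k, rfl⟩)
    · intro z hz
      apply hsub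
      simp only [S', Finset.mem_union, Finset.mem_biUnion, Finset.mem_univ, true_and]
      exact Or.inr ⟨k, hz⟩
  · intro z hz
    apply hsub
    simp only [S', Finset.mem_union]
    exact Or.inl (Or.inl hz)

end Index

end Groth.Agent.Lib.Helper70.AbsApproxE
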