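import Mathlib
import Groth.Agent.Lib.Helper70.AbsApproxE

/-!
# Absolute Noetherian approximation: the index preorder `J` and the diagram of rings
-/

set_option autoImplicit false
universe u

open CategoryTheory Limits AlgebraicGeometry Opposite

namespace Groth.Agent.Lib.Helper70.AbsApproxE

open Groth.Agent.Lib.Helper70.AbsApproxC

variable {I : Type u} [Preorder I] [OrderBot I]
  (D : Iᵒᵖ ⥤ Scheme.{u}) (c : Cone D) (W₁ : (D.obj (op ⊥)).Opens)
  {B : CommRingCat.{u}} (s : B ⟶ Γ((gcone D c W₁).pt, ⊤))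
  {κ : Type} (g : κ → B) (f : κ → R D W₁ ⊥)

/-- The index type of the new inverse system. -/
structure J where
  /-- the stage -/
  i : I
  /-- the subring -/
  A : Subring (↑B × ↑(R D W₁ i))
  good : Good D c W₁ s g f i A

variable {D c W₁ s g f}

instance : Preorder (J D c W₁ s g f) where
  le j j' := ∃ h : j.i ≤ j'.i, j.A.map (τ D W₁ h) ≤ j'.A
  le_refl j := ⟨le_rfl, by
    rintro _ ⟨z, hz, rfl⟩
    rw [τ_refl]; exact hz⟩
  le_trans j j' j'' := fun ⟨h, hA⟩ ⟨h', hA'⟩ => ⟨h.trans h', by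
    rintro _ ⟨z, hz, rfl⟩
    rw [τ_trans D W₁ h h']
    exact hA' ⟨_, hA ⟨z, hz, rfl⟩, rfl⟩⟩

lemma J.le_def {j j' : J D c W₁ s g f} :
    j ≤ j' ↔ ∃ h : j.i ≤ j'.i, j.A.map (τ D W₁ h) ≤ j'.A := Iff.rfl

variable [Finite κ] (H : Hyp D c W₁ s g f)

include H in
theorem J.exists_ge (j : J D c W₁ s g f) {i' : I} (h : j.i ≤ i')
    (S : Finset (↑B × ↑(R D W₁ i')))
    (hS : (↑S : Set (↑B × ↑(R D W₁ i'))) ⊆ eqL D c W₁ s i') :
    ∃ (A' : Subring (↑B × ↑(R D W₁ i'))) (hA' : Good D c W₁ s g f i' A'),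
      j ≤ (⟨i', A', hA'⟩ : J D c W₁ s g f) ∧ (↑S : Set (↑B × ↑(R D W₁ i'))) ⊆ A' := by
  obtain ⟨A₀, hA₀, hSA⟩ := exists_good H i' S hS
  exact ⟨j.A.map (τ D W₁ h) ⊔ A₀, j.good.map_sup h hA₀, ⟨h, le_sup_left⟩,
    fun z hz => (le_sup_right : A₀ ≤ _) (hSA hz)⟩

include H in
theorem J.nonempty : Nonempty (J D c W₁ s g f) := by
  obtain ⟨A₀, hA₀, -⟩ := exists_good H (⊥ : I) ∅ (by simp)
  exact ⟨⟨⊥, A₀, hA₀⟩⟩

include H in
theorem J.isDirected [IsDirected I (· ≤ ·)] : IsDirected (J D c W₁ s g f) (· ≤ ·) := by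
  constructor
  intro j j'
  obtain ⟨i'', h, h'⟩ := directed_of (· ≤ ·) j.i j'.i
  obtain ⟨A₀, hA₀, -⟩ := exists_good H i'' ∅ (by simp)
  refine ⟨⟨i'', j.A.map (τ D W₁ h) ⊔ (j'.A.map (τ D W₁ h') ⊔ A₀),
    j.good.map_sup h (j'.good.map_sup h' hA₀)⟩, ⟨h, le_sup_left⟩, ⟨h', ?_⟩⟩
  exact le_sup_of_le_right le_sup_left

omit [Finite κ] in
/-- The transition maps between the subrings. -/
noncomputable def J.incl {j j' : J D c W₁ s g f} (h : j ≤ j') : ↥j.A →+* ↥j'.A :=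
  ((τ D W₁ h.fst).comp j.A.subtype).codRestrict j'.A fun z => h.snd ⟨z, z.2, rfl⟩

omit [Finite κ] in
lemma J.incl_coe {j j' : J D c W₁ s g f} (h : j ≤ j') (z : ↥j.A) :
    (J.incl h z : ↑B × ↑(R D W₁ j'.i)) = τ D W₁ h.fst (z : ↑B × ↑(R D W₁ j.i)) := rfl

variable (D c W₁ s g f) in
/-- The diagram of the finitely generated subrings. -/
noncomputable def Afun : J D c W₁ s g f ⥤ CommRingCat.{u} where
  obj j := CommRingCat.of ↥j.A
  map {j j'} φ := CommRingCat.ofHom (J.incl (leOfHom φ))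
  map_id j := by
    apply CommRingCat.hom_ext
    apply RingHom.ext
    intro z
    apply Subtype.ext
    change Subtype.val (J.incl (leOfHom (𝟙 j)) z) = Subtype.val z
    rw [J.incl_coe, τ_refl]
  map_comp {j j' j''} φ ψ := by
    apply CommRingCat.hom_ext
    apply RingHom.ext
    intro z
    apply Subtype.ext
    change Subtype.val (J.incl (leOfHom (φ ≫ ψ)) z) =
      Subtype.val (J.incl (leOfHom ψ) (J.incl (leOfHom φ) z))
    rw [J.incl_coe, J.incl_coe, J.incl_coe]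
    exact τ_trans D W₁ _ _ _

omit [Finite κ] in
/-- The first projection `A_j → B`. -/
noncomputable def J.fstHom (j : J D c W₁ s g f) : (Afun D c W₁ s g f).obj j ⟶ B :=
  CommRingCat.ofHom ((RingHom.fst _ _).comp j.A.subtype)

omit [Finite κ] in
/-- The second projection `A_j → R i`. -/
noncomputable def J.sndHom (j : J D c W₁ s g f) : (Afun D c W₁ s g f).obj j ⟶ R D W₁ j.i :=
  CommRingCat.ofHom ((RingHom.snd _ _).comp j.A.subtype)

omit [Finite κ] in
lemma J.map_fstHom {j j' : J D c W₁ s g f} (φ : j ⟶ j') :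
    (Afun D c W₁ s g f).map φ ≫ j'.fstHom = j.fstHom := by
  apply CommRingCat.hom_ext
  apply RingHom.ext
  intro z
  rfl

omit [Finite κ] in
lemma J.map_sndHom {j j' : J D c W₁ s g f} (φ : j ⟶ j') :
    (Afun D c W₁ s g f).map φ ≫ j'.sndHom = j.sndHom ≫ ρ D W₁ (leOfHom φ).fst := by
  apply CommRingCat.hom_ext
  apply RingHom.ext
  intro z
  rfl

omit [Finite κ] in
lemma J.fstHom_s (j : J D c W₁ s g f) : j.fstHom ≫ s = j.sndHom ≫ t D c W₁ j.i := by
  apply CommRingCat.hom_ext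
  apply RingHom.ext
  intro z
  exact j.good.le_eq z.2

variable (D c W₁ s g f) in
/-- The cocone of the diagram of subrings with apex `B`. -/
noncomputable def Acocone : Cocone (Afun D c W₁ s g f) where
  pt := B
  ι := { app := fun j => j.fstHom
         naturality := fun j j' φ => by
          rw [J.map_fstHom]; exact (Category.comp_id _).symm }

section Colimit

variable [IsDirected I (· ≤ ·)]

include H in
lemma Acocone_surj (x : B) : ∃ (j : J D c W₁ s g f) (z : ↥j.A), x = (z : ↑B × ↑(R D W₁ j.i)).1 := by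
  classical
  obtain ⟨i, r', hr'⟩ := H.csurj (s.hom x)
  obtain ⟨j₀⟩ := J.nonempty H
  obtain ⟨i', h₀, h⟩ := directed_of (· ≤ ·) j₀.i i
  have hz : (x, (ρ D W₁ h).hom r') ∈ eqL D c W₁ s i' := by
    rw [mem_eqLoc]
    simp only
    rw [← RingHom.comp_apply, ← CommRingCat.hom_comp, ρ_t, hr']
  obtain ⟨A', hA', -, hS⟩ := J.exists_ge H j₀ h₀ {(x, (ρ D W₁ h).hom r')} (by
    simpa using hz)
  exact ⟨⟨i', A', hA'⟩, ⟨(x, (ρ D W₁ h).hom r'), hS (by simp)⟩, rfl⟩

include H in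
lemma Acocone_inj (j j' : J D c W₁ s g f) (z : ↥j.A) (z' : ↥j'.A)
    (hzz' : (z : ↑B × ↑(R D W₁ j.i)).1 = (z' : ↑B × ↑(R D W₁ j'.i)).1) :
    ∃ (k : J D c W₁ s g f) (h : j ≤ k) (h' : j' ≤ k), J.incl h z = J.incl h' z' := by
  classical
  haveI := J.isDirected H
  obtain ⟨k₀, h₁, h₂⟩ := directed_of (· ≤ ·) j j'
  set w : ↥k₀.A := J.incl h₁ z - J.incl h₂ z' with hw
  have hw1 : (w : ↑B × ↑(R D W₁ k₀.i)).1 = 0 := by
    rw [hw]
    change (τ D W₁ h₁.fst z.1 - τ D W₁ h₂.fst z'.1).1 = 0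
    rw [τ_apply, τ_apply]
    simp only [Prod.fst_sub]
    rw [hzz', sub_self]
  have hw2 : (t D c W₁ k₀.i).hom (w : ↑B × ↑(R D W₁ k₀.i)).2 = 0 := by
    have := k₀.good.le_eq w.2
    rw [mem_eqLoc, hw1, map_zero] at this
    exact this.symm
  obtain ⟨i', h, hr⟩ := H.cinj _ _ hw2
  obtain ⟨A', hA', hle, -⟩ := J.exists_ge H k₀ h ∅ (by simp)
  refine ⟨⟨i', A', hA'⟩, h₁.trans hle, h₂.trans hle, ?_⟩
  have h0 : J.incl hle w = 0 := by
    apply Subtype.ext
    rw [J.incl_coe, τ_apply, hw1]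
    change (_, (ρ D W₁ h).hom _) = _
    rw [hr]
    rfl
  have e1 : J.incl (h₁.trans hle) z = J.incl hle (J.incl h₁ z) := by
    apply Subtype.ext
    rw [J.incl_coe, J.incl_coe, J.incl_coe]
    exact τ_trans D W₁ _ _ _
  have e2 : J.incl (h₂.trans hle) z' = J.incl hle (J.incl h₂ z') := by
    apply Subtype.ext
    rw [J.incl_coe, J.incl_coe, J.incl_coe]
    exact τ_trans D W₁ _ _ _
  rw [e1, e2, ← sub_eq_zero, ← map_sub]
  exact h0

include H in
theorem nonempty_isColimit_Acocone : Nonempty (IsColimit (Acocone D c W₁ s g f)) := by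
  haveI := J.isDirected H
  haveI := J.nonempty H
  haveI : IsFiltered (J D c W₁ s g f) := inferInstance
  haveI : PreservesColimitsOfShape (J D c W₁ s g f) (forget CommRingCat.{u}) :=
    PreservesFilteredColimitsOfSize.preserves_filtered_colimits _
  haveI : ReflectsColimit (Afun D c W₁ s g f) (forget CommRingCat.{u}) :=
    reflectsColimit_of_reflectsIsomorphisms _ _
  refine ⟨isColimitOfReflects (forget CommRingCat.{u})
    (Types.FilteredColimit.isColimitOf _ _ ?_ ?_)⟩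
  · intro x
    obtain ⟨j, z, hz⟩ := Acocone_surj H x
    exact ⟨j, z, hz⟩
  · intro j j' z z' hzz'
    obtain ⟨k, h, h', e⟩ := Acocone_inj H j j' z z' hzz'
    exact ⟨k, homOfLE h, homOfLE h', e⟩

end Colimit

end Groth.Agent.Lib.Helper70.AbsApproxE
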