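import Mathlib
import Groth.Agent.Lib.Helper23.GluePushout

/-!
# A cofiltered limit of pushouts of open immersions

Let `E F G : K ⥤ Scheme` be diagrams over a cofiltered category with natural transformations
`α : G ⟶ E`, `β : G ⟶ F` whose components are open immersions and whose naturality squares are
cartesian (on points).  If `e f g` are limit cones of `E F G` and `a : g.pt ⟶ e.pt`,
`b : g.pt ⟶ f.pt` the induced maps, assumed to be open immersions with cartesian squares,
then `pushout a b` is the limit of the diagram of pushouts `k ↦ pushout (α k) (β k)`.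
-/

set_option autoImplicit false
universe u v w

open CategoryTheory Limits AlgebraicGeometry

namespace Groth.Agent.Lib.Helper70.AbsApproxA

open Groth.Agent.Lib.Helper23

variable {K : Type w} [Category.{v} K]
  {E F G : K ⥤ Scheme.{u}} (α : G ⟶ E) (β : G ⟶ F)
  [∀ k, IsOpenImmersion (α.app k)] [∀ k, IsOpenImmersion (β.app k)]

/-- The diagram of pushouts. -/
noncomputable def P : K ⥤ Scheme.{u} where
  obj k := pushout (α.app k) (β.app k)
  map {k k'} φ := pushout.map (α.app k) (β.app k) (α.app k') (β.app k') (E.map φ) (F.map φ)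
    (G.map φ) (α.naturality φ).symm (β.naturality φ).symm
  map_id k := by
    apply pushout.hom_ext
    · rw [pushout.inl_desc, E.map_id, Category.id_comp, Category.comp_id]
    · rw [pushout.inr_desc, F.map_id, Category.id_comp, Category.comp_id]
  map_comp φ ψ := by
    apply pushout.hom_ext
    · rw [pushout.inl_desc, pushout.inl_desc_assoc, Category.assoc, pushout.inl_desc, E.map_comp,
        Category.assoc]
    · rw [pushout.inr_desc, pushout.inr_desc_assoc, Category.assoc, pushout.inr_desc, F.map_comp,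
        Category.assoc]

/-- Left inclusion. -/
noncomputable abbrev inl (k : K) : E.obj k ⟶ (P α β).obj k := pushout.inl (α.app k) (β.app k)

/-- Right inclusion. -/
noncomputable abbrev inr (k : K) : F.obj k ⟶ (P α β).obj k := pushout.inr (α.app k) (β.app k)

instance (k : K) : IsOpenImmersion (inl α β k) :=
  inferInstanceAs (IsOpenImmersion (pushout.inl (α.app k) (β.app k)))

instance (k : K) : IsOpenImmersion (inr α β k) :=
  inferInstanceAs (IsOpenImmersion (pushout.inr (α.app k) (β.app k)))

@[reassoc]
lemma inl_map {k k' : K} (φ : k ⟶ k') : inl α β k ≫ (P α β).map φ = E.map φ ≫ inl α β k' := by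
  exact pushout.inl_desc _ _ _

@[reassoc]
lemma inr_map {k k' : K} (φ : k ⟶ k') : inr α β k ≫ (P α β).map φ = F.map φ ≫ inr α β k' := by
  exact pushout.inr_desc _ _ _

lemma jointly (k : K) (y : (P α β).obj k) :
    y ∈ Set.range (inl α β k) ∨ y ∈ Set.range (inr α β k) :=
  pushout_jointly_surjective (α.app k) (β.app k) y

lemma of_inl_eq_inr {k : K} {y : E.obj k} {z : F.obj k} (h : inl α β k y = inr α β k z) :
    ∃ w : G.obj k, α.app k w = y ∧ β.app k w = z :=
  exists_of_inl_eq_inr (α.app k) (β.app k) h

lemma condition_apply (k : K) (w : G.obj k) :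
    inl α β k (α.app k w) = inr α β k (β.app k w) :=
  congr($(pushout.condition (f := α.app k) (g := β.app k)) w)

lemma inl_map_apply {k k' : K} (φ : k ⟶ k') (x : E.obj k) :
    (P α β).map φ (inl α β k x) = inl α β k' (E.map φ x) :=
  congr($(inl_map α β φ) x)

lemma inr_map_apply {k k' : K} (φ : k ⟶ k') (x : F.obj k) :
    (P α β).map φ (inr α β k x) = inr α β k' (F.map φ x) :=
  congr($(inr_map α β φ) x)

lemma map_mem_range_inl_iff
    (hβ : ∀ {k k' : K} (φ : k ⟶ k') (x : F.obj k),
      F.map φ x ∈ Set.range (β.app k') → x ∈ Set.range (β.app k))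
    {k k' : K} (φ : k ⟶ k') (y : (P α β).obj k) :
    (P α β).map φ y ∈ Set.range (inl α β k') ↔ y ∈ Set.range (inl α β k) := by
  constructor
  · intro hy
    rcases jointly α β k y with h | ⟨x, rfl⟩
    · exact h
    · obtain ⟨z, hz⟩ := hy
      obtain ⟨w', -, hw'⟩ := of_inl_eq_inr α β (hz.trans (inr_map_apply α β φ x))
      obtain ⟨w, rfl⟩ := hβ φ x ⟨w', hw'⟩
      exact ⟨α.app k w, condition_apply α β k w⟩
  · rintro ⟨x, rfl⟩
    exact ⟨E.map φ x, (inl_map_apply α β φ x).symm⟩

lemma map_mem_range_inr_iff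
    (hα : ∀ {k k' : K} (φ : k ⟶ k') (x : E.obj k),
      E.map φ x ∈ Set.range (α.app k') → x ∈ Set.range (α.app k))
    {k k' : K} (φ : k ⟶ k') (y : (P α β).obj k) :
    (P α β).map φ y ∈ Set.range (inr α β k') ↔ y ∈ Set.range (inr α β k) := by
  constructor
  · intro hy
    rcases jointly α β k y with ⟨x, rfl⟩ | h
    · obtain ⟨z, hz⟩ := hy
      obtain ⟨w', hw', -⟩ := of_inl_eq_inr α β ((hz.trans (inl_map_apply α β φ x)).symm)
      obtain ⟨w, rfl⟩ := hα φ x ⟨w', hw'⟩
      exact ⟨β.app k w, (condition_apply α β k w).symm⟩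
    · exact h
  · rintro ⟨x, rfl⟩
    exact ⟨F.map φ x, (inr_map_apply α β φ x).symm⟩


section Cone

variable (e : Cone E) (f : Cone F) (g : Cone G) (a : g.pt ⟶ e.pt) (b : g.pt ⟶ f.pt)
  [IsOpenImmersion a] [IsOpenImmersion b]
  (hae : ∀ k, a ≫ e.π.app k = g.π.app k ≫ α.app k)
  (hbf : ∀ k, b ≫ f.π.app k = g.π.app k ≫ β.app k)

/-- The legs of the cone over the diagram of pushouts. -/
noncomputable def pm (k : K) : pushout a b ⟶ (P α β).obj k :=
  pushout.map a b (α.app k) (β.app k) (e.π.app k) (f.π.app k) (g.π.app k) (hae k) (hbf k)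

@[reassoc]
lemma inl_pm (k : K) :
    pushout.inl a b ≫ pm α β e f g a b hae hbf k = e.π.app k ≫ inl α β k :=
  pushout.inl_desc _ _ _

@[reassoc]
lemma inr_pm (k : K) :
    pushout.inr a b ≫ pm α β e f g a b hae hbf k = f.π.app k ≫ inr α β k :=
  pushout.inr_desc _ _ _

lemma pm_map {k k' : K} (φ : k ⟶ k') :
    pm α β e f g a b hae hbf k ≫ (P α β).map φ = pm α β e f g a b hae hbf k' := by
  apply pushout.hom_ext
  · rw [inl_pm_assoc, inl_pm, inl_map, ← Category.assoc, e.w φ]
  · rw [inr_pm_assoc, inr_pm, inr_map, ← Category.assoc, f.w φ]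

/-- The cone over the diagram of pushouts with apex `pushout a b`. -/
noncomputable def pcone : Cone (P α β) where
  pt := pushout a b
  π :=
    { app := fun k => pm α β e f g a b hae hbf k
      naturality := by
        intro k k' φ
        rw [pm_map]
        exact Category.id_comp _ }

lemma pcone_π_app (k : K) :
    (pcone α β e f g a b hae hbf).π.app k = pm α β e f g a b hae hbf k := rfl

end Cone

end Groth.Agent.Lib.Helper70.AbsApproxA
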