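import Mathlib
import Groth.Agent.Lib.Helper70.AbsApproxA

/-!
# A cofiltered limit of pushouts of open immersions: the limit property
-/

set_option autoImplicit false
universe u v w

open CategoryTheory Limits AlgebraicGeometry

namespace Groth.Agent.Lib.Helper70.AbsApproxA

open Groth.Agent.Lib.Helper23

variable {K : Type w} [Category.{v} K]
  {E F G : K ⥤ Scheme.{u}} (α : G ⟶ E) (β : G ⟶ F)
  [∀ k, IsOpenImmersion (α.app k)] [∀ k, IsOpenImmersion (β.app k)]
  (e : Cone E) (f : Cone F) (g : Cone G) (a : g.pt ⟶ e.pt) (b : g.pt ⟶ f.pt)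
  [IsOpenImmersion a] [IsOpenImmersion b]
  (hae : ∀ k, a ≫ e.π.app k = g.π.app k ≫ α.app k)
  (hbf : ∀ k, b ≫ f.π.app k = g.π.app k ≫ β.app k)

lemma pm_mem_range_inl_iff
    (hb : ∀ k (x : f.pt), f.π.app k x ∈ Set.range (β.app k) → x ∈ Set.range b)
    (k : K) (y : ↥(pushout a b)) :
    pm α β e f g a b hae hbf k y ∈ Set.range (inl α β k) ↔ y ∈ Set.range (pushout.inl a b) := by
  constructor
  · intro hy
    rcases pushout_jointly_surjective a b y with h | ⟨x, rfl⟩
    · exact h
    · obtain ⟨z, hz⟩ := hy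
      have h1 : pm α β e f g a b hae hbf k (pushout.inr a b x) = inr α β k (f.π.app k x) :=
        congr($(inr_pm α β e f g a b hae hbf k) x)
      obtain ⟨w', -, hw'⟩ := of_inl_eq_inr α β (hz.trans h1)
      obtain ⟨w, rfl⟩ := hb k x ⟨w', hw'⟩
      exact ⟨a w, congr($(pushout.condition (f := a) (g := b)) w)⟩
  · rintro ⟨x, rfl⟩
    exact ⟨e.π.app k x, (congr($(inl_pm α β e f g a b hae hbf k) x)).symm⟩

lemma pm_mem_range_inr_iff
    (ha : ∀ k (x : e.pt), e.π.app k x ∈ Set.range (α.app k) → x ∈ Set.range a)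
    (k : K) (y : ↥(pushout a b)) :
    pm α β e f g a b hae hbf k y ∈ Set.range (inr α β k) ↔ y ∈ Set.range (pushout.inr a b) := by
  constructor
  · intro hy
    rcases pushout_jointly_surjective a b y with ⟨x, rfl⟩ | h
    · obtain ⟨z, hz⟩ := hy
      have h1 : pm α β e f g a b hae hbf k (pushout.inl a b x) = inl α β k (e.π.app k x) :=
        congr($(inl_pm α β e f g a b hae hbf k) x)
      obtain ⟨w', hw', -⟩ := of_inl_eq_inr α β ((hz.trans h1).symm)
      obtain ⟨w, rfl⟩ := ha k x ⟨w', hw'⟩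
      exact ⟨b w, (congr($(pushout.condition (f := a) (g := b)) w)).symm⟩
    · exact h
  · rintro ⟨x, rfl⟩
    exact ⟨f.π.app k x, (congr($(inr_pm α β e f g a b hae hbf k) x)).symm⟩

section Lift

variable [IsCofiltered K]
  (hα : ∀ {k k' : K} (φ : k ⟶ k') (x : E.obj k),
      E.map φ x ∈ Set.range (α.app k') → x ∈ Set.range (α.app k))
  (hβ : ∀ {k k' : K} (φ : k ⟶ k') (x : F.obj k),
      F.map φ x ∈ Set.range (β.app k') → x ∈ Set.range (β.app k))
  (t : Cone (P α β))

include hβ in
/-- Whether a point of the apex of a cone maps into the `E`-part does not depend on the index. -/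
lemma mem_range_inl_indep (k k' : K) (x : t.pt) :
    t.π.app k x ∈ Set.range (inl α β k) ↔ t.π.app k' x ∈ Set.range (inl α β k') := by
  have key : ∀ {k₁ k₂ : K} (φ : k₁ ⟶ k₂),
      t.π.app k₂ x ∈ Set.range (inl α β k₂) ↔ t.π.app k₁ x ∈ Set.range (inl α β k₁) := by
    intro k₁ k₂ φ
    have h : t.π.app k₂ x = (P α β).map φ (t.π.app k₁ x) := by
      rw [← t.w φ]; rfl
    rw [h, map_mem_range_inl_iff α β hβ]
  rw [key (IsCofiltered.minToLeft k k'), key (IsCofiltered.minToRight k k')]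

include hα in
lemma mem_range_inr_indep (k k' : K) (x : t.pt) :
    t.π.app k x ∈ Set.range (inr α β k) ↔ t.π.app k' x ∈ Set.range (inr α β k') := by
  have key : ∀ {k₁ k₂ : K} (φ : k₁ ⟶ k₂),
      t.π.app k₂ x ∈ Set.range (inr α β k₂) ↔ t.π.app k₁ x ∈ Set.range (inr α β k₁) := by
    intro k₁ k₂ φ
    have h : t.π.app k₂ x = (P α β).map φ (t.π.app k₁ x) := by
      rw [← t.w φ]; rfl
    rw [h, map_mem_range_inr_iff α β hα]
  rw [key (IsCofiltered.minToLeft k k'), key (IsCofiltered.minToRight k k')]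


include hα hβ in
theorem existsUnique_lift
    (ha : ∀ k (x : e.pt), e.π.app k x ∈ Set.range (α.app k) → x ∈ Set.range a)
    (hb : ∀ k (x : f.pt), f.π.app k x ∈ Set.range (β.app k) → x ∈ Set.range b)
    (he : IsLimit e) (hf : IsLimit f) :
    ∃! l : t.pt ⟶ pushout a b, ∀ k, l ≫ pm α β e f g a b hae hbf k = t.π.app k := by
  classical
  obtain ⟨k₀⟩ := IsCofiltered.nonempty (C := K)
  let TE : t.pt.Opens := (t.π.app k₀) ⁻¹ᵁ (inl α β k₀).opensRange
  let TF : t.pt.Opens := (t.π.app k₀) ⁻¹ᵁ (inr α β k₀).opensRange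
  have hTE : ∀ k (x : t.pt), x ∈ TE ↔ t.π.app k x ∈ Set.range (inl α β k) :=
    fun k x => mem_range_inl_indep α β hβ t k₀ k x
  have hTF : ∀ k (x : t.pt), x ∈ TF ↔ t.π.app k x ∈ Set.range (inr α β k) :=
    fun k x => mem_range_inr_indep α β hα t k₀ k x
  have hcov : ∀ x : t.pt, x ∈ Set.range TE.ι ∨ x ∈ Set.range TF.ι := by
    intro x
    rw [Scheme.Opens.range_ι, Scheme.Opens.range_ι]
    rcases jointly α β k₀ (t.π.app k₀ x) with h | h
    · exact Or.inl h
    · exact Or.inr h
  -- the `E`-part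
  have hrE : ∀ k, Set.range (TE.ι ≫ t.π.app k) ⊆ Set.range (inl α β k) := by
    rintro k _ ⟨x, rfl⟩
    exact (hTE k _).mp x.2
  let uE : ∀ k, TE.toScheme ⟶ E.obj k := fun k =>
    IsOpenImmersion.lift (inl α β k) (TE.ι ≫ t.π.app k) (hrE k)
  have huE : ∀ k, uE k ≫ inl α β k = TE.ι ≫ t.π.app k := fun k =>
    IsOpenImmersion.lift_fac _ _ _
  let cE : Cone E :=
    { pt := TE.toScheme
      π :=
        { app := uE
          naturality := by
            intro k k' φ
            rw [← cancel_mono (inl α β k')]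
            simp only [Functor.const_obj_obj, Functor.const_obj_map, Category.id_comp,
              Category.assoc]
            rw [huE, ← inl_map, ← Category.assoc, huE, Category.assoc, t.w φ] } }
  let mE : TE.toScheme ⟶ e.pt := he.lift cE
  have hmE : ∀ k, mE ≫ e.π.app k = uE k := he.fac cE
  -- the `F`-part
  have hrF : ∀ k, Set.range (TF.ι ≫ t.π.app k) ⊆ Set.range (inr α β k) := by
    rintro k _ ⟨x, rfl⟩
    exact (hTF k _).mp x.2
  let uF : ∀ k, TF.toScheme ⟶ F.obj k := fun k =>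
    IsOpenImmersion.lift (inr α β k) (TF.ι ≫ t.π.app k) (hrF k)
  have huF : ∀ k, uF k ≫ inr α β k = TF.ι ≫ t.π.app k := fun k =>
    IsOpenImmersion.lift_fac _ _ _
  let cF : Cone F :=
    { pt := TF.toScheme
      π :=
        { app := uF
          naturality := by
            intro k k' φ
            rw [← cancel_mono (inr α β k')]
            simp only [Functor.const_obj_obj, Functor.const_obj_map, Category.id_comp,
              Category.assoc]
            rw [huF, ← inr_map, ← Category.assoc, huF, Category.assoc, t.w φ] } }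
  let mF : TF.toScheme ⟶ f.pt := hf.lift cF
  have hmF : ∀ k, mF ≫ f.π.app k = uF k := hf.fac cF
  -- the overlap
  have hcond : pullback.fst TE.ι TF.ι ≫ TE.ι = pullback.snd TE.ι TF.ι ≫ TF.ι := pullback.condition
  have hrange : Set.range (pullback.fst TE.ι TF.ι ≫ mE) ⊆ Set.range a := by
    rintro _ ⟨z, rfl⟩
    apply ha k₀
    have h1 : inl α β k₀ (uE k₀ (pullback.fst TE.ι TF.ι z)) =
        inr α β k₀ (uF k₀ (pullback.snd TE.ι TF.ι z)) := by
      have e1 := congr($(huE k₀) (pullback.fst TE.ι TF.ι z))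
      have e2 := congr($(huF k₀) (pullback.snd TE.ι TF.ι z))
      have e3 := congr($hcond z)
      simp only [Scheme.Hom.comp_apply] at e1 e2 e3
      rw [e1, e2, e3]
    obtain ⟨w, hw, -⟩ := of_inl_eq_inr α β h1
    refine ⟨w, ?_⟩
    rw [hw]
    exact (congr($(hmE k₀) (pullback.fst TE.ι TF.ι z))).symm
  let n : pullback TE.ι TF.ι ⟶ g.pt := IsOpenImmersion.lift a (pullback.fst TE.ι TF.ι ≫ mE) hrange
  have hn : n ≫ a = pullback.fst TE.ι TF.ι ≫ mE := IsOpenImmersion.lift_fac _ _ _
  have hn' : n ≫ b = pullback.snd TE.ι TF.ι ≫ mF := by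
    refine hf.hom_ext fun k => ?_
    rw [← cancel_mono (inr α β k)]
    simp only [Category.assoc]
    have hc : β.app k ≫ inr α β k = α.app k ≫ inl α β k :=
      (pushout.condition (f := α.app k) (g := β.app k)).symm
    calc n ≫ b ≫ f.π.app k ≫ inr α β k
        = n ≫ g.π.app k ≫ β.app k ≫ inr α β k := by rw [reassoc_of% (hbf k)]
      _ = n ≫ g.π.app k ≫ α.app k ≫ inl α β k := by rw [hc]
      _ = n ≫ a ≫ e.π.app k ≫ inl α β k := by rw [reassoc_of% (hae k)]
      _ = pullback.fst TE.ι TF.ι ≫ mE ≫ e.π.app k ≫ inl α β k := by rw [reassoc_of% hn]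
      _ = pullback.fst TE.ι TF.ι ≫ TE.ι ≫ t.π.app k := by rw [reassoc_of% (hmE k), huE]
      _ = pullback.snd TE.ι TF.ι ≫ TF.ι ≫ t.π.app k := by rw [reassoc_of% hcond]
      _ = pullback.snd TE.ι TF.ι ≫ mF ≫ f.π.app k ≫ inr α β k := by
          rw [reassoc_of% (hmF k), huF]
  have hglue : pullback.fst TE.ι TF.ι ≫ mE ≫ pushout.inl a b =
      pullback.snd TE.ι TF.ι ≫ mF ≫ pushout.inr a b := by
    rw [← reassoc_of% hn, ← reassoc_of% hn', pushout.condition]
  obtain ⟨q, hq1, hq2⟩ := exists_glue2 TE.ι TF.ι hcov (mE ≫ pushout.inl a b)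
    (mF ≫ pushout.inr a b) hglue
  refine ⟨q, ?_, ?_⟩
  · intro k
    refine hom_ext2 TE.ι TF.ι hcov _ _ ?_ ?_
    · rw [reassoc_of% hq1, inl_pm, reassoc_of% (hmE k), huE]
    · rw [reassoc_of% hq2, inr_pm, reassoc_of% (hmF k), huF]
  · intro m hm
    refine hom_ext2 TE.ι TF.ι hcov _ _ ?_ ?_
    · rw [hq1]
      have hr : Set.range (TE.ι ≫ m) ⊆ Set.range (pushout.inl a b) := by
        rintro _ ⟨x, rfl⟩
        rw [← pm_mem_range_inl_iff α β e f g a b hae hbf hb k₀]
        have := congr($(hm k₀) (TE.ι x))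
        simp only [Scheme.Hom.comp_apply] at this ⊢
        rw [this]
        exact (hTE k₀ _).mp x.2
      have hl : IsOpenImmersion.lift (pushout.inl a b) (TE.ι ≫ m) hr ≫ pushout.inl a b =
          TE.ι ≫ m := IsOpenImmersion.lift_fac _ _ _
      rw [← hl]
      congr 1
      refine he.hom_ext fun k => ?_
      rw [hmE, ← cancel_mono (inl α β k)]
      calc (IsOpenImmersion.lift (pushout.inl a b) (TE.ι ≫ m) hr ≫ e.π.app k) ≫ inl α β k
          = (IsOpenImmersion.lift (pushout.inl a b) (TE.ι ≫ m) hr ≫ pushout.inl a b) ≫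
              pm α β e f g a b hae hbf k := by
            rw [Category.assoc, Category.assoc, inl_pm]
        _ = TE.ι ≫ t.π.app k := by rw [hl, Category.assoc, hm]
        _ = uE k ≫ inl α β k := (huE k).symm
    · rw [hq2]
      have hr : Set.range (TF.ι ≫ m) ⊆ Set.range (pushout.inr a b) := by
        rintro _ ⟨x, rfl⟩
        rw [← pm_mem_range_inr_iff α β e f g a b hae hbf ha k₀]
        have := congr($(hm k₀) (TF.ι x))
        simp only [Scheme.Hom.comp_apply] at this ⊢
        rw [this]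
        exact (hTF k₀ _).mp x.2
      have hl : IsOpenImmersion.lift (pushout.inr a b) (TF.ι ≫ m) hr ≫ pushout.inr a b =
          TF.ι ≫ m := IsOpenImmersion.lift_fac _ _ _
      rw [← hl]
      congr 1
      refine hf.hom_ext fun k => ?_
      rw [hmF, ← cancel_mono (inr α β k)]
      calc (IsOpenImmersion.lift (pushout.inr a b) (TF.ι ≫ m) hr ≫ f.π.app k) ≫ inr α β k
          = (IsOpenImmersion.lift (pushout.inr a b) (TF.ι ≫ m) hr ≫ pushout.inr a b) ≫
              pm α β e f g a b hae hbf k := by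
            rw [Category.assoc, Category.assoc, inr_pm]
        _ = TF.ι ≫ t.π.app k := by rw [hl, Category.assoc, hm]
        _ = uF k ≫ inr α β k := (huF k).symm

include hα hβ in
/-- `pushout a b` is the limit of the diagram of pushouts. -/
theorem nonempty_isLimit_pcone
    (ha : ∀ k (x : e.pt), e.π.app k x ∈ Set.range (α.app k) → x ∈ Set.range a)
    (hb : ∀ k (x : f.pt), f.π.app k x ∈ Set.range (β.app k) → x ∈ Set.range b)
    (he : IsLimit e) (hf : IsLimit f) :
    Nonempty (IsLimit (pcone α β e f g a b hae hbf)) :=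
  ⟨IsLimit.ofExistsUnique fun t =>
    existsUnique_lift α β e f g a b hae hbf hα hβ t ha hb he hf⟩

end Lift

end Groth.Agent.Lib.Helper70.AbsApproxA
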