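import Mathlib
import Groth.Agent.Lib.Helper70.AbsApproxB

/-!
# Properties of the diagram of pushouts: affine transitions, compactness, finite type
-/

set_option autoImplicit false
universe u v w

open CategoryTheory Limits AlgebraicGeometry

namespace Groth.Agent.Lib.Helper70.AbsApproxA

open Groth.Agent.Lib.Helper23

variable {K : Type w} [Category.{v} K]
  {E F G : K ⥤ Scheme.{u}} (α : G ⟶ E) (β : G ⟶ F)
  [∀ k, IsOpenImmersion (α.app k)] [∀ k, IsOpenImmersion (β.app k)]

lemma isPullback_inl
    (hβ : ∀ {k k' : K} (φ : k ⟶ k') (x : F.obj k),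
      F.map φ x ∈ Set.range (β.app k') → x ∈ Set.range (β.app k))
    {k k' : K} (φ : k ⟶ k') :
    IsPullback (E.map φ) (inl α β k) (inl α β k') ((P α β).map φ) := by
  refine IsOpenImmersion.isPullback _ _ _ _ (inl_map α β φ) ?_
  ext x
  exact map_mem_range_inl_iff α β hβ φ x

lemma isPullback_inr
    (hα : ∀ {k k' : K} (φ : k ⟶ k') (x : E.obj k),
      E.map φ x ∈ Set.range (α.app k') → x ∈ Set.range (α.app k))
    {k k' : K} (φ : k ⟶ k') :
    IsPullback (F.map φ) (inr α β k) (inr α β k') ((P α β).map φ) := by
  refine IsOpenImmersion.isPullback _ _ _ _ (inr_map α β φ) ?_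
  ext x
  exact map_mem_range_inr_iff α β hα φ x

theorem isAffineHom_map
    (hα : ∀ {k k' : K} (φ : k ⟶ k') (x : E.obj k),
      E.map φ x ∈ Set.range (α.app k') → x ∈ Set.range (α.app k))
    (hβ : ∀ {k k' : K} (φ : k ⟶ k') (x : F.obj k),
      F.map φ x ∈ Set.range (β.app k') → x ∈ Set.range (β.app k))
    {k k' : K} (φ : k ⟶ k') [IsAffineHom (E.map φ)] [IsAffineHom (F.map φ)] :
    IsAffineHom ((P α β).map φ) := by
  rw [IsZariskiLocalAtTarget.iff_of_openCover (P := @IsAffineHom)
    (cover2 (inl α β k') (inr α β k') (jointly α β k'))]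
  intro j
  cases j
  · change IsAffineHom (pullback.snd ((P α β).map φ) (inr α β k'))
    have h := (isPullback_inr α β hα φ).flip
    have : pullback.snd ((P α β).map φ) (inr α β k') = h.isoPullback.inv ≫ F.map φ := by
      rw [IsPullback.isoPullback_inv_snd]
    rw [this]; infer_instance
  · change IsAffineHom (pullback.snd ((P α β).map φ) (inl α β k'))
    have h := (isPullback_inl α β hβ φ).flip
    have : pullback.snd ((P α β).map φ) (inl α β k') = h.isoPullback.inv ≫ E.map φ := by
      rw [IsPullback.isoPullback_inv_snd]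
    rw [this]; infer_instance

theorem compactSpace_obj (k : K) [CompactSpace (E.obj k)] [CompactSpace (F.obj k)] :
    CompactSpace ↥((P α β).obj k) := by
  rw [← isCompact_univ_iff]
  have h : (Set.univ : Set ↥((P α β).obj k)) =
      Set.range (inl α β k) ∪ Set.range (inr α β k) := by
    ext x
    simpa using jointly α β k x
  rw [h]
  exact (isCompact_range (inl α β k).continuous).union (isCompact_range (inr α β k).continuous)

theorem locallyOfFiniteType_obj {T : Scheme.{u}} (hT : IsTerminal T) (k : K)
    [LocallyOfFiniteType (hT.from (E.obj k))] [LocallyOfFiniteType (hT.from (F.obj k))] :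
    LocallyOfFiniteType (hT.from ((P α β).obj k)) := by
  rw [IsZariskiLocalAtSource.iff_of_openCover (P := @LocallyOfFiniteType)
    (cover2 (inl α β k) (inr α β k) (jointly α β k))]
  intro j
  cases j
  · change LocallyOfFiniteType (inr α β k ≫ hT.from ((P α β).obj k))
    rw [hT.hom_ext (inr α β k ≫ hT.from ((P α β).obj k)) (hT.from (F.obj k))]
    infer_instance
  · change LocallyOfFiniteType (inl α β k ≫ hT.from ((P α β).obj k))
    rw [hT.hom_ext (inl α β k ≫ hT.from ((P α β).obj k)) (hT.from (E.obj k))]
    infer_instance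

end Groth.Agent.Lib.Helper70.AbsApproxA
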