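import Mathlib
import Groth.Agent.Lib.Helper70.AbsApproxF
import Groth.Agent.Lib.Helper70.AbsApproxG

/-!
# Absolute Noetherian approximation: the diagrams over `Jᵒᵖ`
-/

set_option autoImplicit false
universe u

open CategoryTheory Limits AlgebraicGeometry Opposite

namespace Groth.Agent.Lib.Helper70.AbsApproxE

open Groth.Agent.Lib.Helper70.AbsApproxC Groth.Agent.Lib.Helper70.AbsApproxD

variable {I : Type u} [Preorder I] [OrderBot I]
  (D : Iᵒᵖ ⥤ Scheme.{u}) (c : Cone D) (W₁ : (D.obj (op ⊥)).Opens)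
  {B : CommRingCat.{u}} (s : B ⟶ Γ((gcone D c W₁).pt, ⊤))
  {κ : Type} (g : κ → B) (f : κ → R D W₁ ⊥)

/-- The projection `J ⥤ I`. -/
def proj : J D c W₁ s g f ⥤ I :=
  Monotone.functor (f := fun j : J D c W₁ s g f => j.i) fun _ _ h => h.fst

/-- The `E`-diagram: the original diagram reindexed. -/
noncomputable def Efun : (J D c W₁ s g f)ᵒᵖ ⥤ Scheme.{u} := (proj D c W₁ s g f).op ⋙ D

/-- The `G`-diagram: the opens reindexed. -/
noncomputable def Gf : (J D c W₁ s g f)ᵒᵖ ⥤ Scheme.{u} := (proj D c W₁ s g f).op ⋙ Gfun D W₁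

/-- The `F`-diagram: spectra of the subrings. -/
noncomputable def Ffun : (J D c W₁ s g f)ᵒᵖ ⥤ Scheme.{u} :=
  (Afun D c W₁ s g f).op ⋙ Scheme.Spec

/-- `α : G ⟶ E`. -/
noncomputable def αJ : Gf D c W₁ s g f ⟶ Efun D c W₁ s g f :=
  Functor.whiskerLeft (proj D c W₁ s g f).op (αI D W₁)

instance (X : (J D c W₁ s g f)ᵒᵖ) : IsOpenImmersion ((αJ D c W₁ s g f).app X) :=
  inferInstanceAs (IsOpenImmersion ((αI D W₁).app _))

/-- `β : G ⟶ F`. -/
noncomputable def βJ : Gf D c W₁ s g f ⟶ Ffun D c W₁ s g f where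
  app X := toSpec X.unop.sndHom
  naturality X Y φ := by
    change (Gfun D W₁).map (homOfLE (leOfHom φ.unop).fst).op ≫ toSpec Y.unop.sndHom =
      toSpec X.unop.sndHom ≫ Spec.map ((Afun D c W₁ s g f).map φ.unop)
    rw [toSpec, toSpec, Category.assoc, ← Spec.map_comp, J.map_sndHom, Spec.map_comp, ρ,
      ← Scheme.toSpecΓ_naturality_assoc]

end Groth.Agent.Lib.Helper70.AbsApproxE
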