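import Mathlib
import Groth.Agent.Lib.Helper70.AbsApproxH

/-!
# Absolute Noetherian approximation: cartesian conditions for the diagrams over `Jᵒᵖ`
-/

set_option autoImplicit false
set_option linter.style.haveILetI false
universe u

open CategoryTheory Limits AlgebraicGeometry Opposite

namespace Groth.Agent.Lib.Helper70.AbsApproxE

open Groth.Agent.Lib.Helper70.AbsApproxC Groth.Agent.Lib.Helper70.AbsApproxD

variable {I : Type u} [Preorder I] [OrderBot I]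
  {D : Iᵒᵖ ⥤ Scheme.{u}} {c : Cone D} {W₁ : (D.obj (op ⊥)).Opens}
  {B : CommRingCat.{u}} {s : B ⟶ Γ((gcone D c W₁).pt, ⊤)}
  {κ : Type} {g : κ → B} {f : κ → R D W₁ ⊥}

/-- The distinguished elements of `A_j`. -/
noncomputable def J.ak (j : J D c W₁ s g f) (k : κ) : ↥j.A :=
  ⟨(g k, fi D W₁ f j.i k), j.good.mem k⟩

lemma J.sndHom_ak (j : J D c W₁ s g f) (k : κ) : j.sndHom.hom (j.ak k) = fi D W₁ f j.i k := rfl

lemma J.fstHom_ak (j : J D c W₁ s g f) (k : κ) : j.fstHom.hom (j.ak k) = g k := rfl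

lemma J.map_ak {j j' : J D c W₁ s g f} (φ : j ⟶ j') (k : κ) :
    ((Afun D c W₁ s g f).map φ).hom (j.ak k) = j'.ak k := by
  apply Subtype.ext
  change τ D W₁ (leOfHom φ).fst (g k, fi D W₁ f j.i k) = (g k, fi D W₁ f j'.i k)
  rw [τ_apply, ρ_fi]

variable (H : Hyp D c W₁ s g f)

include H in
theorem J.toSpec_sndHom (j : J D c W₁ s g f) :
    IsOpenImmersion (toSpec j.sndHom) ∧ Set.range (toSpec j.sndHom) =
      ⋃ k, (PrimeSpectrum.basicOpen (j.ak k) : Set (PrimeSpectrum ↥j.A)) := by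
  refine isOpenImmersion_toSpec j.sndHom j.ak ?_ ?_ ?_ ?_
  · intro x; exact H.cov j.i x
  · intro k; exact H.aff j.i k
  · intro k cc
    obtain ⟨n, z, hz, e⟩ := j.good.surj k cc
    exact ⟨n, ⟨z, hz⟩, e⟩
  · intro k z hz
    letI := (resB D W₁ f j.i k).hom.toAlgebra
    haveI := H.loc j.i k
    obtain ⟨N, hN⟩ := exists_pow_mul_eq_zero_of_algebraMap_eq_zero (C := Ck D W₁ f j.i k)
      (H.t_fi j.i k) (H.binj k) (j.good.le_eq z.2) hz
    exact ⟨N, Subtype.ext hN⟩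

/-! ### Cartesian conditions -/

lemma mem_range_αI_iff (X : Iᵒᵖ) (x : D.obj X) :
    x ∈ Set.range ((αI D W₁).app X) ↔
      D.map (homOfLE (bot_le : ⊥ ≤ X.unop)).op x ∈ W₁ := by
  change x ∈ Set.range (Wi D W₁ X.unop).ι ↔ _
  rw [Scheme.Opens.range_ι]
  rfl

lemma αI_cart {X Y : Iᵒᵖ} (φ : X ⟶ Y) (x : D.obj X)
    (hx : D.map φ x ∈ Set.range ((αI D W₁).app Y)) : x ∈ Set.range ((αI D W₁).app X) := by
  rw [mem_range_αI_iff] at hx ⊢
  rw [← Scheme.Hom.comp_apply, ← D.map_comp] at hx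
  exact hx

lemma αJ_cart {X Y : (J D c W₁ s g f)ᵒᵖ} (φ : X ⟶ Y) (x : (Efun D c W₁ s g f).obj X)
    (hx : (Efun D c W₁ s g f).map φ x ∈ Set.range ((αJ D c W₁ s g f).app Y)) :
    x ∈ Set.range ((αJ D c W₁ s g f).app X) :=
  αI_cart ((proj D c W₁ s g f).op.map φ) x hx

lemma cone_cart (X : Iᵒᵖ) (x : c.pt) (hx : c.π.app X x ∈ Set.range ((αI D W₁).app X)) :
    x ∈ Set.range (Wlim D c W₁).ι := by
  rw [mem_range_αI_iff] at hx
  rw [Scheme.Opens.range_ι]
  rw [← Scheme.Hom.comp_apply, Cone.w] at hx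
  exact hx

include H in
lemma mem_range_βJ_iff (X : (J D c W₁ s g f)ᵒᵖ) (x : (Ffun D c W₁ s g f).obj X) :
    x ∈ Set.range ((βJ D c W₁ s g f).app X) ↔
      ∃ k, x ∈ (PrimeSpectrum.basicOpen (X.unop.ak k) : Set (PrimeSpectrum ↥X.unop.A)) := by
  change x ∈ Set.range (toSpec X.unop.sndHom) ↔ _
  rw [(J.toSpec_sndHom H X.unop).2]
  exact Set.mem_iUnion

include H in
lemma βJ_cart {X Y : (J D c W₁ s g f)ᵒᵖ} (φ : X ⟶ Y) (x : (Ffun D c W₁ s g f).obj X)
    (hx : (Ffun D c W₁ s g f).map φ x ∈ Set.range ((βJ D c W₁ s g f).app Y)) :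
    x ∈ Set.range ((βJ D c W₁ s g f).app X) := by
  rw [mem_range_βJ_iff H] at hx ⊢
  obtain ⟨k, hk⟩ := hx
  refine ⟨k, ?_⟩
  change Spec.map ((Afun D c W₁ s g f).map φ.unop) x ∈ _ at hk
  change X.unop.ak k ∉ x.asIdeal
  rw [← J.map_ak φ.unop k]
  exact hk

/-! ### The cones -/

variable (D c W₁ s g f)

/-- The cone over the `E`-diagram. -/
noncomputable def econe : Cone (Efun D c W₁ s g f) := c.whisker (proj D c W₁ s g f).op

/-- The cone over the `G`-diagram. -/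
noncomputable def gconeJ : Cone (Gf D c W₁ s g f) :=
  (gcone D c W₁).whisker (proj D c W₁ s g f).op

/-- The cone over the `F`-diagram. -/
noncomputable def fcone : Cone (Ffun D c W₁ s g f) :=
  Scheme.Spec.mapCone (Acocone D c W₁ s g f).op

/-- The morphism `a : Wlim ⟶ lim D`. -/
noncomputable def aJ : (gconeJ D c W₁ s g f).pt ⟶ (econe D c W₁ s g f).pt := (Wlim D c W₁).ι

instance : IsOpenImmersion (aJ D c W₁ s g f) :=
  inferInstanceAs (IsOpenImmersion (Wlim D c W₁).ι)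

/-- The morphism `b : Wlim ⟶ Spec B`. -/
noncomputable def bJ : (gconeJ D c W₁ s g f).pt ⟶ (fcone D c W₁ s g f).pt := toSpec s

lemma hae (X : (J D c W₁ s g f)ᵒᵖ) :
    aJ D c W₁ s g f ≫ (econe D c W₁ s g f).π.app X =
      (gconeJ D c W₁ s g f).π.app X ≫ (αJ D c W₁ s g f).app X :=
  (gcone_comm D c W₁ _).symm

lemma hbf (X : (J D c W₁ s g f)ᵒᵖ) :
    bJ D c W₁ s g f ≫ (fcone D c W₁ s g f).π.app X =
      (gconeJ D c W₁ s g f).π.app X ≫ (βJ D c W₁ s g f).app X := by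
  change toSpec s ≫ Spec.map X.unop.fstHom =
    (gcone D c W₁).π.app (op X.unop.i) ≫ toSpec X.unop.sndHom
  rw [toSpec, toSpec, Category.assoc, ← Spec.map_comp, J.fstHom_s, Spec.map_comp, t,
    ← Scheme.toSpecΓ_naturality_assoc]

end Groth.Agent.Lib.Helper70.AbsApproxE
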