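import Mathlib
import Groth.Agent.Lib.Helper70.AbsApproxI

/-!
# Absolute Noetherian approximation: the limit of the system of pushouts
-/

set_option autoImplicit false
set_option linter.style.haveILetI false
universe u

open CategoryTheory Limits AlgebraicGeometry Opposite

namespace Groth.Agent.Lib.Helper70.AbsApproxE

open Groth.Agent.Lib.Helper70.AbsApproxC Groth.Agent.Lib.Helper70.AbsApproxD
  Groth.Agent.Lib.Helper70.AbsApproxA

variable {I : Type u} [Preorder I] [OrderBot I]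
  {D : Iᵒᵖ ⥤ Scheme.{u}} {c : Cone D} {W₁ : (D.obj (op ⊥)).Opens}
  {B : CommRingCat.{u}} {s : B ⟶ Γ((gcone D c W₁).pt, ⊤)}
  {κ : Type} {g : κ → B} {f : κ → R D W₁ ⊥}

variable (H : Hyp D c W₁ s g f)

lemma ha (X : (J D c W₁ s g f)ᵒᵖ) (x : (econe D c W₁ s g f).pt)
    (hx : (econe D c W₁ s g f).π.app X x ∈ Set.range ((αJ D c W₁ s g f).app X)) :
    x ∈ Set.range (aJ D c W₁ s g f) :=
  cone_cart ((proj D c W₁ s g f).op.obj X) x hx

include H in
lemma hb (X : (J D c W₁ s g f)ᵒᵖ) (x : (fcone D c W₁ s g f).pt)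
    (hx : (fcone D c W₁ s g f).π.app X x ∈ Set.range ((βJ D c W₁ s g f).app X)) :
    x ∈ Set.range (bJ D c W₁ s g f) := by
  rw [mem_range_βJ_iff H] at hx
  obtain ⟨k, hk⟩ := hx
  apply H.gb k
  change Spec.map X.unop.fstHom x ∈ _ at hk
  change g k ∉ x.asIdeal
  rw [← J.fstHom_ak X.unop k]
  exact hk

variable [Finite κ] [IsDirected I (· ≤ ·)]

include H in
lemma proj_final : (proj D c W₁ s g f).Final := by
  haveI := J.isDirected H
  haveI := J.nonempty H
  haveI : IsFiltered (J D c W₁ s g f) := inferInstance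
  haveI : Nonempty I := ⟨⊥⟩
  haveI : IsFiltered I := inferInstance
  apply Functor.final_of_exists_of_isFiltered
  · intro i
    obtain ⟨j₀⟩ := J.nonempty H
    obtain ⟨i', h₀, h⟩ := directed_of (· ≤ ·) j₀.i i
    obtain ⟨A', hA', -, -⟩ := J.exists_ge H j₀ h₀ ∅ (by simp)
    exact ⟨⟨i', A', hA'⟩, ⟨homOfLE h⟩⟩
  · intro i j u v
    exact ⟨j, 𝟙 j, Subsingleton.elim _ _⟩

include H in
lemma nonempty_isLimit_econe (hc : IsLimit c) : Nonempty (IsLimit (econe D c W₁ s g f)) := by
  haveI := proj_final H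
  haveI : (proj D c W₁ s g f).op.Initial := inferInstance
  exact ⟨(Functor.Initial.isLimitWhiskerEquiv (proj D c W₁ s g f).op c).symm hc⟩

include H in
lemma nonempty_isLimit_fcone : Nonempty (IsLimit (fcone D c W₁ s g f)) := by
  obtain ⟨h⟩ := nonempty_isColimit_Acocone H
  exact ⟨isLimitOfPreserves Scheme.Spec h.op⟩

end Groth.Agent.Lib.Helper70.AbsApproxE
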