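import Mathlib

/-!
# Finitely generated rings and finite type over `Spec ℤ`
-/

set_option autoImplicit false
set_option linter.style.haveILetI false
universe u

open CategoryTheory Limits AlgebraicGeometry

namespace Groth.Agent.Lib.Helper70.AbsApproxK

/-- The conclusion of absolute Noetherian approximation for a scheme. -/
def HasApprox (S : Scheme.{u}) : Prop :=
  ∃ (I : Type u) (_ : Preorder I) (_ : IsDirected I (fun a b => a ≤ b)) (_ : Nonempty I)
      (D : Iᵒᵖ ⥤ Scheme.{u}) (c : Limits.Cone D) (_ : Limits.IsLimit c),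
      (∀ (i j : Iᵒᵖ) (f : i ⟶ j), IsAffineHom (D.map f)) ∧
      (∀ i, CompactSpace (D.obj i) ∧
        LocallyOfFiniteType (Limits.IsTerminal.from specULiftZIsTerminal (D.obj i))) ∧
      Nonempty (c.pt ≅ S)

theorem HasApprox.of_iso {S S' : Scheme.{u}} (h : HasApprox S) (e : S ≅ S') : HasApprox S' := by
  obtain ⟨I, i1, i2, i3, D, c, hc, h1, h2, ⟨e'⟩⟩ := h
  exact ⟨I, i1, i2, i3, D, c, hc, h1, h2, ⟨e' ≪≫ e⟩⟩

theorem closure_coe_preimage_eq_top {R : Type u} [CommRing R] (s : Set R) :
    Subring.closure (((↑) : ↥(Subring.closure s) → R) ⁻¹' s) = ⊤ := by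
  rw [eq_top_iff]
  rintro ⟨x, hx⟩ -
  induction hx using Subring.closure_induction with
  | mem x hx => exact Subring.subset_closure hx
  | zero => exact Subring.zero_mem _
  | one => exact Subring.one_mem _
  | add x y hx hy hx' hy' => exact Subring.add_mem _ hx' hy'
  | neg x hx hx' => exact Subring.neg_mem _ hx'
  | mul x y hx hy hx' hy' => exact Subring.mul_mem _ hx' hy'

theorem finiteType_of_closure {R : Type u} [CommRing R] (A : Subring R) (S : Finset R)
    (hS : Subring.closure (S : Set R) = A) (φ : ULift.{u} ℤ →+* ↥A) : φ.FiniteType := by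
  subst hS
  letI := φ.toAlgebra
  change Algebra.FiniteType (ULift.{u} ℤ) ↥(Subring.closure (S : Set R))
  constructor
  rw [Subalgebra.fg_def]
  refine ⟨((↑) : ↥(Subring.closure (S : Set R)) → R) ⁻¹' (S : Set R),
    S.finite_toSet.preimage Subtype.val_injective.injOn, ?_⟩
  rw [eq_top_iff]
  intro x _
  have hx : x ∈ Subring.closure
      (((↑) : ↥(Subring.closure (S : Set R)) → R) ⁻¹' (S : Set R)) := by
    rw [closure_coe_preimage_eq_top]; trivial
  have hle : Subring.closure (((↑) : ↥(Subring.closure (S : Set R)) → R) ⁻¹' (S : Set R)) ≤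
      (Algebra.adjoin (ULift.{u} ℤ)
        (((↑) : ↥(Subring.closure (S : Set R)) → R) ⁻¹' (S : Set R))).toSubring :=
    Subring.closure_le.2 Algebra.subset_adjoin
  exact hle hx

theorem lft_Spec_of_closure {R : Type u} [CommRing R] (A : Subring R) (S : Finset R)
    (hS : Subring.closure (S : Set R) = A) :
    LocallyOfFiniteType
      (IsTerminal.from specULiftZIsTerminal (Spec (CommRingCat.of ↥A))) := by
  obtain ⟨φ, hφ⟩ : ∃ φ : CommRingCat.of (ULift.{u} ℤ) ⟶ CommRingCat.of ↥A,
      IsTerminal.from specULiftZIsTerminal (Spec (CommRingCat.of ↥A)) = Spec.map φ :=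
    ⟨CommRingCat.ofHom ((Int.castRingHom ↥A).comp (ULift.ringEquiv : ULift.{u} ℤ ≃+* ℤ).toRingHom),
      specULiftZIsTerminal.hom_ext _ _⟩
  rw [hφ, HasRingHomProperty.Spec_iff (P := @LocallyOfFiniteType)]
  exact finiteType_of_closure A S hS φ.hom

end Groth.Agent.Lib.Helper70.AbsApproxK
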