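import Mathlib
import Groth.Agent.Lib.Helper70.AbsApproxJ
import Groth.Agent.Lib.Helper70.AbsApproxK

/-!
# Absolute Noetherian approximation: the core of the inductive step
-/

set_option autoImplicit false
set_option linter.style.haveILetI false
universe u

open CategoryTheory Limits AlgebraicGeometry Opposite

namespace Groth.Agent.Lib.Helper70.AbsApproxE

open Groth.Agent.Lib.Helper70.AbsApproxC Groth.Agent.Lib.Helper70.AbsApproxD
  Groth.Agent.Lib.Helper70.AbsApproxA Groth.Agent.Lib.Helper70.AbsApproxK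

variable {I : Type u} [Preorder I] [OrderBot I]
  {D : Iᵒᵖ ⥤ Scheme.{u}} {c : Cone D} {W₁ : (D.obj (op ⊥)).Opens}
  {B : CommRingCat.{u}} {s : B ⟶ Γ((gcone D c W₁).pt, ⊤)}
  {κ : Type} {g : κ → B} {f : κ → R D W₁ ⊥}

instance [h : IsOpenImmersion (toSpec s)] : IsOpenImmersion (bJ D c W₁ s g f) := h

variable [Finite κ] [IsDirected I (· ≤ ·)]

theorem core (H : Hyp D c W₁ s g f) (hc : IsLimit c) [IsOpenImmersion (toSpec s)]
    (haff : ∀ (i j : Iᵒᵖ) (φ : i ⟶ j), IsAffineHom (D.map φ))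
    (hD : ∀ i, CompactSpace (D.obj i) ∧
      LocallyOfFiniteType (IsTerminal.from specULiftZIsTerminal (D.obj i))) :
    HasApprox (pushout (aJ D c W₁ s g f) (bJ D c W₁ s g f)) := by
  haveI := J.isDirected H
  haveI := J.nonempty H
  haveI : ∀ X, IsOpenImmersion ((βJ D c W₁ s g f).app X) :=
    fun X => (J.toSpec_sndHom H X.unop).1
  obtain ⟨he⟩ := nonempty_isLimit_econe H hc
  obtain ⟨hf⟩ := nonempty_isLimit_fcone H
  have hα : ∀ {X Y : (J D c W₁ s g f)ᵒᵖ} (φ : X ⟶ Y) (x : (Efun D c W₁ s g f).obj X),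
      (Efun D c W₁ s g f).map φ x ∈ Set.range ((αJ D c W₁ s g f).app Y) →
        x ∈ Set.range ((αJ D c W₁ s g f).app X) := fun φ x hx => αJ_cart φ x hx
  have hβ : ∀ {X Y : (J D c W₁ s g f)ᵒᵖ} (φ : X ⟶ Y) (x : (Ffun D c W₁ s g f).obj X),
      (Ffun D c W₁ s g f).map φ x ∈ Set.range ((βJ D c W₁ s g f).app Y) →
        x ∈ Set.range ((βJ D c W₁ s g f).app X) := fun φ x hx => βJ_cart H φ x hx
  obtain ⟨hl⟩ := nonempty_isLimit_pcone (αJ D c W₁ s g f) (βJ D c W₁ s g f)
    (econe D c W₁ s g f) (fcone D c W₁ s g f) (gconeJ D c W₁ s g f) (aJ D c W₁ s g f)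
    (bJ D c W₁ s g f) (hae D c W₁ s g f) (hbf D c W₁ s g f) hα hβ ha (hb H) he hf
  refine ⟨J D c W₁ s g f, inferInstance, inferInstance, inferInstance,
    P (αJ D c W₁ s g f) (βJ D c W₁ s g f), _, hl, ?_, ?_, ⟨Iso.refl _⟩⟩
  · intro X Y φ
    haveI : IsAffineHom ((Efun D c W₁ s g f).map φ) := haff _ _ _
    haveI : IsAffineHom ((Ffun D c W₁ s g f).map φ) :=
      inferInstanceAs (IsAffineHom (Spec.map ((Afun D c W₁ s g f).map φ.unop)))
    exact isAffineHom_map _ _ hα hβ φ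
  · intro X
    haveI : CompactSpace ((Efun D c W₁ s g f).obj X) := (hD _).1
    haveI : CompactSpace ((Ffun D c W₁ s g f).obj X) :=
      inferInstanceAs (CompactSpace (Spec ((Afun D c W₁ s g f).obj X.unop)))
    haveI : LocallyOfFiniteType
        (IsTerminal.from specULiftZIsTerminal ((Efun D c W₁ s g f).obj X)) := (hD _).2
    haveI : LocallyOfFiniteType
        (IsTerminal.from specULiftZIsTerminal ((Ffun D c W₁ s g f).obj X)) := by
      obtain ⟨S, hS⟩ := X.unop.good.fg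
      exact lft_Spec_of_closure X.unop.A S hS
    exact ⟨compactSpace_obj _ _ X, locallyOfFiniteType_obj _ _ specULiftZIsTerminal X⟩

end Groth.Agent.Lib.Helper70.AbsApproxE
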