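import Mathlib
import Groth.Agent.Lib.Helper70.AbsApproxE

/-!
# Absolute Noetherian approximation: the system of opens `Gfun` as an inverse system
-/

set_option autoImplicit false
set_option linter.style.haveILetI false
universe u

open CategoryTheory Limits AlgebraicGeometry Opposite

namespace Groth.Agent.Lib.Helper70.AbsApproxE

variable {I : Type u} [Preorder I] [OrderBot I]
  (D : Iᵒᵖ ⥤ Scheme.{u}) (c : Cone D) (W₁ : (D.obj (op ⊥)).Opens)

instance toOver_initial [IsDirected I (· ≤ ·)] : (toOver (I := I)).Initial := by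
  haveI : Nonempty I := ⟨⊥⟩
  haveI : IsFiltered I := inferInstance
  apply Functor.initial_of_exists_of_isCofiltered
  · intro d
    exact ⟨d.left, ⟨Over.homMk (𝟙 _) (Subsingleton.elim _ _)⟩⟩
  · intro d X u v
    refine ⟨X, 𝟙 X, ?_⟩
    congr 1
    apply Over.OverMorphism.ext
    exact Subsingleton.elim _ _

/-- `Wlim` is the limit of the diagram of opens. -/
noncomputable def isLimitGcone [IsDirected I (· ≤ ·)] (hc : IsLimit c) :
    IsLimit (gcone D c W₁) := by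
  haveI : Nonempty I := ⟨⊥⟩
  haveI : IsFiltered I := inferInstance
  exact (Functor.Initial.isLimitWhiskerEquiv toOver _).symm (isLimitOpensCone D c hc (op ⊥) W₁)

instance Gfun_map_isAffineHom [∀ {i j : Iᵒᵖ} (φ : i ⟶ j), IsAffineHom (D.map φ)]
    {i j : Iᵒᵖ} (φ : i ⟶ j) : IsAffineHom ((Gfun D W₁).map φ) :=
  inferInstanceAs (IsAffineHom ((opensDiagram D (op ⊥) W₁).map (toOver.map φ)))

lemma Gfun_compactSpace [∀ {i j : Iᵒᵖ} (φ : i ⟶ j), IsAffineHom (D.map φ)]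
    (hW₁ : IsCompact (W₁ : Set (D.obj (op ⊥)))) (i : Iᵒᵖ) :
    CompactSpace ((Gfun D W₁).obj i) :=
  isCompact_iff_compactSpace.mp
    (QuasiCompact.isCompact_preimage (f := D.map (homOfLE (bot_le : ⊥ ≤ i.unop)).op) _ W₁.2 hW₁)

lemma Gfun_quasiSeparatedSpace [∀ i, QuasiSeparatedSpace (D.obj i)] (i : Iᵒᵖ) :
    QuasiSeparatedSpace ((Gfun D W₁).obj i) :=
  (isQuasiSeparated_iff_quasiSeparatedSpace _ (Wi D W₁ i.unop).2).mp
    (.of_quasiSeparatedSpace _)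

section

variable [IsDirected I (· ≤ ·)] [∀ {i j : Iᵒᵖ} (φ : i ⟶ j), IsAffineHom (D.map φ)]
  [∀ i, QuasiSeparatedSpace (D.obj i)]
  (hW₁ : IsCompact (W₁ : Set (D.obj (op ⊥)))) (hc : IsLimit c)

include hW₁ hc

lemma csurj_of_isLimit (r : Γ((gcone D c W₁).pt, ⊤)) :
    ∃ (i : I) (r' : R D W₁ i), (t D c W₁ i).hom r' = r := by
  haveI : Nonempty I := ⟨⊥⟩
  haveI : IsFiltered I := inferInstance
  haveI := Gfun_compactSpace D W₁ hW₁
  haveI := Gfun_quasiSeparatedSpace D W₁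
  obtain ⟨i, r', hr'⟩ := exists_appTop_π_eq_of_isLimit (Gfun D W₁) (gcone D c W₁)
    (isLimitGcone D c W₁ hc) r
  exact ⟨i.unop, r', hr'.symm⟩

lemma cinj_of_isLimit (i : I) (r : R D W₁ i) (hr : (t D c W₁ i).hom r = 0) :
    ∃ (i' : I) (h : i ≤ i'), (ρ D W₁ h).hom r = 0 := by
  haveI : Nonempty I := ⟨⊥⟩
  haveI : IsFiltered I := inferInstance
  haveI := Gfun_compactSpace D W₁ hW₁
  obtain ⟨j, φ, hj⟩ := exists_appTop_map_eq_zero_of_isLimit (Gfun D W₁) (gcone D c W₁)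
    (isLimitGcone D c W₁ hc) (i := op i) r hr
  refine ⟨j.unop, leOfHom φ.unop, ?_⟩
  exact hj

end

section BasicOpen

lemma preimage_basicOpen_ρ {i i' : I} (h : i ≤ i') (x : R D W₁ i) :
    (Gfun D W₁).map (homOfLE h).op ⁻¹ᵁ ((Gfun D W₁).obj (op i)).basicOpen x =
      ((Gfun D W₁).obj (op i')).basicOpen ((ρ D W₁ h).hom x) :=
  Scheme.preimage_basicOpen_top _ _

lemma preimage_basicOpen_t (i : I) (x : R D W₁ i) :
    (gcone D c W₁).π.app (op i) ⁻¹ᵁ ((Gfun D W₁).obj (op i)).basicOpen x =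
      (gcone D c W₁).pt.basicOpen ((t D c W₁ i).hom x) :=
  Scheme.preimage_basicOpen_top _ _

lemma isAffineOpen_basicOpen_ρ [∀ {i j : Iᵒᵖ} (φ : i ⟶ j), IsAffineHom (D.map φ)]
    {i i' : I} (h : i ≤ i') (x : R D W₁ i)
    (hx : IsAffineOpen (((Gfun D W₁).obj (op i)).basicOpen x)) :
    IsAffineOpen (((Gfun D W₁).obj (op i')).basicOpen ((ρ D W₁ h).hom x)) := by
  rw [← preimage_basicOpen_ρ]
  exact hx.preimage _

lemma cover_basicOpen_ρ {κ : Type*} {i i' : I} (h : i ≤ i') (x : κ → R D W₁ i)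
    (hx : ∀ y : (Gfun D W₁).obj (op i), ∃ k, y ∈ ((Gfun D W₁).obj (op i)).basicOpen (x k))
    (y : (Gfun D W₁).obj (op i')) :
    ∃ k, y ∈ ((Gfun D W₁).obj (op i')).basicOpen ((ρ D W₁ h).hom (x k)) := by
  obtain ⟨k, hk⟩ := hx ((Gfun D W₁).map (homOfLE h).op y)
  refine ⟨k, ?_⟩
  rw [← preimage_basicOpen_ρ]
  exact hk

end BasicOpen

end Groth.Agent.Lib.Helper70.AbsApproxE
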