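import Mathlib
import Groth.Agent.Lib.Helper70.AbsApproxM

/-!
# Absolute Noetherian approximation: descending a finite affine cover by basic opens
-/

set_option autoImplicit false
set_option linter.style.haveILetI false
universe u

open CategoryTheory Limits AlgebraicGeometry Opposite

namespace Groth.Agent.Lib.Helper70.AbsApproxE

variable {I : Type u} [Preorder I] [OrderBot I]
  (D : Iᵒᵖ ⥤ Scheme.{u}) (c : Cone D) (W₁ : (D.obj (op ⊥)).Opens)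

lemma ρ_ρ {i i' i'' : I} (h : i ≤ i') (h' : i' ≤ i'') (h'' : i ≤ i'') (x : R D W₁ i) :
    (ρ D W₁ h').hom ((ρ D W₁ h).hom x) = (ρ D W₁ h'').hom x := by
  rw [← RingHom.comp_apply, ← CommRingCat.hom_comp, ← ρ_trans]

lemma t_ρ {i i' : I} (h : i ≤ i') (x : R D W₁ i) :
    (t D c W₁ i').hom ((ρ D W₁ h).hom x) = (t D c W₁ i).hom x := by
  rw [← RingHom.comp_apply, ← CommRingCat.hom_comp, ρ_t]

variable [IsDirected I (· ≤ ·)] [∀ {i j : Iᵒᵖ} (φ : i ⟶ j), IsAffineHom (D.map φ)]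
  [∀ i, QuasiSeparatedSpace (D.obj i)]
  (hW₁ : IsCompact (W₁ : Set (D.obj (op ⊥)))) (hc : IsLimit c)

include hW₁ hc in
lemma exists_isAffineOpen_basicOpen {i₁ : I} (x : R D W₁ i₁)
    (hx : IsAffineOpen ((gcone D c W₁).pt.basicOpen ((t D c W₁ i₁).hom x))) :
    ∃ (i : I) (h : i₁ ≤ i),
      IsAffineOpen (((Gfun D W₁).obj (op i)).basicOpen ((ρ D W₁ h).hom x)) := by
  haveI : Nonempty I := ⟨⊥⟩
  haveI : IsFiltered I := inferInstance
  haveI := Gfun_compactSpace D W₁ hW₁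
  haveI := Gfun_quasiSeparatedSpace D W₁
  set U := ((Gfun D W₁).obj (op i₁)).basicOpen x with hU
  have hUc : IsCompact (U : Set ((Gfun D W₁).obj (op i₁))) :=
    isCompact_basicOpen _ (U := ⊤) isCompact_univ x
  haveI : ∀ j : Over (op i₁), CompactSpace ((opensDiagram (Gfun D W₁) (op i₁) U).obj j) :=
    fun j => isCompact_iff_compactSpace.mp
      (QuasiCompact.isCompact_preimage (f := (Gfun D W₁).map j.hom) _ U.2 hUc)
  haveI : ∀ j : Over (op i₁),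
      QuasiSeparatedSpace ((opensDiagram (Gfun D W₁) (op i₁) U).obj j) :=
    fun j => (isQuasiSeparated_iff_quasiSeparatedSpace _
      ((Gfun D W₁).map j.hom ⁻¹ᵁ U).2).mp (.of_quasiSeparatedSpace _)
  haveI : IsAffine (opensCone (Gfun D W₁) (gcone D c W₁) (op i₁) U).pt := by
    change IsAffineOpen ((gcone D c W₁).π.app (op i₁) ⁻¹ᵁ U)
    rw [hU, preimage_basicOpen_t]
    exact hx
  obtain ⟨j, hj⟩ := Scheme.exists_isAffine_of_isLimit _ _
    (isLimitOpensCone (Gfun D W₁) (gcone D c W₁) (isLimitGcone D c W₁ hc) (op i₁) U)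
  refine ⟨j.left.unop, leOfHom j.hom.unop, ?_⟩
  rw [← preimage_basicOpen_ρ]
  exact hj

include hW₁ hc in
theorem exists_stage {κ : Type} [Finite κ] (σ : κ → Γ((gcone D c W₁).pt, ⊤))
    (haff : ∀ k, IsAffineOpen ((gcone D c W₁).pt.basicOpen (σ k)))
    (hcov : ∀ x : (gcone D c W₁).pt, ∃ k, x ∈ (gcone D c W₁).pt.basicOpen (σ k)) :
    ∃ (i : I) (f : κ → R D W₁ i), (∀ k, (t D c W₁ i).hom (f k) = σ k) ∧
      (∀ k, IsAffineOpen (((Gfun D W₁).obj (op i)).basicOpen (f k))) ∧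
      (∀ x : (Gfun D W₁).obj (op i), ∃ k, x ∈ ((Gfun D W₁).obj (op i)).basicOpen (f k)) := by
  haveI : Nonempty I := ⟨⊥⟩
  haveI : IsFiltered I := inferInstance
  haveI := Gfun_compactSpace D W₁ hW₁
  haveI := Gfun_quasiSeparatedSpace D W₁
  choose i₀ f₀ hf₀ using fun k => csurj_of_isLimit D c W₁ hW₁ hc (σ k)
  obtain ⟨i₁, hi₁⟩ := Finite.exists_le i₀
  have hb : ∀ k, ∃ (i : I) (h : i₁ ≤ i), IsAffineOpen
      (((Gfun D W₁).obj (op i)).basicOpen ((ρ D W₁ h).hom ((ρ D W₁ (hi₁ k)).hom (f₀ k)))) := by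
    intro k
    apply exists_isAffineOpen_basicOpen D c W₁ hW₁ hc
    rw [t_ρ, hf₀]
    exact haff k
  choose i₂ h₂ ha₂ using hb
  obtain ⟨i₃, hi₃⟩ := Finite.exists_le i₂
  -- the sections at stage `i₃`
  have h13 : ∀ k, i₀ k ≤ i₃ := fun k => (hi₁ k).trans ((h₂ k).trans (hi₃ k))
  have ha₃ : ∀ k, IsAffineOpen
      (((Gfun D W₁).obj (op i₃)).basicOpen ((ρ D W₁ (h13 k)).hom (f₀ k))) := by
    intro k
    have := isAffineOpen_basicOpen_ρ D W₁ (hi₃ k) _ (ha₂ k)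
    rwa [ρ_ρ D W₁ _ _ ((hi₁ k).trans (h₂ k)), ρ_ρ D W₁ _ _ (h13 k)] at this
  -- covering
  set U : ((Gfun D W₁).obj (op i₃)).Opens :=
    ⨆ k, ((Gfun D W₁).obj (op i₃)).basicOpen ((ρ D W₁ (h13 k)).hom (f₀ k)) with hU
  have hU' : (gcone D c W₁).π.app (op i₃) ⁻¹ᵁ U = ⊤ := by
    rw [eq_top_iff]
    intro x _
    obtain ⟨k, hk⟩ := hcov x
    rw [hU, Scheme.Hom.preimage_iSup]
    refine TopologicalSpace.Opens.mem_iSup.mpr ⟨k, ?_⟩
    rw [preimage_basicOpen_t, t_ρ, hf₀]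
    exact hk
  obtain ⟨j, φ, hφ⟩ := exists_map_eq_top (Gfun D W₁) (gcone D c W₁) (isLimitGcone D c W₁ hc) U hU'
  have h34 : i₃ ≤ j.unop := leOfHom φ.unop
  refine ⟨j.unop, fun k => (ρ D W₁ ((h13 k).trans h34)).hom (f₀ k), ?_, ?_, ?_⟩
  · intro k
    rw [t_ρ, hf₀]
  · intro k
    have := isAffineOpen_basicOpen_ρ D W₁ h34 _ (ha₃ k)
    rwa [ρ_ρ D W₁ _ _ ((h13 k).trans h34)] at this
  · intro x
    have hx : x ∈ (Gfun D W₁).map φ ⁻¹ᵁ U := by rw [hφ]; trivial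
    rw [hU, Scheme.Hom.preimage_iSup] at hx
    obtain ⟨k, hk⟩ := TopologicalSpace.Opens.mem_iSup.mp hx
    refine ⟨k, ?_⟩
    have e : φ = (homOfLE h34).op := Subsingleton.elim _ _
    rw [e, preimage_basicOpen_ρ, ρ_ρ D W₁ _ _ ((h13 k).trans h34)] at hk
    exact hk

end Groth.Agent.Lib.Helper70.AbsApproxE
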