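import Mathlib
import Groth.Agent.Lib.Helper70.AbsApproxN
import Groth.Agent.Lib.Helper22.AbsApproxT3
import Groth.Agent.Lib.Helper22.AbsApproxT4

/-!
# Absolute Noetherian approximation: discharging the hypotheses `Hyp`
-/

set_option autoImplicit false
set_option linter.style.haveILetI false
universe u

open CategoryTheory Limits AlgebraicGeometry Opposite

namespace Groth.Agent.Lib.Helper70.AbsApproxE

open Groth.Agent.Lib.Helper70.AbsApproxD

variable {I : Type u} [Preorder I] [OrderBot I]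
  (D : Iᵒᵖ ⥤ Scheme.{u}) (c : Cone D) (W₁ : (D.obj (op ⊥)).Opens)
  {B : CommRingCat.{u}} (s : B ⟶ Γ((gcone D c W₁).pt, ⊤))
  {κ : Type} (g : κ → B) (f : κ → R D W₁ ⊥)

lemma fi_bot (k : κ) : fi D W₁ f ⊥ k = f k := by
  rw [fi, ρ_refl, CommRingCat.hom_id, RingHom.id_apply]

lemma lft_Gfun (i : I)
    [h : LocallyOfFiniteType (IsTerminal.from specULiftZIsTerminal (D.obj (op i)))] :
    LocallyOfFiniteType (IsTerminal.from specULiftZIsTerminal ((Gfun D W₁).obj (op i))) := by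
  have : IsTerminal.from specULiftZIsTerminal ((Gfun D W₁).obj (op i)) =
      (Wi D W₁ i).ι ≫ IsTerminal.from specULiftZIsTerminal (D.obj (op i)) :=
    specULiftZIsTerminal.hom_ext _ _
  rw [this]
  exact locallyOfFiniteType_comp (Wi D W₁ i).ι _

variable [IsDirected I (· ≤ ·)] [∀ {i j : Iᵒᵖ} (φ : i ⟶ j), IsAffineHom (D.map φ)]
  [∀ i, QuasiSeparatedSpace (D.obj i)]

theorem hyp_of_bot (hW₁ : IsCompact (W₁ : Set (D.obj (op ⊥)))) (hc : IsLimit c)
    (hD : ∀ i, LocallyOfFiniteType (IsTerminal.from specULiftZIsTerminal (D.obj i)))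
    [IsOpenImmersion (toSpec s)]
    (tf : ∀ k, (t D c W₁ ⊥).hom (f k) = s.hom (g k))
    (hcov : ∀ x : (Gfun D W₁).obj (op ⊥), ∃ k, x ∈ ((Gfun D W₁).obj (op ⊥)).basicOpen (f k))
    (haff : ∀ k, IsAffineOpen (((Gfun D W₁).obj (op ⊥)).basicOpen (f k)))
    (hgb : ∀ k, (PrimeSpectrum.basicOpen (g k) : Set (PrimeSpectrum B)) ⊆
      Set.range (toSpec s)) :
    Hyp D c W₁ s g f := by
  haveI : Nonempty I := ⟨⊥⟩
  haveI : IsFiltered I := inferInstance
  haveI := Gfun_compactSpace D W₁ hW₁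
  haveI := Gfun_quasiSeparatedSpace D W₁
  haveI : CompactSpace (gcone D c W₁).pt :=
    Scheme.compactSpace_of_isLimit (Gfun D W₁) (gcone D c W₁) (isLimitGcone D c W₁ hc)
  haveI : IsOpenImmersion ((gcone D c W₁).pt.toSpecΓ ≫ Spec.map s) :=
    ‹IsOpenImmersion (toSpec s)›
  have hloc := fun k => Groth.Agent.Lib.Helper22.AbsApprox.locB s (g k) (hgb k)
  have haff' : ∀ i k, IsAffineOpen (((Gfun D W₁).obj (op i)).basicOpen (fi D W₁ f i k)) := by
    intro i k
    exact isAffineOpen_basicOpen_ρ D W₁ bot_le (f k) (haff k)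
  refine ⟨tf, fun k => (hloc k).1, fun k => (hloc k).2, ?_, ?_, ?_, haff', hgb,
    csurj_of_isLimit D c W₁ hW₁ hc, cinj_of_isLimit D c W₁ hW₁ hc⟩
  · intro i k
    exact isLocalization_basicOpen_of_qcqs (U := ⊤) isCompact_univ
      (isQuasiSeparated_univ_iff.mpr inferInstance) (fi D W₁ f i k)
  · intro i k
    haveI := hD (op i)
    haveI := lft_Gfun D W₁ i
    exact Groth.Agent.Lib.Helper22.AbsApprox.exists_finset_closure_eq_top_of_lft _ _ (haff' i k)
  · intro i x
    exact cover_basicOpen_ρ D W₁ bot_le f hcov x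

end Groth.Agent.Lib.Helper70.AbsApproxE
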