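import Mathlib
import Groth.Agent.Lib.Helper70.AbsApproxN

/-!
# Absolute Noetherian approximation: rebasing an inverse system, and the stage lemma
-/

set_option autoImplicit false
set_option linter.style.haveILetI false
universe u

open CategoryTheory Limits AlgebraicGeometry Opposite

namespace Groth.Agent.Lib.Helper70.AbsApproxP

open Groth.Agent.Lib.Helper70.AbsApproxE

variable {I : Type u} [Preorder I] (i₁ : I)

/-- The inclusion `{i // i₁ ≤ i} ⥤ I`. -/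
def incl : ↥(Set.Ici i₁) ⥤ I :=
  Monotone.functor (f := fun i : ↥(Set.Ici i₁) => (i : I)) fun _ _ h => h

instance [IsDirected I (· ≤ ·)] : IsDirected ↥(Set.Ici i₁) (· ≤ ·) := by
  constructor
  intro a b
  obtain ⟨z, h1, h2⟩ := directed_of (· ≤ ·) (a : I) (b : I)
  exact ⟨⟨z, a.2.trans h1⟩, h1, h2⟩

lemma incl_final [IsDirected I (· ≤ ·)] : (incl i₁).Final := by
  haveI : Nonempty ↥(Set.Ici i₁) := ⟨⊥⟩
  haveI : IsFiltered ↥(Set.Ici i₁) := inferInstance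
  apply Functor.final_of_exists_of_isFiltered
  · intro i
    obtain ⟨j, h1, h2⟩ := directed_of (· ≤ ·) i₁ i
    exact ⟨⟨j, h1⟩, ⟨homOfLE h2⟩⟩
  · intro i j u v
    exact ⟨j, 𝟙 j, Subsingleton.elim _ _⟩

variable (D : Iᵒᵖ ⥤ Scheme.{u}) (c : Cone D)

/-- The rebased diagram. -/
noncomputable def D' : (↥(Set.Ici i₁))ᵒᵖ ⥤ Scheme.{u} := (incl i₁).op ⋙ D

/-- The rebased cone. -/
noncomputable def c' : Cone (D' i₁ D) := c.whisker (incl i₁).op

/-- The rebased cone is a limit cone. -/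
noncomputable def isLimitC' [IsDirected I (· ≤ ·)] (hc : IsLimit c) : IsLimit (c' i₁ D c) := by
  haveI := incl_final i₁
  haveI : (incl i₁).op.Initial := inferInstance
  exact (Functor.Initial.isLimitWhiskerEquiv (incl i₁).op c).symm hc

instance D'_affine [∀ {i j : Iᵒᵖ} (φ : i ⟶ j), IsAffineHom (D.map φ)]
    {i j : (↥(Set.Ici i₁))ᵒᵖ} (φ : i ⟶ j) : IsAffineHom ((D' i₁ D).map φ) :=
  inferInstanceAs (IsAffineHom (D.map ((incl i₁).op.map φ)))

instance D'_qs [∀ i, QuasiSeparatedSpace (D.obj i)] (i : (↥(Set.Ici i₁))ᵒᵖ) :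
    QuasiSeparatedSpace ((D' i₁ D).obj i) :=
  inferInstanceAs (QuasiSeparatedSpace (D.obj ((incl i₁).op.obj i)))

instance D'_compact [∀ i, CompactSpace (D.obj i)] (i : (↥(Set.Ici i₁))ᵒᵖ) :
    CompactSpace ((D' i₁ D).obj i) :=
  inferInstanceAs (CompactSpace (D.obj ((incl i₁).op.obj i)))

section Stage

variable {I : Type u} [Preorder I] [IsDirected I (· ≤ ·)] [Nonempty I]
  (D : Iᵒᵖ ⥤ Scheme.{u}) (c : Cone D) (hc : IsLimit c)
  [∀ {i j : Iᵒᵖ} (φ : i ⟶ j), IsAffineHom (D.map φ)]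
  [∀ i, QuasiSeparatedSpace (D.obj i)]

include hc in
/-- A finite cover of a quasi-compact open of the limit by affine basic opens descends to a
finite stage. -/
theorem exists_stage' (W : c.pt.Opens) (hW : IsCompact (W : Set c.pt))
    {κ : Type} [Finite κ] (σ : κ → Γ(W.toScheme, ⊤))
    (haff : ∀ k, IsAffineOpen (W.toScheme.basicOpen (σ k)))
    (hcov : ∀ x : W.toScheme, ∃ k, x ∈ W.toScheme.basicOpen (σ k)) :
    ∃ (i₃ : I) (W₃ : (D.obj (op i₃)).Opens) (hW₃ : c.π.app (op i₃) ⁻¹ᵁ W₃ = W)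
      (F : κ → Γ(W₃.toScheme, ⊤)),
      IsCompact (W₃ : Set (D.obj (op i₃))) ∧
      (∀ k, ((c.π.app (op i₃)).resLE W₃ W hW₃.ge).appTop (F k) = σ k) ∧
      (∀ k, IsAffineOpen (W₃.toScheme.basicOpen (F k))) ∧
      (∀ x : W₃.toScheme, ∃ k, x ∈ W₃.toScheme.basicOpen (F k)) := by
  haveI : IsFiltered I := inferInstance
  obtain ⟨i₁', W₁, hW₁c, hW₁⟩ := exists_preimage_eq D c hc W hW
  subst hW₁
  obtain ⟨i₁, rfl⟩ : ∃ i₁ : I, i₁' = op i₁ := ⟨i₁'.unop, rfl⟩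
  obtain ⟨i, f, ht, ha, hcv⟩ := exists_stage (D' i₁ D) (c' i₁ D c) W₁ hW₁c (isLimitC' i₁ D c hc)
    σ haff hcov
  have hW₃ : c.π.app (op (i : I)) ⁻¹ᵁ (Wi (D' i₁ D) W₁ i) = c.π.app (op i₁) ⁻¹ᵁ W₁ := by
    change c.π.app (op (i : I)) ⁻¹ᵁ (D.map _ ⁻¹ᵁ W₁) = _
    rw [← Scheme.Hom.comp_preimage, c.w]
  refine ⟨(i : I), Wi (D' i₁ D) W₁ i, hW₃, f, ?_, ?_, ha, hcv⟩
  · exact QuasiCompact.isCompact_preimage
      (f := (D' i₁ D).map (homOfLE (bot_le : ⊥ ≤ i)).op) _ W₁.2 hW₁c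
  · intro k
    exact ht k

end Stage

end Groth.Agent.Lib.Helper70.AbsApproxP
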