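import Mathlib
import Groth.Agent.Lib.Helper23.GluePushout
import Groth.Agent.Lib.Helper70.AbsApproxD

/-!
# Absolute Noetherian approximation: auxiliary lemmas for the inductive step
-/

set_option autoImplicit false
set_option linter.style.haveILetI false
universe u

open CategoryTheory Limits AlgebraicGeometry Opposite

namespace Groth.Agent.Lib.Helper70.AbsApproxR

open Groth.Agent.Lib.Helper70.AbsApproxD Groth.Agent.Lib.Helper23

theorem isIso_pushout_desc {W U V S : Scheme.{u}} (o : W ⟶ U) (e : W ⟶ V) [IsOpenImmersion o]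
    [IsOpenImmersion e] (u : U ⟶ S) (v : V ⟶ S) [IsOpenImmersion u] [IsOpenImmersion v]
    (comm : o ≫ u = e ≫ v) (hcov : ∀ x : S, x ∈ Set.range u ∨ x ∈ Set.range v)
    (hint : ∀ (y : U) (z : V), u y = v z → ∃ w : W, o w = y ∧ e w = z) :
    IsIso (pushout.desc u v comm) := by
  obtain ⟨θ, hθ⟩ : ∃ θ, θ = pushout.desc u v comm := ⟨_, rfl⟩
  rw [← hθ]
  have h1 : pushout.inl o e ≫ θ = u := by rw [hθ]; exact pushout.inl_desc _ _ _
  have h2 : pushout.inr o e ≫ θ = v := by rw [hθ]; exact pushout.inr_desc _ _ _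
  have hcond : ∀ w : W, pushout.inl o e (o w) = pushout.inr o e (e w) := fun w =>
    congr($(pushout.condition (f := o) (g := e)) w)
  have key : ∀ p : ↥(pushout o e),
      (θ p ∈ Set.range u → p ∈ Set.range (pushout.inl o e)) ∧
      (θ p ∈ Set.range v → p ∈ Set.range (pushout.inr o e)) := by
    intro p
    rcases pushout_jointly_surjective o e p with ⟨y, rfl⟩ | ⟨z, rfl⟩
    · refine ⟨fun _ => ⟨y, rfl⟩, ?_⟩
      rintro ⟨z, hz⟩
      have hy : θ (pushout.inl o e y) = u y := congr($h1 y)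
      obtain ⟨w, rfl, rfl⟩ := hint y z (by rw [← hy, hz])
      exact ⟨e w, (hcond w).symm⟩
    · refine ⟨?_, fun _ => ⟨z, rfl⟩⟩
      rintro ⟨y, hy⟩
      have hz : θ (pushout.inr o e z) = v z := congr($h2 z)
      obtain ⟨w, rfl, rfl⟩ := hint y z (by rw [← hz, hy])
      exact ⟨o w, hcond w⟩
  have P1 : IsPullback (𝟙 U) (pushout.inl o e) u θ := by
    refine IsOpenImmersion.isPullback (𝟙 U) (pushout.inl o e) u θ (by rw [h1, Category.id_comp]) ?_
    ext p
    constructor
    · intro hp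
      exact (key p).1 hp
    · rintro ⟨y, rfl⟩
      exact ⟨y, (congr($h1 y)).symm⟩
  have P2 : IsPullback (𝟙 V) (pushout.inr o e) v θ := by
    refine IsOpenImmersion.isPullback (𝟙 V) (pushout.inr o e) v θ (by rw [h2, Category.id_comp]) ?_
    ext p
    constructor
    · intro hp
      exact (key p).2 hp
    · rintro ⟨z, rfl⟩
      exact ⟨z, (congr($h2 z)).symm⟩
  exact isIso_of_cover2 u v hcov θ (pushout.inl o e) (𝟙 U) (pushout.inr o e) (𝟙 V) P1.flip P2.flip

theorem exists_basicOpen_cover {B : CommRingCat.{u}} (O : (Spec B).Opens)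
    (hO : IsCompact (O : Set (Spec B))) :
    ∃ (n : ℕ) (g : Fin n → B), (O : Set (Spec B)) =
      ⋃ k, (PrimeSpectrum.basicOpen (g k) : Set (PrimeSpectrum B)) := by
  obtain ⟨Us, hUs, hfin, hO'⟩ :=
    (PrimeSpectrum.isBasis_basic_opens (R := B)).exists_finite_of_isCompact (U := O) hO
  haveI : Finite ↥Us := hfin
  choose r hr using fun V : ↥Us => hUs V.2
  refine ⟨Nat.card ↥Us, fun k => r ((Finite.equivFin ↥Us).symm k), ?_⟩
  rw [hO']
  apply Set.Subset.antisymm
  · intro x hx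
    obtain ⟨V, hV, hxV⟩ := (TopologicalSpace.Opens.mem_sSup (α := PrimeSpectrum B)).mp hx
    refine Set.mem_iUnion.mpr ⟨Finite.equivFin ↥Us ⟨V, hV⟩, ?_⟩
    have e : PrimeSpectrum.basicOpen
        (r ((Finite.equivFin ↥Us).symm (Finite.equivFin ↥Us ⟨V, hV⟩))) = V := by
      rw [Equiv.symm_apply_apply, hr]
    change x ∈ PrimeSpectrum.basicOpen
        (r ((Finite.equivFin ↥Us).symm (Finite.equivFin ↥Us ⟨V, hV⟩)))
    rw [e]
    exact hxV
  · intro x hx
    obtain ⟨k, hk⟩ := Set.mem_iUnion.mp hx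
    change x ∈ PrimeSpectrum.basicOpen (r ((Finite.equivFin ↥Us).symm k)) at hk
    rw [hr] at hk
    exact (TopologicalSpace.Opens.mem_sSup (α := PrimeSpectrum B)).mpr
      ⟨_, ((Finite.equivFin ↥Us).symm k).2, hk⟩

theorem isAffineOpen_basicOpen_of_toSpec {X : Scheme.{u}} {B : CommRingCat.{u}} (s : B ⟶ Γ(X, ⊤))
    [IsOpenImmersion (X.toSpecΓ ≫ Spec.map s)] (g : B)
    (hg : (PrimeSpectrum.basicOpen g : Set (PrimeSpectrum B)) ⊆
      Set.range (X.toSpecΓ ≫ Spec.map s)) : IsAffineOpen (X.basicOpen (s.hom g)) := by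
  have h1 : (X.toSpecΓ ≫ Spec.map s) ⁻¹ᵁ (PrimeSpectrum.basicOpen g) = X.basicOpen (s.hom g) :=
    toSpec_preimage_basicOpen s g
  rw [← h1]
  exact (IsAffineOpen.Spec_basicOpen g).preimage_of_isOpenImmersion _ hg

instance isNoetherianRing_ulift_int : IsNoetherianRing (ULift.{u} ℤ) :=
  isNoetherianRing_of_ringEquiv ℤ ULift.ringEquiv.symm

theorem qs_of_lft (X : Scheme.{u}) [CompactSpace X]
    [LocallyOfFiniteType (IsTerminal.from specULiftZIsTerminal X)] : QuasiSeparatedSpace X := by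
  haveI : IsLocallyNoetherian X :=
    LocallyOfFiniteType.isLocallyNoetherian (IsTerminal.from specULiftZIsTerminal X)
  haveI : IsNoetherian X := {}
  infer_instance

end Groth.Agent.Lib.Helper70.AbsApproxR
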