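import Mathlib
import Groth.Prelude.Def_HTop2

/-!
# Universal homeomorphisms and residue field isomorphisms for `Spec` of a ring map (helper70)

* `isUnivHomeo_iff`: `FlatMor.IsUnivHomeo f ↔ UniversallyInjective f ∧ UniversallyClosed f ∧ Surjective f`
* `residueFieldMap_Spec_bridge`: the residue field map of `Spec.map φ` is `Ideal.ResidueField.map`.
* `residueFieldsIso_SpecMap_iff`, `isUnivHomeo_SpecMap_of`, `isIntegral_and_bijective_of_isUnivHomeo`.
-/

universe u

namespace Groth.Agent.Lib.Helper70.SpecUH

open CategoryTheory CategoryTheory.Limits AlgebraicGeometry MorphismProperty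

section UH
variable {X Y : Scheme.{u}} (f : X ⟶ Y)

theorem isHomeomorph_of_univ [UniversallyInjective f] [UniversallyClosed f] [Surjective f] :
    IsHomeomorph f :=
  isHomeomorph_iff_continuous_isClosedMap_bijective.mpr
    ⟨f.continuous, f.isClosedMap, f.injective, f.surjective⟩

theorem isUnivHomeo_of [UniversallyInjective f] [UniversallyClosed f] [Surjective f] :
    FlatMor.IsUnivHomeo f := by
  intro X' Y' i₁ i₂ f' h
  have : UniversallyInjective f' := MorphismProperty.of_isPullback h.flip ‹_›
  have : UniversallyClosed f' := MorphismProperty.of_isPullback h.flip ‹_›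
  have : Surjective f' := MorphismProperty.of_isPullback h.flip ‹_›
  exact isHomeomorph_of_univ f'

theorem isUnivHomeo_iff :
    FlatMor.IsUnivHomeo f ↔ UniversallyInjective f ∧ UniversallyClosed f ∧ Surjective f := by
  constructor
  · intro h
    refine ⟨?_, ?_, ?_⟩
    · rw [universallyInjective_eq]
      intro X' Y' i₁ i₂ f' hp
      exact (h i₁ i₂ f' hp : IsHomeomorph f').injective
    · rw [universallyClosed_eq]
      intro X' Y' i₁ i₂ f' hp
      exact (h i₁ i₂ f' hp : IsHomeomorph f').isClosedMap
    · have : IsHomeomorph f := h _ _ _ IsPullback.of_id_snd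
      exact ⟨this.surjective⟩
  · rintro ⟨h1, h2, h3⟩
    exact isUnivHomeo_of f

end UH

theorem isPurelyInseparable_of_bijective {K L : Type u} [Field K] [Field L] (f : K →+* L)
    (hf : Function.Bijective f) : f.IsPurelyInseparable := by
  unfold RingHom.IsPurelyInseparable
  let _ : Algebra K L := f.toAlgebra
  rw [isPurelyInseparable_iff]
  intro x
  obtain ⟨y, rfl⟩ := hf.2 x
  exact ⟨isIntegral_algebraMap (R := K) (A := L) (x := y), fun _ => ⟨y, rfl⟩⟩
theorem Γevaluation_residueFieldIso_hom (B : CommRingCat.{u}) (y : Spec B) :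
    (Scheme.ΓSpecIso B).inv ≫ (Spec B).Γevaluation y ≫ (Scheme.Spec.residueFieldIso B y).hom =
      CommRingCat.ofHom (algebraMap B y.asIdeal.ResidueField) := by
  have h3 := Scheme.Spec.algebraMap_residueFieldIso_inv B y
  have h2 : (Spec B).presheaf.germ ⊤ y trivial ≫ (Spec B).residue y = (Spec B).Γevaluation y := rfl
  rw [h2] at h3
  rw [← Category.assoc, ← h3, Category.assoc, Iso.inv_hom_id, Category.comp_id]

theorem residueFieldMap_Spec_bridge {A B : CommRingCat.{u}} (φ : A ⟶ B) (y : Spec B) :
    (Scheme.Spec.residueFieldIso A ((Spec.map φ) y)).inv ≫ (Spec.map φ).residueFieldMap y ≫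
      (Scheme.Spec.residueFieldIso B y).hom =
    CommRingCat.ofHom (Ideal.ResidueField.map ((Spec.map φ) y).asIdeal y.asIdeal φ.hom rfl) := by
  have h1 : CommRingCat.ofHom (algebraMap A ((Spec.map φ) y).asIdeal.ResidueField) ≫
      (Scheme.Spec.residueFieldIso A ((Spec.map φ) y)).inv ≫ (Spec.map φ).residueFieldMap y ≫
      (Scheme.Spec.residueFieldIso B y).hom =
      φ ≫ CommRingCat.ofHom (algebraMap B y.asIdeal.ResidueField) := by
    rw [Scheme.Spec.algebraMap_residueFieldIso_inv_assoc]
    have h2 : (Spec A).presheaf.germ ⊤ ((Spec.map φ) y) trivial ≫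
        (Spec A).residue ((Spec.map φ) y) = (Spec A).Γevaluation ((Spec.map φ) y) := rfl
    rw [reassoc_of% h2, Scheme.Γevaluation_naturality_assoc]
    calc _ = ((Scheme.ΓSpecIso A).inv ≫ (Spec.map φ).appTop) ≫
          ((Spec B).Γevaluation y ≫ (Scheme.Spec.residueFieldIso B y).hom) := by
            simp only [Category.assoc]
      _ = (φ ≫ (Scheme.ΓSpecIso B).inv) ≫
          ((Spec B).Γevaluation y ≫ (Scheme.Spec.residueFieldIso B y).hom) := by
            rw [Scheme.ΓSpecIso_inv_naturality]
      _ = φ ≫ ((Scheme.ΓSpecIso B).inv ≫ (Spec B).Γevaluation y ≫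
          (Scheme.Spec.residueFieldIso B y).hom) := by simp only [Category.assoc]
      _ = _ := by rw [Γevaluation_residueFieldIso_hom]
  ext1
  apply Ideal.ResidueField.ringHom_ext
  ext a
  have := congrArg (fun k => k.hom a) h1
  simp only [CommRingCat.hom_comp, RingHom.comp_apply, CommRingCat.hom_ofHom] at this
  simp only [CommRingCat.hom_comp, RingHom.comp_apply, CommRingCat.hom_ofHom,
    Ideal.ResidueField.map_algebraMap]
  exact this

theorem isIso_residueFieldMap_Spec_iff {A B : CommRingCat.{u}} (φ : A ⟶ B) (y : Spec B) :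
    IsIso ((Spec.map φ).residueFieldMap y) ↔
      Function.Bijective (Ideal.ResidueField.map ((Spec.map φ) y).asIdeal y.asIdeal φ.hom rfl) := by
  have h0 : IsIso (CommRingCat.ofHom
      (Ideal.ResidueField.map ((Spec.map φ) y).asIdeal y.asIdeal φ.hom rfl)) ↔
      Function.Bijective (Ideal.ResidueField.map ((Spec.map φ) y).asIdeal y.asIdeal φ.hom rfl) :=
    ConcreteCategory.isIso_iff_bijective _
  have hb := residueFieldMap_Spec_bridge φ y
  constructor
  · intro h
    have h1 : IsIso ((Scheme.Spec.residueFieldIso A ((Spec.map φ) y)).inv ≫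
        (Spec.map φ).residueFieldMap y ≫ (Scheme.Spec.residueFieldIso B y).hom) := inferInstance
    exact h0.mp (hb ▸ h1)
  · intro h
    have h1 : IsIso ((Scheme.Spec.residueFieldIso A ((Spec.map φ) y)).inv ≫
        (Spec.map φ).residueFieldMap y ≫ (Scheme.Spec.residueFieldIso B y).hom) :=
      hb.symm ▸ h0.mpr h
    have h2 : IsIso ((Spec.map φ).residueFieldMap y ≫ (Scheme.Spec.residueFieldIso B y).hom) :=
      IsIso.of_isIso_comp_left (Scheme.Spec.residueFieldIso A ((Spec.map φ) y)).inv _
    exact IsIso.of_isIso_comp_right _ (Scheme.Spec.residueFieldIso B y).hom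

theorem residueFieldsIso_SpecMap_iff {A B : Type u} [CommRing A] [CommRing B] (φ : A →+* B) :
    HTop.ResidueFieldsIso (Spec.map (CommRingCat.ofHom φ)) ↔
      ∀ q : PrimeSpectrum B, Function.Bijective
        (Ideal.ResidueField.map (PrimeSpectrum.comap φ q).asIdeal q.asIdeal φ rfl) := by
  unfold HTop.ResidueFieldsIso
  constructor
  · intro h q
    exact (isIso_residueFieldMap_Spec_iff (CommRingCat.ofHom φ) q).mp (h q)
  · intro h y
    exact (isIso_residueFieldMap_Spec_iff (CommRingCat.ofHom φ) y).mpr (h y)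

theorem SpecMap_apply_eq_comap {A B : Type u} [CommRing A] [CommRing B] (φ : A →+* B)
    (q : PrimeSpectrum B) :
    (Spec.map (CommRingCat.ofHom φ)) q = PrimeSpectrum.comap φ q := rfl

/-- integral + bijective on spectra + isomorphisms on residue fields ⇒ universal homeomorphism. -/
theorem isUnivHomeo_SpecMap_of {A B : Type u} [CommRing A] [CommRing B] (φ : A →+* B)
    (hint : φ.IsIntegral) (hbij : Function.Bijective (PrimeSpectrum.comap φ))
    (hres : ∀ q : PrimeSpectrum B, Function.Bijective
      (Ideal.ResidueField.map (PrimeSpectrum.comap φ q).asIdeal q.asIdeal φ rfl)) :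
    FlatMor.IsUnivHomeo (Spec.map (CommRingCat.ofHom φ)) := by
  have hInt : IsIntegralHom (Spec.map (CommRingCat.ofHom φ)) :=
    IsIntegralHom.SpecMap_iff.mpr hint
  have hSurj : Surjective (Spec.map (CommRingCat.ofHom φ)) := ⟨hbij.2⟩
  have hUI : UniversallyInjective (Spec.map (CommRingCat.ofHom φ)) := by
    apply ((tfae_universallyInjective (Spec.map (CommRingCat.ofHom φ))).out 0 2).mpr
    refine ⟨hbij.1, fun y => ?_⟩
    have hiso := (residueFieldsIso_SpecMap_iff φ).mpr hres y
    apply isPurelyInseparable_of_bijective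
    exact (ConcreteCategory.isIso_iff_bijective _).mp hiso
  exact isUnivHomeo_of _

/-- a universal homeomorphism of affine schemes comes from an integral ring map, bijective on
spectra. -/
theorem isIntegral_and_bijective_of_isUnivHomeo {A B : Type u} [CommRing A] [CommRing B]
    (φ : A →+* B) (h : FlatMor.IsUnivHomeo (Spec.map (CommRingCat.ofHom φ))) :
    φ.IsIntegral ∧ Function.Bijective (PrimeSpectrum.comap φ) := by
  obtain ⟨h1, h2, h3⟩ := (isUnivHomeo_iff _).mp h
  constructor
  · have : IsIntegralHom (Spec.map (CommRingCat.ofHom φ)) :=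
      IsIntegralHom.iff_universallyClosed_and_isAffineHom.mpr ⟨h2, inferInstance⟩
    exact IsIntegralHom.SpecMap_iff.mp this
  · exact ⟨(Spec.map (CommRingCat.ofHom φ)).injective, h3.surj⟩

end Groth.Agent.Lib.Helper70.SpecUH
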