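import Mathlib

/-!
# Lifting standard étale algebras along "fraction-surjective" ring maps (helper70)

A ring map `π : A → A₀` is *fraction-surjective* if every element of `A₀` is of the form
`π a / π r` with `π r` a unit (e.g. `A → A ⊗_R κ(𝔭)`).  Standard étale algebras over `A₀` lift to
étale algebras over `A` along such maps: we rescale the variable so that the defining polynomials
get coefficients in the image of `π`.

(The structure of `exists_etale_lift` follows helper7's `EtaleLift.StdEtale`, which treats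
surjective `π`.)
-/

set_option autoImplicit false

namespace Groth.Agent.Lib.Helper70.EtFibA

open Polynomial TensorProduct CategoryTheory Limits

universe u

section FracSurj

variable {A A₀ : Type*} [CommRing A] [CommRing A₀]

/-- every element of the target is a fraction `π a / π r` with `π r` a unit. -/
def FracSurj (π : A →+* A₀) : Prop :=
  ∀ c : A₀, ∃ a r : A, IsUnit (π r) ∧ c * π r = π a

theorem FracSurj.finset {π : A →+* A₀} (h : FracSurj π) (s : Finset A₀) :
    ∃ r : A, IsUnit (π r) ∧ ∀ c ∈ s, ∃ a, c * π r = π a := by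
  classical
  induction s using Finset.induction_on with
  | empty => exact ⟨1, by simp, by simp⟩
  | insert c s _ ih =>
    obtain ⟨r, hr, hs⟩ := ih
    obtain ⟨a, t, ht, hat⟩ := h c
    refine ⟨t * r, by rw [map_mul]; exact ht.mul hr, ?_⟩
    intro c' hc'
    rcases Finset.mem_insert.mp hc' with rfl | hc'
    · exact ⟨a * r, by rw [map_mul, map_mul, ← mul_assoc, hat]⟩
    · obtain ⟨a', ha'⟩ := hs c' hc'
      exact ⟨a' * t, by rw [map_mul, map_mul, ← ha']; ring⟩

theorem FracSurj.of_surjective {π : A →+* A₀} (h : Function.Surjective π) : FracSurj π := by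
  intro c
  obtain ⟨a, rfl⟩ := h c
  exact ⟨a, 1, by simp, by simp⟩

end FracSurj

section Scale

variable {A₀ : Type*} [CommRing A₀] (u : A₀ˣ)

/-- `u^N p(T/u)`. -/
noncomputable def sc (N : ℕ) (p : A₀[X]) : A₀[X] :=
  C ((u : A₀) ^ N) * p.comp (C ((u⁻¹ : A₀ˣ) : A₀) * X)

theorem coeff_sc (N : ℕ) (p : A₀[X]) (i : ℕ) (hi : i ≤ N) :
    (sc u N p).coeff i = p.coeff i * (u : A₀) ^ (N - i) := by
  unfold sc
  rw [coeff_C_mul, comp_C_mul_X_coeff]
  have : (u : A₀) ^ N = (u : A₀) ^ (N - i) * (u : A₀) ^ i := by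
    rw [← pow_add, Nat.sub_add_cancel hi]
  rw [this, ← Units.val_pow_eq_pow_val u⁻¹, inv_pow, ← Units.val_pow_eq_pow_val u i]
  calc (u : A₀) ^ (N - i) * ((u ^ i : A₀ˣ) : A₀) * (p.coeff i * (((u ^ i)⁻¹ : A₀ˣ) : A₀))
      = p.coeff i * (u : A₀) ^ (N - i) * (((u ^ i : A₀ˣ) : A₀) * (((u ^ i)⁻¹ : A₀ˣ) : A₀)) := by
        ring
    _ = p.coeff i * (u : A₀) ^ (N - i) := by rw [Units.mul_inv, mul_one]

theorem coeff_sc_of_lt (N : ℕ) (p : A₀[X]) (i : ℕ) (hi : p.natDegree < i) :
    (sc u N p).coeff i = 0 := by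
  unfold sc
  rw [coeff_C_mul, comp_C_mul_X_coeff, coeff_eq_zero_of_natDegree_lt hi, zero_mul, mul_zero]

theorem aeval_sc {T : Type*} [CommRing T] [Algebra A₀ T] (N : ℕ) (p : A₀[X]) (x : T) :
    aeval ((u : A₀) • x) (sc u N p) = ((u : A₀) ^ N) • aeval x p := by
  unfold sc
  rw [map_mul, aeval_C, aeval_comp, map_mul, aeval_C, aeval_X, Algebra.smul_def, Algebra.smul_def,
    ← mul_assoc, ← map_mul, Units.inv_mul, map_one, one_mul]

theorem derivative_sc (N : ℕ) (p : A₀[X]) :
    derivative (sc u N p) = C ((u⁻¹ : A₀ˣ) : A₀) * sc u N (derivative p) := by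
  unfold sc
  rw [derivative_C_mul, derivative_comp, derivative_C_mul, derivative_X, mul_one]
  ring

theorem monic_sc (p : A₀[X]) (hp : p.Monic) : (sc u p.natDegree p).Monic := by
  apply monic_of_natDegree_le_of_coeff_eq_one p.natDegree
  · unfold sc
    refine (natDegree_C_mul_le _ _).trans ?_
    refine natDegree_comp_le.trans ?_
    calc p.natDegree * (C ((u⁻¹ : A₀ˣ) : A₀) * X).natDegree ≤ p.natDegree * 1 := by
          gcongr
          exact (natDegree_C_mul_le _ _).trans natDegree_X_le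
      _ = p.natDegree := mul_one _
  · rw [coeff_sc u _ p _ le_rfl, Nat.sub_self, pow_zero, mul_one]
    exact hp.coeff_natDegree

end Scale

section Lift

variable {A A₀ : Type u} [CommRing A] [CommRing A₀]

/-- Lift a standard étale pair along a fraction-surjective ring map, up to isomorphism of the
associated standard étale algebras. -/
theorem exists_standardEtalePair_lift (π : A →+* A₀) (hπ : FracSurj π)
    (P₀ : StandardEtalePair A₀) :
    ∃ P : StandardEtalePair A, Nonempty ((P.map π).Ring ≃ₐ[A₀] P₀.Ring) := by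
  classical
  obtain ⟨r, hr, hs⟩ := hπ.finset (P₀.f.coeffs ∪ P₀.g.coeffs)
  obtain ⟨u, hu⟩ : ∃ u : A₀ˣ, (u : A₀) = π r := ⟨hr.unit, rfl⟩
  have hcoef : ∀ (p : A₀[X]), p.coeffs ⊆ P₀.f.coeffs ∪ P₀.g.coeffs → ∀ i,
      ∃ a, p.coeff i * (u : A₀) = π a := by
    intro p hp i
    by_cases h0 : p.coeff i = 0
    · exact ⟨0, by rw [h0, zero_mul, map_zero]⟩
    · rw [hu]
      exact hs _ (hp (coeff_mem_coeffs h0))
  have hpow : ∀ (p : A₀[X]), p.coeffs ⊆ P₀.f.coeffs ∪ P₀.g.coeffs → ∀ i k, 1 ≤ k →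
      p.coeff i * (u : A₀) ^ k ∈ Set.range π := by
    intro p hp i k hk
    obtain ⟨a, ha⟩ := hcoef p hp i
    obtain ⟨k, rfl⟩ := Nat.exists_eq_add_of_le hk
    refine ⟨a * r ^ k, ?_⟩
    rw [map_mul, map_pow, ← ha, ← hu, pow_add, pow_one]
    ring
  -- the rescaled polynomials
  have hf_lifts : sc u P₀.f.natDegree P₀.f ∈ lifts π := by
    rw [lifts_iff_coeff_lifts]
    intro i
    rcases lt_trichotomy i P₀.f.natDegree with hi | hi | hi
    · rw [coeff_sc u _ _ _ hi.le]
      exact hpow _ Finset.subset_union_left i _ (Nat.sub_pos_of_lt hi)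
    · subst hi
      rw [coeff_sc u _ _ _ le_rfl, Nat.sub_self, pow_zero, mul_one, P₀.monic_f.coeff_natDegree]
      exact ⟨1, map_one π⟩
    · rw [coeff_sc_of_lt u _ _ _ hi]
      exact ⟨0, map_zero π⟩
  have hg_lifts : sc u (P₀.g.natDegree + 1) P₀.g ∈ lifts π := by
    rw [lifts_iff_coeff_lifts]
    intro i
    rcases le_or_gt i P₀.g.natDegree with hi | hi
    · rw [coeff_sc u _ _ _ (hi.trans (Nat.le_succ _))]
      exact hpow _ Finset.subset_union_right i _ (by omega)
    · rw [coeff_sc_of_lt u _ _ _ hi]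
      exact ⟨0, map_zero π⟩
  obtain ⟨F, hF1, -, hF3⟩ := lifts_and_natDegree_eq_and_monic hf_lifts (monic_sc u _ P₀.monic_f)
  obtain ⟨G, hG⟩ := (mem_lifts _).mp hg_lifts
  let P : StandardEtalePair A := ⟨F, hF3, G * derivative F, ⟨G, 0, 1, by ring⟩⟩
  have hPf : (P.map π).f = sc u P₀.f.natDegree P₀.f := hF1
  have hPg : (P.map π).g = sc u (P₀.g.natDegree + 1) P₀.g *
      derivative (sc u P₀.f.natDegree P₀.f) := by
    change (G * derivative F).map π = _
    rw [Polynomial.map_mul, hG, ← derivative_map, hF1]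
  refine ⟨P, ?_⟩
  have hunit : ∀ {T : Type u} [CommRing T] [Algebra A₀ T] (k : ℕ) (t : T),
      IsUnit (((u : A₀) ^ k) • t) ↔ IsUnit t := by
    intro T _ _ k t
    rw [Algebra.smul_def]
    have : IsUnit (algebraMap A₀ T ((u : A₀) ^ k)) := ((u.isUnit).pow k).map _
    exact ⟨fun h => (IsUnit.mul_iff.mp h).2, fun h => this.mul h⟩
  -- the map `(P.map π).Ring → P₀.Ring`
  have h1 : (P.map π).HasMap ((u : A₀) • P₀.X) := by
    constructor
    · rw [hPf, aeval_sc, P₀.hasMap_X.1, smul_zero]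
    · rw [hPg, map_mul, derivative_sc, map_mul, aeval_C, aeval_sc, aeval_sc]
      refine ((hunit _ _).mpr P₀.hasMap_X.2).mul (IsUnit.mul ?_ ?_)
      · exact (u⁻¹.isUnit).map _
      · exact (hunit _ _).mpr P₀.hasMap_X.isUnit_derivative_f
  -- the map `P₀.Ring → (P.map π).Ring`
  have hX : (P.map π).X = (u : A₀) • (((u⁻¹ : A₀ˣ) : A₀) • (P.map π).X) := by
    rw [smul_smul, Units.mul_inv, one_smul]
  have h2 : P₀.HasMap (((u⁻¹ : A₀ˣ) : A₀) • (P.map π).X) := by
    have hm := (P.map π).hasMap_X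
    constructor
    · have := hm.1
      rw [hPf, hX, aeval_sc] at this
      have h3 := (hunit (T := (P.map π).Ring) P₀.f.natDegree
        (1 + aeval (((u⁻¹ : A₀ˣ) : A₀) • (P.map π).X) P₀.f))
      have hz : ∀ (a : A₀) (ha : IsUnit a) (t : (P.map π).Ring), a • t = 0 → t = 0 := by
        intro a ha t hat
        have := congrArg (fun z => ((ha.unit⁻¹ : A₀ˣ) : A₀) • z) hat
        simpa [smul_smul] using this
      exact hz _ ((u.isUnit).pow _) _ this
    · have := hm.2
      rw [hPg, map_mul] at this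
      have h3 := isUnit_of_mul_isUnit_left this
      rw [hX, aeval_sc] at h3
      exact (hunit _ _).mp h3
  refine ⟨AlgEquiv.ofAlgHom ((P.map π).lift _ h1) (P₀.lift _ h2) (P₀.hom_ext ?_)
    ((P.map π).hom_ext ?_)⟩
  · rw [AlgHom.comp_apply, StandardEtalePair.lift_X, map_smul, StandardEtalePair.lift_X,
      smul_smul, Units.inv_mul, one_smul, AlgHom.id_apply]
  · rw [AlgHom.comp_apply, StandardEtalePair.lift_X, map_smul, StandardEtalePair.lift_X,
      smul_smul, Units.mul_inv, one_smul, AlgHom.id_apply]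

/-- Standard étale algebras lift along fraction-surjective maps. -/
theorem exists_etale_lift (A A₀ C : Type u) [CommRing A] [CommRing A₀] [CommRing C] [Algebra A A₀]
    (hπ : FracSurj (algebraMap A A₀)) [Algebra A₀ C] [Algebra.IsStandardEtale A₀ C] :
    ∃ (B : Type u) (_ : CommRing B) (_ : Algebra A B), Algebra.Etale A B ∧
      Nonempty (C ≃ₐ[A₀] A₀ ⊗[A] B) := by
  let Q₀ : StandardEtalePresentation A₀ C :=
    Algebra.IsStandardEtale.nonempty_standardEtalePresentation.some
  obtain ⟨P, ⟨e₂⟩⟩ := exists_standardEtalePair_lift (algebraMap A A₀) hπ Q₀.P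
  let QP : StandardEtalePresentation A P.Ring :=
    ⟨P, P.X, P.hasMap_X, by simpa [StandardEtalePair.lift_X_left] using Function.bijective_id⟩
  let e₁ : A₀ ⊗[A] P.Ring ≃ₐ[A₀] (P.map (algebraMap A A₀)).Ring :=
    (QP.baseChange (T := A₀)).equivRing
  exact ⟨P.Ring, inferInstance, inferInstance, inferInstance,
    ⟨(Q₀.equivRing.trans e₂.symm).trans e₁.symm⟩⟩

/-- `CommRingCat` form of `exists_etale_lift`: a standard étale algebra over `A₀` is the pushout
of an étale `A`-algebra. -/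
theorem exists_etale_lift_commRingCat {A A₀ C : CommRingCat.{u}} (π : A ⟶ A₀)
    (hπ : FracSurj π.hom) (γ : A₀ ⟶ C)
    (hγ : @Algebra.IsStandardEtale A₀ C _ _ γ.hom.toAlgebra) :
    ∃ (B : CommRingCat.{u}) (φ : A ⟶ B) (ψ : B ⟶ C), φ.hom.Etale ∧ IsPushout π φ γ ψ := by
  let _ : Algebra A A₀ := π.hom.toAlgebra
  let _ : Algebra A₀ C := γ.hom.toAlgebra
  obtain ⟨B, _, _, hB, ⟨e⟩⟩ := exists_etale_lift A A₀ C hπ
  refine ⟨CommRingCat.of B, CommRingCat.ofHom (algebraMap A B),
    CommRingCat.ofHom (e.symm.toRingEquiv.toRingHom.comp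
      (Algebra.TensorProduct.includeRight (R := A) (A := A₀) (B := B)).toRingHom), ?_, ?_⟩
  · exact RingHom.etale_algebraMap.mpr hB
  · have h0 := CommRingCat.isPushout_tensorProduct A A₀ B
    refine h0.of_iso (Iso.refl _) (Iso.refl _) (Iso.refl _) e.symm.toRingEquiv.toCommRingCatIso
      ?_ ?_ ?_ ?_
    · ext x; rfl
    · ext x; rfl
    · ext x
      simp only [Iso.refl_hom, Category.id_comp]
      change e.symm (x ⊗ₜ 1) = γ.hom x
      rw [show (x ⊗ₜ[A] (1 : B) : A₀ ⊗[A] B) = algebraMap A₀ (A₀ ⊗[A] B) x from rfl,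
        AlgEquiv.commutes]
      rfl
    · ext x; rfl

end Lift

end Groth.Agent.Lib.Helper70.EtFibA
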