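import Mathlib

/-!
# Finiteness of the set of irreducible components along flat morphisms locally of finite
presentation (helper70)

* `finite_minimalPrimes_of_flat_of_finiteType`: a flat algebra of finite type over a ring with
  finitely many minimal primes has finitely many minimal primes.
* `maxPts`: maximal points for the specialisation preorder; `finite_irreducibleComponents_iff_maxPts`.
* `finite_irreducibleComponents_of_flat_lfp` (= S13834).
-/

universe u

namespace Groth.Agent.Lib.Helper70

open TensorProduct TopologicalSpace AlgebraicGeometry CategoryTheory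

namespace IrrComp

/-- minimal primes of a flat algebra lie over minimal primes. -/
theorem under_mem_minimalPrimes_of_flat {A B : Type*} [CommRing A] [CommRing B] [Algebra A B]
    [Module.Flat A B] (q : Ideal B) (hq : q ∈ minimalPrimes B) :
    q.under A ∈ minimalPrimes A := by
  have hqp : q.IsPrime := hq.1.1
  obtain ⟨p', hp'min, hp'le⟩ := Ideal.exists_minimalPrimes_le (bot_le : ⊥ ≤ q.under A)
  have hp'p : p'.IsPrime := hp'min.1.1
  have : q.LiesOver (q.under A) := ⟨rfl⟩
  obtain ⟨P, hPq, hPp, hPl⟩ := Ideal.exists_ideal_le_liesOver_of_le (p := p') (q := q.under A) q hp'le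
  have hPq' : q ≤ P := hq.2 ⟨hPp, bot_le⟩ hPq
  have hEq : P = q := le_antisymm hPq hPq'
  have : p' = q.under A := by
    rw [← hEq]
    exact hPl.over
  rwa [← this]

/-- (R): a flat algebra of finite type over a ring with finitely many minimal primes has finitely
many minimal primes. -/
theorem finite_minimalPrimes_of_flat_of_finiteType {A B : Type u} [CommRing A] [CommRing B]
    [Algebra A B] [Module.Flat A B] [Algebra.FiniteType A B] (hA : (minimalPrimes A).Finite) :
    (minimalPrimes B).Finite := by
  -- the minimal primes of `B` over a given prime `p` of `A`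
  have hfib : ∀ p : PrimeSpectrum A,
      {q : Ideal B | q ∈ minimalPrimes B ∧ q.under A = p.asIdeal}.Finite := by
    intro p
    have hnoeth : IsNoetherianRing (p.asIdeal.Fiber B) :=
      Algebra.FiniteType.isNoetherianRing p.asIdeal.ResidueField (p.asIdeal.Fiber B)
    have hfin : (minimalPrimes (p.asIdeal.Fiber B)).Finite :=
      minimalPrimes.finite_of_isNoetherianRing _
    let e := PrimeSpectrum.preimageOrderIsoFiber A B p
    -- map each `q` to the corresponding prime of the fibre ring
    let F : {q : Ideal B // q ∈ minimalPrimes B ∧ q.under A = p.asIdeal} → Ideal (p.asIdeal.Fiber B) :=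
      fun q => (e ⟨⟨q.1, q.2.1.1.1⟩, PrimeSpectrum.ext q.2.2⟩).asIdeal
    have hFmem : ∀ q, F q ∈ minimalPrimes (p.asIdeal.Fiber B) := by
      intro q
      refine ⟨⟨(e _).isPrime, bot_le⟩, ?_⟩
      intro J hJ hle
      let J' : PrimeSpectrum (p.asIdeal.Fiber B) := ⟨J, hJ.1⟩
      have h1 : J' ≤ e ⟨⟨q.1, q.2.1.1.1⟩, PrimeSpectrum.ext q.2.2⟩ := hle
      have h2 : e.symm J' ≤ ⟨⟨q.1, q.2.1.1.1⟩, PrimeSpectrum.ext q.2.2⟩ := by
        rw [← e.symm_apply_apply ⟨⟨q.1, q.2.1.1.1⟩, PrimeSpectrum.ext q.2.2⟩]
        exact e.symm.monotone h1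
      have h3 : q.1 ≤ (e.symm J').1.asIdeal := q.2.1.2 ⟨(e.symm J').1.isPrime, bot_le⟩ h2
      have h4 : (⟨⟨q.1, q.2.1.1.1⟩, PrimeSpectrum.ext q.2.2⟩ :
          PrimeSpectrum.comap (algebraMap A B) ⁻¹' {p}) ≤ e.symm J' := h3
      have h5 := e.monotone h4
      rw [e.apply_symm_apply] at h5
      exact h5
    have hFinj : Function.Injective F := by
      intro q₁ q₂ h
      have h' : e ⟨⟨q₁.1, q₁.2.1.1.1⟩, PrimeSpectrum.ext q₁.2.2⟩ =
          e ⟨⟨q₂.1, q₂.2.1.1.1⟩, PrimeSpectrum.ext q₂.2.2⟩ := PrimeSpectrum.ext h
      have := e.injective h'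
      apply Subtype.ext
      exact congrArg (fun z => z.1.asIdeal) this
    have : Finite {q : Ideal B // q ∈ minimalPrimes B ∧ q.under A = p.asIdeal} := by
      have : Finite (minimalPrimes (p.asIdeal.Fiber B)) := hfin
      exact Finite.of_injective (fun q => (⟨F q, hFmem q⟩ : minimalPrimes (p.asIdeal.Fiber B)))
        (fun q₁ q₂ h => hFinj (congrArg Subtype.val h))
    exact Set.finite_coe_iff.mp this
  have hsub : minimalPrimes B ⊆ ⋃ p ∈ {p : PrimeSpectrum A | p.asIdeal ∈ minimalPrimes A},
      {q : Ideal B | q ∈ minimalPrimes B ∧ q.under A = p.asIdeal} := by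
    intro q hq
    have hmin := under_mem_minimalPrimes_of_flat (A := A) q hq
    simp only [Set.mem_iUnion, Set.mem_setOf_eq, exists_prop]
    exact ⟨⟨q.under A, hmin.1.1⟩, hmin, hq, rfl⟩
  refine Set.Finite.subset (Set.Finite.biUnion ?_ (fun p _ => hfib p)) hsub
  exact Set.Finite.of_injOn (f := PrimeSpectrum.asIdeal) (fun p hp => hp)
    (fun p _ q _ h => PrimeSpectrum.ext h) hA
/-- the maximal points (for the specialisation preorder) of a topological space. -/
def maxPts (α : Type*) [TopologicalSpace α] : Set α := {x | ∀ y, y ⤳ x → x ⤳ y}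

theorem genericPoints_eq_maxPts (α : Type*) [TopologicalSpace α] [QuasiSober α] :
    genericPoints α = maxPts α := by
  ext x
  constructor
  · intro hx y hyx
    have hirr : IsIrreducible (closure ({y} : Set α)) := isIrreducible_singleton.closure
    have hsub : closure ({x} : Set α) ⊆ closure {y} := specializes_iff_closure_subset.mp hyx
    have := hx.2 hirr hsub
    rw [specializes_iff_mem_closure]
    exact this (subset_closure rfl)
  · intro hx
    refine ⟨isIrreducible_singleton.closure, ?_⟩
    intro Z hZ hsub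
    have hZc : IsIrreducible (closure Z) := hZ.closure
    obtain ⟨y, hy⟩ := QuasiSober.sober hZc isClosed_closure
    have hyx : y ⤳ x := by
      rw [specializes_iff_mem_closure, hy.def]
      exact subset_closure (hsub (subset_closure rfl))
    have hxy := hx y hyx
    calc Z ⊆ closure Z := subset_closure
      _ = closure {y} := hy.def.symm
      _ ⊆ closure {x} := specializes_iff_closure_subset.mp hxy

theorem finite_irreducibleComponents_iff_maxPts (α : Type*) [TopologicalSpace α] [QuasiSober α]
    [T0Space α] : (irreducibleComponents α).Finite ↔ (maxPts α).Finite := by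
  rw [← genericPoints_eq_maxPts]
  constructor
  · exact genericPoints.finite
  · intro h
    have : Finite (genericPoints α) := h
    exact Set.finite_coe_iff.mp (Finite.of_equiv _ (genericPoints.equiv (α := α)))

theorem mem_maxPts_subtype_iff {Y : Type*} [TopologicalSpace Y] {V : Set Y} (hV : IsOpen V)
    (x : V) : x ∈ maxPts V ↔ (x : Y) ∈ maxPts Y := by
  constructor
  · intro hx y hyx
    have hyV : y ∈ V := hyx.mem_open hV x.2
    have := hx ⟨y, hyV⟩ ((subtype_specializes_iff _ _).mpr hyx)
    exact (subtype_specializes_iff _ _).mp this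
  · intro hx y hyx
    exact (subtype_specializes_iff _ _).mpr (hx y ((subtype_specializes_iff _ _).mp hyx))

theorem maxPts_subtype_eq {Y : Type*} [TopologicalSpace Y] {V : Set Y} (hV : IsOpen V) :
    maxPts V = Subtype.val ⁻¹' (maxPts Y) := by
  ext x
  exact mem_maxPts_subtype_iff hV x

theorem finite_maxPts_subtype_iff {Y : Type*} [TopologicalSpace Y] {V : Set Y} (hV : IsOpen V) :
    (maxPts V).Finite ↔ (maxPts Y ∩ V).Finite := by
  rw [maxPts_subtype_eq hV]
  constructor
  · intro h
    have := h.image Subtype.val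
    refine this.subset ?_
    rintro y ⟨hy, hyV⟩
    exact ⟨⟨y, hyV⟩, hy, rfl⟩
  · intro h
    exact h.preimage (Subtype.val_injective.injOn) |>.subset (fun x hx => ⟨hx, x.2⟩)

theorem homeomorph_mem_maxPts_iff {α β : Type*} [TopologicalSpace α] [TopologicalSpace β]
    (h : α ≃ₜ β) (x : α) : h x ∈ maxPts β ↔ x ∈ maxPts α := by
  constructor
  · intro hx y hyx
    have h1 : h y ⤳ h x := h.isInducing.specializes_iff.mpr hyx
    exact h.isInducing.specializes_iff.mp (hx _ h1)
  · intro hx y' hyx
    obtain ⟨y, rfl⟩ := h.surjective y'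
    have h1 : y ⤳ x := h.isInducing.specializes_iff.mp hyx
    exact h.isInducing.specializes_iff.mpr (hx _ h1)

theorem homeomorph_maxPts_finite_of {α β : Type*} [TopologicalSpace α] [TopologicalSpace β]
    (h : α ≃ₜ β) (hfin : (maxPts β).Finite) : (maxPts α).Finite := by
  refine (hfin.preimage (h.injective.injOn)).subset ?_
  intro x hx
  exact (homeomorph_mem_maxPts_iff h x).mpr hx

theorem homeomorph_maxPts_finite_iff {α β : Type*} [TopologicalSpace α] [TopologicalSpace β]
    (h : α ≃ₜ β) : (maxPts α).Finite ↔ (maxPts β).Finite :=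
  ⟨homeomorph_maxPts_finite_of h.symm, homeomorph_maxPts_finite_of h⟩

theorem homeomorph_irreducibleComponents_finite_iff {α β : Type*} [TopologicalSpace α]
    [TopologicalSpace β] [QuasiSober α] [T0Space α] [QuasiSober β] [T0Space β] (h : α ≃ₜ β) :
    (irreducibleComponents α).Finite ↔ (irreducibleComponents β).Finite := by
  rw [finite_irreducibleComponents_iff_maxPts, finite_irreducibleComponents_iff_maxPts]
  exact homeomorph_maxPts_finite_iff h

theorem finite_minimalPrimes_iff_irreducibleComponents (R : Type*) [CommRing R] :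
    (minimalPrimes R).Finite ↔ (irreducibleComponents (PrimeSpectrum R)).Finite := by
  have e := minimalPrimes.equivIrreducibleComponents R
  constructor
  · intro h
    have : Finite (minimalPrimes R) := h
    exact Set.finite_coe_iff.mp (Finite.of_equiv _ (e.toEquiv.trans OrderDual.ofDual))
  · intro h
    have : Finite (irreducibleComponents (PrimeSpectrum R)) := h
    exact Set.finite_coe_iff.mp (Finite.of_equiv _ (e.toEquiv.trans OrderDual.ofDual).symm)


theorem isAffineOpen_finite_irreducibleComponents_iff {X : Scheme.{u}} {U : X.Opens}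
    (hU : IsAffineOpen U) :
    (irreducibleComponents (U : Type u)).Finite ↔ (minimalPrimes Γ(X, U)).Finite := by
  have : QuasiSober (U : Type u) := U.2.isOpenEmbedding_subtypeVal.quasiSober
  let h : (U : Type u) ≃ₜ PrimeSpectrum Γ(X, U) := Scheme.homeoOfIso hU.isoSpec
  rw [homeomorph_irreducibleComponents_finite_iff h, finite_minimalPrimes_iff_irreducibleComponents]

theorem finite_irreducibleComponents_of_flat_lfp {Y X : Scheme.{u}} (f : Y ⟶ X) [Flat f]
    [LocallyOfFinitePresentation f]
    (hX : ∀ U : X.Opens, IsCompact (U : Set X) → (irreducibleComponents (U : Type u)).Finite)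
    (V : Y.Opens) (hV : IsCompact (V : Set Y)) : (irreducibleComponents (V : Type u)).Finite := by
  have : QuasiSober (V : Type u) := V.2.isOpenEmbedding_subtypeVal.quasiSober
  rw [finite_irreducibleComponents_iff_maxPts]
  refine (finite_maxPts_subtype_iff (V := (V : Set Y)) V.2).mpr ?_
  -- local pieces
  have hloc : ∀ y ∈ (V : Set Y), ∃ W : Y.Opens, y ∈ W ∧ (maxPts Y ∩ W).Finite := by
    intro y hy
    obtain ⟨U, hU, hyU, -⟩ := exists_isAffineOpen_mem_and_subset (x := f y) (U := ⊤) trivial
    obtain ⟨W, hW, hyW, hWle⟩ := exists_isAffineOpen_mem_and_subset (x := y)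
      (U := f ⁻¹ᵁ U) hyU
    refine ⟨W, hyW, ?_⟩
    have hAfin : (minimalPrimes Γ(X, U)).Finite :=
      (isAffineOpen_finite_irreducibleComponents_iff hU).mp (hX U hU.isCompact)
    have e : W ≤ f ⁻¹ᵁ U := hWle
    have hflat : (f.appLE U W e).hom.Flat := f.flat_appLE hU hW e
    have hfp : (f.appLE U W e).hom.FinitePresentation := f.finitePresentation_appLE hU hW e
    have hBfin : (minimalPrimes Γ(Y, W)).Finite := by
      algebraize [(f.appLE U W e).hom]
      have : Algebra.FiniteType Γ(X, U) Γ(Y, W) := inferInstance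
      exact finite_minimalPrimes_of_flat_of_finiteType hAfin
    have : QuasiSober (W : Type u) := W.2.isOpenEmbedding_subtypeVal.quasiSober
    have h1 := (isAffineOpen_finite_irreducibleComponents_iff hW).mpr hBfin
    rw [finite_irreducibleComponents_iff_maxPts] at h1
    exact (finite_maxPts_subtype_iff (V := (W : Set Y)) W.2).mp h1
  choose! W hyW hWfin using hloc
  obtain ⟨t, htV, hcov⟩ := hV.elim_nhds_subcover (fun y => (W y : Set Y))
    (fun y hy => (W y).2.mem_nhds (hyW y hy))
  refine Set.Finite.subset (Set.Finite.biUnion t.finite_toSet (fun y hy => hWfin y (htV y hy))) ?_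
  rintro y ⟨hymax, hyV⟩
  have := hcov hyV
  simp only [Set.mem_iUnion, exists_prop] at this
  obtain ⟨z, hzt, hyz⟩ := this
  simp only [Set.mem_iUnion, exists_prop]
  exact ⟨z, hzt, hymax, hyz⟩

end IrrComp

end Groth.Agent.Lib.Helper70
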