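import Mathlib
import Groth.Agent.Lib.Helper70.IrrCompFlat

/-!
# Flatness over a Dedekind scheme: ring-level and point-level lemmas
-/

set_option autoImplicit false

namespace Groth.Agent.Lib.Helper70.DedekindFlatA

universe u

open AlgebraicGeometry CategoryTheory Limits Opposite TopologicalSpace

/-- A regular local domain of dimension at most one is a principal ideal ring. -/
theorem isPrincipalIdealRing_of_regular_dim_le_one (S : Type u) [CommRing S] [IsDomain S]
    [IsRegularLocalRing S] (h : ringKrullDim S ≤ 1) : IsPrincipalIdealRing S := by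
  have hreg := IsRegularLocalRing.spanFinrank_maximalIdeal (R := S)
  have hle : ((IsLocalRing.maximalIdeal S).spanFinrank : WithBot ℕ∞) ≤ 1 := by
    rw [hreg]; exact h
  have hle' : (IsLocalRing.maximalIdeal S).spanFinrank ≤ 1 := by exact_mod_cast hle
  have hprinc : (IsLocalRing.maximalIdeal S).IsPrincipal := by
    rcases Nat.le_one_iff_eq_zero_or_eq_one.mp hle' with h0 | h1
    · have := (Submodule.spanFinrank_eq_zero_iff_eq_bot
        (IsNoetherian.noetherian (IsLocalRing.maximalIdeal S))).mp h0
      rw [this]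
      exact ⟨⟨0, by simp⟩⟩
    · exact ((Submodule.spanFinrank_eq_one_iff _).mp h1).1
  exact ((tfae_of_isNoetherianRing_of_isLocalRing_of_isDomain
    (R := S)).out 4 0).mp hprinc

variable {X Y : Scheme.{u}}

/-- A prime of `𝒪_{Y,y}` lying over the generic point of the integral scheme `Y` is zero. -/
lemma eq_bot_of_fromSpecStalk_eq_genericPoint [IsIntegral Y] (y : Y)
    (P : PrimeSpectrum (Y.presheaf.stalk y))
    (hP : (Y.fromSpecStalk y).base P = genericPoint Y) : P.asIdeal = ⊥ := by
  have hind : Topology.IsInducing (Y.fromSpecStalk y).base :=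
    (Y.fromSpecStalk y).isEmbedding.isInducing
  have h1 : (Y.fromSpecStalk y).base P ⤳
      (Y.fromSpecStalk y).base (⟨⊥, Ideal.isPrime_bot⟩ : PrimeSpectrum (Y.presheaf.stalk y)) := by
    rw [hP]
    exact genericPoint_specializes _
  have h2 := hind.specializes_iff.mp h1
  have h3 : P.asIdeal ≤ ⊥ := (PrimeSpectrum.le_iff_specializes P ⟨⊥, Ideal.isPrime_bot⟩).mpr h2
  exact le_bot_iff.mp h3

/-- A minimal prime of `𝒪_{X,x}` gives a generic point of an irreducible component of `X`. -/
lemma closure_mem_irreducibleComponents_of_minimalPrimes (x : X)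
    (q : Ideal (X.presheaf.stalk x)) (hq : q ∈ minimalPrimes (X.presheaf.stalk x)) :
    closure {(X.fromSpecStalk x).base ⟨q, hq.1.1⟩} ∈ irreducibleComponents (X : Type u) := by
  have hqp : q.IsPrime := hq.1.1
  have hrange := Scheme.range_fromSpecStalk (X := X) (x := x)
  have hind : Topology.IsInducing (X.fromSpecStalk x).base :=
    (X.fromSpecStalk x).isEmbedding.isInducing
  have hwx : (X.fromSpecStalk x).base ⟨q, hqp⟩ ⤳ x := by
    have : (X.fromSpecStalk x).base ⟨q, hqp⟩ ∈ Set.range (X.fromSpecStalk x).base := ⟨_, rfl⟩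
    rw [hrange] at this
    exact this
  have hmax : (X.fromSpecStalk x).base ⟨q, hqp⟩ ∈
      Groth.Agent.Lib.Helper70.IrrComp.maxPts (X : Type u) := by
    intro w' hw'
    have hw'x : w' ∈ Set.range (X.fromSpecStalk x).base := by
      rw [hrange]; exact hw'.trans hwx
    obtain ⟨Q', rfl⟩ := hw'x
    have h1 : Q' ⤳ (⟨q, hqp⟩ : PrimeSpectrum (X.presheaf.stalk x)) := hind.specializes_iff.mp hw'
    have h2 : Q'.asIdeal ≤ q := (PrimeSpectrum.le_iff_specializes Q' ⟨q, hqp⟩).mpr h1
    have h4 : q ≤ Q'.asIdeal := hq.2 ⟨Q'.2, bot_le⟩ h2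
    have : Q' = ⟨q, hqp⟩ := PrimeSpectrum.ext (le_antisymm h2 h4)
    rw [this]
  rw [← Groth.Agent.Lib.Helper70.IrrComp.genericPoints_eq_maxPts] at hmax
  exact hmax

/-- If the image of `closure {w}` is dense in the integral scheme `Y` then `f w` is the generic
point. -/
lemma eq_genericPoint_of_dense_image [IsIntegral Y] (f : X ⟶ Y) (w : X)
    (h : Dense (f.base '' closure {w})) : f.base w = genericPoint Y := by
  have h1 : f.base '' closure {w} ⊆ closure {f.base w} := by
    have := image_closure_subset_closure_image (s := {w}) f.continuous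
    rwa [Set.image_singleton] at this
  have h2 : closure {f.base w} = Set.univ := by
    apply Set.eq_univ_of_univ_subset
    rw [← h.closure_eq]
    exact closure_minimal h1 isClosed_closure
  have h3 : IsGenericPoint (f.base w) (Set.univ : Set Y) := h2
  exact (genericPoint_spec Y).eq h3 |>.symm

end Groth.Agent.Lib.Helper70.DedekindFlatA
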