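import Mathlib

/-!
# Sections over the generic fibre are a localization (part A)
-/

set_option autoImplicit false

namespace Groth.Agent.Lib.Helper70.GenFibA

universe u

open AlgebraicGeometry CategoryTheory Limits Opposite TopologicalSpace

variable {Y : Scheme.{u}}

lemma genericPoint_mem_basicOpen [IsIntegral Y] {V : Y.Opens} (a : Γ(Y, V)) (ha : a ≠ 0) :
    genericPoint Y ∈ Y.basicOpen a := by
  have hne : (Y.basicOpen a : Set Y).Nonempty := by
    rw [Set.nonempty_iff_ne_empty]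
    intro h
    apply ha
    rw [← basicOpen_eq_bot_iff]
    exact Opens.ext h
  exact ((genericPoint_spec Y).mem_open_set_iff (Y.basicOpen a).isOpen).mpr (by simpa using hne)

/-- A nonzero section of an integral scheme pulls back to a unit along any morphism all of whose
points go to the generic point. -/
lemma isUnit_app_of_generic [IsIntegral Y] {W : Scheme.{u}} (h : W ⟶ Y)
    (hh : ∀ w : W, h.base w = genericPoint Y) {V : Y.Opens} (a : Γ(Y, V)) (ha : a ≠ 0) :
    IsUnit (h.app V a) := by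
  apply W.toLocallyRingedSpace.toRingedSpace.isUnit_of_isUnit_germ
  intro w hw
  have h1 : w ∈ h ⁻¹ᵁ Y.basicOpen a := by
    show h.base w ∈ Y.basicOpen a
    rw [hh w]
    exact genericPoint_mem_basicOpen a ha
  rw [Scheme.preimage_basicOpen] at h1
  exact (W.mem_basicOpen _ w hw).mp h1

lemma appLE_fromSpecResidueField (y : Y) {V : Y.Opens} (hy : y ∈ V)
    (h : (⊤ : (Spec (Y.residueField y)).Opens) ≤ (Y.fromSpecResidueField y) ⁻¹ᵁ V) :
    (Y.fromSpecResidueField y).appLE V ⊤ h =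
      Y.presheaf.germ V y hy ≫ Y.residue y ≫ (Scheme.ΓSpecIso (Y.residueField y)).inv := by
  have h2 : (⊤ : (Spec (Y.residueField y)).Opens) ≤
      (Spec.map (Y.residue y) ≫ Y.fromSpecStalk y) ⁻¹ᵁ V := h
  have e1 : (Y.fromSpecResidueField y).appLE V ⊤ h =
      (Spec.map (Y.residue y) ≫ Y.fromSpecStalk y).appLE V ⊤ h2 := rfl
  rw [e1, Scheme.Hom.comp_appLE, Scheme.fromSpecStalk_app hy]
  simp only [Category.assoc]
  rw [Scheme.Hom.map_appLE]
  have e2 : (Spec.map (Y.residue y)).appLE ⊤ ⊤ le_top = (Spec.map (Y.residue y)).appTop := by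
    simp [Scheme.Hom.appLE, Scheme.Hom.appTop]
  erw [e2]
  rw [Scheme.ΓSpecIso_inv_naturality]

theorem isFractionRing_generic [IsIntegral Y] {V : Y.Opens} (hV : IsAffineOpen V)
    (hη : genericPoint Y ∈ V)
    (h : (⊤ : (Spec (Y.residueField (genericPoint Y))).Opens) ≤
      (Y.fromSpecResidueField (genericPoint Y)) ⁻¹ᵁ V) :
    letI := ((Y.fromSpecResidueField (genericPoint Y)).appLE V ⊤ h).hom.toAlgebra
    IsFractionRing Γ(Y, V) Γ(Spec (Y.residueField (genericPoint Y)), ⊤) := by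
  let _ := ((Y.fromSpecResidueField (genericPoint Y)).appLE V ⊤ h).hom.toAlgebra
  have : Nonempty V := ⟨⟨_, hη⟩⟩
  have hFF : IsFractionRing Γ(Y, V) Y.functionField :=
    functionField_isFractionRing_of_isAffineOpen Y V hV
  let ψ : Y.functionField →+* Γ(Spec (Y.residueField (genericPoint Y)), ⊤) :=
    (Y.residue (genericPoint Y) ≫ (Scheme.ΓSpecIso (Y.residueField (genericPoint Y))).inv).hom
  have hψ : Function.Bijective ψ := by
    constructor
    · exact RingHom.injective ψ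
    · have h1 : Function.Surjective (Y.residue (genericPoint Y)).hom :=
        IsLocalRing.residue_surjective
      have h2 : Function.Bijective (Scheme.ΓSpecIso (Y.residueField (genericPoint Y))).inv.hom :=
        ConcreteCategory.bijective_of_isIso _
      exact h2.2.comp h1
  let e : Y.functionField ≃+* Γ(Spec (Y.residueField (genericPoint Y)), ⊤) :=
    RingEquiv.ofBijective ψ hψ
  let e' : Y.functionField ≃ₐ[Γ(Y, V)] Γ(Spec (Y.residueField (genericPoint Y)), ⊤) :=
    AlgEquiv.ofRingEquiv (f := e) (by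
      intro a
      show ψ ((Y.germToFunctionField V).hom a) = 
        ((Y.fromSpecResidueField (genericPoint Y)).appLE V ⊤ h).hom a
      rw [appLE_fromSpecResidueField (genericPoint Y) hη h]
      rfl)
  exact IsLocalization.isLocalization_of_algEquiv (nonZeroDivisors Γ(Y, V)) e'

theorem isLocalization_sections {T P : Scheme.{u}} [IsIntegral Y] (g : T ⟶ Y)
    (fst : P ⟶ T) (snd : P ⟶ Spec (Y.residueField (genericPoint Y)))
    (H : IsPullback fst snd g (Y.fromSpecResidueField (genericPoint Y)))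
    {V : Y.Opens} (hV : IsAffineOpen V) (hη : genericPoint Y ∈ V) {U : T.Opens}
    (hU : IsAffineOpen U) (hUV : U ≤ g ⁻¹ᵁ V) :
    (∀ s : Γ(P, fst ⁻¹ᵁ U), ∃ a : Γ(Y, V), a ≠ 0 ∧ ∃ b : Γ(T, U),
        fst.app U (g.appLE V U hUV a) * s = fst.app U b) ∧
    (∀ b : Γ(T, U), fst.app U b = 0 → ∃ a : Γ(Y, V), a ≠ 0 ∧ g.appLE V U hUV a * b = 0) := by
  have hUST : (⊤ : (Spec (Y.residueField (genericPoint Y))).Opens) ≤
      (Y.fromSpecResidueField (genericPoint Y)) ⁻¹ᵁ V := by
    intro s _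
    show (Y.fromSpecResidueField (genericPoint Y)).base s ∈ V
    rw [Scheme.fromSpecResidueField_apply]
    exact hη
  have hUY : fst ⁻¹ᵁ U = fst ⁻¹ᵁ U ⊓ snd ⁻¹ᵁ ⊤ := by simp
  have : Nonempty V := ⟨⟨_, hη⟩⟩
  have hdom : IsDomain Γ(Y, V) := inferInstance
  have hiso := isIso_pushoutSection_of_isAffineOpen H hUST hUV hUY hV (isAffineOpen_top _) hU
  have hpo := (isIso_pushoutSection_iff H hUST hUV hUY).mp hiso
  let algAK := ((Y.fromSpecResidueField (genericPoint Y)).appLE V ⊤ hUST).hom.toAlgebra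
  have hFR : IsFractionRing Γ(Y, V) Γ(Spec (Y.residueField (genericPoint Y)), ⊤) :=
    isFractionRing_generic hV hη hUST
  let algAB := (g.appLE V U hUV).hom.toAlgebra
  let algBB' := (fst.appLE U (fst ⁻¹ᵁ U) le_rfl).hom.toAlgebra
  let algKB' := (snd.appLE ⊤ (fst ⁻¹ᵁ U) (fun _ _ => trivial)).hom.toAlgebra
  let algAB' := ((fst.appLE U (fst ⁻¹ᵁ U) le_rfl).hom.comp
    (g.appLE V U hUV).hom).toAlgebra
  have tw1 : IsScalarTower Γ(Y, V) Γ(T, U) Γ(P, fst ⁻¹ᵁ U) := .of_algebraMap_eq' rfl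
  have tw2 : IsScalarTower Γ(Y, V) Γ(Spec (Y.residueField (genericPoint Y)), ⊤)
      Γ(P, fst ⁻¹ᵁ U) := by
    apply IsScalarTower.of_algebraMap_eq'
    have := congrArg CommRingCat.Hom.hom hpo.w
    exact this
  have hAP : Algebra.IsPushout Γ(Y, V) Γ(T, U) Γ(Spec (Y.residueField (genericPoint Y)), ⊤)
      Γ(P, fst ⁻¹ᵁ U) := by
    rw [← CommRingCat.isPushout_iff_isPushout]
    exact hpo
  have hloc : IsLocalization (Algebra.algebraMapSubmonoid Γ(T, U) (nonZeroDivisors Γ(Y, V)))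
      Γ(P, fst ⁻¹ᵁ U) :=
    (Algebra.isLocalization_iff_isPushout (nonZeroDivisors Γ(Y, V))
      Γ(Spec (Y.residueField (genericPoint Y)), ⊤)).mpr hAP
  have halg : ∀ b : Γ(T, U), algebraMap Γ(T, U) Γ(P, fst ⁻¹ᵁ U) b = fst.app U b := by
    intro b
    show (fst.appLE U (fst ⁻¹ᵁ U) le_rfl).hom b = _
    rw [Scheme.Hom.appLE_eq_app]
  constructor
  · intro s
    obtain ⟨⟨b, ⟨_, a, ha, rfl⟩⟩, hs⟩ := IsLocalization.surj
      (Algebra.algebraMapSubmonoid Γ(T, U) (nonZeroDivisors Γ(Y, V))) s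
    refine ⟨a, nonZeroDivisors.ne_zero ha, b, ?_⟩
    rw [← halg, ← halg, mul_comm]
    exact hs
  · intro b hb
    rw [← halg, IsLocalization.map_eq_zero_iff
      (Algebra.algebraMapSubmonoid Γ(T, U) (nonZeroDivisors Γ(Y, V)))] at hb
    obtain ⟨⟨_, a, ha, rfl⟩, hm⟩ := hb
    exact ⟨a, nonZeroDivisors.ne_zero ha, hm⟩

end Groth.Agent.Lib.Helper70.GenFibA
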