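import Mathlib
import Groth.Agent.Lib.Helper70.GenFibA

/-!
# Flatness of scheme-theoretic closures of subschemes of the generic fibre (part B)
-/

set_option autoImplicit false

namespace Groth.Agent.Lib.Helper70.GenFibB

universe u

open AlgebraicGeometry CategoryTheory Limits Opposite TopologicalSpace
open Groth.Agent.Lib.Helper70.GenFibA

variable {Y : Scheme.{u}}

lemma flat_of_torsionFree [IsIntegral Y]
    (hPID : ∀ y : Y, IsPrincipalIdealRing (Y.presheaf.stalk y))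
    {V : Y.Opens} (hV : IsAffineOpen V) [Nonempty V] {C : Type u} [CommRing C]
    (φ : Γ(Y, V) →+* C)
    (htf : ∀ a : Γ(Y, V), a ≠ 0 → ∀ c : C, φ a * c = 0 → c = 0) : φ.Flat := by
  let _ := φ.toAlgebra
  show Module.Flat Γ(Y, V) C
  have hdom : IsDomain Γ(Y, V) := inferInstance
  rw [Module.Flat.flat_iff_torsion_eq_bot_of_valuationRing_localization_isMaximal]
  · rw [eq_bot_iff]
    rintro c ⟨⟨a, ha⟩, hac⟩
    rw [Submodule.mem_bot]
    apply htf a (nonZeroDivisors.ne_zero ha) c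
    have : a • c = 0 := hac
    rw [Algebra.smul_def, RingHom.algebraMap_toAlgebra] at this
    exact this
  · intro P hP
    have hPp : P.IsPrime := hP.isPrime
    let _ : Algebra Γ(Y, V) (Y.presheaf.stalk (hV.fromSpec ⟨P, hPp⟩)) :=
      TopCat.Presheaf.algebra_section_stalk Y.presheaf _
    have hloc : IsLocalization.AtPrime (Y.presheaf.stalk (hV.fromSpec ⟨P, hPp⟩)) P :=
      hV.isLocalization_stalk' ⟨P, hPp⟩ (hV.isoSpec.inv _).2
    let e : Localization.AtPrime P ≃ₐ[Γ(Y, V)] Y.presheaf.stalk (hV.fromSpec ⟨P, hPp⟩) :=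
      IsLocalization.algEquiv P.primeCompl _ _
    have : IsPrincipalIdealRing (Y.presheaf.stalk (hV.fromSpec ⟨P, hPp⟩)) := hPID _
    have : IsPrincipalIdealRing (Localization.AtPrime P) :=
      IsPrincipalIdealRing.of_surjective e.symm.toRingEquiv.toRingHom e.symm.surjective
    show ValuationRing (Localization.AtPrime P)
    infer_instance

lemma exists_affine_pair {X : Scheme.{u}} (f : X ⟶ Y) (x : X) :
    ∃ (V : Y.Opens) (U : X.Opens), IsAffineOpen V ∧ IsAffineOpen U ∧ x ∈ U ∧ U ≤ f ⁻¹ᵁ V := by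
  obtain ⟨_, ⟨V, hV : IsAffineOpen V, rfl⟩, hyV, -⟩ :=
    Y.isBasis_affineOpens.exists_subset_of_mem_open (Set.mem_univ (f.base x)) isOpen_univ
  obtain ⟨_, ⟨U, hU : IsAffineOpen U, rfl⟩, hxU, hUV⟩ :=
    X.isBasis_affineOpens.exists_subset_of_mem_open (show x ∈ ((f ⁻¹ᵁ V : X.Opens) : Set X) from hyV)
      (f ⁻¹ᵁ V).isOpen
  exact ⟨V, U, hV, hU, hxU, hUV⟩

theorem flat_imageι_comp {X W : Scheme.{u}} [IsIntegral Y]
    (hPID : ∀ y : Y, IsPrincipalIdealRing (Y.presheaf.stalk y))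
    (f : X ⟶ Y) (g : W ⟶ X) [QuasiCompact g]
    (hg : ∀ w : W, (g ≫ f).base w = genericPoint Y) :
    Flat (g.imageι ≫ f) := by
  rw [HasRingHomProperty.iff_exists_appLE (P := @Flat)
    (RingHom.Flat.stableUnderComposition.stableUnderCompositionWithLocalizationAway
      RingHom.Flat.holdsForLocalizationAway).left]
  intro z₀
  obtain ⟨V, U, hV, hU, hxU, hUV⟩ := exists_affine_pair f (g.imageι.base z₀)
  have hle : g.imageι ⁻¹ᵁ U ≤ (g.imageι ≫ f) ⁻¹ᵁ V := fun z hz => hUV hz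
  refine ⟨⟨V, hV⟩, ⟨g.imageι ⁻¹ᵁ U, hU.preimage g.imageι⟩, hxU, hle, ?_⟩
  have : Nonempty V := ⟨⟨_, hUV hxU⟩⟩
  apply flat_of_torsionFree hPID hV
  intro a ha c hc
  obtain ⟨b, rfl⟩ := g.ker.subschemeι_app_surjective ⟨U, hU⟩ c
  have e1 : ((g.imageι ≫ f).appLE V (g.imageι ⁻¹ᵁ U) hle).hom a =
      (g.imageι.app U).hom ((f.appLE V U hUV).hom a) := by
    rw [← Scheme.Hom.appLE_eq_app, ← CommRingCat.comp_apply, Scheme.Hom.appLE_comp_appLE]
  have hc' : (g.imageι.app U).hom ((f.appLE V U hUV).hom a * b) = 0 := by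
    rw [map_mul, ← e1]; exact hc
  have h2 : (f.appLE V U hUV).hom a * b ∈ g.ker.ideal ⟨U, hU⟩ := by
    rw [← g.ker.ker_subschemeι_app ⟨U, hU⟩]; exact hc'
  rw [Scheme.Hom.ker_apply, RingHom.mem_ker, map_mul] at h2
  have hunit : IsUnit ((g.app U).hom ((f.appLE V U hUV).hom a)) := by
    have hle2 : g ⁻¹ᵁ U ≤ (g ≫ f) ⁻¹ᵁ V := fun z hz => hUV hz
    have e2 : (g.app U).hom ((f.appLE V U hUV).hom a) =
        ((g ≫ f).appLE V (g ⁻¹ᵁ U) hle2).hom a := by
      rw [← Scheme.Hom.appLE_eq_app, ← CommRingCat.comp_apply, Scheme.Hom.appLE_comp_appLE]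
    rw [e2, Scheme.Hom.appLE, CommRingCat.comp_apply]
    exact (isUnit_app_of_generic (g ≫ f) hg a ha).map _
  have h3 : (g.app U).hom b = 0 := by
    have := hunit.mul_left_cancel (b := (g.app U).hom b) (c := 0) (by rw [h2, mul_zero])
    exact this
  have h4 : b ∈ g.ker.ideal ⟨U, hU⟩ := by
    rw [Scheme.Hom.ker_apply, RingHom.mem_ker]; exact h3
  rw [← g.ker.ker_subschemeι_app ⟨U, hU⟩] at h4
  exact h4

/-- Over a flat `Z ⟶ Y` with `Y` integral, nonzero sections of `Y` act regularly. -/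
lemma eq_zero_of_flat [IsIntegral Y] {Z : Scheme.{u}} (h : Z ⟶ Y) [Flat h] {V : Y.Opens}
    (hV : IsAffineOpen V) [Nonempty V] {W : Z.Opens} (hW : IsAffineOpen W) (e : W ≤ h ⁻¹ᵁ V)
    (a : Γ(Y, V)) (ha : a ≠ 0) (c : Γ(Z, W)) (hc : (h.appLE V W e).hom a * c = 0) : c = 0 := by
  have hfl : (h.appLE V W e).hom.Flat :=
    HasRingHomProperty.appLE @Flat h ‹_› ⟨V, hV⟩ ⟨W, hW⟩ e
  let _ := (h.appLE V W e).hom.toAlgebra
  have hfl' : Module.Flat Γ(Y, V) Γ(Z, W) := hfl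
  have hdom : IsDomain Γ(Y, V) := inferInstance
  have hreg : IsSMulRegular Γ(Z, W) a :=
    Module.Flat.isSMulRegular_of_nonZeroDivisors (mem_nonZeroDivisors_of_ne_zero ha)
  apply hreg
  show a • c = a • (0 : Γ(Z, W))
  rw [smul_zero, Algebra.smul_def, RingHom.algebraMap_toAlgebra]
  exact hc

lemma isAffineOpen_preimage_generic {T P : Scheme.{u}} [IsIntegral Y] (g : T ⟶ Y)
    (fst : P ⟶ T) (snd : P ⟶ Spec (Y.residueField (genericPoint Y)))
    (H : IsPullback fst snd g (Y.fromSpecResidueField (genericPoint Y)))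
    {V : Y.Opens} (hV : IsAffineOpen V) (hη : genericPoint Y ∈ V) {U : T.Opens}
    (hU : IsAffineOpen U) (hUV : U ≤ g ⁻¹ᵁ V) : IsAffineOpen (fst ⁻¹ᵁ U) := by
  have hUST : (⊤ : (Spec (Y.residueField (genericPoint Y))).Opens) ≤
      (Y.fromSpecResidueField (genericPoint Y)) ⁻¹ᵁ V := by
    intro s _
    show (Y.fromSpecResidueField (genericPoint Y)).base s ∈ V
    rw [Scheme.fromSpecResidueField_apply]
    exact hη
  have hUY : fst ⁻¹ᵁ U = fst ⁻¹ᵁ U ⊓ snd ⁻¹ᵁ ⊤ := by simp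
  have : IsAffine V := hV
  have : IsAffine (⊤ : (Spec (Y.residueField (genericPoint Y))).Opens) := isAffineOpen_top _
  have : IsAffine U := hU
  exact IsAffine.of_isIso (Scheme.Hom.isPullback_resLE H hUST hUV hUY).isoPullback.hom

end Groth.Agent.Lib.Helper70.GenFibB
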