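import Mathlib
import Groth.Agent.Lib.Helper70.GenFibB
import Groth.Agent.Lib.Helper70.DedekindFlatA

/-!
# Flat closure of a closed subscheme of the generic fibre (part C)
-/

set_option autoImplicit false

namespace Groth.Agent.Lib.Helper70.GenFibC

universe u

open AlgebraicGeometry CategoryTheory Limits Opposite TopologicalSpace
open Groth.Agent.Lib.Helper70.GenFibA Groth.Agent.Lib.Helper70.GenFibB

variable {X Y : Scheme.{u}}

lemma isAffineHom_fromSpecResidueField_generic [IsIntegral Y] :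
    IsAffineHom (Y.fromSpecResidueField (genericPoint Y)) := by
  refine ⟨fun V hV => ?_⟩
  by_cases hη : genericPoint Y ∈ V
  · have : (Y.fromSpecResidueField (genericPoint Y)) ⁻¹ᵁ V = ⊤ := by
      ext s
      simp only [Opens.coe_top, Set.mem_univ, iff_true]
      show (Y.fromSpecResidueField (genericPoint Y)).base s ∈ V
      rw [Scheme.fromSpecResidueField_apply]
      exact hη
    rw [this]
    exact isAffineOpen_top _
  · have : (Y.fromSpecResidueField (genericPoint Y)) ⁻¹ᵁ V = ⊥ := by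
      ext s
      simp only [Opens.coe_bot, Set.mem_empty_iff_false, iff_false]
      show ¬ (Y.fromSpecResidueField (genericPoint Y)).base s ∈ V
      rw [Scheme.fromSpecResidueField_apply]
      exact hη
    rw [this]
    exact isAffineOpen_bot _

lemma isAffineHom_fiberι_generic [IsIntegral Y] (f : X ⟶ Y) :
    IsAffineHom (f.fiberι (genericPoint Y)) := by
  have := isAffineHom_fromSpecResidueField_generic (Y := Y)
  exact MorphismProperty.pullback_fst _ _ inferInstance

lemma fiberι_comp_apply (f : X ⟶ Y) (y : Y) (w : f.fiber y) :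
    (f.fiberι y ≫ f).base w = y := by
  rw [Scheme.Hom.fiber_fac, Scheme.Hom.comp_base, TopCat.comp_app,
    Scheme.fromSpecResidueField_apply]

lemma genericPoint_mem_of_mem [IsIntegral Y] {V : Y.Opens} {y : Y} (hy : y ∈ V) :
    genericPoint Y ∈ V :=
  ((genericPoint_spec Y).mem_open_set_iff V.isOpen).mpr ⟨y, trivial, hy⟩

theorem ker_eq_of_flat_of_isPullback [IsIntegral Y] (f : X ⟶ Y) {Z Z' : Scheme.{u}}
    (z' : Z' ⟶ f.fiber (genericPoint Y)) [IsClosedImmersion z'] (z : Z ⟶ X)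
    [IsClosedImmersion z] [Flat (z ≫ f)] (w : Z' ⟶ Z)
    (hP : IsPullback w z' z (f.fiberι (genericPoint Y))) :
    z.ker = (z' ≫ f.fiberι (genericPoint Y)).ker := by
  have := isAffineHom_fiberι_generic f
  apply le_antisymm
  · rw [← hP.w]; exact Scheme.Hom.le_ker_comp w z
  · choose V U hV hU hxU hUV using fun x : X => exists_affine_pair f x
    refine Scheme.IdealSheafData.le_of_iSup_eq_top
      (fun x : X => (⟨U x, hU x⟩ : X.affineOpens)) ?_ ?_
    · rw [eq_top_iff]
      intro x _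
      exact Opens.mem_iSup.mpr ⟨x, hxU x⟩
    · intro x b hb
      rw [Scheme.Hom.ker_apply, RingHom.mem_ker] at hb ⊢
      have hP2 : IsPullback w (z' ≫ f.fiberToSpecResidueField (genericPoint Y)) (z ≫ f)
          (Y.fromSpecResidueField (genericPoint Y)) :=
        hP.paste_vert (IsPullback.of_hasPullback f _)
      have hηV : genericPoint Y ∈ V x := genericPoint_mem_of_mem (hUV x (hxU x))
      have hle : z ⁻¹ᵁ U x ≤ (z ≫ f) ⁻¹ᵁ V x := fun t ht => hUV x ht
      obtain ⟨-, h3⟩ := isLocalization_sections (z ≫ f) w _ hP2 (hV x) hηV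
        ((hU x).preimage z) hle
      have hw0 : (w.app (z ⁻¹ᵁ U x)).hom ((z.app (U x)).hom b) = 0 := by
        have e1 := Scheme.Hom.congr_app hP.w (U x)
        have e2 : ((w ≫ z).app (U x)).hom b = 0 := by
          rw [e1, CommRingCat.comp_apply]
          erw [hb]
          exact map_zero _
        rw [Scheme.Hom.comp_app] at e2
        exact e2
      obtain ⟨a, ha, hac⟩ := h3 _ hw0
      have : Nonempty (V x) := ⟨⟨_, hηV⟩⟩
      exact eq_zero_of_flat (z ≫ f) (hV x) ((hU x).preimage z) hle a ha _ hac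

lemma mem_comap_of_mem_ker [IsIntegral Y] (f : X ⟶ Y) {Z' : Scheme.{u}}
    (z' : Z' ⟶ f.fiber (genericPoint Y)) [IsClosedImmersion z']
    [IsAffineHom (f.fiberι (genericPoint Y))]
    {V : Y.Opens} (hV : IsAffineOpen V) (hηV : genericPoint Y ∈ V) {U : X.Opens}
    (hU : IsAffineOpen U) (hUV : U ≤ f ⁻¹ᵁ V)
    (hUa : IsAffineOpen (f.fiberι (genericPoint Y) ⁻¹ᵁ U))
    (s : Γ(f.fiber (genericPoint Y), f.fiberι (genericPoint Y) ⁻¹ᵁ U))
    (hs : s ∈ z'.ker.ideal ⟨f.fiberι (genericPoint Y) ⁻¹ᵁ U, hUa⟩) :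
    s ∈ ((z' ≫ f.fiberι (genericPoint Y)).ker.comap (f.fiberι (genericPoint Y))).ideal
      ⟨f.fiberι (genericPoint Y) ⁻¹ᵁ U, hUa⟩ := by
  rw [Scheme.Hom.ker_apply, RingHom.mem_ker] at hs
  show s ∈ (pullback.fst (f.fiberι (genericPoint Y))
    (z' ≫ f.fiberι (genericPoint Y)).ker.subschemeι).ker.ideal
      ⟨f.fiberι (genericPoint Y) ⁻¹ᵁ U, hUa⟩
  rw [Scheme.Hom.ker_apply, RingHom.mem_ker]
  obtain ⟨h2, -⟩ := isLocalization_sections f (f.fiberι (genericPoint Y))
    (f.fiberToSpecResidueField (genericPoint Y)) (IsPullback.of_hasPullback f _) hV hηV hU hUV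
  obtain ⟨a, ha, b, hab⟩ := h2 s
  have hb : b ∈ (z' ≫ f.fiberι (genericPoint Y)).ker.ideal ⟨U, hU⟩ := by
    rw [Scheme.Hom.ker_apply, RingHom.mem_ker, Scheme.Hom.comp_app]
    show (z'.app _).hom (((f.fiberι (genericPoint Y)).app U).hom b) = 0
    rw [← hab, map_mul]
    erw [hs]
    rw [mul_zero]
  have hzb : ((z' ≫ f.fiberι (genericPoint Y)).ker.subschemeι.app U).hom b = 0 := by
    rw [← RingHom.mem_ker, Scheme.IdealSheafData.ker_subschemeι_app _ ⟨U, hU⟩]
    exact hb
  have hpb : ((pullback.fst (f.fiberι (genericPoint Y))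
      (z' ≫ f.fiberι (genericPoint Y)).ker.subschemeι).app
        (f.fiberι (genericPoint Y) ⁻¹ᵁ U)).hom (((f.fiberι (genericPoint Y)).app U).hom b) = 0 := by
    have e1 := Scheme.Hom.congr_app (pullback.condition (f := f.fiberι (genericPoint Y))
      (g := (z' ≫ f.fiberι (genericPoint Y)).ker.subschemeι)) U
    have e2 : ((pullback.fst (f.fiberι (genericPoint Y))
        (z' ≫ f.fiberι (genericPoint Y)).ker.subschemeι ≫ f.fiberι (genericPoint Y)).app U).hom b
        = 0 := by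
      rw [e1, Scheme.Hom.comp_app]
      show (CommRingCat.Hom.hom _) ((CommRingCat.Hom.hom _) (((z' ≫ f.fiberι (genericPoint Y)).ker.subschemeι.app U).hom b)) = 0
      rw [hzb, map_zero, map_zero]
    rw [Scheme.Hom.comp_app] at e2
    exact e2
  have hunit : IsUnit (((f.fiberι (genericPoint Y)).app U).hom ((f.appLE V U hUV).hom a)) := by
    have hle2 : f.fiberι (genericPoint Y) ⁻¹ᵁ U ≤ (f.fiberι (genericPoint Y) ≫ f) ⁻¹ᵁ V :=
      fun z hz => hUV hz
    have e2 : ((f.fiberι (genericPoint Y)).app U).hom ((f.appLE V U hUV).hom a) =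
        ((f.fiberι (genericPoint Y) ≫ f).appLE V (f.fiberι (genericPoint Y) ⁻¹ᵁ U) hle2).hom a := by
      rw [← Scheme.Hom.appLE_eq_app, ← CommRingCat.comp_apply, Scheme.Hom.appLE_comp_appLE]
    rw [e2, Scheme.Hom.appLE, CommRingCat.comp_apply]
    exact (isUnit_app_of_generic (f.fiberι (genericPoint Y) ≫ f)
      (fiberι_comp_apply f (genericPoint Y)) a ha).map _
  have h5 := congrArg ((pullback.fst (f.fiberι (genericPoint Y))
      (z' ≫ f.fiberι (genericPoint Y)).ker.subschemeι).app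
        (f.fiberι (genericPoint Y) ⁻¹ᵁ U)).hom hab
  rw [map_mul, hpb] at h5
  exact (hunit.map _).mul_right_eq_zero.mp h5

theorem isPullback_toImage [IsIntegral Y] (f : X ⟶ Y) {Z' : Scheme.{u}}
    (z' : Z' ⟶ f.fiber (genericPoint Y)) [IsClosedImmersion z'] :
    IsPullback (z' ≫ f.fiberι (genericPoint Y)).toImage z'
      (z' ≫ f.fiberι (genericPoint Y)).imageι (f.fiberι (genericPoint Y)) := by
  have := isAffineHom_fiberι_generic f
  refine (isPullback_of_isClosedImmersion z' (z' ≫ f.fiberι (genericPoint Y)).imageι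
    (z' ≫ f.fiberι (genericPoint Y)).toImage (f.fiberι (genericPoint Y))
    (Scheme.Hom.toImage_imageι _).symm ?_).flip
  rw [Scheme.IdealSheafData.ker_subschemeι]
  apply le_antisymm
  · rw [← Scheme.IdealSheafData.map_ker]
    exact Scheme.IdealSheafData.comap_map_le _ _
  · choose V U hV hU hxU hUV using fun x : X => exists_affine_pair f x
    refine Scheme.IdealSheafData.le_of_iSup_eq_top
      (fun t : f.fiber (genericPoint Y) =>
        (⟨f.fiberι (genericPoint Y) ⁻¹ᵁ U ((f.fiberι (genericPoint Y)).base t),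
          (hU _).preimage (f.fiberι (genericPoint Y))⟩ :
          (f.fiber (genericPoint Y)).affineOpens)) ?_ ?_
    · rw [eq_top_iff]
      intro t _
      exact Opens.mem_iSup.mpr ⟨t, hxU _⟩
    · intro t s hs
      exact mem_comap_of_mem_ker f z' (hV _) (genericPoint_mem_of_mem (hUV _ (hxU _))) (hU _)
        (hUV _) _ s hs

theorem flat_closure [IsIntegral Y] [IsLocallyNoetherian Y]
    (hY : ∀ y : Y, IsRegularLocalRing (Y.presheaf.stalk y) ∧
      ringKrullDim (Y.presheaf.stalk y) ≤ 1)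
    (f : X ⟶ Y) {Z' : Scheme.{u}} (z' : Z' ⟶ f.fiber (genericPoint Y)) [IsClosedImmersion z'] :
    (∃ (Z : Scheme.{u}) (z : Z ⟶ X) (w : Z' ⟶ Z), IsClosedImmersion z ∧ Flat (z ≫ f) ∧
        IsPullback w z' z (f.fiberι (genericPoint Y))) ∧
      ∀ (Z₁ Z₂ : Scheme.{u}) (z₁ : Z₁ ⟶ X) (z₂ : Z₂ ⟶ X) (w₁ : Z' ⟶ Z₁) (w₂ : Z' ⟶ Z₂),
        IsClosedImmersion z₁ → IsClosedImmersion z₂ → Flat (z₁ ≫ f) → Flat (z₂ ≫ f) →
        IsPullback w₁ z' z₁ (f.fiberι (genericPoint Y)) →
        IsPullback w₂ z' z₂ (f.fiberι (genericPoint Y)) →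
        ∃ e : Z₁ ≅ Z₂, e.hom ≫ z₂ = z₁ := by
  have hPID : ∀ y : Y, IsPrincipalIdealRing (Y.presheaf.stalk y) := fun y => by
    have := (hY y).1
    exact Groth.Agent.Lib.Helper70.DedekindFlatA.isPrincipalIdealRing_of_regular_dim_le_one
      _ (hY y).2
  have := isAffineHom_fiberι_generic f
  constructor
  · refine ⟨_, (z' ≫ f.fiberι (genericPoint Y)).imageι, (z' ≫ f.fiberι (genericPoint Y)).toImage,
      inferInstance, ?_, isPullback_toImage f z'⟩
    apply flat_imageι_comp hPID f (z' ≫ f.fiberι (genericPoint Y))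
    intro w
    have := fiberι_comp_apply f (genericPoint Y) (z'.base w)
    rw [Category.assoc]
    exact this
  · intro Z₁ Z₂ z₁ z₂ w₁ w₂ h1 h2 hf1 hf2 hP1 hP2
    have hk : z₁.ker = z₂.ker := by
      rw [ker_eq_of_flat_of_isPullback f z' z₁ w₁ hP1, ker_eq_of_flat_of_isPullback f z' z₂ w₂ hP2]
    have hiso : IsIso (IsClosedImmersion.lift z₂ z₁ hk.ge) :=
      IsClosedImmersion.isIso_of_ker_eq z₁ z₂ _ (IsClosedImmersion.lift_fac _ _ _) hk
    exact ⟨asIso (IsClosedImmersion.lift z₂ z₁ hk.ge), IsClosedImmersion.lift_fac _ _ _⟩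

end Groth.Agent.Lib.Helper70.GenFibC
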