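import Mathlib
import Groth.Agent.Lib.Helper70.GenFibC

/-!
# Generic fibre via `fromSpecStalk`: sections are a localization (part E)
-/

set_option autoImplicit false

namespace Groth.Agent.Lib.Helper70.GenFibE

universe u

open AlgebraicGeometry CategoryTheory Limits Opposite TopologicalSpace
open Groth.Agent.Lib.Helper70.GenFibA Groth.Agent.Lib.Helper70.GenFibB
open Groth.Agent.Lib.Helper70.GenFibC

variable {Y : Scheme.{u}}

/-- General form of `GenFibA.isLocalization_sections` for any `ι : Spec K ⟶ Y` making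
`Γ(Spec K, ⊤)` a fraction ring of `Γ(Y, V)`. -/
theorem isLocalization_sections' {T P : Scheme.{u}} [IsIntegral Y] {K : CommRingCat.{u}}
    (ι : Spec K ⟶ Y) (g : T ⟶ Y) (fst : P ⟶ T) (snd : P ⟶ Spec K)
    (H : IsPullback fst snd g ι)
    {V : Y.Opens} (hV : IsAffineOpen V) (hne : Nonempty V)
    (hUST : (⊤ : (Spec K).Opens) ≤ ι ⁻¹ᵁ V)
    (hFR : letI := (ι.appLE V ⊤ hUST).hom.toAlgebra; IsFractionRing Γ(Y, V) Γ(Spec K, ⊤))
    {U : T.Opens} (hU : IsAffineOpen U) (hUV : U ≤ g ⁻¹ᵁ V) :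
    (∀ s : Γ(P, fst ⁻¹ᵁ U), ∃ a : Γ(Y, V), a ≠ 0 ∧ ∃ b : Γ(T, U),
        fst.app U (g.appLE V U hUV a) * s = fst.app U b) ∧
    (∀ b : Γ(T, U), fst.app U b = 0 → ∃ a : Γ(Y, V), a ≠ 0 ∧ g.appLE V U hUV a * b = 0) := by
  have hUY : fst ⁻¹ᵁ U = fst ⁻¹ᵁ U ⊓ snd ⁻¹ᵁ ⊤ := by simp
  have hdom : IsDomain Γ(Y, V) := inferInstance
  have hiso := isIso_pushoutSection_of_isAffineOpen H hUST hUV hUY hV (isAffineOpen_top _) hU
  have hpo := (isIso_pushoutSection_iff H hUST hUV hUY).mp hiso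
  let algAK := (ι.appLE V ⊤ hUST).hom.toAlgebra
  have hFR' : IsFractionRing Γ(Y, V) Γ(Spec K, ⊤) := hFR
  let algAB := (g.appLE V U hUV).hom.toAlgebra
  let algBB' := (fst.appLE U (fst ⁻¹ᵁ U) le_rfl).hom.toAlgebra
  let algKB' := (snd.appLE ⊤ (fst ⁻¹ᵁ U) (fun _ _ => trivial)).hom.toAlgebra
  let algAB' := ((fst.appLE U (fst ⁻¹ᵁ U) le_rfl).hom.comp
    (g.appLE V U hUV).hom).toAlgebra
  have tw1 : IsScalarTower Γ(Y, V) Γ(T, U) Γ(P, fst ⁻¹ᵁ U) := .of_algebraMap_eq' rfl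
  have tw2 : IsScalarTower Γ(Y, V) Γ(Spec K, ⊤) Γ(P, fst ⁻¹ᵁ U) := by
    apply IsScalarTower.of_algebraMap_eq'
    have := congrArg CommRingCat.Hom.hom hpo.w
    exact this
  have hAP : Algebra.IsPushout Γ(Y, V) Γ(T, U) Γ(Spec K, ⊤) Γ(P, fst ⁻¹ᵁ U) := by
    rw [← CommRingCat.isPushout_iff_isPushout]
    exact hpo
  have hloc : IsLocalization (Algebra.algebraMapSubmonoid Γ(T, U) (nonZeroDivisors Γ(Y, V)))
      Γ(P, fst ⁻¹ᵁ U) :=
    (Algebra.isLocalization_iff_isPushout (nonZeroDivisors Γ(Y, V)) Γ(Spec K, ⊤)).mpr hAP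
  have halg : ∀ b : Γ(T, U), algebraMap Γ(T, U) Γ(P, fst ⁻¹ᵁ U) b = fst.app U b := by
    intro b
    show (fst.appLE U (fst ⁻¹ᵁ U) le_rfl).hom b = _
    rw [Scheme.Hom.appLE_eq_app]
  constructor
  · intro s
    obtain ⟨⟨b, ⟨_, a, ha, rfl⟩⟩, hs⟩ := IsLocalization.surj
      (Algebra.algebraMapSubmonoid Γ(T, U) (nonZeroDivisors Γ(Y, V))) s
    refine ⟨a, nonZeroDivisors.ne_zero ha, b, ?_⟩
    rw [← halg, ← halg, mul_comm]
    exact hs
  · intro b hb
    rw [← halg, IsLocalization.map_eq_zero_iff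
      (Algebra.algebraMapSubmonoid Γ(T, U) (nonZeroDivisors Γ(Y, V)))] at hb
    obtain ⟨⟨_, a, ha, rfl⟩, hm⟩ := hb
    exact ⟨a, nonZeroDivisors.ne_zero ha, hm⟩

lemma appLE_fromSpecStalk (y : Y) {V : Y.Opens} (hy : y ∈ V)
    (h : (⊤ : (Spec (Y.presheaf.stalk y)).Opens) ≤ (Y.fromSpecStalk y) ⁻¹ᵁ V) :
    (Y.fromSpecStalk y).appLE V ⊤ h =
      Y.presheaf.germ V y hy ≫ (Scheme.ΓSpecIso (Y.presheaf.stalk y)).inv := by
  rw [Scheme.Hom.appLE, Scheme.fromSpecStalk_app hy]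
  simp only [Category.assoc]
  rw [← Functor.map_comp]
  have : ∀ (i : (op (⊤ : (Spec (Y.presheaf.stalk y)).Opens)) ⟶ op ⊤),
      (Spec (Y.presheaf.stalk y)).presheaf.map i = 𝟙 _ := by
    intro i
    rw [Subsingleton.elim i (𝟙 _), CategoryTheory.Functor.map_id]
  erw [this]
  simp

lemma top_le_preimage_fromSpecStalk [IsIntegral Y] {V : Y.Opens} (hη : genericPoint Y ∈ V) :
    (⊤ : (Spec (Y.presheaf.stalk (genericPoint Y))).Opens) ≤
      (Y.fromSpecStalk (genericPoint Y)) ⁻¹ᵁ V := by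
  intro s _
  show (Y.fromSpecStalk (genericPoint Y)).base s ∈ V
  have hs : (Y.fromSpecStalk (genericPoint Y)).base s ⤳
      (Y.fromSpecStalk (genericPoint Y)).base (IsLocalRing.closedPoint _) :=
    (IsLocalRing.specializes_closedPoint s).map (Y.fromSpecStalk _).base.hom.2
  rw [Scheme.fromSpecStalk_closedPoint] at hs
  exact hs.mem_open V.isOpen hη

theorem isFractionRing_stalk_generic [IsIntegral Y] {V : Y.Opens} (hV : IsAffineOpen V)
    (hη : genericPoint Y ∈ V) :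
    letI := ((Y.fromSpecStalk (genericPoint Y)).appLE V ⊤
      (top_le_preimage_fromSpecStalk hη)).hom.toAlgebra
    IsFractionRing Γ(Y, V) Γ(Spec (Y.presheaf.stalk (genericPoint Y)), ⊤) := by
  let _ := ((Y.fromSpecStalk (genericPoint Y)).appLE V ⊤
    (top_le_preimage_fromSpecStalk hη)).hom.toAlgebra
  have : Nonempty V := ⟨⟨_, hη⟩⟩
  have hFF : IsFractionRing Γ(Y, V) Y.functionField :=
    functionField_isFractionRing_of_isAffineOpen Y V hV
  let ψ : Y.functionField →+* Γ(Spec (Y.presheaf.stalk (genericPoint Y)), ⊤) :=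
    (Scheme.ΓSpecIso (Y.presheaf.stalk (genericPoint Y))).inv.hom
  have hψ : Function.Bijective ψ := ConcreteCategory.bijective_of_isIso _
  let e : Y.functionField ≃+* Γ(Spec (Y.presheaf.stalk (genericPoint Y)), ⊤) :=
    RingEquiv.ofBijective ψ hψ
  let e' : Y.functionField ≃ₐ[Γ(Y, V)] Γ(Spec (Y.presheaf.stalk (genericPoint Y)), ⊤) :=
    AlgEquiv.ofRingEquiv (f := e) (by
      intro a
      show ψ ((Y.germToFunctionField V).hom a) =
        ((Y.fromSpecStalk (genericPoint Y)).appLE V ⊤ _).hom a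
      rw [appLE_fromSpecStalk (genericPoint Y) hη]
      rfl)
  exact IsLocalization.isLocalization_of_algEquiv (nonZeroDivisors Γ(Y, V)) e'

lemma isAffineHom_fromSpecStalk_generic [IsIntegral Y] :
    IsAffineHom (Y.fromSpecStalk (genericPoint Y)) := by
  refine ⟨fun V hV => ?_⟩
  by_cases hη : genericPoint Y ∈ V
  · have : (Y.fromSpecStalk (genericPoint Y)) ⁻¹ᵁ V = ⊤ :=
      top_le_iff.mp (top_le_preimage_fromSpecStalk hη)
    rw [this]
    exact isAffineOpen_top _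
  · have : (Y.fromSpecStalk (genericPoint Y)) ⁻¹ᵁ V = ⊥ := by
      rw [eq_bot_iff]
      intro s hs
      exact (hη (genericPoint_mem_of_mem (show (Y.fromSpecStalk (genericPoint Y)).base s ∈ V
        from hs))).elim
    rw [this]
    exact isAffineOpen_bot _

/-- The generic fibre is schematically dense in a flat scheme over an integral base. -/
theorem ker_fst_fromSpecStalk_eq_bot [IsIntegral Y] {X : Scheme.{u}} (f : X ⟶ Y) [Flat f] :
    (pullback.fst f (Y.fromSpecStalk (genericPoint Y))).ker = ⊥ := by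
  have := isAffineHom_fromSpecStalk_generic (Y := Y)
  have hq : QuasiCompact (pullback.fst f (Y.fromSpecStalk (genericPoint Y))) :=
    MorphismProperty.pullback_fst _ _ inferInstance
  rw [eq_bot_iff]
  choose V U hV hU hxU hUV using fun x : X => exists_affine_pair f x
  refine Scheme.IdealSheafData.le_of_iSup_eq_top
    (fun x : X => (⟨U x, hU x⟩ : X.affineOpens)) ?_ ?_
  · rw [eq_top_iff]
    intro x _
    exact Opens.mem_iSup.mpr ⟨x, hxU x⟩
  · intro x b hb
    rw [Scheme.Hom.ker_apply, RingHom.mem_ker] at hb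
    show b ∈ (⊥ : Ideal _)
    rw [Ideal.mem_bot]
    have hηV : genericPoint Y ∈ V x := genericPoint_mem_of_mem (hUV x (hxU x))
    have hne : Nonempty (V x) := ⟨⟨_, hηV⟩⟩
    obtain ⟨-, h3⟩ := isLocalization_sections' (Y.fromSpecStalk (genericPoint Y)) f
      (pullback.fst f _) (pullback.snd f _) (IsPullback.of_hasPullback f _) (hV x) hne
      (top_le_preimage_fromSpecStalk hηV) (isFractionRing_stalk_generic (hV x) hηV) (hU x) (hUV x)
    obtain ⟨a, ha, hab⟩ := h3 b hb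
    exact eq_zero_of_flat f (hV x) (hU x) (hUV x) a ha b hab

end Groth.Agent.Lib.Helper70.GenFibE
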