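import Mathlib
import Groth.Agent.Lib.Helper70.GenFibE

/-!
# Generic fibre over `Spec R` along `Spec (Frac R) ⟶ Spec R`: transport of the `GenFib` lemmas
-/

set_option autoImplicit false

namespace Groth.Agent.Lib.Helper70.NeronClosA

universe u

open AlgebraicGeometry CategoryTheory Limits Opposite TopologicalSpace
open Groth.Agent.Lib.Helper70.GenFibA Groth.Agent.Lib.Helper70.GenFibB
open Groth.Agent.Lib.Helper70.GenFibC Groth.Agent.Lib.Helper70.GenFibE

/-- a local Dedekind domain is a principal ideal ring. -/
lemma isPrincipalIdealRing_of_isDedekindDomain_of_isLocalRing (S : Type*) [CommRing S]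
    [IsDedekindDomain S] [IsLocalRing S] : IsPrincipalIdealRing S := by
  apply IsPrincipalIdealRing.of_finite_primes
  apply Set.Finite.subset (Set.toFinite {⊥, IsLocalRing.maximalIdeal S})
  intro I hI
  by_cases h : I = ⊥
  · exact Or.inl h
  · exact Or.inr (IsLocalRing.eq_maximalIdeal (Ideal.IsPrime.isMaximal hI h))

lemma isPrincipalIdealRing_stalk_Spec (R : Type u) [CommRing R] [IsDedekindDomain R]
    (y : Spec (CommRingCat.of R)) :
    IsPrincipalIdealRing ((Spec (CommRingCat.of R)).presheaf.stalk y) := by
  have h1 : IsLocalization.AtPrime ((Spec.structureSheaf R).presheaf.stalk y) y.asIdeal :=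
    StructureSheaf.IsLocalization.to_stalk R y
  have hdom : IsDomain ((Spec.structureSheaf R).presheaf.stalk y) :=
    IsLocalization.isDomain_of_le_nonZeroDivisors _ y.asIdeal.primeCompl_le_nonZeroDivisors
  have hded : IsDedekindDomain ((Spec.structureSheaf R).presheaf.stalk y) :=
    IsLocalization.isDedekindDomain R y.asIdeal.primeCompl_le_nonZeroDivisors _
  have hloc : IsLocalRing ((Spec.structureSheaf R).presheaf.stalk y) :=
    IsLocalization.AtPrime.isLocalRing _ y.asIdeal
  exact @isPrincipalIdealRing_of_isDedekindDomain_of_isLocalRing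
    ((Spec.structureSheaf R).presheaf.stalk y) _ hded hloc

section GenPt

variable (R : Type u) [CommRing R] [IsDomain R]

/-- the generic point morphism. -/
noncomputable abbrev genPt : Spec (CommRingCat.of (FractionRing R)) ⟶ Spec (CommRingCat.of R) :=
  Spec.map (CommRingCat.ofHom (algebraMap R (FractionRing R)))

lemma genPt_apply (p : Spec (CommRingCat.of (FractionRing R))) :
    (genPt R) p = genericPoint (Spec (CommRingCat.of R)) := by
  rw [genericPoint_eq_bot_of_affine]
  apply PrimeSpectrum.ext
  show Ideal.comap (algebraMap R (FractionRing R)) p.asIdeal = ⊥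
  have : p.asIdeal = ⊥ := by
    have := Ideal.eq_bot_or_top p.asIdeal
    rcases this with h | h
    · exact h
    · exact absurd h p.2.ne_top
  rw [this, Ideal.comap_bot_of_injective _ (IsFractionRing.injective R (FractionRing R))]

theorem exists_iso_fromSpecStalk_aux (x : Spec (CommRingCat.of R)) (hx : x.asIdeal = ⊥) :
    ∃ ψ : (Spec (CommRingCat.of R)).presheaf.stalk x ⟶ CommRingCat.of (FractionRing R),
      IsIso ψ ∧ Spec.map ψ ≫ (Spec (CommRingCat.of R)).fromSpecStalk x = genPt R := by
  have h1 : IsLocalization.AtPrime ((Spec.structureSheaf R).presheaf.stalk x) x.asIdeal :=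
    StructureSheaf.IsLocalization.to_stalk R x
  have hM : x.asIdeal.primeCompl = nonZeroDivisors R := by
    ext a
    rw [Ideal.mem_primeCompl_iff, hx, Ideal.mem_bot, mem_nonZeroDivisors_iff_ne_zero]
  have h2 : IsLocalization x.asIdeal.primeCompl (FractionRing R) := by
    rw [hM]; infer_instance
  let e : (Spec.structureSheaf R).presheaf.stalk x ≃ₐ[R] FractionRing R :=
    IsLocalization.algEquiv x.asIdeal.primeCompl _ _
  refine ⟨(e.toRingEquiv.toCommRingCatIso).hom, inferInstance, ?_⟩
  have key : StructureSheaf.toStalk R x ≫ (e.toRingEquiv.toCommRingCatIso).hom =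
      CommRingCat.ofHom (algebraMap R (FractionRing R)) := by
    ext r
    exact e.commutes r
  rw [Spec.fromSpecStalk_eq']
  have := congrArg Spec.map key
  rw [Spec.map_comp] at this
  exact this

/-- `Spec (Frac R)` is `Spec` of the stalk at the generic point, compatibly with the maps to
`Spec R`. -/
theorem exists_iso_fromSpecStalk :
    ∃ ψ : (Spec (CommRingCat.of R)).presheaf.stalk (genericPoint (Spec (CommRingCat.of R))) ⟶
        CommRingCat.of (FractionRing R),
      IsIso ψ ∧ Spec.map ψ ≫
        (Spec (CommRingCat.of R)).fromSpecStalk (genericPoint (Spec (CommRingCat.of R))) =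
          genPt R := by
  apply exists_iso_fromSpecStalk_aux
  rw [genericPoint_eq_bot_of_affine]
  rfl

/-- `Spec (Frac R)` is `Spec` of the residue field at the generic point, compatibly with the
maps to `Spec R`. -/
theorem exists_iso_fromSpecResidueField :
    ∃ ψ : (Spec (CommRingCat.of R)).residueField (genericPoint (Spec (CommRingCat.of R))) ⟶
        CommRingCat.of (FractionRing R),
      IsIso ψ ∧ Spec.map ψ ≫
        (Spec (CommRingCat.of R)).fromSpecResidueField (genericPoint (Spec (CommRingCat.of R))) =
          genPt R := by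
  obtain ⟨ψ, hψ, h⟩ := exists_iso_fromSpecStalk R
  set Y := Spec (CommRingCat.of R) with hY
  let ρ : Y.functionField →+* Y.residueField (genericPoint Y) := (Y.residue (genericPoint Y)).hom
  have hb : Function.Bijective ρ := ⟨RingHom.injective ρ, IsLocalRing.residue_surjective⟩
  let e : Y.functionField ≃+* Y.residueField (genericPoint Y) := RingEquiv.ofBijective ρ hb
  have hres : IsIso (Y.residue (genericPoint Y)) := by
    have : Y.residue (genericPoint Y) = e.toCommRingCatIso.hom := rfl
    rw [this]; infer_instance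
  refine ⟨inv (Y.residue (genericPoint Y)) ≫ ψ, inferInstance, ?_⟩
  rw [Scheme.fromSpecResidueField, ← Spec.map_comp_assoc, IsIso.hom_inv_id_assoc]
  exact h

/-- The generic fibre is schematically dense in a flat scheme over `Spec R`. -/
theorem ker_eq_bot_of_isPullback_genPt {X D : Scheme.{u}} (f : X ⟶ Spec (CommRingCat.of R)) [Flat f]
    (d : D ⟶ X) (s : D ⟶ Spec (CommRingCat.of (FractionRing R)))
    (H : IsPullback d s f (genPt R)) : d.ker = ⊥ := by
  obtain ⟨ψ, hψ, h⟩ := exists_iso_fromSpecStalk R
  have sq : IsPullback (Spec.map ψ) (genPt R) ((Spec (CommRingCat.of R)).fromSpecStalk (genericPoint (Spec (CommRingCat.of R)))) (𝟙 (Spec (CommRingCat.of R))) :=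
    IsPullback.of_horiz_isIso ⟨by rw [h, Category.comp_id]⟩
  have H2 := (H.flip.paste_horiz sq).flip
  rw [Category.comp_id] at H2
  have hd : d = H2.isoPullback.hom ≫ pullback.fst f ((Spec (CommRingCat.of R)).fromSpecStalk (genericPoint (Spec (CommRingCat.of R)))) :=
    (H2.isoPullback_hom_fst).symm
  rw [hd, Scheme.Hom.ker_comp_of_isIso]
  exact ker_fst_fromSpecStalk_eq_bot f

/-- The schematic closure of a closed subscheme of the generic fibre has that subscheme as its
generic fibre. -/
theorem isPullback_toImage_genPt {X P Z' : Scheme.{u}} (f : X ⟶ Spec (CommRingCat.of R))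
    (fst : P ⟶ X) (snd : P ⟶ Spec (CommRingCat.of (FractionRing R)))
    (H : IsPullback fst snd f (genPt R)) (z' : Z' ⟶ P) [IsClosedImmersion z'] :
    IsPullback (z' ≫ fst).toImage z' (z' ≫ fst).imageι fst := by
  obtain ⟨ψ, hψ, h⟩ := exists_iso_fromSpecResidueField R
  have sq : IsPullback (Spec.map ψ) (genPt R) ((Spec (CommRingCat.of R)).fromSpecResidueField (genericPoint (Spec (CommRingCat.of R)))) (𝟙 (Spec (CommRingCat.of R))) :=
    IsPullback.of_horiz_isIso ⟨by rw [h, Category.comp_id]⟩
  have H2 := (H.flip.paste_horiz sq).flip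
  rw [Category.comp_id] at H2
  -- `ε : P ≅ f.fiber η`
  let ε : P ≅ f.fiber (genericPoint (Spec (CommRingCat.of R))) := H2.isoPullback
  have hε : ε.hom ≫ f.fiberι (genericPoint (Spec (CommRingCat.of R))) = fst := H2.isoPullback_hom_fst
  have hci : IsClosedImmersion (z' ≫ ε.hom) := inferInstance
  have key := isPullback_toImage f (z' ≫ ε.hom)
  have e1 : (z' ≫ ε.hom) ≫ f.fiberι (genericPoint (Spec (CommRingCat.of R))) = z' ≫ fst := by
    rw [Category.assoc, hε]
  rw [e1] at key
  -- change the corner along `ε`
  refine IsPullback.of_iso key (Iso.refl _) (Iso.refl _) ε.symm (Iso.refl _) ?_ ?_ ?_ ?_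
  · simp
  · simp
  · simp
  · simp [← hε]

end GenPt

section General

/-- the canonical map to the scheme-theoretic image of a quasi-compact morphism is schematically
dominant. -/
theorem ker_toImage_eq_bot {X Y : Scheme.{u}} (f : X ⟶ Y) [QuasiCompact f] : f.toImage.ker = ⊥ := by
  rw [eq_bot_iff]
  have hcov : ∀ x : f.image, ∃ U : Y.affineOpens, f.imageι x ∈ U.1 := by
    intro x
    obtain ⟨_, ⟨U, hU, rfl⟩, hx, -⟩ := Y.isBasis_affineOpens.exists_subset_of_mem_open
      (Set.mem_univ (f.imageι x)) isOpen_univ
    exact ⟨⟨U, hU⟩, hx⟩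
  choose U hU using hcov
  refine Scheme.IdealSheafData.le_of_iSup_eq_top
    (fun x : f.image => (⟨f.imageι ⁻¹ᵁ (U x).1, (U x).2.preimage f.imageι⟩ : f.image.affineOpens))
    ?_ ?_
  · rw [eq_top_iff]
    intro x _
    exact Opens.mem_iSup.mpr ⟨x, hU x⟩
  · intro x b hb
    rw [Scheme.Hom.ker_apply, RingHom.mem_ker] at hb
    show b ∈ (⊥ : Ideal _)
    rw [Ideal.mem_bot]
    exact f.toImage_app_injective (U x) (hb.trans (map_zero _).symm)

/-- a morphism factors through a closed immersion as soon as it does so on a schematically dense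
part. -/
theorem exists_lift_of_ker_eq_bot {Z X P D : Scheme.{u}} (c : Z ⟶ X) [IsClosedImmersion c]
    (F : P ⟶ X) (d : D ⟶ P) (hd : d.ker = ⊥) (a : D ⟶ Z) (h : d ≫ F = a ≫ c) :
    ∃ m : P ⟶ Z, m ≫ c = F := by
  have hq : IsClosedImmersion (pullback.fst F c) := inferInstance
  have hl : pullback.lift d a h ≫ pullback.fst F c = d := pullback.lift_fst _ _ _
  have hker : (pullback.fst F c).ker = ⊥ := by
    rw [eq_bot_iff, ← hd, ← hl]
    exact Scheme.Hom.le_ker_comp _ _
  have hiso : IsIso (pullback.fst F c) := IsClosedImmersion.isIso_iff_ker_eq_bot.mpr hker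
  refine ⟨inv (pullback.fst F c) ≫ pullback.snd F c, ?_⟩
  rw [Category.assoc, ← pullback.condition, IsIso.inv_hom_id_assoc]

end General

end Groth.Agent.Lib.Helper70.NeronClosA
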