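import Mathlib
import Groth.Agent.Lib.Helper70.DedekindFlatA

/-!
# Irreducible components through a point: topological transfer lemmas
-/

set_option autoImplicit false

namespace Groth.Agent.Lib.Helper70.GrpIrrA

universe u

open AlgebraicGeometry CategoryTheory Limits TopologicalSpace

/-- at most one irreducible component passes through `x`. -/
def UniqueComp (X : Type*) [TopologicalSpace X] (x : X) : Prop :=
  ∀ Z₁ ∈ irreducibleComponents X, ∀ Z₂ ∈ irreducibleComponents X, x ∈ Z₁ → x ∈ Z₂ → Z₁ = Z₂

theorem UniqueComp.of_generalizingMap {X Y : Type*} [TopologicalSpace X] [TopologicalSpace Y]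
    [QuasiSober X] {π : Y → X} (hc : Continuous π) (hg : GeneralizingMap π) {y : Y}
    (h : UniqueComp Y y) : UniqueComp X (π y) := by
  -- key: every component through `π y` is the closure of the image of the component through `y`
  have key : ∀ Z ∈ irreducibleComponents X, π y ∈ Z →
      ∃ Z' ∈ irreducibleComponents Y, y ∈ Z' ∧ Z = closure (π '' Z') := by
    intro Z hZ hy
    have hZirr : IsIrreducible Z := hZ.1
    have hZcl : IsClosed Z := isClosed_of_mem_irreducibleComponents Z hZ
    obtain ⟨ξ, hξ⟩ := QuasiSober.sober hZirr hZcl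
    have hsp : ξ ⤳ π y := by
      rw [specializes_iff_mem_closure, hξ.def]; exact hy
    obtain ⟨y', hy', hπ⟩ := hg hsp
    refine ⟨irreducibleComponent y', irreducibleComponent_mem_irreducibleComponents y', ?_, ?_⟩
    · exact hy'.mem_closed isClosed_irreducibleComponent mem_irreducibleComponent
    · have hirr : IsIrreducible (closure (π '' irreducibleComponent y')) :=
        (isIrreducible_irreducibleComponent.image π hc.continuousOn).closure
      have hsub : Z ⊆ closure (π '' irreducibleComponent y') := by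
        rw [← hξ.def]
        apply closure_minimal _ isClosed_closure
        rw [Set.singleton_subset_iff]
        exact subset_closure ⟨y', mem_irreducibleComponent, hπ⟩
      exact subset_antisymm hsub (hZ.2 hirr hsub)
  intro Z₁ hZ₁ Z₂ hZ₂ h₁ h₂
  obtain ⟨Z₁', hZ₁', hy₁, rfl⟩ := key Z₁ hZ₁ h₁
  obtain ⟨Z₂', hZ₂', hy₂, rfl⟩ := key Z₂ hZ₂ h₂
  rw [h Z₁' hZ₁' Z₂' hZ₂' hy₁ hy₂]

theorem UniqueComp.of_homeomorph {X Y : Type*} [TopologicalSpace X] [TopologicalSpace Y]
    (e : Y ≃ₜ X) {y : Y} (h : UniqueComp Y y) : UniqueComp X (e y) := by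
  intro Z₁ hZ₁ Z₂ hZ₂ h₁ h₂
  have hpre : ∀ Z ∈ irreducibleComponents X, e ⁻¹' Z ∈ irreducibleComponents Y := by
    intro Z hZ
    refine ⟨?_, ?_⟩
    · have := hZ.1.image e.symm e.symm.continuous.continuousOn
      rwa [e.symm.image_eq_preimage_symm] at this
    · intro T hT hle
      have hT' : IsIrreducible (e '' T) := hT.image e e.continuous.continuousOn
      have h1 : Z ⊆ e '' T := by
        intro z hz
        exact ⟨e.symm z, hle (by simpa using hz), by simp⟩
      have h2 := hZ.2 hT' h1
      intro t ht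
      exact h2 ⟨t, ht, rfl⟩
  have := h _ (hpre Z₁ hZ₁) _ (hpre Z₂ hZ₂) h₁ h₂
  exact e.surjective.preimage_injective this

/-- if at most one irreducible component passes through `x`, the local ring has at most one minimal
prime. -/
theorem minimalPrimes_stalk_subsingleton {X : Scheme.{u}} (x : X) (h : UniqueComp X x) :
    (minimalPrimes (X.presheaf.stalk x)).Subsingleton := by
  intro q₁ hq₁ q₂ hq₂
  have hrange := Scheme.range_fromSpecStalk (X := X) (x := x)
  have c₁ := DedekindFlatA.closure_mem_irreducibleComponents_of_minimalPrimes x q₁ hq₁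
  have c₂ := DedekindFlatA.closure_mem_irreducibleComponents_of_minimalPrimes x q₂ hq₂
  have m : ∀ (q : PrimeSpectrum (X.presheaf.stalk x)),
      x ∈ closure {(X.fromSpecStalk x).base q} := by
    intro q
    have : (X.fromSpecStalk x).base q ∈ Set.range (X.fromSpecStalk x).base := ⟨_, rfl⟩
    rw [hrange] at this
    exact specializes_iff_mem_closure.mp this
  have heq := h _ c₁ _ c₂ (m _) (m _)
  have hpt : (X.fromSpecStalk x).base ⟨q₁, hq₁.1.1⟩ = (X.fromSpecStalk x).base ⟨q₂, hq₂.1.1⟩ := by
    have h1 : IsGenericPoint ((X.fromSpecStalk x).base ⟨q₁, hq₁.1.1⟩)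
      (closure {(X.fromSpecStalk x).base ⟨q₁, hq₁.1.1⟩}) := rfl
    have h2 : IsGenericPoint ((X.fromSpecStalk x).base ⟨q₂, hq₂.1.1⟩)
      (closure {(X.fromSpecStalk x).base ⟨q₁, hq₁.1.1⟩}) := by rw [heq]; rfl
    exact h1.eq h2
  have := (X.fromSpecStalk x).isEmbedding.injective hpt
  exact congrArg PrimeSpectrum.asIdeal this

end Groth.Agent.Lib.Helper70.GrpIrrA
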