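import Mathlib
import Groth.Agent.Lib.Helper70.GrpIrrA
import Groth.Agent.Lib.Helper12.GeomAlgClosed

/-!
# Group schemes over an algebraically closed field: one irreducible component through `e`
-/

set_option autoImplicit false

namespace Groth.Agent.Lib.Helper70.GrpIrrB

universe u

open AlgebraicGeometry CategoryTheory Limits TopologicalSpace MonoidalCategory
  CartesianMonoidalCategory MonObj GrpObj
open Groth.Agent.Lib.Helper70.GrpIrrA

/-- a closed irreducible subset carries an irreducible closed subscheme structure. -/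
theorem exists_closedSubscheme {X : Scheme.{u}} (Z : Set X) (hZ : IsClosed Z)
    (hirr : IsIrreducible Z) :
    ∃ (Z' : Scheme.{u}) (i : Z' ⟶ X), IsClosedImmersion i ∧ Set.range i = Z ∧
      IrreducibleSpace Z' := by
  let I := Scheme.IdealSheafData.vanishingIdeal ⟨Z, hZ⟩
  have hr : Set.range I.subschemeι = Z := by
    rw [Scheme.IdealSheafData.range_subschemeι, Scheme.IdealSheafData.coe_support_vanishingIdeal]
    rfl
  refine ⟨I.subscheme, I.subschemeι, inferInstance, hr, ?_⟩
  have e := I.subschemeι.isEmbedding.toHomeomorph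
  rw [e.irreducibleSpace_iff, hr]
  exact Subtype.irreducibleSpace hirr

theorem uniqueComp_unit_of_isAlgClosed (k : Type u) [Field k] [IsAlgClosed k]
    (G : Over (Spec (CommRingCat.of k))) [GrpObj G] :
    UniqueComp G.left (η[G].left (IsLocalRing.closedPoint k)) := by
  intro Z₁ hZ₁ Z₂ hZ₂ h₁ h₂
  obtain ⟨Z₁', i₁, _, hr₁, _⟩ := exists_closedSubscheme Z₁
    (isClosed_of_mem_irreducibleComponents _ hZ₁) hZ₁.1
  obtain ⟨Z₂', i₂, _, hr₂, _⟩ := exists_closedSubscheme Z₂
    (isClosed_of_mem_irreducibleComponents _ hZ₂) hZ₂.1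
  have : GeometricallyIrreducible (i₁ ≫ G.hom) :=
    Groth.Agent.Lib.Helper12.GeomAlgClosed.geometricallyIrreducible_of_irreducibleSpace _
  have : UniversallyOpen (i₁ ≫ G.hom) := inferInstance
  have : IrreducibleSpace ↥(pullback (i₁ ≫ G.hom) (i₂ ≫ G.hom)) := inferInstance
  let j : pullback (i₁ ≫ G.hom) (i₂ ≫ G.hom) ⟶ pullback G.hom G.hom :=
    pullback.map _ _ _ _ i₁ i₂ (𝟙 _) (by simp) (by simp)
  have hj : Set.range j = (pullback.fst G.hom G.hom) ⁻¹' Z₁ ∩ (pullback.snd G.hom G.hom) ⁻¹' Z₂ := by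
    rw [Scheme.Pullback.range_map, hr₁, hr₂]
  let W : Set G.left := μ[G].left '' Set.range j
  have hW : IsIrreducible (closure W) := by
    apply IsIrreducible.closure
    apply IsIrreducible.image _ _ μ[G].left.continuous.continuousOn
    rw [← Set.image_univ]
    exact (IrreducibleSpace.isIrreducible_univ _).image _ j.continuous.continuousOn
  have hpt : ∀ z : G.left, η[G].left ((toUnit G).left z) = η[G].left (IsLocalRing.closedPoint k) :=
    fun z => congrArg _ (@Subsingleton.elim (Spec (CommRingCat.of k)) inferInstance _ _)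
  have s1 : Z₁ ⊆ closure W := by
    intro z hz
    apply subset_closure
    refine ⟨(lift (𝟙 G) (toUnit G ≫ η[G])).left z, ?_, ?_⟩
    · rw [hj]
      constructor
      · show (pullback.fst G.hom G.hom) ((lift (𝟙 G) (toUnit G ≫ η[G])).left z) ∈ Z₁
        rw [← Over.fst_left, ← Scheme.Hom.comp_apply, ← Over.comp_left, lift_fst]
        exact hz
      · show (pullback.snd G.hom G.hom) ((lift (𝟙 G) (toUnit G ≫ η[G])).left z) ∈ Z₂
        rw [← Over.snd_left, ← Scheme.Hom.comp_apply, ← Over.comp_left, lift_snd, Over.comp_left,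
          Scheme.Hom.comp_apply, hpt]
        exact h₂
    · rw [← Scheme.Hom.comp_apply, ← Over.comp_left, MonObj.lift_comp_one_right]
      rfl
  have s2 : Z₂ ⊆ closure W := by
    intro z hz
    apply subset_closure
    refine ⟨(lift (toUnit G ≫ η[G]) (𝟙 G)).left z, ?_, ?_⟩
    · rw [hj]
      constructor
      · show (pullback.fst G.hom G.hom) ((lift (toUnit G ≫ η[G]) (𝟙 G)).left z) ∈ Z₁
        rw [← Over.fst_left, ← Scheme.Hom.comp_apply, ← Over.comp_left, lift_fst, Over.comp_left,
          Scheme.Hom.comp_apply, hpt]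
        exact h₁
      · show (pullback.snd G.hom G.hom) ((lift (toUnit G ≫ η[G]) (𝟙 G)).left z) ∈ Z₂
        rw [← Over.snd_left, ← Scheme.Hom.comp_apply, ← Over.comp_left, lift_snd]
        exact hz
    · rw [← Scheme.Hom.comp_apply, ← Over.comp_left, MonObj.lift_comp_one_left]
      rfl
  rw [subset_antisymm s1 (hZ₁.2 hW s1), subset_antisymm s2 (hZ₂.2 hW s2)]

end Groth.Agent.Lib.Helper70.GrpIrrB
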