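import Mathlib

set_option autoImplicit false
universe u
open CategoryTheory CategoryTheory.Limits MonoidalCategory CartesianMonoidalCategory MonObj GrpObj AlgebraicGeometry

namespace Groth.Agent.Lib.Helper70.GrpTrans

variable {S : Scheme.{u}}

/-- the "twisted translation" automorphism of `T × G` given by `(t, x) ↦ (t, x⁻¹ * g t)`. -/
noncomputable def twist {T G : Over S} [GrpObj G] (gT : T ⟶ G) : T ⊗ G ≅ T ⊗ G where
  hom := lift (fst T G) ((snd T G)⁻¹ * (fst T G ≫ gT))
  inv := lift (fst T G) ((fst T G ≫ gT) * (snd T G)⁻¹)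
  hom_inv_id := by
    apply CartesianMonoidalCategory.hom_ext
    · simp
    · simp only [comp_lift, lift_fst, lift_snd, MonObj.comp_mul, GrpObj.comp_inv, Category.id_comp]
      rw [← Category.assoc, lift_fst]
      group
  inv_hom_id := by
    apply CartesianMonoidalCategory.hom_ext
    · simp
    · simp only [comp_lift, lift_fst, lift_snd, MonObj.comp_mul, GrpObj.comp_inv, Category.id_comp]
      rw [← Category.assoc, lift_fst]
      group

theorem twist_hom_snd {T G : Over S} [GrpObj G] (gT : T ⟶ G) :
    (twist gT).hom ≫ snd T G = (snd T G)⁻¹ * (fst T G ≫ gT) := by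
  simp [twist]

/-- `(x, x⁻¹ * g t)` multiplies to `g t`. -/
theorem lift_twist_mul {T G : Over S} [GrpObj G] (gT : T ⟶ G) :
    lift (snd T G) ((twist gT).hom ≫ snd T G) ≫ μ[G] = fst T G ≫ gT := by
  rw [twist_hom_snd, ← Hom.mul_def]
  group

/-- the product of two dense opens of a group scheme over a field is everything. -/
theorem mul_image_dense_opens (k : Type u) [Field k] (G : Over (Spec (CommRingCat.of k))) [GrpObj G]
    (U V : G.left.Opens) (hU : Dense (U : Set G.left)) (hV : Dense (V : Set G.left)) :
    μ[G].left '' ((fst G G).left ⁻¹' (U : Set G.left) ∩ (snd G G).left ⁻¹' (V : Set G.left)) =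
      Set.univ := by
  rw [Set.eq_univ_iff_forall]
  intro g
  let T : Over (Spec (CommRingCat.of k)) := Over.mk (G.left.fromSpecResidueField g ≫ G.hom)
  let gT : T ⟶ G := Over.homMk (G.left.fromSpecResidueField g) rfl
  let φ := twist gT
  have hopen : IsOpenMap (snd T G).left := by
    rw [Over.snd_left]
    have : UniversallyOpen T.hom := inferInstance
    exact (pullback.snd T.hom G.hom).isOpenMap
  have hA : Dense ((snd T G).left ⁻¹' (U : Set G.left)) := hU.preimage hopen
  have hB0 : Dense ((snd T G).left ⁻¹' (V : Set G.left)) := hV.preimage hopen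
  have hB : Dense (φ.hom.left ⁻¹' ((snd T G).left ⁻¹' (V : Set G.left))) := by
    have : IsIso φ.hom.left := inferInstance
    exact hB0.preimage φ.hom.left.homeomorph.isOpenMap
  have hAo : IsOpen ((snd T G).left ⁻¹' (U : Set G.left)) := U.2.preimage (snd T G).left.continuous
  have hne : Nonempty (T ⊗ G).left := by
    have : Nonempty (Spec (G.left.residueField g)) := inferInstance
    obtain ⟨t⟩ := this
    exact ⟨(lift (𝟙 T) gT).left t⟩
  obtain ⟨p, hpA, hpB⟩ := (hA.inter_of_isOpen_left hB hAo).nonempty
  refine ⟨(lift (snd T G) (φ.hom ≫ snd T G)).left p, ⟨?_, ?_⟩, ?_⟩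
  · change (fst G G).left ((lift (snd T G) (φ.hom ≫ snd T G)).left p) ∈ (U : Set G.left)
    rw [← Scheme.Hom.comp_apply, ← Over.comp_left, lift_fst]
    exact hpA
  · change (snd G G).left ((lift (snd T G) (φ.hom ≫ snd T G)).left p) ∈ (V : Set G.left)
    rw [← Scheme.Hom.comp_apply, ← Over.comp_left, lift_snd, Over.comp_left, Scheme.Hom.comp_apply]
    exact hpB
  · rw [← Scheme.Hom.comp_apply, ← Over.comp_left, lift_twist_mul, Over.comp_left,
      Scheme.Hom.comp_apply]
    exact Scheme.fromSpecResidueField_apply _ _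

end Groth.Agent.Lib.Helper70.GrpTrans
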