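import Mathlib
import Groth.Agent.Lib.Helper70.GrpIrrB
import Groth.Agent.Lib.Helper70.GrpTrans

/-!
# Group schemes over a field: one irreducible component through every point
-/

set_option autoImplicit false

namespace Groth.Agent.Lib.Helper70.GrpIrrC

universe u

open AlgebraicGeometry CategoryTheory Limits TopologicalSpace MonoidalCategory
  CartesianMonoidalCategory MonObj GrpObj
open Groth.Agent.Lib.Helper70.GrpIrrA Groth.Agent.Lib.Helper70.GrpIrrB
open scoped Obj

section BC

variable (k K : Type u) [Field k] [Field K] [Algebra k K]

/-- the base change morphism `Spec K ⟶ Spec k`. -/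
noncomputable abbrev bc : Spec (CommRingCat.of K) ⟶ Spec (CommRingCat.of k) :=
  Spec.map (CommRingCat.ofHom (algebraMap k K))

instance flat_bc : Flat (bc k K) := by
  rw [HasRingHomProperty.Spec_iff (P := @Flat)]
  exact (RingHom.flat_algebraMap_iff).mpr inferInstance

variable {k} (G : Over (Spec (CommRingCat.of k))) [GrpObj G]

/-- the base change of a group scheme, as a group object over `Spec K`. -/
noncomputable abbrev GK : Over (Spec (CommRingCat.of K)) := (Over.pullback (bc k K)).obj G

theorem map_unit_fst :
    ((Over.pullback (bc k K)).map η[G]).left ≫ pullback.fst G.hom (bc k K) =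
      pullback.fst _ _ ≫ η[G].left := by
  exact pullback.lift_fst _ _ _

theorem unit_fst_apply (p : (𝟙_ (Over (Spec (CommRingCat.of K)))).left)
    (q : (𝟙_ (Over (Spec (CommRingCat.of k)))).left) :
    (pullback.fst G.hom (bc k K)) (η[GK K G].left p) = η[G].left q := by
  rw [Functor.obj.η_def, Over.comp_left, Scheme.Hom.comp_apply, ← Scheme.Hom.comp_apply,
    map_unit_fst, Scheme.Hom.comp_apply]
  exact congrArg _ (@Subsingleton.elim (Spec (CommRingCat.of k)) inferInstance _ _)

theorem generalizingMap_fst : GeneralizingMap (pullback.fst G.hom (bc k K)) :=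
  Flat.generalizingMap _

end BC

/-- at most one irreducible component of a group scheme over a field passes through `e`. -/
theorem uniqueComp_unit {k : Type u} [Field k] (G : Over (Spec (CommRingCat.of k))) [GrpObj G]
    (q : (𝟙_ (Over (Spec (CommRingCat.of k)))).left) : UniqueComp G.left (η[G].left q) := by
  let K := AlgebraicClosure k
  have h := uniqueComp_unit_of_isAlgClosed K (GK K G)
  have h' := h.of_generalizingMap (pullback.fst G.hom (bc k K)).continuous (generalizingMap_fst K G)
  rwa [unit_fst_apply K G _ q] at h'

section Translation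

variable {K : Type u} [Field K] (G : Over (Spec (CommRingCat.of K))) [GrpObj G]

/-- translation by a rational point `g`, normalised so that `e ↦ g`. -/
noncomputable def transl (g : 𝟙_ (Over (Spec (CommRingCat.of K))) ⟶ G) : G ⟶ G :=
  (λ_ G).inv ≫ (GrpTrans.twist g).hom ≫ (λ_ G).hom

instance (g : 𝟙_ (Over (Spec (CommRingCat.of K))) ⟶ G) : IsIso (transl G g) := by
  unfold transl; infer_instance

theorem unit_transl (g : 𝟙_ (Over (Spec (CommRingCat.of K))) ⟶ G) : η[G] ≫ transl G g = g := by
  unfold transl
  rw [leftUnitor_hom, GrpTrans.twist_hom_snd, MonObj.comp_mul, MonObj.comp_mul, GrpObj.comp_inv,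
    GrpObj.comp_inv, leftUnitor_inv_snd, leftUnitor_inv_fst_assoc]
  have h1 : η[G] ≫ toUnit G = 𝟙 _ := toUnit_unique _ _
  rw [reassoc_of% h1, Category.comp_id]
  have h2 : (η[G] : 𝟙_ _ ⟶ G) = 1 := by
    rw [Hom.one_def, toUnit_unique (toUnit (𝟙_ _)) (𝟙 _), Category.id_comp]
  rw [h2]; group

/-- at most one irreducible component passes through a rational point. -/
theorem uniqueComp_rational (g : 𝟙_ (Over (Spec (CommRingCat.of K))) ⟶ G)
    (q : (𝟙_ (Over (Spec (CommRingCat.of K)))).left) : UniqueComp G.left (g.left q) := by
  have h := uniqueComp_unit G q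
  have : IsIso (transl G g).left :=
    (inferInstance : IsIso ((Over.forget _).map (transl G g)))
  have h' := h.of_homeomorph (transl G g).left.homeomorph
  have e : (transl G g).left.homeomorph (η[G].left q) = g.left q := by
    show (transl G g).left (η[G].left q) = g.left q
    rw [← Scheme.Hom.comp_apply, ← Over.comp_left, unit_transl]
  rwa [e] at h'

end Translation


section Point

variable {k : Type u} [Field k] (G : Over (Spec (CommRingCat.of k))) [GrpObj G]

theorem uniqueComp_of_fieldPoint (K : Type u) [Field K] [Algebra k K]
    (s : Spec (CommRingCat.of K) ⟶ G.left) (hs : s ≫ G.hom = bc k K)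
    (p : Spec (CommRingCat.of K)) : UniqueComp G.left (s p) := by
  let g : 𝟙_ (Over (Spec (CommRingCat.of K))) ⟶ GK K G :=
    Over.homMk (pullback.lift s (𝟙 _) (by rw [hs]; simp)) (pullback.lift_snd _ _ _)
  have h := uniqueComp_rational (GK K G) g p
  have h' := h.of_generalizingMap (pullback.fst G.hom (bc k K)).continuous
    (generalizingMap_fst K G)
  have e : (pullback.fst G.hom (bc k K)) (g.left p) = s p := by
    rw [← Scheme.Hom.comp_apply]
    have : g.left ≫ pullback.fst G.hom (bc k K) = s := pullback.lift_fst _ _ _
    rw [this]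
  rwa [e] at h'

/-- at most one irreducible component of a group scheme over a field passes through any point. -/
theorem uniqueComp (x : G.left) : UniqueComp G.left x := by
  let K : Type u := G.left.residueField x
  let φ : CommRingCat.of k ⟶ G.left.residueField x :=
    Spec.preimage (G.left.fromSpecResidueField x ≫ G.hom)
  letI : Algebra k K := φ.hom.toAlgebra
  have hs : G.left.fromSpecResidueField x ≫ G.hom = bc k K := by
    rw [← Spec.map_preimage (G.left.fromSpecResidueField x ≫ G.hom)]
    rfl
  have h := uniqueComp_of_fieldPoint G K (G.left.fromSpecResidueField x) hs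
    (IsLocalRing.closedPoint K)
  rwa [Scheme.fromSpecResidueField_apply] at h

end Point

end Groth.Agent.Lib.Helper70.GrpIrrC
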