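import Mathlib
import Groth.Agent.Lib.Helper70.GrpTrans

set_option autoImplicit false
universe u
open CategoryTheory CategoryTheory.Limits MonoidalCategory CartesianMonoidalCategory MonObj GrpObj AlgebraicGeometry

namespace Groth.Agent.Lib.Helper70.GrpTrans

/-- the "box" `U × V` of two affine opens of a scheme over an affine base is compact. -/
theorem isCompact_box {S : Scheme.{u}} [IsAffine S] (G : Over S) (U V : G.left.Opens)
    (hU : IsAffineOpen U) (hV : IsAffineOpen V) :
    IsCompact ((fst G G).left ⁻¹' (U : Set G.left) ∩ (snd G G).left ⁻¹' (V : Set G.left)) := by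
  have : IsAffine (U : Scheme) := hU
  have : IsAffine (V : Scheme) := hV
  have h := Scheme.Pullback.range_map (U.ι ≫ G.hom) (V.ι ≫ G.hom) G.hom G.hom U.ι V.ι (𝟙 S)
    (by simp) (by simp)
  rw [Scheme.Opens.range_ι, Scheme.Opens.range_ι] at h
  rw [Over.fst_left, Over.snd_left, ← h]
  exact isCompact_range (Scheme.Hom.continuous _)

/-- an irreducible group scheme over a field is quasi-compact. -/
theorem compactSpace_of_irreducibleSpace (K : Type u) [Field K] (G : Over (Spec (CommRingCat.of K)))
    [GrpObj G] [IrreducibleSpace G.left] : CompactSpace G.left := by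
  obtain ⟨x⟩ := (inferInstance : Nonempty G.left)
  obtain ⟨U, hU, hxU, -⟩ := exists_isAffineOpen_mem_and_subset
    (X := G.left) (x := x) (U := ⊤) trivial
  have hdense : Dense (U : Set G.left) := U.2.dense ⟨x, hxU⟩
  have h := mul_image_dense_opens K G U U hdense hdense
  constructor
  rw [← h]
  exact (isCompact_box G U U hU hU).image μ[G].left.continuous

end Groth.Agent.Lib.Helper70.GrpTrans
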