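import Mathlib
import Groth.Agent.Lib.Helper70.GrpTransB

set_option autoImplicit false
universe u
open CategoryTheory CategoryTheory.Limits MonoidalCategory CartesianMonoidalCategory MonObj GrpObj AlgebraicGeometry

namespace Groth.Agent.Lib.Helper70.GrpTrans

variable {K : Type u} [Field K]

theorem isOpenMap_snd_left (X Y : Over (Spec (CommRingCat.of K))) : IsOpenMap (snd X Y).left := by
  rw [Over.snd_left]
  have : UniversallyOpen X.hom := inferInstance
  exact (pullback.snd X.hom Y.hom).isOpenMap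

/-- closure principle: a closed condition on `X × Y` which holds over `D ⊆ Y` holds over the
closure of `D`. -/
theorem preimage_closure_subset {X Y G : Over (Spec (CommRingCat.of K))} (F : X ⊗ Y ⟶ G)
    (D : Set Y.left) (Zc : Set G.left) (hZc : IsClosed Zc)
    (h : (snd X Y).left ⁻¹' D ⊆ F.left ⁻¹' Zc) :
    (snd X Y).left ⁻¹' closure D ⊆ F.left ⁻¹' Zc := by
  rw [(isOpenMap_snd_left X Y).preimage_closure_eq_closure_preimage (snd X Y).left.continuous]
  exact closure_minimal h (hZc.preimage F.left.continuous)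

theorem range_id_tensorHom_left (X : Over (Spec (CommRingCat.of K)))
    {H G : Over (Spec (CommRingCat.of K))} (i : H ⟶ G) :
    Set.range (𝟙 X ⊗ₘ i).left = (snd X G).left ⁻¹' Set.range i.left := by
  rw [Over.tensorHom_left, Scheme.Pullback.range_map, Over.snd_left]
  simp

theorem range_tensorHom_left {H G : Over (Spec (CommRingCat.of K))} (i : H ⟶ G) :
    Set.range (i ⊗ₘ i).left =
      (fst G G).left ⁻¹' Set.range i.left ∩ (snd G G).left ⁻¹' Set.range i.left := by
  rw [Over.tensorHom_left, Scheme.Pullback.range_map, Over.snd_left, Over.fst_left]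

section

variable {H G : Over (Spec (CommRingCat.of K))} (i : H ⟶ G)
  (m' : G ⊗ G ⟶ G) (m'H : H ⊗ H ⟶ H) (hm : (i ⊗ₘ i) ≫ m' = m'H ≫ i)

include hm in
theorem N1 : (snd H G).left ⁻¹' closure (Set.range i.left) ⊆
    ((i ⊗ₘ 𝟙 G) ≫ m').left ⁻¹' closure (Set.range i.left) := by
  apply preimage_closure_subset _ _ _ isClosed_closure
  rw [← range_id_tensorHom_left]
  rintro _ ⟨v, rfl⟩
  apply subset_closure
  refine ⟨m'H.left v, ?_⟩
  rw [← Scheme.Hom.comp_apply, ← Scheme.Hom.comp_apply, ← Over.comp_left, ← Over.comp_left,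
    ← hm, ← Category.assoc, tensorHom_comp_tensorHom, Category.id_comp, Category.comp_id]

include hm in
theorem N2 {T : Over (Spec (CommRingCat.of K))} (gT : T ⟶ G)
    (hg : ∀ t, gT.left t ∈ closure (Set.range i.left)) :
    (snd T G).left ⁻¹' closure (Set.range i.left) ⊆
      (lift (snd T G) (fst T G ≫ gT) ≫ m').left ⁻¹' closure (Set.range i.left) := by
  apply preimage_closure_subset _ _ _ isClosed_closure
  rw [← range_id_tensorHom_left]
  rintro _ ⟨r, rfl⟩
  let ρ : T ⊗ H ⟶ H ⊗ G := lift (snd T H) (fst T H ≫ gT)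
  have e : (𝟙 T ⊗ₘ i) ≫ lift (snd T G) (fst T G ≫ gT) ≫ m' = ρ ≫ (i ⊗ₘ 𝟙 G) ≫ m' := by
    rw [← Category.assoc, ← Category.assoc]
    congr 1
    apply CartesianMonoidalCategory.hom_ext <;> simp [ρ]
  change (lift (snd T G) (fst T G ≫ gT) ≫ m').left ((𝟙 T ⊗ₘ i).left r) ∈
    closure (Set.range i.left)
  rw [← Scheme.Hom.comp_apply, ← Over.comp_left, e, Over.comp_left, Scheme.Hom.comp_apply]
  apply N1 i m' m'H hm
  change (snd H G).left (ρ.left r) ∈ closure (Set.range i.left)
  rw [← Scheme.Hom.comp_apply, ← Over.comp_left]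
  have : ρ ≫ snd H G = fst T H ≫ gT := by simp [ρ]
  rw [this, Over.comp_left, Scheme.Hom.comp_apply]
  exact hg _

end

/-- the image of a homomorphism of group schemes over a field, if locally closed, is closed. -/
theorem isClosed_range_of_isMonHom {H G : Over (Spec (CommRingCat.of K))} [GrpObj H] [GrpObj G]
    (i : H ⟶ G) [IsMonHom i] (hlc : IsLocallyClosed (Set.range i.left)) :
    IsClosed (Set.range i.left) := by
  set Z := Set.range i.left with hZ
  rw [← closure_subset_iff_isClosed]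
  intro z hz
  let T : Over (Spec (CommRingCat.of K)) := Over.mk (G.left.fromSpecResidueField z ≫ G.hom)
  let gT : T ⟶ G := Over.homMk (G.left.fromSpecResidueField z) rfl
  have hgTz : ∀ t, gT.left t = z := fun t => Scheme.fromSpecResidueField_apply _ _
  have hgT : ∀ t, gT.left t ∈ closure Z := by
    intro t
    rw [hgTz]; exact hz
  let φ := twist gT
  let a : T ⊗ G ⟶ G := snd T G
  have hm1 : (i ⊗ₘ i) ≫ ((fst G G)⁻¹ * snd G G) = ((fst H H)⁻¹ * snd H H) ≫ i := by
    rw [MonObj.comp_mul, GrpObj.comp_inv, MonObj.mul_comp, GrpObj.inv_comp]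
    simp
  have hm2 : (i ⊗ₘ i) ≫ (snd G G * (fst G G)⁻¹) = (snd H H * (fst H H)⁻¹) ≫ i := by
    rw [MonObj.comp_mul, GrpObj.comp_inv, MonObj.mul_comp, GrpObj.inv_comp]
    simp
  have hφ1 : φ.hom ≫ a = lift (snd T G) (fst T G ≫ gT) ≫ ((fst G G)⁻¹ * snd G G) := by
    rw [twist_hom_snd, MonObj.comp_mul, GrpObj.comp_inv, lift_fst, lift_snd]
  have hφ2 : φ.inv ≫ a = lift (snd T G) (fst T G ≫ gT) ≫ (snd G G * (fst G G)⁻¹) := by
    rw [MonObj.comp_mul, GrpObj.comp_inv, lift_fst, lift_snd]
    simp [φ, a, twist]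
  let C : Set (T ⊗ G).left := a.left ⁻¹' closure Z
  have hC1 : ∀ p ∈ C, φ.hom.left p ∈ C := by
    intro p hp
    change a.left (φ.hom.left p) ∈ closure Z
    rw [← Scheme.Hom.comp_apply, ← Over.comp_left, hφ1]
    exact N2 i _ _ hm1 gT hgT hp
  have hC2 : ∀ p ∈ C, φ.inv.left p ∈ C := by
    intro p hp
    change a.left (φ.inv.left p) ∈ closure Z
    rw [← Scheme.Hom.comp_apply, ← Over.comp_left, hφ2]
    exact N2 i _ _ hm2 gT hgT hp
  have hφφ : ∀ p, φ.hom.left (φ.inv.left p) = p := by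
    intro p
    rw [← Scheme.Hom.comp_apply, ← Over.comp_left, φ.inv_hom_id]
    rfl
  -- the open part
  let O : Set G.left := coborder Z
  have hO : IsOpen O := hlc.isOpen_coborder
  have hZO : O ∩ closure Z = Z := coborder_inter_closure
  let A : Set (T ⊗ G).left := a.left ⁻¹' Z
  have hAC : closure A = C :=
    ((isOpenMap_snd_left T G).preimage_closure_eq_closure_preimage a.left.continuous Z).symm
  have hAsub : A ⊆ C := fun p hp => subset_closure hp
  -- a point of A
  obtain ⟨t⟩ : Nonempty (Spec (G.left.residueField z)) := inferInstance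
  let p₀ : (T ⊗ G).left := (lift (𝟙 T) (toUnit T ≫ η[H] ≫ i)).left t
  have hp₀ : p₀ ∈ A := by
    change a.left ((lift (𝟙 T) (toUnit T ≫ η[H] ≫ i)).left t) ∈ Z
    rw [← Scheme.Hom.comp_apply, ← Over.comp_left, lift_snd, ← Category.assoc, Over.comp_left,
      Scheme.Hom.comp_apply]
    exact ⟨_, rfl⟩
  let p' := φ.inv.left p₀
  have hp'C : p' ∈ closure A := by
    rw [hAC]
    exact hC2 _ (hAsub hp₀)
  have hO₂ : IsOpen (φ.hom.left ⁻¹' (a.left ⁻¹' O)) :=
    (hO.preimage a.left.continuous).preimage φ.hom.left.continuous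
  have hp'O : p' ∈ φ.hom.left ⁻¹' (a.left ⁻¹' O) := by
    change a.left (φ.hom.left (φ.inv.left p₀)) ∈ O
    rw [hφφ]
    have : a.left p₀ ∈ Z := hp₀
    rw [← hZO] at this
    exact this.1
  obtain ⟨p, hpO, hpA⟩ := mem_closure_iff.mp hp'C _ hO₂ hp'O
  have hφpA : a.left (φ.hom.left p) ∈ Z := by
    rw [← hZO]
    exact ⟨hpO, hC1 p (hAsub hpA)⟩
  -- the point of `G × G`
  let w := (lift a (φ.hom ≫ a)).left p
  have hw1 : (fst G G).left w ∈ Z := by
    change (fst G G).left ((lift a (φ.hom ≫ a)).left p) ∈ Z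
    rw [← Scheme.Hom.comp_apply, ← Over.comp_left, lift_fst]
    exact hpA
  have hw2 : (snd G G).left w ∈ Z := by
    change (snd G G).left ((lift a (φ.hom ≫ a)).left p) ∈ Z
    rw [← Scheme.Hom.comp_apply, ← Over.comp_left, lift_snd, Over.comp_left, Scheme.Hom.comp_apply]
    exact hφpA
  have hw : w ∈ Set.range (i ⊗ₘ i).left := by
    rw [range_tensorHom_left]
    exact ⟨hw1, hw2⟩
  obtain ⟨v, hv⟩ := hw
  have hμ : μ[G].left w = z := by
    change μ[G].left ((lift a (φ.hom ≫ a)).left p) = z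
    rw [← Scheme.Hom.comp_apply, ← Over.comp_left, lift_twist_mul, Over.comp_left,
      Scheme.Hom.comp_apply]
    exact hgTz _
  refine ⟨μ[H].left v, ?_⟩
  rw [← hμ, ← hv, ← Scheme.Hom.comp_apply, ← Scheme.Hom.comp_apply, ← Over.comp_left,
    ← Over.comp_left, IsMonHom.mul_hom]

/-- a homomorphism of group schemes over a field which is an immersion is a closed immersion. -/
theorem isClosedImmersion_of_isImmersion {H G : Over (Spec (CommRingCat.of K))} [GrpObj H] [GrpObj G]
    (i : H ⟶ G) [IsMonHom i] [IsImmersion i.left] : IsClosedImmersion i.left :=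
  IsClosedImmersion.of_isPreimmersion _
    (isClosed_range_of_isMonHom i i.left.isLocallyClosed_range)

end Groth.Agent.Lib.Helper70.GrpTrans
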