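import Mathlib
import Groth.Agent.Lib.Helper70.GrpIrrC
import Groth.Agent.Lib.Helper50.IrredCompBC
import Groth.Agent.H8.GeomIrred

/-!
# The irreducible component through `e` of a group scheme over a field is geometrically irreducible
-/

set_option autoImplicit false

namespace Groth.Agent.Lib.Helper70.GrpIrrD

universe u

open AlgebraicGeometry CategoryTheory Limits TopologicalSpace MonoidalCategory
  CartesianMonoidalCategory MonObj GrpObj
open Groth.Agent.Lib.Helper70.GrpIrrA Groth.Agent.Lib.Helper70.GrpIrrB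
  Groth.Agent.Lib.Helper70.GrpIrrC
open scoped Obj

theorem isIrreducible_of_image {P Q : Type*} [TopologicalSpace P] [TopologicalSpace Q] {j : P → Q}
    (hj : Topology.IsInducing j) {T : Set P} (h : IsIrreducible (j '' T)) : IsIrreducible T := by
  refine ⟨?_, ?_⟩
  · obtain ⟨_, t, ht, rfl⟩ := h.1
    exact ⟨t, ht⟩
  · rintro u v hu hv ⟨x, hxT, hxu⟩ ⟨y, hyT, hyv⟩
    obtain ⟨u', hu', rfl⟩ := hj.isOpen_iff.mp hu
    obtain ⟨v', hv', rfl⟩ := hj.isOpen_iff.mp hv
    obtain ⟨_, ⟨t, htT, rfl⟩, h1, h2⟩ := h.2 u' v' hu' hv' ⟨j x, ⟨x, hxT, rfl⟩, hxu⟩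
      ⟨j y, ⟨y, hyT, rfl⟩, hyv⟩
    exact ⟨t, htT, h1, h2⟩

theorem irreducibleSpace_of_top {P Zs Gk G : Type*} [TopologicalSpace P] [TopologicalSpace Zs]
    [TopologicalSpace Gk] [TopologicalSpace G] [Nonempty P]
    (ρ : P → Zs) (j : P → Gk) (π : Gk → G) (incl : Zs → G)
    (hcomm : ∀ p, π (j p) = incl (ρ p))
    (hj : Topology.IsEmbedding j) (hjr : Set.range j = π ⁻¹' Set.range incl)
    (hπ : Continuous π)
    (hρ : ∀ W ∈ irreducibleComponents P, ρ '' W = Set.univ)
    (hcomp : Set.range incl ∈ irreducibleComponents G)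
    (e' : Gk) (he' : ∀ y, π y = π e' → y = e') (hmem : π e' ∈ Set.range incl)
    (hu : UniqueComp Gk e') : IrreducibleSpace P := by
  have step1 : ∀ W ∈ irreducibleComponents P, ∃ Z' ∈ irreducibleComponents Gk,
      e' ∈ Z' ∧ j '' W = Z' := by
    intro W hW
    obtain ⟨ez, hez⟩ := hmem
    have hez' : ez ∈ ρ '' W := by rw [hρ W hW]; trivial
    obtain ⟨w, hwW, hw⟩ := hez'
    have hjw : j w = e' := he' _ (by rw [hcomm, hw, hez])
    have hirr : IsIrreducible (j '' W) := hW.1.image j hj.continuous.continuousOn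
    obtain ⟨Z', hZ', hsub⟩ := exists_mem_irreducibleComponents_subset_of_isIrreducible _ hirr
    have heZ' : e' ∈ Z' := hjw ▸ hsub ⟨w, hwW, rfl⟩
    refine ⟨Z', hZ', heZ', ?_⟩
    -- `Z' ⊆ range j`
    have hirr2 : IsIrreducible (closure (π '' Z')) := (hZ'.1.image π hπ.continuousOn).closure
    have hsub2 : Set.range incl ⊆ closure (π '' Z') := by
      rintro _ ⟨z, rfl⟩
      apply subset_closure
      have hz : z ∈ ρ '' W := by rw [hρ W hW]; trivial
      obtain ⟨w', hw'W, rfl⟩ := hz
      exact ⟨j w', hsub ⟨w', hw'W, rfl⟩, hcomm w'⟩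
    have hle := hcomp.2 hirr2 hsub2
    have hZ'r : Z' ⊆ Set.range j := by
      rw [hjr]
      intro z hz
      exact hle (subset_closure ⟨z, hz, rfl⟩)
    have himg : j '' (j ⁻¹' Z') = Z' := Set.image_preimage_eq_of_subset hZ'r
    have hT : IsIrreducible (j ⁻¹' Z') := isIrreducible_of_image hj.isInducing (by rw [himg]; exact hZ'.1)
    have hWT : W ⊆ j ⁻¹' Z' := fun w hw => hsub ⟨w, hw, rfl⟩
    have hTW := hW.2 hT hWT
    rw [← himg, subset_antisymm hWT hTW]
  have step2 : ∀ W₁ ∈ irreducibleComponents P, ∀ W₂ ∈ irreducibleComponents P, W₁ = W₂ := by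
    intro W₁ h₁ W₂ h₂
    obtain ⟨Z₁, hZ₁, he₁, hj₁⟩ := step1 W₁ h₁
    obtain ⟨Z₂, hZ₂, he₂, hj₂⟩ := step1 W₂ h₂
    have := hu Z₁ hZ₁ Z₂ hZ₂ he₁ he₂
    rw [← hj₁, ← hj₂] at this
    exact hj.injective.image_injective this
  obtain ⟨p⟩ := ‹Nonempty P›
  have huniv : irreducibleComponent p = Set.univ := by
    ext y
    simp only [Set.mem_univ, iff_true]
    rw [step2 _ (irreducibleComponent_mem_irreducibleComponents p) _
      (irreducibleComponent_mem_irreducibleComponents y)]
    exact mem_irreducibleComponent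
  rw [irreducibleSpace_def]
  show IsIrreducible (Set.univ : Set P)
  rw [← huniv]
  exact isIrreducible_irreducibleComponent

section Fibre

variable {k : Type u} [Field k] (K : Type u) [Field K] [Algebra k K]
  (G : Over (Spec (CommRingCat.of k))) [GrpObj G]

theorem fibre_unit_subsingleton (q : (𝟙_ (Over (Spec (CommRingCat.of k)))).left)
    (y₁ y₂ : (GK K G).left)
    (h₁ : (pullback.fst G.hom (bc k K)) y₁ = η[G].left q)
    (h₂ : (pullback.fst G.hom (bc k K)) y₂ = η[G].left q) : y₁ = y₂ := by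
  have hr : Set.range (pullback.snd η[G].left (pullback.fst G.hom (bc k K))) =
      (pullback.fst G.hom (bc k K)) ⁻¹' Set.range η[G].left := Scheme.Pullback.range_snd _ _
  have hsub : Subsingleton ↥(pullback η[G].left (pullback.fst G.hom (bc k K))) := by
    let e1 := pullbackRightPullbackFstIso G.hom (bc k K) η[G].left
    have hw : η[G].left ≫ G.hom = 𝟙 _ := Over.w η[G]
    have : IsIso (pullback.snd (η[G].left ≫ G.hom) (bc k K)) := by
      rw [hw]; infer_instance
    have : IsIso (e1.hom ≫ pullback.snd (η[G].left ≫ G.hom) (bc k K)) := inferInstance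
    have hS : Subsingleton ↥(Spec (CommRingCat.of K)) := inferInstance
    exact (e1.hom ≫ pullback.snd (η[G].left ≫ G.hom) (bc k K)).homeomorph.injective.subsingleton
  have m₁ : y₁ ∈ Set.range (pullback.snd η[G].left (pullback.fst G.hom (bc k K))) := by
    rw [hr]; exact ⟨q, h₁.symm⟩
  have m₂ : y₂ ∈ Set.range (pullback.snd η[G].left (pullback.fst G.hom (bc k K))) := by
    rw [hr]; exact ⟨q, h₂.symm⟩
  obtain ⟨a₁, rfl⟩ := m₁
  obtain ⟨a₂, rfl⟩ := m₂
  rw [Subsingleton.elim a₁ a₂]

theorem irreducibleSpace_bc [Algebra.IsAlgebraic k K] (Z : Scheme.{u}) (incl : Z ⟶ G.left)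
    [IsClosedImmersion incl] [IrreducibleSpace Z]
    (hZ : Set.range incl ∈ irreducibleComponents G.left)
    (q : (𝟙_ (Over (Spec (CommRingCat.of k)))).left) (he : η[G].left q ∈ Set.range incl) :
    IrreducibleSpace ↥(pullback (incl ≫ G.hom) (bc k K)) := by
  let ρ := pullback.fst (incl ≫ G.hom) (bc k K)
  let π := pullback.fst G.hom (bc k K)
  let j : pullback (incl ≫ G.hom) (bc k K) ⟶ pullback G.hom (bc k K) :=
    pullback.map _ _ _ _ incl (𝟙 _) (𝟙 _) (by simp) (by simp)
  have hcomm : j ≫ π = ρ ≫ incl := pullback.lift_fst _ _ _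
  have hjsnd : j ≫ pullback.snd G.hom (bc k K) = pullback.snd (incl ≫ G.hom) (bc k K) := by
    rw [pullback.lift_snd, Category.comp_id]
  have hpb : IsPullback j ρ π incl := by
    refine IsPullback.of_right ?_ hcomm (IsPullback.of_hasPullback G.hom (bc k K)).flip
    rw [hjsnd]
    exact (IsPullback.of_hasPullback (incl ≫ G.hom) (bc k K)).flip
  have hjci : IsClosedImmersion j := MorphismProperty.of_isPullback hpb.flip inferInstance
  have hjr : Set.range j = π ⁻¹' Set.range incl := by
    rw [Scheme.Pullback.range_map]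
    simp
    rfl
  have hint : IsIntegralHom (bc k K) :=
    Groth.Agent.Lib.Helper50.isIntegralHom_specMap_of_isAlgebraic k K
  have hρint : IsIntegralHom ρ := MorphismProperty.pullback_fst _ _ hint
  have hρflat : Flat ρ := MorphismProperty.pullback_fst _ _ (inferInstance : Flat (bc k K))
  have hρ : ∀ W ∈ irreducibleComponents ↥(pullback (incl ≫ G.hom) (bc k K)),
      ρ '' W = Set.univ := by
    intro W hW
    have := Groth.Agent.Lib.Helper50.image_mem_irreducibleComponents_of_flat_of_isClosedMap ρ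
      ρ.isClosedMap hW
    rw [irreducibleComponents_eq_singleton] at this
    exact this
  have hsurj : Surjective ρ := MorphismProperty.pullback_fst _ _
    (⟨fun x => ⟨(⊥ : PrimeSpectrum K), Subsingleton.elim _ _⟩⟩ : Surjective (bc k K))
  have hne : Nonempty ↥(pullback (incl ≫ G.hom) (bc k K)) := by
    obtain ⟨z⟩ := (inferInstance : Nonempty Z)
    obtain ⟨p, -⟩ := ρ.surjective z
    exact ⟨p⟩
  let p0 : (𝟙_ (Over (Spec (CommRingCat.of K)))).left := (⊥ : PrimeSpectrum K)
  refine irreducibleSpace_of_top ρ j π incl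
    (fun p => by rw [← Scheme.Hom.comp_apply, hcomm, Scheme.Hom.comp_apply])
    j.isEmbedding hjr π.continuous hρ hZ (η[GK K G].left p0) ?_ ?_ (uniqueComp_unit (GK K G) p0)
  · intro y hy
    rw [unit_fst_apply K G p0 q] at hy
    exact fibre_unit_subsingleton K G q y _ hy (unit_fst_apply K G p0 q)
  · rw [unit_fst_apply K G p0 q]
    exact he

end Fibre

end Groth.Agent.Lib.Helper70.GrpIrrD
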