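import Mathlib
import Groth.Agent.S7517
import Groth.Agent.Lib.Helper70.GrpTransC
import Groth.Agent.Lib.Helper70.GrpIrrC
import Groth.Agent.Lib.Helper70.GrpIrrB

/-!
# Connected components of group schemes over a field (no finiteness assumptions), part A

`C0 G` is the irreducible component of `G` through the unit point.  We show that its preimage in
`Y × G` is irreducible for every irreducible `Y`, and deduce that translating by a point of `C0`
does not change the irreducible component ("Lemma S").
-/

set_option autoImplicit false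
universe u
open CategoryTheory CategoryTheory.Limits MonoidalCategory CartesianMonoidalCategory MonObj GrpObj AlgebraicGeometry

namespace Groth.Agent.Lib.Helper70.GrpConnA

open GrpIrrA GrpIrrB GrpIrrC GrpTrans

variable {k : Type u} [Field k]

/-- the unit point of a group scheme over a field. -/
noncomputable def ept (G : Over (Spec (CommRingCat.of k))) [GrpObj G] : G.left :=
  η[G].left (IsLocalRing.closedPoint k)

/-- the irreducible component through the unit point. -/
noncomputable def C0 (G : Over (Spec (CommRingCat.of k))) [GrpObj G] : Set G.left :=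
  irreducibleComponent (ept G)

variable (G : Over (Spec (CommRingCat.of k))) [GrpObj G]

theorem ept_mem_C0 : ept G ∈ C0 G := mem_irreducibleComponent

theorem C0_mem : C0 G ∈ irreducibleComponents G.left :=
  irreducibleComponent_mem_irreducibleComponents _

theorem isClosed_C0 : IsClosed (C0 G) := isClosed_irreducibleComponent

theorem isIrreducible_C0 : IsIrreducible (C0 G) := isIrreducible_irreducibleComponent

/-- every irreducible component through the unit point is `C0`. -/
theorem eq_C0_of_mem {Z : Set G.left} (hZ : Z ∈ irreducibleComponents G.left) (he : ept G ∈ Z) :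
    Z = C0 G :=
  uniqueComp_unit G (IsLocalRing.closedPoint k) Z hZ (C0 G) (C0_mem G) he (ept_mem_C0 G)

/-- every irreducible set containing the unit point is contained in `C0`. -/
theorem subset_C0_of_isIrreducible {A : Set G.left} (hA : IsIrreducible A) (he : ept G ∈ A) :
    A ⊆ C0 G := by
  obtain ⟨Z, hZ, hAZ⟩ := exists_mem_irreducibleComponents_subset_of_isIrreducible A hA
  rw [← eq_C0_of_mem G hZ (hAZ he)]
  exact hAZ

/-- generizations of the unit point lie in `C0`. -/
theorem mem_C0_of_specializes {z : G.left} (h : z ⤳ ept G) : z ∈ C0 G := by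
  have hirr : IsIrreducible (closure {z}) := isIrreducible_singleton.closure
  exact subset_C0_of_isIrreducible G hirr (h.mem_closed isClosed_closure (subset_closure rfl))
    (subset_closure rfl)

theorem exists_closedSubscheme_C0 :
    ∃ (Zs : Scheme.{u}) (incl : Zs ⟶ G.left), IsClosedImmersion incl ∧ Set.range incl = C0 G ∧
      IrreducibleSpace Zs ∧ GeometricallyIrreducible (incl ≫ G.hom) := by
  obtain ⟨Zs, incl, h1, h2, h3⟩ := exists_closedSubscheme (C0 G) (isClosed_C0 G) (isIrreducible_C0 G)
  refine ⟨Zs, incl, h1, h2, h3, ?_⟩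
  exact Groth.Agent.S7517.result k G Zs incl (by rw [h2]; exact C0_mem G)
    (by rw [h2]; exact ept_mem_C0 G)

/-- the preimage of `C0` in `Y × G` is irreducible when `Y` is. -/
theorem isIrreducible_preimage_snd (Y : Over (Spec (CommRingCat.of k))) [IrreducibleSpace Y.left] :
    IsIrreducible ((snd Y G).left ⁻¹' C0 G) := by
  obtain ⟨Zs, incl, _, hr, _, _⟩ := exists_closedSubscheme_C0 G
  have : UniversallyOpen (incl ≫ G.hom) := inferInstance
  have hirr : IrreducibleSpace ↥(pullback Y.hom (incl ≫ G.hom)) := inferInstance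
  let f : pullback Y.hom (incl ≫ G.hom) ⟶ pullback Y.hom G.hom :=
    pullback.map _ _ _ _ (𝟙 _) incl (𝟙 _) (by simp) (by simp)
  have hrange : Set.range f = (snd Y G).left ⁻¹' C0 G := by
    rw [Scheme.Pullback.range_map, Over.snd_left, hr]
    simp
  rw [← hrange, ← Set.image_univ]
  exact (IrreducibleSpace.isIrreducible_univ _).image _ f.continuous.continuousOn

section LemmaS

variable {G} {X : Over (Spec (CommRingCat.of k))} (act : G ⊗ X ⟶ X)

/-- translation of a `T`-family of points of `X` by a `T`-point of `G`. -/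
noncomputable def trans {T : Over (Spec (CommRingCat.of k))} (c : T ⟶ G) : T ⊗ X ⟶ X :=
  lift (fst T X ≫ c) (snd T X) ≫ act

theorem lift_unit_act (one_act : (η[G] ▷ X) ≫ act = (λ_ X).hom)
    {T : Over (Spec (CommRingCat.of k))} (y : T ⟶ X) :
    lift (toUnit T ≫ η[G]) y ≫ act = y := by
  have h : lift (toUnit T ≫ η[G]) y = y ≫ (λ_ X).inv ≫ (η[G] ▷ X) := by
    apply CartesianMonoidalCategory.hom_ext
    · simp only [lift_fst, Category.assoc, whiskerRight_fst, leftUnitor_inv_fst_assoc]
      rw [← Category.assoc]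
      congr 1
      exact toUnit_unique _ _
    · simp
  rw [h, Category.assoc, Category.assoc, one_act, Iso.inv_hom_id, Category.comp_id]

/-- **Lemma S**: translating a point by a point of `C0` does not leave the irreducible
component. -/
theorem lemmaS (one_act : (η[G] ▷ X) ≫ act = (λ_ X).hom)
    {T : Over (Spec (CommRingCat.of k))} (c : T ⟶ G) (hc : ∀ t, c.left t ∈ C0 G)
    (q : (T ⊗ X).left) :
    ∃ Z ∈ irreducibleComponents X.left, (snd T X).left q ∈ Z ∧ (trans act c).left q ∈ Z := by
  let Tq : Over (Spec (CommRingCat.of k)) :=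
    Over.mk ((T ⊗ X).left.fromSpecResidueField q ≫ (T ⊗ X).hom)
  let qT : Tq ⟶ T ⊗ X := Over.homMk ((T ⊗ X).left.fromSpecResidueField q) rfl
  obtain ⟨t₀⟩ : Nonempty (Spec ((T ⊗ X).left.residueField q)) := inferInstance
  have hq : qT.left t₀ = q := Scheme.fromSpecResidueField_apply _ _
  have : IrreducibleSpace Tq.left :=
    inferInstanceAs (IrreducibleSpace (Spec ((T ⊗ X).left.residueField q)))
  let y : Tq ⟶ X := qT ≫ snd T X
  let c' : Tq ⟶ G := qT ≫ fst T X ≫ c
  let ψ : Tq ⊗ G ⟶ X := lift (snd Tq G) (fst Tq G ≫ y) ≫ act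
  have hP := isIrreducible_preimage_snd G Tq
  have hψP : IsIrreducible (ψ.left '' ((snd Tq G).left ⁻¹' C0 G)) :=
    hP.image _ ψ.left.continuous.continuousOn
  obtain ⟨Z, hZ, hsub⟩ := exists_mem_irreducibleComponents_subset_of_isIrreducible _ hψP
  refine ⟨Z, hZ, ?_, ?_⟩
  · -- the point `(t₀, e)`
    let p₁ : (Tq ⊗ G).left := (lift (𝟙 Tq) (toUnit Tq ≫ η[G])).left t₀
    have hp₁ : p₁ ∈ (snd Tq G).left ⁻¹' C0 G := by
      change (snd Tq G).left ((lift (𝟙 Tq) (toUnit Tq ≫ η[G])).left t₀) ∈ C0 G
      rw [← Scheme.Hom.comp_apply, ← Over.comp_left, lift_snd, Over.comp_left,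
        Scheme.Hom.comp_apply]
      have : (toUnit Tq).left t₀ = IsLocalRing.closedPoint k :=
        @Subsingleton.elim (Spec (CommRingCat.of k)) inferInstance _ _
      rw [this]
      exact ept_mem_C0 G
    have e1 : ψ.left p₁ = (snd T X).left q := by
      change ψ.left ((lift (𝟙 Tq) (toUnit Tq ≫ η[G])).left t₀) = _
      rw [← Scheme.Hom.comp_apply, ← Over.comp_left]
      have : lift (𝟙 Tq) (toUnit Tq ≫ η[G]) ≫ ψ = y := by
        change lift (𝟙 Tq) (toUnit Tq ≫ η[G]) ≫ lift (snd Tq G) (fst Tq G ≫ y) ≫ act = y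
        rw [← Category.assoc, comp_lift, lift_snd, lift_fst_assoc, Category.id_comp]
        exact lift_unit_act act one_act y
      rw [this, Over.comp_left, Scheme.Hom.comp_apply, hq]
    rw [← e1]
    exact hsub ⟨p₁, hp₁, rfl⟩
  · let p₂ : (Tq ⊗ G).left := (lift (𝟙 Tq) c').left t₀
    have hp₂ : p₂ ∈ (snd Tq G).left ⁻¹' C0 G := by
      change (snd Tq G).left ((lift (𝟙 Tq) c').left t₀) ∈ C0 G
      rw [← Scheme.Hom.comp_apply, ← Over.comp_left, lift_snd]
      change (qT ≫ fst T X ≫ c).left t₀ ∈ C0 G
      rw [Over.comp_left, Over.comp_left, Scheme.Hom.comp_apply, Scheme.Hom.comp_apply]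
      exact hc _
    have e2 : ψ.left p₂ = (trans act c).left q := by
      change ψ.left ((lift (𝟙 Tq) c').left t₀) = _
      rw [← Scheme.Hom.comp_apply, ← Over.comp_left]
      have : lift (𝟙 Tq) c' ≫ ψ = qT ≫ trans act c := by
        change lift (𝟙 Tq) c' ≫ lift (snd Tq G) (fst Tq G ≫ y) ≫ act =
          qT ≫ lift (fst T X ≫ c) (snd T X) ≫ act
        have l : lift (𝟙 Tq) c' ≫ lift (snd Tq G) (fst Tq G ≫ y) = lift c' y := by
          apply CartesianMonoidalCategory.hom_ext <;> simp
        have r : qT ≫ lift (fst T X ≫ c) (snd T X) = lift c' y := by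
          apply CartesianMonoidalCategory.hom_ext <;> simp [c', y]
        rw [← Category.assoc, l, ← Category.assoc qT, r]
      rw [this, Over.comp_left, Scheme.Hom.comp_apply, hq]
    rw [← e2]
    exact hsub ⟨p₂, hp₂, rfl⟩

end LemmaS

end Groth.Agent.Lib.Helper70.GrpConnA
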