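import Mathlib
import Groth.Agent.Lib.Helper70.GrpConnA
import Groth.Agent.Lib.Helper47.QcClosure

/-!
# Connected components of group schemes over a field, part B

The set `W U` (union of the irreducible components meeting an open `U`) is open for a homogeneous
space with the "generization lifting" property, and equals the closure of `U` when `U` is
retrocompact.  Consequently connected components are irreducible.
-/

set_option autoImplicit false
universe u
open CategoryTheory CategoryTheory.Limits MonoidalCategory CartesianMonoidalCategory MonObj GrpObj AlgebraicGeometry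

namespace Groth.Agent.Lib.Helper70.GrpConnB

open GrpIrrA GrpIrrB GrpIrrC GrpTrans GrpConnA

/-- union of the irreducible components meeting `U`. -/
def W {X : Type*} [TopologicalSpace X] (U : Set X) : Set X :=
  ⋃₀ {Z | Z ∈ irreducibleComponents X ∧ (Z ∩ U).Nonempty}

theorem subset_W {X : Type*} [TopologicalSpace X] (U : Set X) : U ⊆ W U := by
  intro x hx
  exact ⟨irreducibleComponent x, ⟨irreducibleComponent_mem_irreducibleComponents x,
    ⟨x, mem_irreducibleComponent, hx⟩⟩, mem_irreducibleComponent⟩

theorem W_subset_closure {X : Type*} [TopologicalSpace X] [QuasiSober X] (U : Set X)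
    (hU : IsOpen U) : W U ⊆ closure U := by
  rintro x ⟨Z, ⟨hZ, hne⟩, hxZ⟩
  obtain ⟨ξ, hξ⟩ := QuasiSober.sober hZ.1 (isClosed_of_mem_irreducibleComponents Z hZ)
  have hξU : ξ ∈ U := (hξ.mem_open_set_iff hU).mpr hne
  rw [← hξ.def] at hxZ
  exact closure_mono (Set.singleton_subset_iff.mpr hξU) hxZ

theorem closure_subset_W {X : Scheme.{u}} (U : X.Opens) [QuasiCompact U.ι] :
    closure (U : Set X) ⊆ W (U : Set X) := by
  intro x hx
  have hx' : x ∈ closure (Set.range U.ι) := by
    rwa [Scheme.Opens.range_ι]
  obtain ⟨u, hu⟩ := Groth.Agent.Lib.Helper47.exists_specializes_of_mem_closure_range U.ι x hx'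
  refine ⟨irreducibleComponent (U.ι u), ⟨irreducibleComponent_mem_irreducibleComponents _,
    ⟨U.ι u, mem_irreducibleComponent, u.2⟩⟩, ?_⟩
  exact hu.mem_closed isClosed_irreducibleComponent mem_irreducibleComponent

variable {k : Type u} [Field k] {G : Over (Spec (CommRingCat.of k))} [GrpObj G]
  {X : Over (Spec (CommRingCat.of k))} (act : G ⊗ X ⟶ X)

/-- generizations can be reached by translating with points of `C0`. -/
def HasGenLift : Prop :=
  ∀ x ξ : X.left, ξ ⤳ x → ∃ (T : Over (Spec (CommRingCat.of k))) (c : T ⟶ G) (q : (T ⊗ X).left),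
    (∀ t, c.left t ∈ C0 G) ∧ (snd T X).left q = x ∧ (trans act c).left q = ξ

theorem isOpen_W (one_act : (η[G] ▷ X) ≫ act = (λ_ X).hom) (hgl : HasGenLift act)
    (U : Set X.left) (hU : IsOpen U) : IsOpen (W U) := by
  rw [isOpen_iff_forall_mem_open]
  rintro x ⟨Z, ⟨hZ, hne⟩, hxZ⟩
  obtain ⟨ξ, hξ⟩ := QuasiSober.sober hZ.1 (isClosed_of_mem_irreducibleComponents Z hZ)
  have hξU : ξ ∈ U := (hξ.mem_open_set_iff hU).mpr hne
  have hsp : ξ ⤳ x := hξ.specializes hxZ
  obtain ⟨T, c, q, hc, hq1, hq2⟩ := hgl x ξ hsp
  refine ⟨(snd T X).left '' ((trans act c).left ⁻¹' U), ?_, ?_, ?_⟩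
  · rintro _ ⟨q', hq', rfl⟩
    obtain ⟨Z', hZ', h1, h2⟩ := lemmaS act one_act c hc q'
    exact ⟨Z', ⟨hZ', ⟨_, h2, hq'⟩⟩, h1⟩
  · exact isOpenMap_snd_left T X _ (hU.preimage (trans act c).left.continuous)
  · exact ⟨q, by rw [Set.mem_preimage, hq2]; exact hξU, hq1⟩

/-- `W U` is clopen for retrocompact opens `U`. -/
theorem isClopen_W (one_act : (η[G] ▷ X) ≫ act = (λ_ X).hom) (hgl : HasGenLift act)
    (U : X.left.Opens) [QuasiCompact U.ι] : IsClopen (W (U : Set X.left)) := by
  refine ⟨?_, isOpen_W act one_act hgl _ U.2⟩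
  have : W (U : Set X.left) = closure (U : Set X.left) :=
    subset_antisymm (W_subset_closure _ U.2) (closure_subset_W U)
  rw [this]
  exact isClosed_closure

/-- purely topological conclusion. -/
theorem connectedComponent_eq_irreducibleComponent {X : Scheme.{u}}
    (huniq : ∀ x : X, UniqueComp X x)
    (hW : ∀ U : X.Opens, IsAffineOpen U → IsClopen (W (U : Set X))) (x : X) :
    connectedComponent x = irreducibleComponent x := by
  apply subset_antisymm
  · intro y hy
    have hxy : x ∈ irreducibleComponent y := by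
      by_contra hx
      have hopen : IsOpen (irreducibleComponent y)ᶜ := isClosed_irreducibleComponent.isOpen_compl
      obtain ⟨_, ⟨U, hU, rfl⟩, hxU, hUsub⟩ :=
        X.isBasis_affineOpens.exists_subset_of_mem_open hx hopen
      have hxW : x ∈ W (U : Set X) := subset_W _ hxU
      have hyW : y ∈ W (U : Set X) := (hW U hU).connectedComponent_subset hxW hy
      obtain ⟨Z', ⟨hZ', ⟨u, huZ', huU⟩⟩, hyZ'⟩ := hyW
      have : Z' = irreducibleComponent y :=
        huniq y Z' hZ' _ (irreducibleComponent_mem_irreducibleComponents y) hyZ'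
          mem_irreducibleComponent
      rw [this] at huZ'
      exact hUsub huU huZ'
    have : irreducibleComponent y = irreducibleComponent x :=
      huniq x _ (irreducibleComponent_mem_irreducibleComponents y) _
        (irreducibleComponent_mem_irreducibleComponents x) hxy mem_irreducibleComponent
    rw [← this]
    exact mem_irreducibleComponent
  · exact isIrreducible_irreducibleComponent.isConnected.isPreconnected.subset_connectedComponent
      mem_irreducibleComponent

end Groth.Agent.Lib.Helper70.GrpConnB
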