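import Mathlib
import Groth.Agent.Lib.Helper70.GrpConnB
import Groth.Agent.S5331

/-!
# Connected components of group schemes over a field, part C

The generization lifting property for a group scheme acting on itself, and the main theorem:
connected components of a group scheme over a field are irreducible.
-/

set_option autoImplicit false
universe u
open CategoryTheory CategoryTheory.Limits MonoidalCategory CartesianMonoidalCategory MonObj GrpObj AlgebraicGeometry

namespace Groth.Agent.Lib.Helper70.GrpConnC

open GrpIrrA GrpIrrB GrpIrrC GrpTrans GrpConnA GrpConnB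

variable {k : Type u} [Field k] (G : Over (Spec (CommRingCat.of k))) [GrpObj G]

omit [GrpObj G] in
theorem generalizingMap_snd (T : Over (Spec (CommRingCat.of k))) :
    GeneralizingMap (snd T G).left := by
  rw [Over.snd_left]
  have : Flat T.hom := inferInstance
  exact Flat.generalizingMap _

theorem inv_ept : ι[G].left (ept G) = ept G := by
  unfold ept
  rw [← Scheme.Hom.comp_apply, ← Over.comp_left, GrpObj.one_inv]

theorem hasGenLift : HasGenLift (G := G) (X := G) μ[G] := by
  intro x ξ h
  let T₁ : Over (Spec (CommRingCat.of k)) := Over.mk (G.left.fromSpecResidueField x ≫ G.hom)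
  let xT : T₁ ⟶ G := Over.homMk (G.left.fromSpecResidueField x) rfl
  have hxT : ∀ t, xT.left t = x := fun t => Scheme.fromSpecResidueField_apply _ _
  obtain ⟨t₁⟩ : Nonempty (Spec (G.left.residueField x)) := inferInstance
  let φ := twist xT
  let e' : (T₁ ⊗ G).left := (lift (𝟙 T₁) (toUnit T₁ ≫ η[G])).left t₁
  have he' : (snd T₁ G).left e' = ept G := by
    change (snd T₁ G).left ((lift (𝟙 T₁) (toUnit T₁ ≫ η[G])).left t₁) = _
    rw [← Scheme.Hom.comp_apply, ← Over.comp_left, lift_snd, Over.comp_left,
      Scheme.Hom.comp_apply]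
    have : (toUnit T₁).left t₁ = IsLocalRing.closedPoint k :=
      @Subsingleton.elim (Spec (CommRingCat.of k)) inferInstance _ _
    rw [this]
    rfl
  let x' : (T₁ ⊗ G).left := φ.hom.left e'
  have hx' : (snd T₁ G).left x' = x := by
    change (snd T₁ G).left (φ.hom.left ((lift (𝟙 T₁) (toUnit T₁ ≫ η[G])).left t₁)) = x
    rw [← Scheme.Hom.comp_apply, ← Scheme.Hom.comp_apply, ← Over.comp_left, ← Over.comp_left]
    have : lift (𝟙 T₁) (toUnit T₁ ≫ η[G]) ≫ φ.hom ≫ snd T₁ G = xT := by
      rw [twist_hom_snd, MonObj.comp_mul, GrpObj.comp_inv, lift_snd, lift_fst_assoc,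
        Category.id_comp]
      have h1 : (toUnit T₁ ≫ η[G] : T₁ ⟶ G) = 1 := rfl
      rw [h1]
      simp
    rw [this]
    exact hxT _
  -- lift the generization
  obtain ⟨ξ', hξ', hξ'2⟩ := generalizingMap_snd G T₁ (hx'.symm ▸ h : ξ ⤳ (snd T₁ G).left x')
  let g' : (T₁ ⊗ G).left := φ.inv.left ξ'
  have hg'e : g' ⤳ e' := by
    have := hξ'.map φ.inv.left.continuous
    have e2 : φ.inv.left x' = e' := by
      change φ.inv.left (φ.hom.left e') = e'
      rw [← Scheme.Hom.comp_apply, ← Over.comp_left, φ.hom_inv_id]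
      rfl
    rwa [e2] at this
  have hφg' : φ.hom.left g' = ξ' := by
    change φ.hom.left (φ.inv.left ξ') = ξ'
    rw [← Scheme.Hom.comp_apply, ← Over.comp_left, φ.inv_hom_id]
    rfl
  have hz : (snd T₁ G).left g' ⤳ ept G := by
    have := hg'e.map (snd T₁ G).left.continuous
    rwa [he'] at this
  have hιz : ι[G].left ((snd T₁ G).left g') ∈ C0 G := by
    apply mem_C0_of_specializes
    have := hz.map ι[G].left.continuous
    rwa [inv_ept] at this
  -- the field-valued point
  let T : Over (Spec (CommRingCat.of k)) :=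
    Over.mk ((T₁ ⊗ G).left.fromSpecResidueField g' ≫ (T₁ ⊗ G).hom)
  let gT : T ⟶ T₁ ⊗ G := Over.homMk ((T₁ ⊗ G).left.fromSpecResidueField g') rfl
  have hgT : ∀ t, gT.left t = g' := fun t => Scheme.fromSpecResidueField_apply _ _
  obtain ⟨t₀⟩ : Nonempty (Spec ((T₁ ⊗ G).left.residueField g')) := inferInstance
  let c : T ⟶ G := gT ≫ snd T₁ G ≫ ι[G]
  let q : (T ⊗ G).left := (lift (𝟙 T) (gT ≫ fst T₁ G ≫ xT)).left t₀
  refine ⟨T, c, q, ?_, ?_, ?_⟩
  · intro t
    change (gT ≫ snd T₁ G ≫ ι[G]).left t ∈ C0 G
    rw [Over.comp_left, Over.comp_left, Scheme.Hom.comp_apply, Scheme.Hom.comp_apply, hgT]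
    exact hιz
  · change (snd T G).left ((lift (𝟙 T) (gT ≫ fst T₁ G ≫ xT)).left t₀) = x
    rw [← Scheme.Hom.comp_apply, ← Over.comp_left, lift_snd, Over.comp_left, Over.comp_left,
      Scheme.Hom.comp_apply, Scheme.Hom.comp_apply]
    exact hxT _
  · change (GrpConnA.trans μ[G] c).left ((lift (𝟙 T) (gT ≫ fst T₁ G ≫ xT)).left t₀) = ξ
    rw [← Scheme.Hom.comp_apply, ← Over.comp_left]
    have : lift (𝟙 T) (gT ≫ fst T₁ G ≫ xT) ≫ GrpConnA.trans μ[G] c = gT ≫ φ.hom ≫ snd T₁ G := by
      unfold GrpConnA.trans
      rw [twist_hom_snd, MonObj.comp_mul, GrpObj.comp_inv, ← Category.assoc, comp_lift, lift_snd,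
        lift_fst_assoc, Category.id_comp, ← Hom.mul_def, Hom.inv_def]
      rfl
    rw [this, Over.comp_left, Over.comp_left, Scheme.Hom.comp_apply, Scheme.Hom.comp_apply, hgT,
      hφg', hξ'2]

instance : IsSeparated G.hom :=
  have : DiscreteTopology ↥(Spec (CommRingCat.of k)) := inferInstance
  Groth.Agent.S5331.result (Spec (CommRingCat.of k)) G

instance : QuasiSeparatedSpace G.left :=
  quasiSeparatedSpace_of_quasiSeparated G.hom

theorem isClopen_W_of_isAffineOpen (U : G.left.Opens) (hU : IsAffineOpen U) :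
    IsClopen (W (U : Set G.left)) := by
  have : IsAffine (U : Scheme.{u}) := hU
  have : QuasiCompact U.ι := inferInstance
  exact isClopen_W μ[G] (MonObj.one_mul G) (hasGenLift G) U

/-- the connected components of a group scheme over a field are its irreducible components. -/
theorem connectedComponent_eq (x : G.left) : connectedComponent x = irreducibleComponent x :=
  connectedComponent_eq_irreducibleComponent (uniqueComp G) (isClopen_W_of_isAffineOpen G) x

theorem connectedComponent_ept : connectedComponent (ept G) = C0 G :=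
  connectedComponent_eq G _

theorem irreducibleSpace_of_connectedSpace [ConnectedSpace G.left] : IrreducibleSpace G.left := by
  have h : (Set.univ : Set G.left) = C0 G := by
    rw [← connectedComponent_ept, PreconnectedSpace.connectedComponent_eq_univ]
  have : Nonempty G.left := ⟨ept G⟩
  refine { toPreirreducibleSpace := ⟨?_⟩, toNonempty := this }
  rw [h]
  exact (isIrreducible_C0 G).isPreirreducible

end Groth.Agent.Lib.Helper70.GrpConnC
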