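import Mathlib
import Groth.Agent.Lib.Helper70.GrpConnC

/-!
# Connected components of group schemes over a field, part D: `C0` is quasi-compact.
-/

set_option autoImplicit false
universe u
open CategoryTheory CategoryTheory.Limits MonoidalCategory CartesianMonoidalCategory MonObj GrpObj AlgebraicGeometry

namespace Groth.Agent.Lib.Helper70.GrpConnD

open GrpIrrA GrpIrrB GrpIrrC GrpTrans GrpConnA GrpConnB GrpConnC

variable {k : Type u} [Field k] (G : Over (Spec (CommRingCat.of k))) [GrpObj G]

/-- every point of `C0` is a product of two points of `C0 ∩ U`, for `U` an open neighbourhood of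
the unit point. -/
theorem C0_subset_image_mul (U : G.left.Opens) (heU : ept G ∈ U) :
    C0 G ⊆ μ[G].left '' (((fst G G).left ⁻¹' (U : Set G.left) ∩ (snd G G).left ⁻¹' (U : Set G.left)) ∩
      ((fst G G).left ⁻¹' C0 G ∩ (snd G G).left ⁻¹' C0 G)) := by
  intro g hg
  let T : Over (Spec (CommRingCat.of k)) := Over.mk (G.left.fromSpecResidueField g ≫ G.hom)
  let gT : T ⟶ G := Over.homMk (G.left.fromSpecResidueField g) rfl
  have hgT : ∀ t, gT.left t = g := fun t => Scheme.fromSpecResidueField_apply _ _
  obtain ⟨t₀⟩ : Nonempty (Spec (G.left.residueField g)) := inferInstance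
  have : IrreducibleSpace T.left :=
    inferInstanceAs (IrreducibleSpace (Spec (G.left.residueField g)))
  let φ := twist gT
  let a : T ⊗ G ⟶ G := snd T G
  have hP : IsIrreducible (a.left ⁻¹' C0 G) := isIrreducible_preimage_snd G T
  -- the two special points
  let eT : (T ⊗ G).left := (lift (𝟙 T) (toUnit T ≫ η[G])).left t₀
  have heT : a.left eT = ept G := by
    change (snd T G).left ((lift (𝟙 T) (toUnit T ≫ η[G])).left t₀) = _
    rw [← Scheme.Hom.comp_apply, ← Over.comp_left, lift_snd, Over.comp_left,
      Scheme.Hom.comp_apply]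
    have : (toUnit T).left t₀ = IsLocalRing.closedPoint k :=
      @Subsingleton.elim (Spec (CommRingCat.of k)) inferInstance _ _
    rw [this]
    rfl
  let gP : (T ⊗ G).left := (lift (𝟙 T) gT).left t₀
  have hgP : a.left gP = g := by
    change (snd T G).left ((lift (𝟙 T) gT).left t₀) = _
    rw [← Scheme.Hom.comp_apply, ← Over.comp_left, lift_snd]
    exact hgT _
  have hφgP : a.left (φ.hom.left gP) = ept G := by
    change (snd T G).left (φ.hom.left ((lift (𝟙 T) gT).left t₀)) = _
    rw [← Scheme.Hom.comp_apply, ← Scheme.Hom.comp_apply, ← Over.comp_left, ← Over.comp_left]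
    have : lift (𝟙 T) gT ≫ φ.hom ≫ snd T G = toUnit T ≫ η[G] := by
      rw [twist_hom_snd, MonObj.comp_mul, GrpObj.comp_inv, lift_snd, lift_fst_assoc,
        Category.id_comp]
      have h1 : (toUnit T ≫ η[G] : T ⟶ G) = 1 := rfl
      rw [h1]
      simp
    rw [this, Over.comp_left, Scheme.Hom.comp_apply]
    have : (toUnit T).left t₀ = IsLocalRing.closedPoint k :=
      @Subsingleton.elim (Spec (CommRingCat.of k)) inferInstance _ _
    rw [this]
    rfl
  -- `φ` maps the preimage of `C0` into itself
  have hφP : ∀ p ∈ a.left ⁻¹' C0 G, a.left (φ.hom.left p) ∈ C0 G := by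
    have hirr : IsIrreducible ((fun p => a.left (φ.hom.left p)) '' (a.left ⁻¹' C0 G)) :=
      hP.image _ ((a.left.continuous.comp φ.hom.left.continuous).continuousOn)
    have hsub := subset_C0_of_isIrreducible G hirr
      ⟨gP, by rw [Set.mem_preimage, hgP]; exact hg, hφgP⟩
    intro p hp
    exact hsub ⟨p, hp, rfl⟩
  -- two nonempty opens of the irreducible set
  have hA : IsOpen (a.left ⁻¹' (U : Set G.left)) := U.2.preimage a.left.continuous
  have hB : IsOpen (φ.hom.left ⁻¹' (a.left ⁻¹' (U : Set G.left))) :=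
    hA.preimage φ.hom.left.continuous
  obtain ⟨p, hpP, hpA, hpB⟩ := hP.isPreirreducible _ _ hA hB
    ⟨eT, by rw [Set.mem_preimage, heT]; exact ept_mem_C0 G, by rw [Set.mem_preimage, heT]; exact heU⟩
    ⟨gP, by rw [Set.mem_preimage, hgP]; exact hg, by
      rw [Set.mem_preimage, Set.mem_preimage, hφgP]; exact heU⟩
  let w := (lift a (φ.hom ≫ a)).left p
  have hw1 : (fst G G).left w = a.left p := by
    change (fst G G).left ((lift a (φ.hom ≫ a)).left p) = _
    rw [← Scheme.Hom.comp_apply, ← Over.comp_left, lift_fst]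
  have hw2 : (snd G G).left w = a.left (φ.hom.left p) := by
    change (snd G G).left ((lift a (φ.hom ≫ a)).left p) = _
    rw [← Scheme.Hom.comp_apply, ← Over.comp_left, lift_snd, Over.comp_left, Scheme.Hom.comp_apply]
  have hμ : μ[G].left w = g := by
    change μ[G].left ((lift a (φ.hom ≫ a)).left p) = g
    rw [← Scheme.Hom.comp_apply, ← Over.comp_left, lift_twist_mul, Over.comp_left,
      Scheme.Hom.comp_apply]
    exact hgT _
  refine ⟨w, ⟨⟨?_, ?_⟩, ⟨?_, ?_⟩⟩, hμ⟩
  · rw [Set.mem_preimage, hw1]; exact hpA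
  · rw [Set.mem_preimage, hw2]; exact hpB
  · rw [Set.mem_preimage, hw1]; exact hpP
  · rw [Set.mem_preimage, hw2]; exact hφP p hpP

/-- the irreducible component through the unit point is quasi-compact. -/
theorem isCompact_C0 : IsCompact (C0 G) := by
  obtain ⟨U, hU, heU, -⟩ := exists_isAffineOpen_mem_and_subset
    (X := G.left) (x := ept G) (U := ⊤) trivial
  have hbox := isCompact_box G U U hU hU
  have hcl : IsClosed ((fst G G).left ⁻¹' C0 G ∩ (snd G G).left ⁻¹' C0 G) :=
    ((isClosed_C0 G).preimage (fst G G).left.continuous).inter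
      ((isClosed_C0 G).preimage (snd G G).left.continuous)
  have hcomp := (hbox.inter_right hcl).image μ[G].left.continuous
  have := hcomp.inter_right (isClosed_C0 G)
  rwa [Set.inter_eq_right.mpr (C0_subset_image_mul G U heU)] at this

end Groth.Agent.Lib.Helper70.GrpConnD
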