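import Mathlib

/-!
# The flat closed subscheme structure on a subset

For a subset `T` of a scheme `X` we consider the largest quasi-coherent ideal sheaf `I T` of
sections all of whose germs at points of `T` vanish.  When the support of `I T` is `T` (e.g. when
`T` is an intersection of closed-open subsets), the closed subscheme defined by `I T` is flat over
`X`, has underlying set `T`, and every morphism with image in `T` factors through it.
-/

set_option autoImplicit false
universe u
open CategoryTheory AlgebraicGeometry TopologicalSpace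

namespace Groth.Agent.Lib.Helper70.FlatClosed

variable {X : Scheme.{u}} (T : Set X)

/-- sections over `V` whose germs vanish at all points of `T`. -/
def K (V : X.affineOpens) : Ideal Γ(X, V.1) where
  carrier := {s | ∀ (x : X) (hx : x ∈ V.1), x ∈ T → X.presheaf.germ V.1 x hx s = 0}
  add_mem' := by
    intro a b ha hb x hx hT
    rw [map_add, ha x hx hT, hb x hx hT, add_zero]
  zero_mem' := by
    intro x hx hT
    exact map_zero _
  smul_mem' := by
    intro c a ha x hx hT
    rw [smul_eq_mul, map_mul, ha x hx hT, mul_zero]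

theorem mem_K {V : X.affineOpens} {s : Γ(X, V.1)} :
    s ∈ K T V ↔ ∀ (x : X) (hx : x ∈ V.1), x ∈ T → X.presheaf.germ V.1 x hx s = 0 := Iff.rfl

/-- the ideal sheaf. -/
noncomputable def I : X.IdealSheafData := Scheme.IdealSheafData.ofIdeals (K T)

theorem ideal_I_le (V : X.affineOpens) : (I T).ideal V ≤ K T V :=
  Scheme.IdealSheafData.ideal_ofIdeals_le _ _

theorem I_le_ker {Y : Scheme.{u}} (g : Y ⟶ X) (hg : Set.range g ⊆ T) : I T ≤ g.ker := by
  change Scheme.IdealSheafData.ofIdeals _ ≤ Scheme.IdealSheafData.ofIdeals _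
  apply Scheme.IdealSheafData.ofIdeals_mono
  intro V s hs
  rw [RingHom.mem_ker]
  apply TopCat.Presheaf.section_ext Y.sheaf (g ⁻¹ᵁ V.1)
  intro y hy
  have h0 : Y.presheaf.germ (g ⁻¹ᵁ V.1) y hy 0 = 0 := map_zero _
  have := Scheme.Hom.germ_stalkMap_apply g V.1 y hy s
  rw [(mem_K T).mp hs (g y) hy (hg ⟨y, rfl⟩), map_zero] at this
  exact this.symm.trans h0.symm

/-- morphisms landing in `T` factor through the closed subscheme. -/
theorem exists_lift {Y : Scheme.{u}} (g : Y ⟶ X) (hg : Set.range g ⊆ T) :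
    ∃ g' : Y ⟶ (I T).subscheme, g' ≫ (I T).subschemeι = g := by
  have H : (I T).subschemeι.ker ≤ g.ker := by
    rw [Scheme.IdealSheafData.ker_subschemeι]
    exact I_le_ker T g hg
  exact ⟨IsClosedImmersion.lift _ g H, IsClosedImmersion.lift_fac _ g H⟩

/-- sections vanishing on an open neighbourhood of `T` are in `I T`. -/
theorem ker_le_I (W : X.Opens) (hW : T ⊆ W) : W.ι.ker ≤ I T := by
  rw [I, Scheme.IdealSheafData.le_ofIdeals_iff]
  intro V s hs
  have hs' := W.ι.ideal_ker_le V hs
  rw [RingHom.mem_ker] at hs'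
  rw [mem_K]
  intro x hx hT
  have hxW : x ∈ W := hW hT
  have h1 := Scheme.Hom.germ_stalkMap_apply W.ι V.1 ⟨x, hxW⟩ hx s
  rw [hs', map_zero] at h1
  have hinj : Function.Injective (W.ι.stalkMap ⟨x, hxW⟩) :=
    (ConcreteCategory.bijective_of_isIso _).1
  exact hinj (h1.trans (map_zero _).symm)

theorem quasiCompact_ι_of_isClosed (W : X.Opens) (hW : IsClosed (W : Set X)) :
    QuasiCompact W.ι := by
  constructor
  intro V hV hVc
  have : W.ι ⁻¹' V = Subtype.val ⁻¹' (V ∩ W) := by
    ext ⟨x, hx⟩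
    change x ∈ V ↔ x ∈ V ∧ x ∈ W
    exact ⟨fun h => ⟨h, hx⟩, fun h => h.1⟩
  rw [this]
  have hc : IsCompact (V ∩ (W : Set X)) := hVc.inter_right hW
  exact (Topology.IsEmbedding.subtypeVal.isCompact_preimage_iff (by simp)).mpr hc

theorem support_subset_of_isClopen (W : X.Opens) (hW : IsClosed (W : Set X)) (hTW : T ⊆ W) :
    ((I T).support : Set X) ⊆ W := by
  have := quasiCompact_ι_of_isClosed W hW
  have h1 := Scheme.IdealSheafData.support_antitone (ker_le_I T W hTW)
  have h2 : (W.ι.ker.support : Set X) = W := by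
    rw [Scheme.Hom.support_ker, Scheme.Opens.range_ι, hW.closure_eq]
  rw [← h2]
  exact h1

theorem subset_support : T ⊆ ((I T).support : Set X) := by
  intro x hx
  obtain ⟨_, ⟨V, hV, rfl⟩, hxV, -⟩ :=
    X.isBasis_affineOpens.exists_subset_of_mem_open (Set.mem_univ x) isOpen_univ
  rw [SetLike.mem_coe, Scheme.IdealSheafData.mem_support_iff_of_mem (U := ⟨V, hV⟩) hxV]
  rw [Scheme.mem_zeroLocus_iff]
  intro s hs
  have hs' := (mem_K T).mp (ideal_I_le T ⟨V, hV⟩ hs) x hxV hx
  rw [Scheme.mem_basicOpen _ _ _ hxV, hs']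
  exact not_isUnit_zero

theorem stalkMap_injective (z : (I T).subscheme) (hz : (I T).subschemeι z ∈ T) :
    Function.Injective ((I T).subschemeι.stalkMap z) := by
  rw [injective_iff_map_eq_zero]
  intro a ha
  obtain ⟨U, hxU, s, rfl⟩ := X.presheaf.exists_germ_eq a
  -- shrink to an affine open
  obtain ⟨_, ⟨V, hV, rfl⟩, hxV, hVU⟩ :=
    X.isBasis_affineOpens.exists_subset_of_mem_open hxU U.2
  have hVU' : V ≤ U := hVU
  have hgerm : X.presheaf.germ V ((I T).subschemeι z) hxV (X.presheaf.map (homOfLE hVU').op s) =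
      X.presheaf.germ U ((I T).subschemeι z) hxU s :=
    X.presheaf.germ_res_apply (homOfLE hVU') _ hxV s
  rw [← hgerm] at ha ⊢
  generalize X.presheaf.map (homOfLE hVU').op s = s' at ha ⊢
  rw [Scheme.Hom.germ_stalkMap_apply] at ha
  -- the section vanishes near `z`
  have h0 : (I T).subscheme.presheaf.germ ((I T).subschemeι ⁻¹ᵁ V) z hxV
      ((I T).subschemeι.app V s') =
      (I T).subscheme.presheaf.germ ((I T).subschemeι ⁻¹ᵁ V) z hxV 0 := by rw [ha, map_zero]
  obtain ⟨N, hzN, i₁, i₂, hN⟩ := (I T).subscheme.presheaf.germ_eq z hxV hxV _ _ h0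
  rw [map_zero] at hN
  -- `N` contains the preimage of an open of `X`
  obtain ⟨N₀, hN₀, hN₀N⟩ := (I T).subschemeι.isEmbedding.isOpen_iff.mp N.2
  have hxN₀ : (I T).subschemeι z ∈ N₀ := by
    have : z ∈ (I T).subschemeι ⁻¹' N₀ := by rw [hN₀N]; exact hzN
    exact this
  obtain ⟨t, htle, hxt⟩ := hV.exists_basicOpen_le (V := ⟨N₀, hN₀⟩) ⟨_, hxN₀⟩ hxV
  have hD : IsAffineOpen (X.basicOpen t) := hV.basicOpen t
  have hDV : X.basicOpen t ≤ V := X.basicOpen_le t
  have hDN : (I T).subschemeι ⁻¹ᵁ (X.basicOpen t) ≤ N := by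
    intro w hw
    have : w ∈ (I T).subschemeι ⁻¹' N₀ := htle hw
    rw [hN₀N] at this
    exact this
  have hker : (I T).subschemeι.app (X.basicOpen t) (X.presheaf.map (homOfLE hDV).op s') = 0 := by
    have nat := (I T).subschemeι.naturality (homOfLE hDV).op
    have e1 : (I T).subschemeι.app (X.basicOpen t) (X.presheaf.map (homOfLE hDV).op s') =
        (I T).subscheme.presheaf.map (homOfLE (show (I T).subschemeι ⁻¹ᵁ (X.basicOpen t) ≤
          (I T).subschemeι ⁻¹ᵁ V from fun w hw => hDV hw)).op ((I T).subschemeι.app V s') := by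
      have := congrArg (fun f => f.hom s') nat
      exact this
    rw [e1]
    have e2 : (homOfLE (show (I T).subschemeι ⁻¹ᵁ (X.basicOpen t) ≤
        (I T).subschemeι ⁻¹ᵁ V from fun w hw => hDV hw)).op = i₁.op ≫ (homOfLE hDN).op := rfl
    rw [e2, Functor.map_comp, CommRingCat.comp_apply, hN, map_zero]
  have hmem : X.presheaf.map (homOfLE hDV).op s' ∈ (I T).ideal ⟨X.basicOpen t, hD⟩ := by
    rw [← Scheme.IdealSheafData.ker_subschemeι_app, RingHom.mem_ker]
    exact hker
  have hK := (mem_K T).mp (ideal_I_le T _ hmem) _ hxt hz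
  have hgerm2 : X.presheaf.germ (X.basicOpen t) ((I T).subschemeι z) hxt
      (X.presheaf.map (homOfLE hDV).op s') = X.presheaf.germ V ((I T).subschemeι z) hxV s' :=
    X.presheaf.germ_res_apply (homOfLE hDV) _ hxt s'
  rw [← hgerm2]
  exact hK

/-- if the support of `I T` is contained in `T`, the closed subscheme is flat over `X`. -/
theorem flat_subschemeι (hsupp : ((I T).support : Set X) ⊆ T) : Flat (I T).subschemeι := by
  rw [Flat.iff_flat_stalkMap]
  intro z
  have hz : (I T).subschemeι z ∈ T := by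
    apply hsupp
    rw [← Scheme.IdealSheafData.range_subschemeι]
    exact ⟨z, rfl⟩
  apply RingHom.Flat.of_bijective
  exact ⟨stalkMap_injective T z hz, (I T).subschemeι.stalkMap_surjective z⟩

end Groth.Agent.Lib.Helper70.FlatClosed
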