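import Mathlib
import Groth.Agent.Lib.Helper70.NeronClosA

/-!
# The schematic closure of a closed subgroup of the generic fibre is a flat closed subgroup
-/

set_option autoImplicit false

namespace Groth.Agent.Lib.Helper70.NeronClosB

universe u

open AlgebraicGeometry CategoryTheory Limits MonoidalCategory CartesianMonoidalCategory MonObj GrpObj
open Groth.Agent.Lib.Helper70.NeronClosA

section Sub

variable {𝒮 : Type*} [Category 𝒮] [CartesianMonoidalCategory 𝒮] {G : 𝒮} [GrpObj G]

set_option backward.isDefEq.respectTransparency false in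
/-- the induced group structure on a subobject closed under the operations
(after `Lib/Helper26/SubgrpCorr.grpObjOfData`). -/
@[reducible] noncomputable def grpObjOfData {K : 𝒮} (i : K ⟶ G) [Mono i]
    (e : 𝟙_ 𝒮 ⟶ K) (m : K ⊗ K ⟶ K) (v : K ⟶ K)
    (he : e ≫ i = η[G]) (hm : m ≫ i = (fst K K ≫ i) * (snd K K ≫ i)) (hv : v ≫ i = i⁻¹) :
    GrpObj K where
  one := e
  mul := m
  inv := v
  one_mul := by
    rw [← cancel_mono i]
    simp only [Category.assoc, hm, comp_mul]
    simp [he, one_eq_one, comp_one, leftUnitor_hom]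
  mul_one := by
    rw [← cancel_mono i]
    simp only [Category.assoc, hm, comp_mul]
    simp [he, one_eq_one, comp_one, rightUnitor_hom]
  mul_assoc := by
    rw [← cancel_mono i]
    simp only [Category.assoc, hm, comp_mul]
    simp [hm, comp_mul, _root_.mul_assoc]
  left_inv := by
    rw [← cancel_mono i]
    simp only [Category.assoc, hm, comp_mul]
    simp [he, hv, one_eq_one, comp_one]
  right_inv := by
    rw [← cancel_mono i]
    simp only [Category.assoc, hm, comp_mul]
    simp [he, hv, one_eq_one, comp_one]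

theorem exists_grpObj_of_mono {K : 𝒮} (i : K ⟶ G) [Mono i]
    (e : 𝟙_ 𝒮 ⟶ K) (m : K ⊗ K ⟶ K) (v : K ⟶ K)
    (he : e ≫ i = η[G]) (hm : m ≫ i = (i ⊗ₘ i) ≫ μ[G]) (hv : v ≫ i = i ≫ ι[G]) :
    ∃ str : GrpObj K, @IsMonHom 𝒮 _ _ K G str.toMonObj _ i := by
  have hm' : m ≫ i = (fst K K ≫ i) * (snd K K ≫ i) := by
    rw [hm, Hom.mul_def, lift_fst_comp_snd_comp]
  have hv' : v ≫ i = i⁻¹ := by rw [hv, Hom.inv_def]
  refine ⟨grpObjOfData i e m v he hm' hv', ?_⟩
  exact @IsMonHom.mk _ _ _ _ _ (grpObjOfData i e m v he hm' hv').toMonObj _ i he hm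

end Sub

section Main

open scoped Obj

variable (R : Type u) [CommRing R] [IsDedekindDomain R]
  (G : Over (Spec (CommRingCat.of R))) [GrpObj G]
  (HK : Over (Spec (CommRingCat.of (FractionRing R)))) [GrpObj HK]
  (i : HK ⟶ (Over.pullback (genPt R)).obj G) [IsMonHom i] [IsClosedImmersion i.left]

/-- the map from the subgroup of the generic fibre to `G`. -/
noncomputable abbrev gmap : HK.left ⟶ G.left := i.left ≫ pullback.fst G.hom (genPt R)

instance : QuasiCompact (gmap R G HK i) := by
  have : QuasiCompact (pullback.fst G.hom (genPt R)) :=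
    MorphismProperty.pullback_fst _ _ inferInstance
  infer_instance

/-- the schematic closure as an object over `Spec R`. -/
noncomputable abbrev Hcl : Over (Spec (CommRingCat.of R)) :=
  Over.mk ((gmap R G HK i).imageι ≫ G.hom)

noncomputable abbrev jcl : Hcl R G HK i ⟶ G := Over.homMk (gmap R G HK i).imageι rfl

theorem gmap_comp_hom (w : HK.left) :
    (gmap R G HK i ≫ G.hom) w = genericPoint (Spec (CommRingCat.of R)) := by
  have : gmap R G HK i ≫ G.hom = HK.hom ≫ genPt R := by
    rw [Category.assoc, pullback.condition, ← Category.assoc]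
    congr 1
    exact Over.w i
  rw [this, Scheme.Hom.comp_apply, genPt_apply]

theorem flat_Hcl : Flat (Hcl R G HK i).hom :=
  Groth.Agent.Lib.Helper70.GenFibB.flat_imageι_comp (isPrincipalIdealRing_stalk_Spec R) G.hom
    (gmap R G HK i) (gmap_comp_hom R G HK i)

theorem isPullback_Hcl :
    IsPullback (gmap R G HK i).toImage HK.hom (Hcl R G HK i).hom (genPt R) := by
  have h1 := isPullback_toImage_genPt R G.hom (pullback.fst G.hom (genPt R))
    (pullback.snd G.hom (genPt R)) (IsPullback.of_hasPullback _ _) i.left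
  have h2 := h1.paste_vert (IsPullback.of_hasPullback G.hom (genPt R))
  have h3 : i.left ≫ pullback.snd G.hom (genPt R) = HK.hom := Over.w i
  rw [h3] at h2
  exact h2

theorem ker_genPt : (genPt R).ker = ⊥ := by
  have h := ker_eq_bot_of_isPullback_genPt R (𝟙 (Spec (CommRingCat.of R))) (genPt R)
    (𝟙 (Spec (CommRingCat.of (FractionRing R)))) (IsPullback.of_vert_isIso ⟨by simp⟩)
  exact h

theorem unit_eq :
    genPt R ≫ η[G].left = (η[HK].left ≫ (gmap R G HK i).toImage) ≫ (gmap R G HK i).imageι := by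
  rw [Category.assoc, Scheme.Hom.toImage_imageι]
  have h1 : η[HK].left ≫ i.left = η[(Over.pullback (genPt R)).obj G].left := by
    rw [← Over.comp_left, IsMonHom.one_hom]
  rw [← Category.assoc, h1, Functor.obj.η_def, Over.comp_left, Category.assoc]
  have h2 : ((Over.pullback (genPt R)).map η[G]).left ≫ pullback.fst G.hom (genPt R) =
      pullback.fst _ _ ≫ η[G].left := pullback.lift_fst _ _ _
  rw [h2, ← Category.assoc]
  congr 1
  rw [Over.ε_pullback_left, IsIso.eq_inv_comp]
  have hc : pullback.fst (𝟙 (Spec (CommRingCat.of R))) (genPt R) ≫ 𝟙 _ =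
      pullback.snd (𝟙 (Spec (CommRingCat.of R))) (genPt R) ≫ genPt R := pullback.condition
  rw [Category.comp_id] at hc
  exact hc.symm

theorem inv_eq :
    (gmap R G HK i).toImage ≫ ((gmap R G HK i).imageι ≫ ι[G].left) =
      (ι[HK].left ≫ (gmap R G HK i).toImage) ≫ (gmap R G HK i).imageι := by
  rw [← Category.assoc, Category.assoc _ _ (gmap R G HK i).imageι, Scheme.Hom.toImage_imageι]
  have h1 : ι[HK].left ≫ i.left = i.left ≫ ι[(Over.pullback (genPt R)).obj G].left := by
    rw [← Over.comp_left, GrpObj.inv_hom, Over.comp_left]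
  have h2 : ι[(Over.pullback (genPt R)).obj G].left ≫ pullback.fst G.hom (genPt R) =
      pullback.fst G.hom (genPt R) ≫ ι[G].left := pullback.lift_fst _ _ _
  rw [← Category.assoc ι[HK].left, h1, Category.assoc, Category.assoc, h2]

theorem flat_tensor_Hcl : Flat (Hcl R G HK i ⊗ Hcl R G HK i).hom := by
  have h1 := flat_Hcl R G HK i
  rw [Over.tensorObj_hom]
  have : Flat (pullback.fst (Hcl R G HK i).hom (Hcl R G HK i).hom) :=
    MorphismProperty.pullback_fst _ _ h1
  infer_instance

/-- the generic fibre of `H ×_R H`. -/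
noncomputable abbrev DK : Over (Spec (CommRingCat.of (FractionRing R))) :=
  (Over.pullback (genPt R)).obj (Hcl R G HK i ⊗ Hcl R G HK i)

noncomputable abbrev dmap : (DK R G HK i).left ⟶ (Hcl R G HK i ⊗ Hcl R G HK i).left :=
  pullback.fst (Hcl R G HK i ⊗ Hcl R G HK i).hom (genPt R)

theorem ker_dmap : (dmap R G HK i).ker = ⊥ := by
  have := flat_tensor_Hcl R G HK i
  exact ker_eq_bot_of_isPullback_genPt R (Hcl R G HK i ⊗ Hcl R G HK i).hom _ _
    (IsPullback.of_hasPullback _ _)

/-- first projection of the generic fibre of `H ×_R H` to `H_K`. -/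
noncomputable def U₁ : DK R G HK i ⟶ HK :=
  Over.homMk ((isPullback_Hcl R G HK i).lift
    (dmap R G HK i ≫ (fst (Hcl R G HK i) (Hcl R G HK i)).left)
    (pullback.snd _ _) (by
      rw [Category.assoc, Over.w, pullback.condition]))
    ((isPullback_Hcl R G HK i).lift_snd _ _ _)

noncomputable def U₂ : DK R G HK i ⟶ HK :=
  Over.homMk ((isPullback_Hcl R G HK i).lift
    (dmap R G HK i ≫ (snd (Hcl R G HK i) (Hcl R G HK i)).left)
    (pullback.snd _ _) (by
      rw [Category.assoc, Over.w, pullback.condition]))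
    ((isPullback_Hcl R G HK i).lift_snd _ _ _)

theorem U₁_toImage : (U₁ R G HK i).left ≫ (gmap R G HK i).toImage =
    dmap R G HK i ≫ (fst (Hcl R G HK i) (Hcl R G HK i)).left :=
  (isPullback_Hcl R G HK i).lift_fst _ _ _

theorem U₂_toImage : (U₂ R G HK i).left ≫ (gmap R G HK i).toImage =
    dmap R G HK i ≫ (snd (Hcl R G HK i) (Hcl R G HK i)).left :=
  (isPullback_Hcl R G HK i).lift_fst _ _ _

set_option backward.isDefEq.respectTransparency false in
theorem mul_key :
    (lift (U₁ R G HK i ≫ i) (U₂ R G HK i ≫ i)).left ≫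
      (Functor.LaxMonoidal.μ (Over.pullback (genPt R)) G G).left ≫
        pullback.fst (G ⊗ G).hom (genPt R) =
    dmap R G HK i ≫ (jcl R G HK i ⊗ₘ jcl R G HK i).left := by
  have hg : ∀ (U : DK R G HK i ⟶ HK), (U ≫ i).left ≫ pullback.fst G.hom (genPt R) =
      U.left ≫ (gmap R G HK i).toImage ≫ (gmap R G HK i).imageι := by
    intro U
    rw [Scheme.Hom.toImage_imageι, Over.comp_left, Category.assoc]
  apply pullback.hom_ext
  · have e1 := Over.μ_pullback_left_fst_fst (f := genPt R) G G
    simp only [Category.assoc]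
    rw [e1, ← Over.fst_left, ← Over.comp_left_assoc, lift_fst, hg, ← Category.assoc, U₁_toImage,
      Category.assoc]
    congr 1
    rw [← Over.fst_left, ← Over.comp_left, tensorHom_fst, Over.comp_left]
    rfl
  · have e1 := Over.μ_pullback_left_fst_snd (f := genPt R) G G
    simp only [Category.assoc]
    rw [e1, ← Over.snd_left, ← Over.comp_left_assoc, lift_snd, hg, ← Category.assoc, U₂_toImage,
      Category.assoc]
    congr 1
    rw [← Over.snd_left, ← Over.comp_left, tensorHom_snd, Over.comp_left]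
    rfl

theorem mul_eq :
    dmap R G HK i ≫ ((jcl R G HK i ⊗ₘ jcl R G HK i) ≫ μ[G]).left =
      ((lift (U₁ R G HK i) (U₂ R G HK i) ≫ μ[HK]).left ≫ (gmap R G HK i).toImage) ≫
        (gmap R G HK i).imageι := by
  rw [Category.assoc, Scheme.Hom.toImage_imageι]
  have h1 : (lift (U₁ R G HK i) (U₂ R G HK i) ≫ μ[HK]).left ≫ i.left =
      (lift (U₁ R G HK i ≫ i) (U₂ R G HK i ≫ i)).left ≫
        (Functor.LaxMonoidal.μ (Over.pullback (genPt R)) G G).left ≫
          ((Over.pullback (genPt R)).map μ[G]).left := by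
    rw [← Over.comp_left, Category.assoc, IsMonHom.mul_hom, ← Category.assoc, lift_map,
      Functor.obj.μ_def, Over.comp_left, Over.comp_left]
  have h2 : ((Over.pullback (genPt R)).map μ[G]).left ≫ pullback.fst G.hom (genPt R) =
      pullback.fst (G ⊗ G).hom (genPt R) ≫ μ[G].left := pullback.lift_fst _ _ _
  rw [← Category.assoc _ i.left, h1, Over.comp_left, ← Category.assoc (dmap R G HK i),
    ← mul_key]
  simp only [Category.assoc]
  rw [h2]

theorem main :
    ∃ (H : Over (Spec (CommRingCat.of R))) (_ : GrpObj H) (j : H ⟶ G) (φ : HK.left ⟶ H.left),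
      IsMonHom j ∧ IsClosedImmersion j.left ∧ Flat H.hom ∧
      IsPullback φ HK.hom H.hom (genPt R) ∧
      φ ≫ j.left = i.left ≫ pullback.fst G.hom (genPt R) ∧
      φ.ker = ⊥ := by
  obtain ⟨e₀, he₀⟩ := exists_lift_of_ker_eq_bot (gmap R G HK i).imageι η[G].left (genPt R)
    (ker_genPt R) _ (unit_eq R G HK i)
  obtain ⟨v₀, hv₀⟩ := exists_lift_of_ker_eq_bot (gmap R G HK i).imageι
    ((gmap R G HK i).imageι ≫ ι[G].left) (gmap R G HK i).toImage (ker_toImage_eq_bot _) _
    (inv_eq R G HK i)
  obtain ⟨m₀, hm₀⟩ := exists_lift_of_ker_eq_bot (gmap R G HK i).imageι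
    ((jcl R G HK i ⊗ₘ jcl R G HK i) ≫ μ[G]).left (dmap R G HK i) (ker_dmap R G HK i) _
    (mul_eq R G HK i)
  let e : 𝟙_ (Over (Spec (CommRingCat.of R))) ⟶ Hcl R G HK i := Over.homMk e₀ (by
    show e₀ ≫ (gmap R G HK i).imageι ≫ G.hom = _
    rw [← Category.assoc, he₀, Over.w])
  let v : Hcl R G HK i ⟶ Hcl R G HK i := Over.homMk v₀ (by
    show v₀ ≫ (gmap R G HK i).imageι ≫ G.hom = (gmap R G HK i).imageι ≫ G.hom
    rw [← Category.assoc, hv₀, Category.assoc, Over.w])
  let m : Hcl R G HK i ⊗ Hcl R G HK i ⟶ Hcl R G HK i := Over.homMk m₀ (by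
    show m₀ ≫ (gmap R G HK i).imageι ≫ G.hom = _
    rw [← Category.assoc, hm₀, Over.w])
  have hmono : Mono (jcl R G HK i) := by
    have : Mono ((Over.forget _).map (jcl R G HK i)) := by
      show Mono (gmap R G HK i).imageι
      infer_instance
    exact (Over.forget _).mono_of_mono_map this
  obtain ⟨str, hmon⟩ := exists_grpObj_of_mono (jcl R G HK i) e m v
    (Over.OverMorphism.ext he₀) (Over.OverMorphism.ext hm₀) (Over.OverMorphism.ext hv₀)
  exact ⟨Hcl R G HK i, str, jcl R G HK i, (gmap R G HK i).toImage, hmon,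
    (inferInstance : IsClosedImmersion (gmap R G HK i).imageι), flat_Hcl R G HK i,
    isPullback_Hcl R G HK i, Scheme.Hom.toImage_imageι _, ker_toImage_eq_bot _⟩

end Main







end Groth.Agent.Lib.Helper70.NeronClosB
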