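import Mathlib
import Groth.Agent.Lib.Helper70.GrpConnD
import Groth.Agent.Lib.Helper70.FlatClosed
import Groth.Agent.Lib.Helper70.NeronClosB
import Groth.Agent.Lib.Helper70.GrpIrrD

/-!
# The neutral component of a group scheme over a field as a flat closed subgroup scheme
-/

set_option autoImplicit false
universe u
open CategoryTheory CategoryTheory.Limits MonoidalCategory CartesianMonoidalCategory MonObj GrpObj AlgebraicGeometry

namespace Groth.Agent.Lib.Helper70.GrpConnE

open GrpIrrA GrpIrrB GrpIrrC GrpTrans GrpConnA GrpConnB GrpConnC GrpConnD FlatClosed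

variable {k : Type u} [Field k] (G : Over (Spec (CommRingCat.of k))) [GrpObj G]

theorem support_I_subset : ((I (C0 G)).support : Set G.left) ⊆ C0 G := by
  intro y hy
  by_contra hyC
  have heZ : ept G ∉ irreducibleComponent y := by
    intro he
    have := eq_C0_of_mem G (irreducibleComponent_mem_irreducibleComponents y) he
    exact hyC (this ▸ mem_irreducibleComponent)
  have hopen : IsOpen (irreducibleComponent y)ᶜ := isClosed_irreducibleComponent.isOpen_compl
  obtain ⟨_, ⟨U, hU, rfl⟩, heU, hUsub⟩ :=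
    G.left.isBasis_affineOpens.exists_subset_of_mem_open heZ hopen
  have hclopen := isClopen_W_of_isAffineOpen G U hU
  have hC0W : C0 G ⊆ W (U : Set G.left) := by
    intro x hx
    exact ⟨C0 G, ⟨C0_mem G, ⟨ept G, ept_mem_C0 G, heU⟩⟩, hx⟩
  have hsub := support_subset_of_isClopen (C0 G) ⟨W (U : Set G.left), hclopen.2⟩ hclopen.1 hC0W
  obtain ⟨Z', ⟨hZ', ⟨u, huZ', huU⟩⟩, hyZ'⟩ := hsub hy
  have : Z' = irreducibleComponent y :=
    uniqueComp G y Z' hZ' _ (irreducibleComponent_mem_irreducibleComponents y) hyZ'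
      mem_irreducibleComponent
  rw [this] at huZ'
  exact hUsub huU huZ'

/-- the neutral component as a scheme. -/
noncomputable abbrev Z0 : Scheme.{u} := (I (C0 G)).subscheme

/-- the inclusion of the neutral component. -/
noncomputable abbrev incl : Z0 G ⟶ G.left := (I (C0 G)).subschemeι


theorem range_incl : Set.range (incl G) = C0 G := by
  rw [Scheme.IdealSheafData.range_subschemeι]
  exact subset_antisymm (support_I_subset G) (subset_support (C0 G))

instance : Flat (incl G) := flat_subschemeι (C0 G) (support_I_subset G)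

theorem exists_lift_incl {Y : Scheme.{u}} (g : Y ⟶ G.left) (hg : Set.range g ⊆ C0 G) :
    ∃ g' : Y ⟶ Z0 G, g' ≫ incl G = g := exists_lift (C0 G) g hg

/-- the neutral component as an object over `Spec k`. -/
noncomputable def G0 : Over (Spec (CommRingCat.of k)) := Over.mk (incl G ≫ G.hom)

/-- the inclusion as a morphism over `Spec k`. -/
noncomputable def i0 : G0 G ⟶ G := Over.homMk (incl G) rfl

instance : Mono (i0 G) := by
  have : Mono ((Over.forget _).map (i0 G)) := by
    change Mono (incl G)
    infer_instance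
  exact (Over.forget _).mono_of_mono_map this

theorem exists_lift_i0 {Y : Over (Spec (CommRingCat.of k))} (g : Y ⟶ G)
    (hg : Set.range g.left ⊆ C0 G) : ∃ g' : Y ⟶ G0 G, g' ≫ i0 G = g := by
  obtain ⟨g', hg'⟩ := exists_lift_incl G g.left hg
  refine ⟨Over.homMk g' ?_, ?_⟩
  · change g' ≫ incl G ≫ G.hom = Y.hom
    rw [← Category.assoc, hg', Over.w]
  · ext1
    exact hg'

theorem isIrreducible_box :
    IsIrreducible ((fst G G).left ⁻¹' C0 G ∩ (snd G G).left ⁻¹' C0 G) := by
  obtain ⟨Zs, j, _, hr, _, _⟩ := exists_closedSubscheme_C0 G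
  let Y : Over (Spec (CommRingCat.of k)) := Over.mk (j ≫ G.hom)
  let jY : Y ⟶ G := Over.homMk j rfl
  have : IrreducibleSpace Y.left := ‹IrreducibleSpace Zs›
  have h1 := isIrreducible_preimage_snd G Y
  have h2 : (jY ⊗ₘ 𝟙 G).left '' ((snd Y G).left ⁻¹' C0 G) =
      (fst G G).left ⁻¹' C0 G ∩ (snd G G).left ⁻¹' C0 G := by
    ext w
    constructor
    · rintro ⟨p, hp, rfl⟩
      constructor
      · change (fst G G).left ((jY ⊗ₘ 𝟙 G).left p) ∈ C0 G
        rw [← Scheme.Hom.comp_apply, ← Over.comp_left, tensorHom_fst, Over.comp_left,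
          Scheme.Hom.comp_apply, ← hr]
        exact ⟨_, rfl⟩
      · change (snd G G).left ((jY ⊗ₘ 𝟙 G).left p) ∈ C0 G
        rw [← Scheme.Hom.comp_apply, ← Over.comp_left, tensorHom_snd, Category.comp_id]
        exact hp
    · rintro ⟨hw1, hw2⟩
      have hrange : w ∈ Set.range (jY ⊗ₘ 𝟙 G).left := by
        rw [Over.tensorHom_left, Scheme.Pullback.range_map]
        refine ⟨?_, by simp⟩
        change (fst G G).left w ∈ Set.range j
        rw [hr]
        exact hw1
      obtain ⟨p, rfl⟩ := hrange
      refine ⟨p, ?_, rfl⟩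
      change (snd Y G).left p ∈ C0 G
      have : (snd G G).left ((jY ⊗ₘ 𝟙 G).left p) ∈ C0 G := hw2
      rwa [← Scheme.Hom.comp_apply, ← Over.comp_left, tensorHom_snd, Category.comp_id] at this
  rw [← h2]
  exact h1.image _ (jY ⊗ₘ 𝟙 G).left.continuous.continuousOn

theorem mul_mem_C0 (w : (G ⊗ G).left) (h1 : (fst G G).left w ∈ C0 G)
    (h2 : (snd G G).left w ∈ C0 G) : μ[G].left w ∈ C0 G := by
  have hirr := (isIrreducible_box G).image _ μ[G].left.continuous.continuousOn
  have hsub := subset_C0_of_isIrreducible G hirr ?_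
  · exact hsub ⟨w, ⟨h1, h2⟩, rfl⟩
  · let pt : Spec (CommRingCat.of k) := IsLocalRing.closedPoint k
    refine ⟨(lift η[G] η[G]).left pt, ⟨?_, ?_⟩, ?_⟩
    · change (fst G G).left ((lift η[G] η[G]).left pt) ∈ C0 G
      rw [← Scheme.Hom.comp_apply, ← Over.comp_left, lift_fst]
      exact ept_mem_C0 G
    · change (snd G G).left ((lift η[G] η[G]).left pt) ∈ C0 G
      rw [← Scheme.Hom.comp_apply, ← Over.comp_left, lift_snd]
      exact ept_mem_C0 G
    · rw [← Scheme.Hom.comp_apply, ← Over.comp_left]
      have : lift η[G] η[G] ≫ μ[G] = η[G] := by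
        have h := MonObj.one_mul G
        have e : lift η[G] η[G] = η[G] ≫ (λ_ G).inv ≫ (η[G] ▷ G) := by
          apply CartesianMonoidalCategory.hom_ext
          · simp only [lift_fst, Category.assoc, whiskerRight_fst, leftUnitor_inv_fst_assoc]
            rw [← Category.assoc]
            have : η[G] ≫ toUnit G = 𝟙 _ := toUnit_unique _ _
            rw [this, Category.id_comp]
          · simp
        rw [e, Category.assoc, Category.assoc, h, Iso.inv_hom_id, Category.comp_id]
      rw [this]
      rfl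

theorem inv_mem_C0 (x : G.left) (hx : x ∈ C0 G) : ι[G].left x ∈ C0 G := by
  have hirr := (isIrreducible_C0 G).image _ ι[G].left.continuous.continuousOn
  have hsub := subset_C0_of_isIrreducible G hirr ⟨ept G, ept_mem_C0 G, inv_ept G⟩
  exact hsub ⟨x, hx, rfl⟩

theorem incl_mem_C0 (z : Z0 G) : incl G z ∈ C0 G := by
  rw [← range_incl]
  exact ⟨z, rfl⟩

/-- the group structure on the neutral component. -/
theorem exists_grpObj : ∃ str : GrpObj (G0 G), @IsMonHom _ _ _ (G0 G) G str.toMonObj _ (i0 G) := by
  obtain ⟨e, he⟩ := exists_lift_i0 G (Y := 𝟙_ _) η[G] (by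
    rintro _ ⟨p, rfl⟩
    have : p = IsLocalRing.closedPoint k :=
      @Subsingleton.elim (Spec (CommRingCat.of k)) inferInstance _ _
    rw [this]
    exact ept_mem_C0 G)
  obtain ⟨m, hm⟩ := exists_lift_i0 G (Y := G0 G ⊗ G0 G) ((i0 G ⊗ₘ i0 G) ≫ μ[G]) (by
    rintro _ ⟨p, rfl⟩
    rw [Over.comp_left, Scheme.Hom.comp_apply]
    apply mul_mem_C0
    · rw [← Scheme.Hom.comp_apply, ← Over.comp_left, tensorHom_fst, Over.comp_left,
        Scheme.Hom.comp_apply]
      exact incl_mem_C0 G _
    · rw [← Scheme.Hom.comp_apply, ← Over.comp_left, tensorHom_snd, Over.comp_left,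
        Scheme.Hom.comp_apply]
      exact incl_mem_C0 G _)
  obtain ⟨v, hv⟩ := exists_lift_i0 G (Y := G0 G) (i0 G ≫ ι[G]) (by
    rintro _ ⟨p, rfl⟩
    rw [Over.comp_left, Scheme.Hom.comp_apply]
    exact inv_mem_C0 G _ (incl_mem_C0 G _))
  exact NeronClosB.exists_grpObj_of_mono (i0 G) e m v he hm hv

instance : IrreducibleSpace (Z0 G) := by
  have h : IsIrreducible (incl G '' (Set.univ : Set (Z0 G))) := by
    rw [Set.image_univ, range_incl]
    exact isIrreducible_C0 G
  have h' := GrpIrrD.isIrreducible_of_image (incl G).isEmbedding.toIsInducing h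
  exact { toPreirreducibleSpace := ⟨h'.isPreirreducible⟩, toNonempty := ⟨h'.nonempty.some⟩ }

instance : CompactSpace (Z0 G) := by
  constructor
  rw [(incl G).isEmbedding.isCompact_iff, Set.image_univ, range_incl]
  exact isCompact_C0 G

theorem geometricallyIrreducible_G0 : GeometricallyIrreducible (G0 G).hom := by
  change GeometricallyIrreducible (incl G ≫ G.hom)
  exact Groth.Agent.S7517.result k G (Z0 G) (incl G)
    (by rw [range_incl]; exact C0_mem G) (by rw [range_incl]; exact ept_mem_C0 G)

/-- the neutral component: a flat closed subgroup scheme, geometrically irreducible and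
quasi-compact, whose underlying set is the connected component of the unit. -/
theorem main : ∃ (G₀ : Over (Spec (CommRingCat.of k))) (_ : GrpObj G₀) (j : G₀ ⟶ G)
    (_ : IsMonHom j), IsClosedImmersion j.left ∧ Flat j.left ∧
    Set.range j.left = connectedComponent (ept G) ∧ GeometricallyIrreducible G₀.hom ∧
    CompactSpace G₀.left := by
  obtain ⟨str, hmon⟩ := exists_grpObj G
  refine ⟨G0 G, str, i0 G, hmon, ?_, ?_, ?_, geometricallyIrreducible_G0 G, ?_⟩
  · exact inferInstanceAs (IsClosedImmersion (incl G))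
  · exact inferInstanceAs (Flat (incl G))
  · rw [connectedComponent_ept]
    exact range_incl G
  · exact inferInstanceAs (CompactSpace (Z0 G))

end Groth.Agent.Lib.Helper70.GrpConnE
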