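import Mathlib
import Groth.Prelude.Def_CohB1
import Groth.Prelude.Def_FGA

/-!
# Base change of a Chow cover

Given a Chow cover of a model `Xi → T` and a closed immersion `X → Xi ×_T S`, we get a Chow cover
of `X → S`.
-/

set_option autoImplicit false
set_option linter.style.haveILetI false
universe u

open CategoryTheory Limits AlgebraicGeometry

namespace Groth.Agent.Lib.Helper70.ChowQcqsA

/-- `P^n_S = P^n_T ×_T S`. -/
theorem isPullback_projMap (n : ℕ) {S T : Scheme.{u}} (σ : S ⟶ T) :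
    IsPullback (FGA.projMap n σ) (CohB1.ProjSpaceOver.toBase n S)
      (CohB1.ProjSpaceOver.toBase n T) σ := by
  have hout : IsPullback
      (FGA.projMap n σ ≫ pullback.fst (CohB1.ProjSpace.toSpec n (ULift.{u} ℤ))
        (specULiftZIsTerminal.from T))
      (CohB1.ProjSpaceOver.toBase n S) (CohB1.ProjSpace.toSpec n (ULift.{u} ℤ))
      (σ ≫ specULiftZIsTerminal.from T) := by
    have h1 : FGA.projMap n σ ≫ pullback.fst (CohB1.ProjSpace.toSpec n (ULift.{u} ℤ))
        (specULiftZIsTerminal.from T) =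
        pullback.fst (CohB1.ProjSpace.toSpec n (ULift.{u} ℤ)) (specULiftZIsTerminal.from S) := by
      exact (pullback.lift_fst _ _ _).trans (Category.comp_id _)
    have h2 : σ ≫ specULiftZIsTerminal.from T = specULiftZIsTerminal.from S :=
      specULiftZIsTerminal.hom_ext _ _
    rw [h1, h2]
    exact IsPullback.of_hasPullback _ _
  refine IsPullback.of_right hout ?_ (IsPullback.of_hasPullback _ _)
  exact pullback.lift_snd _ _ _

/-- Base change of a Chow cover along `σ : S ⟶ T`, followed by restriction to a closed subscheme. -/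
theorem chow_base_change (n : ℕ) {S T Xi X' X AT : Scheme.{u}} (σ : S ⟶ T) (F : Xi ⟶ T)
    (f' : X' ⟶ S) (g' : X' ⟶ Xi) (hpb : IsPullback g' f' F σ)
    (ji : AT ⟶ CohB1.ProjSpaceOver n T) (πi : AT ⟶ Xi) [IsImmersion ji] [IsProper πi]
    [Surjective πi] (hcomp : ji ≫ CohB1.ProjSpaceOver.toBase n T = πi ≫ F)
    (ι : X ⟶ X') [IsClosedImmersion ι] (f : X ⟶ S) (hf : ι ≫ f' = f) :
    ∃ (X'' : Scheme.{u}) (π : X'' ⟶ X) (j : X'' ⟶ CohB1.ProjSpaceOver n S),
      IsImmersion j ∧ j ≫ CohB1.ProjSpaceOver.toBase n S = π ≫ f ∧ IsProper π ∧ Surjective π := by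
  -- `A_S = A_T ×_{P_T} P_S`
  have PB0 := isPullback_projMap n σ
  have PB2 : IsPullback (pullback.fst ji (FGA.projMap n σ)) (pullback.snd ji (FGA.projMap n σ))
      ji (FGA.projMap n σ) := IsPullback.of_hasPullback _ _
  have PB3 : IsPullback (pullback.fst ji (FGA.projMap n σ))
      (pullback.snd ji (FGA.projMap n σ) ≫ CohB1.ProjSpaceOver.toBase n S)
      (ji ≫ CohB1.ProjSpaceOver.toBase n T) σ := PB2.paste_vert PB0
  have hw : (pullback.fst ji (FGA.projMap n σ) ≫ πi) ≫ F =
      (pullback.snd ji (FGA.projMap n σ) ≫ CohB1.ProjSpaceOver.toBase n S) ≫ σ := by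
    rw [Category.assoc, ← hcomp]
    exact PB3.w
  obtain ⟨πS, hπS⟩ : ∃ πS, πS = hpb.lift (pullback.fst ji (FGA.projMap n σ) ≫ πi)
      (pullback.snd ji (FGA.projMap n σ) ≫ CohB1.ProjSpaceOver.toBase n S) hw := ⟨_, rfl⟩
  have hπS1 : πS ≫ g' = pullback.fst ji (FGA.projMap n σ) ≫ πi := by
    rw [hπS]; exact hpb.lift_fst _ _ _
  have hπS2 : πS ≫ f' = pullback.snd ji (FGA.projMap n σ) ≫ CohB1.ProjSpaceOver.toBase n S := by
    rw [hπS]; exact hpb.lift_snd _ _ _
  have PB4 : IsPullback (pullback.fst ji (FGA.projMap n σ)) πS πi g' := by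
    refine IsPullback.of_bot ?_ hπS1.symm hpb
    rw [hπS2, ← hcomp]
    exact PB3
  haveI : IsProper πS := MorphismProperty.of_isPullback PB4 inferInstance
  haveI : Surjective πS := MorphismProperty.of_isPullback PB4 inferInstance
  refine ⟨pullback πS ι, pullback.snd πS ι,
    pullback.fst πS ι ≫ pullback.snd ji (FGA.projMap n σ), inferInstance, ?_, inferInstance,
    inferInstance⟩
  rw [Category.assoc, ← hπS2, ← Category.assoc, pullback.condition, Category.assoc, hf]

end Groth.Agent.Lib.Helper70.ChowQcqsA
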