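import Mathlib
import Groth.Agent.S0590
import Groth.Agent.S0591
import Groth.Agent.S9190
import Groth.Agent.S7410
import Groth.Agent.Lib.Helper70.ChowQcqsA
import Groth.Agent.Lib.Helper70.AbsApproxR0

/-!
# Chow's lemma over a quasi-compact quasi-separated base, given a separated f.p. envelope
-/

set_option autoImplicit false
set_option linter.style.haveILetI false
universe u

open CategoryTheory Limits AlgebraicGeometry Opposite

namespace Groth.Agent.Lib.Helper70.ChowQcqsB

open Groth.Agent.Lib.Helper70.ChowQcqsA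

theorem isNoetherian_of_lft {T : Scheme.{u}} [CompactSpace T]
    (h : LocallyOfFiniteType (IsTerminal.from specULiftZIsTerminal T)) : IsNoetherian T := by
  haveI := h
  haveI : IsLocallyNoetherian T :=
    LocallyOfFiniteType.isLocallyNoetherian (IsTerminal.from specULiftZIsTerminal T)
  exact {}

theorem chow_of_sepModel {X S : Scheme.{u}} (f : X ⟶ S) [CompactSpace S] [QuasiSeparatedSpace S]
    (X' : Scheme.{u}) (f' : X' ⟶ S) (ι : X ⟶ X') [IsSeparated f']
    [LocallyOfFinitePresentation f'] [QuasiCompact f'] [IsClosedImmersion ι] (hι : ι ≫ f' = f) :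
    ∃ (n : ℕ) (X'' : Scheme.{u}) (π : X'' ⟶ X) (j : X'' ⟶ CohB1.ProjSpaceOver n S),
      IsImmersion j ∧ j ≫ CohB1.ProjSpaceOver.toBase n S = π ≫ f ∧ IsProper π ∧ Surjective π := by
  obtain ⟨I, _, _, _, D, c, hc, haffD, hD, ⟨e⟩⟩ := Groth.Agent.S0590.result S
  haveI : ∀ (i j : Iᵒᵖ) (f : i ⟶ j), IsAffineHom (D.map f) := haffD
  haveI : ∀ i, CompactSpace (D.obj i) := fun i => (hD i).1
  haveI : ∀ i, IsNoetherian (D.obj i) := fun i => isNoetherian_of_lft (hD i).2
  haveI : ∀ i, QuasiSeparatedSpace (D.obj i) := fun i => inferInstance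
  haveI : IsCofiltered Iᵒᵖ := inferInstance
  obtain ⟨f'', hf''⟩ : ∃ f'' : X' ⟶ c.pt, f'' = f' ≫ e.inv := ⟨_, rfl⟩
  haveI : LocallyOfFinitePresentation f'' := by rw [hf'']; infer_instance
  haveI : QuasiCompact f'' := by rw [hf'']; infer_instance
  haveI : IsSeparated f'' := by rw [hf'']; infer_instance
  obtain ⟨i, Xi, fi, g, hfi1, hfi2, hfi3, hpb⟩ := Groth.Agent.S0591.result D c hc X' f''
  haveI : CompactSpace Xi := QuasiCompact.compactSpace_of_compactSpace fi
  haveI : QuasiSeparatedSpace Xi := quasiSeparatedSpace_of_quasiSeparated fi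
  have hY : IsPullback (c.π.app i) (𝟙 c.pt) (𝟙 (D.obj i)) (c.π.app i) :=
    IsPullback.id_vert (c.π.app i)
  obtain ⟨i', φ, Xi', Yi, fi', gi, pY, pX, h1, h2, hsep⟩ :=
    Groth.Agent.S9190.result D c hc i fi (𝟙 _) f'' (𝟙 c.pt) (c.π.app i) g hY hpb
  haveI : IsIso gi := h1.isIso_snd_of_isIso
  obtain ⟨F, hF⟩ : ∃ F : Xi' ⟶ D.obj i', F = fi' ≫ gi := ⟨_, rfl⟩
  haveI : IsSeparated F := by rw [hF]; infer_instance
  have hbig : IsPullback pX F fi (D.map φ) := by
    have := h2.paste_vert h1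
    rw [Category.comp_id] at this
    rw [hF]
    exact this
  haveI : LocallyOfFinitePresentation F := MorphismProperty.of_isPullback hbig hfi1
  haveI : QuasiCompact F := MorphismProperty.of_isPullback hbig hfi2
  have hw : g ≫ fi = (f'' ≫ c.π.app i') ≫ D.map φ :=
    calc g ≫ fi = f'' ≫ c.π.app i := hpb.w
      _ = (f'' ≫ c.π.app i') ≫ D.map φ := by rw [Category.assoc, Cone.w]
  obtain ⟨q, hq⟩ : ∃ q : X' ⟶ Xi', q = hbig.lift g (f'' ≫ c.π.app i') hw := ⟨_, rfl⟩
  have hq1 : q ≫ pX = g := by rw [hq]; exact hbig.lift_fst _ _ _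
  have hq2 : q ≫ F = f'' ≫ c.π.app i' := by rw [hq]; exact hbig.lift_snd _ _ _
  have hsq : IsPullback q f'' F (c.π.app i') := by
    refine IsPullback.of_right ?_ hq2 hbig
    rw [hq1, c.w]
    exact hpb
  -- the Noetherian stage
  haveI : CompactSpace Xi' := QuasiCompact.compactSpace_of_compactSpace F
  haveI : IsNoetherian Xi' := by
    apply isNoetherian_of_lft
    have : IsTerminal.from specULiftZIsTerminal Xi' =
        F ≫ IsTerminal.from specULiftZIsTerminal (D.obj i') := specULiftZIsTerminal.hom_ext _ _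
    rw [this]
    haveI := (hD i').2
    infer_instance
  have hirr : (irreducibleComponents (Xi' : Type u)).Finite :=
    TopologicalSpace.NoetherianSpace.finite_irreducibleComponents
  obtain ⟨n, AT, πi, ji, hji, hcomp, hπi1, hπi2, -⟩ := Groth.Agent.S7410.result F hirr
  -- base change
  obtain ⟨σ, hσ⟩ : ∃ σ : S ⟶ D.obj i', σ = e.inv ≫ c.π.app i' := ⟨_, rfl⟩
  have hpb' : IsPullback q f' F σ := by
    have h3 : IsPullback (𝟙 X') f' f'' e.inv := by
      refine IsPullback.of_horiz_isIso ⟨?_⟩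
      rw [Category.id_comp, hf'']
    have := h3.paste_horiz hsq
    rw [Category.id_comp] at this
    rw [hσ]
    exact this
  obtain ⟨X'', π, j, hj1, hj2, hj3, hj4⟩ :=
    chow_base_change n σ F f' q hpb' ji πi hcomp ι f hι
  exact ⟨n, X'', π, j, hj1, hj2, hj3, hj4⟩

end Groth.Agent.Lib.Helper70.ChowQcqsB
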