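import Mathlib
import Groth.Agent.Lib.Helper70.SpecUnivHomeo

/-!
# Universal homeomorphisms of affine schemes: residue fields are purely inseparable (helper70)
-/

universe u

namespace Groth.Agent.Lib.Helper70

open CategoryTheory AlgebraicGeometry

namespace SpecUH

theorem isPurelyInseparable_residue_of_universallyInjective {A B : Type u} [CommRing A] [CommRing B]
    (φ : A →+* B) [UniversallyInjective (Spec.map (CommRingCat.ofHom φ))] (q : PrimeSpectrum B) :
    RingHom.IsPurelyInseparable
      (Ideal.ResidueField.map (PrimeSpectrum.comap φ q).asIdeal q.asIdeal φ rfl) := by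
  have h3 := ((tfae_universallyInjective (Spec.map (CommRingCat.ofHom φ))).out 0 2).mp ‹_›
  have hy := h3.2 q
  have hb := residueFieldMap_Spec_bridge (CommRingCat.ofHom φ) q
  have e : Ideal.ResidueField.map (PrimeSpectrum.comap φ q).asIdeal q.asIdeal φ rfl =
      ((Scheme.Spec.residueFieldIso (CommRingCat.of B) q).hom.hom.comp
        ((Spec.map (CommRingCat.ofHom φ)).residueFieldMap q).hom).comp
        (Scheme.Spec.residueFieldIso (CommRingCat.of A) ((Spec.map (CommRingCat.ofHom φ)) q)).inv.hom := by
    have := congrArg CommRingCat.Hom.hom hb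
    exact this.symm
  rw [e]
  refine RingHom.IsPurelyInseparable.comp ?_ (RingHom.IsPurelyInseparable.comp hy ?_)
  · apply isPurelyInseparable_of_bijective
    exact ConcreteCategory.bijective_of_isIso
      (Scheme.Spec.residueFieldIso (CommRingCat.of A) ((Spec.map (CommRingCat.ofHom φ)) q)).inv
  · apply isPurelyInseparable_of_bijective
    exact ConcreteCategory.bijective_of_isIso (Scheme.Spec.residueFieldIso (CommRingCat.of B) q).hom

theorem isPurelyInseparable_residue_of_isUnivHomeo {A B : Type u} [CommRing A] [CommRing B]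
    (φ : A →+* B) (h : FlatMor.IsUnivHomeo (Spec.map (CommRingCat.ofHom φ)))
    (q : PrimeSpectrum B) :
    RingHom.IsPurelyInseparable
      (Ideal.ResidueField.map (PrimeSpectrum.comap φ q).asIdeal q.asIdeal φ rfl) := by
  obtain ⟨h1, -, -⟩ := (isUnivHomeo_iff _).mp h
  exact isPurelyInseparable_residue_of_universallyInjective φ q

/-- S13838 -/
theorem residueFieldsIso_of_univHomeo_subalgebra (A B : Type u) [CommRing A] [CommRing B] [Algebra A B]
    (hpi : ∀ p : PrimeSpectrum A, ∃ q : PrimeSpectrum B, ∃ hq : p.asIdeal = Ideal.comap (algebraMap A B) q.asIdeal,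
      ∀ x : q.asIdeal.ResidueField,
        (∃ n : ℕ, x ^ ringExpChar p.asIdeal.ResidueField ^ n ∈
            Set.range (Ideal.ResidueField.map p.asIdeal q.asIdeal (algebraMap A B) hq)) →
        x ∈ Set.range (Ideal.ResidueField.map p.asIdeal q.asIdeal (algebraMap A B) hq)) :
    ∀ C : Subalgebra A B, FlatMor.IsUnivHomeo (Spec.map (CommRingCat.ofHom (algebraMap A C))) →
      HTop.ResidueFieldsIso (Spec.map (CommRingCat.ofHom (algebraMap A C))) := by
  intro C hC
  rw [residueFieldsIso_SpecMap_iff]
  intro r
  obtain ⟨q, hq, hx⟩ := hpi (PrimeSpectrum.comap (algebraMap A C) r)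
  have hr : PrimeSpectrum.comap C.val.toRingHom q = r := by
    apply (isIntegral_and_bijective_of_isUnivHomeo _ hC).2.1
    apply PrimeSpectrum.ext
    rw [hq]
    rfl
  subst hr
  set ρ := Ideal.ResidueField.map
    (PrimeSpectrum.comap (algebraMap A C) (PrimeSpectrum.comap C.val.toRingHom q)).asIdeal
    (PrimeSpectrum.comap C.val.toRingHom q).asIdeal (algebraMap A C) rfl with hρ
  let σ : (PrimeSpectrum.comap C.val.toRingHom q).asIdeal.ResidueField →+* q.asIdeal.ResidueField :=
    Ideal.ResidueField.map (PrimeSpectrum.comap C.val.toRingHom q).asIdeal q.asIdeal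
      C.val.toRingHom rfl
  have hcomp : σ.comp ρ = Ideal.ResidueField.map
      (PrimeSpectrum.comap (algebraMap A C) (PrimeSpectrum.comap C.val.toRingHom q)).asIdeal
      q.asIdeal (algebraMap A B) hq := by
    apply Ideal.ResidueField.ringHom_ext
    ext a
    simp only [RingHom.comp_apply, Ideal.ResidueField.map_algebraMap, hρ, σ]
    rfl
  refine ⟨ρ.injective, fun x => ?_⟩
  have hpur := isPurelyInseparable_residue_of_isUnivHomeo (algebraMap A C) hC
    (PrimeSpectrum.comap C.val.toRingHom q)
  rw [← hρ] at hpur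
  unfold RingHom.IsPurelyInseparable at hpur
  let _ := ρ.toAlgebra
  obtain ⟨n, y, hy⟩ := IsPurelyInseparable.pow_mem
    (PrimeSpectrum.comap (algebraMap A C) (PrimeSpectrum.comap C.val.toRingHom q)).asIdeal.ResidueField
    (ringExpChar (PrimeSpectrum.comap (algebraMap A C)
      (PrimeSpectrum.comap C.val.toRingHom q)).asIdeal.ResidueField) x
  have hy' : ρ y = x ^ _ := hy
  obtain ⟨z, hz⟩ := hx (σ x) ⟨n, y, by rw [← map_pow, ← hy', ← hcomp]; rfl⟩
  refine ⟨z, σ.injective ?_⟩
  rw [← hz, ← hcomp]
  rfl

end SpecUH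

end Groth.Agent.Lib.Helper70
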