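import Mathlib
import Groth.Agent.Lib.Helper70.SpecUnivHomeoB

/-!
# Universally injective maps of affine schemes via field-valued points; the weak normalisation
of `A` in an integral extension `B` as the equaliser of `B ⇉ (B ⊗_A B)_red` (helper70)
-/

universe u

namespace Groth.Agent.Lib.Helper70

open CategoryTheory AlgebraicGeometry TensorProduct

namespace SpecUH

/-- Extension of a homomorphism to a field along an injective integral ring map, after enlarging the
field to its algebraic closure. -/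
theorem exists_extension_algebraicClosure {R S : Type u} [CommRing R] [CommRing S] (φ : R →+* S)
    (hφ : φ.IsIntegral) (hinj : Function.Injective φ) {κ : Type u} [Field κ] (g : R →+* κ) :
    ∃ f : S →+* AlgebraicClosure κ, f.comp φ = (algebraMap κ (AlgebraicClosure κ)).comp g := by
  have hker : (RingHom.ker g).IsPrime := RingHom.ker_isPrime g
  obtain ⟨q, hqp, hq⟩ : ∃ q : Ideal S, q.IsPrime ∧ q.comap φ = RingHom.ker g := by
    let _ := φ.toAlgebra
    have : Algebra.IsIntegral R S := ⟨hφ⟩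
    obtain ⟨Q, -, hQp, hQ⟩ := Ideal.exists_ideal_over_prime_of_isIntegral (S := S)
      (RingHom.ker g) (⊥ : Ideal S) (by
        intro b hb
        rw [Ideal.mem_comap, Ideal.mem_bot] at hb
        have : b = 0 := hinj (by rw [map_zero]; exact hb)
        rw [this]; exact zero_mem _)
    exact ⟨Q, hQp, hQ⟩
  let ψ : R ⧸ q.comap φ →+* S ⧸ q := Ideal.quotientMap q φ le_rfl
  have hψint : ψ.IsIntegral := hφ.quotient
  have hψinj : Function.Injective ψ := Ideal.quotientMap_injective
  let γ : R ⧸ q.comap φ →+* κ := Ideal.Quotient.lift (q.comap φ) g (by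
    intro a ha; rw [hq] at ha; exact ha)
  have hγinj : Function.Injective γ := by
    apply RingHom.lift_injective_of_ker_le_ideal
    rw [hq]
  have : (q.comap φ).IsPrime := hq ▸ hker
  let _ : Algebra (R ⧸ q.comap φ) (S ⧸ q) := ψ.toAlgebra
  let _ : Algebra (R ⧸ q.comap φ) (AlgebraicClosure κ) :=
    ((algebraMap κ (AlgebraicClosure κ)).comp γ).toAlgebra
  have : Algebra.IsIntegral (R ⧸ q.comap φ) (S ⧸ q) := ⟨hψint⟩
  have : Module.IsTorsionFree (R ⧸ q.comap φ) (S ⧸ q) :=
    Module.isTorsionFree_iff_algebraMap_injective.mpr hψinj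
  have : Module.IsTorsionFree (R ⧸ q.comap φ) (AlgebraicClosure κ) :=
    Module.isTorsionFree_iff_algebraMap_injective.mpr
      ((algebraMap κ (AlgebraicClosure κ)).injective.comp hγinj)
  let F : S ⧸ q →ₐ[R ⧸ q.comap φ] AlgebraicClosure κ := IsAlgClosed.lift
  refine ⟨F.toRingHom.comp (Ideal.Quotient.mk q), ?_⟩
  ext a
  have := F.commutes (Ideal.Quotient.mk (q.comap φ) a)
  simp only [RingHom.comp_apply]
  exact this

theorem universallyInjective_SpecMap_of {A E : Type u} [CommRing A] [CommRing E] (φ : A →+* E)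
    (h : ∀ (K : Type u) [Field K] (g₁ g₂ : E →+* K), g₁.comp φ = g₂.comp φ → g₁ = g₂) :
    UniversallyInjective (Spec.map (CommRingCat.ofHom φ)) := by
  apply ((tfae_universallyInjective (Spec.map (CommRingCat.ofHom φ))).out 0 1).mpr
  intro K _ g₁ g₂ hg
  obtain ⟨γ₁, rfl⟩ : ∃ γ, Spec.map γ = g₁ := ⟨Spec.preimage g₁, Spec.map_preimage g₁⟩
  obtain ⟨γ₂, rfl⟩ : ∃ γ, Spec.map γ = g₂ := ⟨Spec.preimage g₂, Spec.map_preimage g₂⟩
  simp only [← Spec.map_comp] at hg
  have h2 := Spec.map_injective hg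
  have h3 : γ₁.hom.comp φ = γ₂.hom.comp φ := by
    have := congrArg CommRingCat.Hom.hom h2
    exact this
  have h4 := h K γ₁.hom γ₂.hom h3
  congr 1
  exact CommRingCat.hom_ext h4

theorem ringHom_ext_of_universallyInjective {A C : Type u} [CommRing A] [CommRing C] (φ : A →+* C)
    [UniversallyInjective (Spec.map (CommRingCat.ofHom φ))] (K : Type u) [Field K]
    (g₁ g₂ : C →+* K) (h : g₁.comp φ = g₂.comp φ) : g₁ = g₂ := by
  have h0 := ((tfae_universallyInjective (Spec.map (CommRingCat.ofHom φ))).out 0 1).mp ‹_›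
  have h1 := h0 K
  have h2 : Spec.map (CommRingCat.ofHom g₁) ≫ Spec.map (CommRingCat.ofHom φ) =
      Spec.map (CommRingCat.ofHom g₂) ≫ Spec.map (CommRingCat.ofHom φ) := by
    rw [← Spec.map_comp, ← Spec.map_comp, ← CommRingCat.ofHom_comp, ← CommRingCat.ofHom_comp, h]
  have h3 := Spec.map_injective (h1 h2)
  exact congrArg CommRingCat.Hom.hom h3

theorem isUnivHomeo_SpecMap_of' {A E : Type u} [CommRing A] [CommRing E] (φ : A →+* E)
    (hint : φ.IsIntegral) (hsurj : Function.Surjective (PrimeSpectrum.comap φ))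
    (h : ∀ (K : Type u) [Field K] (g₁ g₂ : E →+* K), g₁.comp φ = g₂.comp φ → g₁ = g₂) :
    FlatMor.IsUnivHomeo (Spec.map (CommRingCat.ofHom φ)) := by
  have hInt : IsIntegralHom (Spec.map (CommRingCat.ofHom φ)) :=
    IsIntegralHom.SpecMap_iff.mpr hint
  have hSurj : Surjective (Spec.map (CommRingCat.ofHom φ)) := ⟨hsurj⟩
  have hUI : UniversallyInjective (Spec.map (CommRingCat.ofHom φ)) :=
    universallyInjective_SpecMap_of φ h
  exact isUnivHomeo_of _

section S13837
variable (A B : Type u) [CommRing A] [CommRing B] [Algebra A B]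

/-- the two maps `B ⇉ (B ⊗_A B)_red`. -/
noncomputable def redLeft : B →ₐ[A] (B ⊗[A] B) ⧸ nilradical (B ⊗[A] B) :=
  (Ideal.Quotient.mkₐ A (nilradical (B ⊗[A] B))).comp Algebra.TensorProduct.includeLeft

noncomputable def redRight : B →ₐ[A] (B ⊗[A] B) ⧸ nilradical (B ⊗[A] B) :=
  (Ideal.Quotient.mkₐ A (nilradical (B ⊗[A] B))).comp Algebra.TensorProduct.includeRight

/-- the weak normalisation of `A` in `B` as an equaliser. -/
noncomputable def wnEq : Subalgebra A B := AlgHom.equalizer (redLeft A B) (redRight A B)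

theorem mem_wnEq (b : B) :
    b ∈ wnEq A B ↔ IsNilpotent (b ⊗ₜ[A] (1 : B) - (1 : B) ⊗ₜ[A] b) := by
  unfold wnEq
  rw [AlgHom.mem_equalizer]
  unfold redLeft redRight
  simp only [AlgHom.comp_apply, Ideal.Quotient.mkₐ_eq_mk, Algebra.TensorProduct.includeLeft_apply,
    Algebra.TensorProduct.includeRight_apply]
  rw [Ideal.Quotient.eq, mem_nilradical]

variable {A B}

/-- two maps `B ⇉ Ω` to a field agreeing on `A` agree on `wnEq`. -/
theorem eq_on_wnEq {Ω : Type u} [Field Ω] (f₁ f₂ : B →+* Ω)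
    (h : f₁.comp (algebraMap A B) = f₂.comp (algebraMap A B)) (e : B) (he : e ∈ wnEq A B) :
    f₁ e = f₂ e := by
  let _ : Algebra A Ω := (f₁.comp (algebraMap A B)).toAlgebra
  let F₁ : B →ₐ[A] Ω := { f₁ with commutes' := fun a => rfl }
  let F₂ : B →ₐ[A] Ω := { f₂ with commutes' := fun a => (congrFun (congrArg DFunLike.coe h) a).symm }
  let T : B ⊗[A] B →ₐ[A] Ω := Algebra.TensorProduct.productMap F₁ F₂
  have hnil := (mem_wnEq A B e).mp he
  have h2 : IsNilpotent (T (e ⊗ₜ[A] (1 : B) - (1 : B) ⊗ₜ[A] e)) := hnil.map T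
  have h3 : T (e ⊗ₜ[A] (1 : B) - (1 : B) ⊗ₜ[A] e) = f₁ e - f₂ e := by
    rw [map_sub]
    simp only [T, Algebra.TensorProduct.productMap_apply_tmul, map_one, mul_one, one_mul]
    rfl
  rw [h3] at h2
  exact sub_eq_zero.mp h2.eq_zero

theorem wnEq_hom_ext [Algebra.IsIntegral A B] (K : Type u) [Field K]
    (g₁ g₂ : wnEq A B →+* K)
    (h : g₁.comp (algebraMap A (wnEq A B)) = g₂.comp (algebraMap A (wnEq A B))) : g₁ = g₂ := by
  have hint : (wnEq A B).val.toRingHom.IsIntegral := by
    intro b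
    have hb : IsIntegral A b := Algebra.IsIntegral.isIntegral b
    exact hb.tower_top
  have hinj : Function.Injective (wnEq A B).val.toRingHom := Subtype.val_injective
  obtain ⟨f₁, hf₁⟩ := exists_extension_algebraicClosure _ hint hinj g₁
  obtain ⟨f₂, hf₂⟩ := exists_extension_algebraicClosure _ hint hinj g₂
  have hval : (wnEq A B).val.toRingHom.comp (algebraMap A (wnEq A B)) = algebraMap A B := by
    ext a; rfl
  have hagree : f₁.comp (algebraMap A B) = f₂.comp (algebraMap A B) := by
    rw [← hval, ← RingHom.comp_assoc, ← RingHom.comp_assoc, hf₁, hf₂, RingHom.comp_assoc,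
      RingHom.comp_assoc, h]
  ext e
  apply (algebraMap K (AlgebraicClosure K)).injective
  have h1 := congrFun (congrArg DFunLike.coe hf₁) e
  have h2 := congrFun (congrArg DFunLike.coe hf₂) e
  simp only [RingHom.comp_apply] at h1 h2
  rw [← h1, ← h2]
  exact eq_on_wnEq f₁ f₂ hagree e.1 e.2

end S13837

/-- S13837 -/
theorem weakNormalization_eq_equalizer (A B : Type u) [CommRing A] [CommRing B] [Algebra A B]
    (hinj : Function.Injective (algebraMap A B)) [Algebra.IsIntegral A B] :
    ∃ E : Subalgebra A B, (∀ b : B, b ∈ E ↔ IsNilpotent (b ⊗ₜ[A] (1 : B) - (1 : B) ⊗ₜ[A] b)) ∧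
      FlatMor.IsUnivHomeo (Spec.map (CommRingCat.ofHom (algebraMap A E))) ∧
      ∀ C : Subalgebra A B, FlatMor.IsUnivHomeo (Spec.map (CommRingCat.ofHom (algebraMap A C))) →
        C ≤ E := by
  refine ⟨wnEq A B, mem_wnEq A B, ?_, ?_⟩
  · have hint : (algebraMap A (wnEq A B)).IsIntegral := by
      have : Algebra.IsIntegral A (wnEq A B) :=
        Algebra.IsIntegral.of_injective (wnEq A B).val Subtype.val_injective
      exact fun x => Algebra.IsIntegral.isIntegral x
    have hinj' : Function.Injective (algebraMap A (wnEq A B)) := by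
      intro a b hab
      apply hinj
      exact congrArg Subtype.val hab
    have hsurj : Function.Surjective (PrimeSpectrum.comap (algebraMap A (wnEq A B))) := by
      intro P
      have : Algebra.IsIntegral A (wnEq A B) := ⟨hint⟩
      obtain ⟨Q, -, hQp, hQ⟩ := Ideal.exists_ideal_over_prime_of_isIntegral (S := wnEq A B)
        P.asIdeal (⊥ : Ideal (wnEq A B)) (by
          intro b hb
          rw [Ideal.mem_comap, Ideal.mem_bot] at hb
          have : b = 0 := hinj' (by rw [map_zero]; exact hb)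
          rw [this]; exact zero_mem _)
      exact ⟨⟨Q, hQp⟩, PrimeSpectrum.ext hQ⟩
    exact isUnivHomeo_SpecMap_of' _ hint hsurj (fun K _ g₁ g₂ h => wnEq_hom_ext K g₁ g₂ h)
  · intro C hC c hc
    rw [mem_wnEq, nilpotent_iff_mem_prime]
    intro P hP
    obtain ⟨hUI, -, -⟩ := (isUnivHomeo_iff _).mp hC
    let π : B ⊗[A] B →+* P.ResidueField := algebraMap _ _
    let g₁ : C →+* P.ResidueField :=
      π.comp ((Algebra.TensorProduct.includeLeft : B →ₐ[A] B ⊗[A] B).toRingHom.comp C.val.toRingHom)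
    let g₂ : C →+* P.ResidueField :=
      π.comp ((Algebra.TensorProduct.includeRight : B →ₐ[A] B ⊗[A] B).toRingHom.comp C.val.toRingHom)
    have hg : g₁.comp (algebraMap A C) = g₂.comp (algebraMap A C) := by
      ext a
      simp only [g₁, g₂, RingHom.comp_apply]
      congr 1
      change (algebraMap A B a) ⊗ₜ[A] (1 : B) = (1 : B) ⊗ₜ[A] (algebraMap A B a)
      rw [Algebra.algebraMap_eq_smul_one, TensorProduct.smul_tmul]
    have h12 := ringHom_ext_of_universallyInjective (algebraMap A C) P.ResidueField g₁ g₂ hg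
    have h3 := congrFun (congrArg DFunLike.coe h12) ⟨c, hc⟩
    have h4 : π (c ⊗ₜ[A] (1 : B) - (1 : B) ⊗ₜ[A] c) = 0 := by
      rw [map_sub, sub_eq_zero]
      exact h3
    exact (Ideal.algebraMap_residueField_eq_zero).mp h4

end SpecUH

end Groth.Agent.Lib.Helper70
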