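import Mathlib
import Groth.Agent.Lib.Helper70.SpecUnivHomeoC

/-!
# Existence of the absolute weak normalisation of a ring (helper70)

* `isUnivHomeo_SpecMap_iff`: `Spec ψ` is a universal homeomorphism iff `ψ` is integral, its kernel is
  nil, and field-valued points of the target are determined by their restriction to the source.
* `AWNConstr.awn A`: the largest subring `C` of `∏_p \overline{k(p)}` containing the image of `A`,
  integral over `A`, whose field-valued points are determined by their restriction to `A`.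
* `AWNConstr.exists_isRingAWN` (= S7422).
-/

universe u

namespace Groth.Agent.Lib.Helper70

open CategoryTheory AlgebraicGeometry

namespace SpecUH

/-- Extension of a homomorphism to a field along an integral ring map whose kernel is killed,
after enlarging the field to its algebraic closure. -/
theorem exists_extension_algebraicClosure' {R S : Type u} [CommRing R] [CommRing S] (φ : R →+* S)
    (hφ : φ.IsIntegral) {κ : Type u} [Field κ] (g : R →+* κ)
    (hker : RingHom.ker φ ≤ RingHom.ker g) :
    ∃ f : S →+* AlgebraicClosure κ, f.comp φ = (algebraMap κ (AlgebraicClosure κ)).comp g := by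
  -- factor through the image
  let φ' : R ⧸ RingHom.ker φ →+* S := RingHom.kerLift φ
  have hφ'inj : Function.Injective φ' := RingHom.kerLift_injective φ
  have hφ'int : φ'.IsIntegral := by
    intro s
    obtain ⟨p, hp, hps⟩ := hφ s
    refine ⟨p.map (Ideal.Quotient.mk _), hp.map _, ?_⟩
    rw [Polynomial.eval₂_map]
    exact hps
  let g' : R ⧸ RingHom.ker φ →+* κ := Ideal.Quotient.lift _ g (fun a ha => hker ha)
  obtain ⟨f, hf⟩ := exists_extension_algebraicClosure φ' hφ'int hφ'inj g'
  refine ⟨f, ?_⟩
  ext a
  have := congrFun (congrArg DFunLike.coe hf) (Ideal.Quotient.mk _ a)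
  exact this

theorem ker_le_nilradical_of_comap_surjective {A C : Type*} [CommRing A] [CommRing C]
    (ψ : A →+* C) (h : Function.Surjective (PrimeSpectrum.comap ψ)) :
    RingHom.ker ψ ≤ nilradical A := by
  intro a ha
  rw [mem_nilradical, nilpotent_iff_mem_prime]
  intro P hP
  obtain ⟨Q, hQ⟩ := h ⟨P, hP⟩
  have : a ∈ (PrimeSpectrum.comap ψ Q).asIdeal := by
    change ψ a ∈ Q.asIdeal
    rw [RingHom.mem_ker.mp ha]
    exact zero_mem _
  rw [hQ] at this
  exact this

theorem comap_surjective_of_isIntegral_of_ker_le {A C : Type*} [CommRing A] [CommRing C]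
    (ψ : A →+* C) (hint : ψ.IsIntegral) (hker : RingHom.ker ψ ≤ nilradical A) :
    Function.Surjective (PrimeSpectrum.comap ψ) := by
  intro P
  let _ := ψ.toAlgebra
  have : Algebra.IsIntegral A C := ⟨hint⟩
  obtain ⟨Q, -, hQp, hQ⟩ := Ideal.exists_ideal_over_prime_of_isIntegral (S := C)
    P.asIdeal (⊥ : Ideal C) (by
      intro b hb
      rw [Ideal.mem_comap, Ideal.mem_bot] at hb
      have hb' : b ∈ nilradical A := hker hb
      exact (nilpotent_iff_mem_prime.mp (mem_nilradical.mp hb')) P.asIdeal P.isPrime)
  exact ⟨⟨Q, hQp⟩, PrimeSpectrum.ext hQ⟩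

/-- ring-level criterion for `Spec ψ` to be a universal homeomorphism. -/
theorem isUnivHomeo_SpecMap_iff {A C : Type u} [CommRing A] [CommRing C] (ψ : A →+* C) :
    FlatMor.IsUnivHomeo (Spec.map (CommRingCat.ofHom ψ)) ↔
      ψ.IsIntegral ∧ RingHom.ker ψ ≤ nilradical A ∧
        ∀ (K : Type u) [Field K] (g₁ g₂ : C →+* K), g₁.comp ψ = g₂.comp ψ → g₁ = g₂ := by
  constructor
  · intro h
    obtain ⟨hint, hbij⟩ := isIntegral_and_bijective_of_isUnivHomeo ψ h
    obtain ⟨hUI, -, -⟩ := (isUnivHomeo_iff _).mp h
    exact ⟨hint, ker_le_nilradical_of_comap_surjective ψ hbij.2,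
      fun K _ g₁ g₂ hg => ringHom_ext_of_universallyInjective ψ K g₁ g₂ hg⟩
  · rintro ⟨hint, hker, hfp⟩
    exact isUnivHomeo_SpecMap_of' ψ hint (comap_surjective_of_isIntegral_of_ker_le ψ hint hker) hfp

namespace AWNConstr

variable (A : Type u) [CommRing A]

/-- the big product `∏_p \overline{k(p)}` -/
abbrev P := ∀ p : PrimeSpectrum A, AlgebraicClosure p.asIdeal.ResidueField

/-- the canonical map `A → \overline{k(p)}` -/
noncomputable def can (p : PrimeSpectrum A) : A →+* AlgebraicClosure p.asIdeal.ResidueField :=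
  (algebraMap p.asIdeal.ResidueField (AlgebraicClosure p.asIdeal.ResidueField)).comp
    (algebraMap A p.asIdeal.ResidueField)

noncomputable def diag : A →+* P A := Pi.ringHom (can A)

theorem diag_apply (a : A) (p : PrimeSpectrum A) : diag A a p = can A p a := rfl

theorem ker_can (p : PrimeSpectrum A) : RingHom.ker (can A p) = p.asIdeal := by
  ext a
  rw [RingHom.mem_ker]
  unfold can
  rw [RingHom.comp_apply]
  constructor
  · intro h
    have h2 : algebraMap A p.asIdeal.ResidueField a = 0 :=
      (algebraMap p.asIdeal.ResidueField (AlgebraicClosure p.asIdeal.ResidueField)).injective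
        (h.trans (map_zero _).symm)
    exact Ideal.algebraMap_residueField_eq_zero.mp h2
  · intro h
    rw [Ideal.algebraMap_residueField_eq_zero.mpr h, map_zero]

theorem ker_diag_le : RingHom.ker (diag A) ≤ nilradical A := by
  intro a ha
  rw [mem_nilradical, nilpotent_iff_mem_prime]
  intro J hJ
  have h1 : diag A a ⟨J, hJ⟩ = 0 := by rw [RingHom.mem_ker.mp ha]; rfl
  rw [diag_apply] at h1
  have : a ∈ RingHom.ker (can A ⟨J, hJ⟩) := h1
  rwa [ker_can] at this

/-- a subring of `P` is good if it contains the image of `A`, is integral over `A`, and its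
field-valued points are determined by their restriction to `A`. -/
structure Good (C : Subring (P A)) : Prop where
  le : (diag A).range ≤ C
  int : ∀ x ∈ C, (diag A).IsIntegralElem x
  ext : ∀ (K : Type u) [Field K] (g₁ g₂ : C →+* K),
    (∀ a : A, g₁ ⟨diag A a, le ⟨a, rfl⟩⟩ = g₂ ⟨diag A a, le ⟨a, rfl⟩⟩) → g₁ = g₂

/-- the absolute weak normalisation as a subring of `P`. -/
noncomputable def awn : Subring (P A) := sSup {C | Good A C}

theorem good_range : Good A (diag A).range where
  le := le_rfl
  int := by
    rintro _ ⟨a, rfl⟩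
    exact (diag A).isIntegralElem_map
  ext := by
    intro K _ g₁ g₂ h
    ext ⟨_, ⟨a, rfl⟩⟩
    exact h a

theorem good_awn : Good A (awn A) where
  le := le_sSup (good_range A)
  int := by
    intro x hx
    let _ := (diag A).toAlgebra
    have hle : awn A ≤ (integralClosure A (P A)).toSubring := by
      apply sSup_le
      intro C hC x hx
      exact hC.int x hx
    exact hle hx
  ext := by
    intro K _ g₁ g₂ h
    -- the equaliser, pushed to `P`
    let E : Subring (P A) := (RingHom.eqLocus g₁ g₂).map (awn A).subtype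
    have hE : awn A ≤ E := by
      apply sSup_le
      intro C hC x hx
      have hCle : C ≤ awn A := le_sSup hC
      let i : C →+* awn A := Subring.inclusion hCle
      have h12 : g₁.comp i = g₂.comp i := by
        apply hC.ext K
        intro a
        exact h a
      refine ⟨⟨x, hCle hx⟩, ?_, rfl⟩
      exact congrFun (congrArg DFunLike.coe h12) ⟨x, hx⟩
    ext x
    obtain ⟨y, hy, hyx⟩ := hE x.2
    have : y = x := Subtype.ext hyx
    rw [← this]
    exact hy

/-- the absolute weak normalisation map. -/
noncomputable def phi : A →+* awn A :=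
  (diag A).codRestrict (awn A) (fun a => (good_awn A).le ⟨a, rfl⟩)

theorem isUnivHomeo_phi : FlatMor.IsUnivHomeo (Spec.map (CommRingCat.ofHom (phi A))) := by
  rw [isUnivHomeo_SpecMap_iff]
  refine ⟨?_, ?_, ?_⟩
  · intro x
    obtain ⟨p, hp, hpx⟩ := (good_awn A).int x.1 x.2
    refine ⟨p, hp, ?_⟩
    apply Subtype.ext
    have h1 : (awn A).subtype (Polynomial.eval₂ (phi A) x p) =
        Polynomial.eval₂ ((awn A).subtype.comp (phi A)) ((awn A).subtype x) p :=
      Polynomial.hom_eval₂ p (phi A) (awn A).subtype x
    have h2 : (awn A).subtype.comp (phi A) = diag A := by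
      ext a; rfl
    rw [h2] at h1
    exact h1.trans hpx
  · intro a ha
    apply ker_diag_le
    rw [RingHom.mem_ker] at ha ⊢
    exact congrArg Subtype.val ha
  · intro K _ g₁ g₂ h
    exact (good_awn A).ext K g₁ g₂ (fun a => congrFun (congrArg DFunLike.coe h) a)

section final

variable {A} {C : Type u} [CommRing C] (ψ : A →+* C)
  (hψ : FlatMor.IsUnivHomeo (Spec.map (CommRingCat.ofHom ψ)))
include hψ

theorem exists_sigma (p : PrimeSpectrum A) :
    ∃ σ : C →+* AlgebraicClosure p.asIdeal.ResidueField, σ.comp ψ = can A p := by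
  obtain ⟨hint, hker, -⟩ := (isUnivHomeo_SpecMap_iff ψ).mp hψ
  refine exists_extension_algebraicClosure' ψ hint (algebraMap A p.asIdeal.ResidueField) ?_
  intro a ha
  rw [RingHom.mem_ker, Ideal.algebraMap_residueField_eq_zero]
  exact (nilpotent_iff_mem_prime.mp (mem_nilradical.mp (hker ha))) p.asIdeal p.isPrime

/-- the canonical map from a universally homeomorphic `A`-algebra to `P`. -/
noncomputable def iota : C →+* P A :=
  Pi.ringHom (fun p => Classical.choose (exists_sigma ψ hψ p))

theorem iota_comp : (iota ψ hψ).comp ψ = diag A := by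
  ext a p
  exact congrFun (congrArg DFunLike.coe (Classical.choose_spec (exists_sigma ψ hψ p))) a

theorem good_range_iota : Good A (iota ψ hψ).range where
  le := by
    rintro _ ⟨a, rfl⟩
    exact ⟨ψ a, congrFun (congrArg DFunLike.coe (iota_comp ψ hψ)) a⟩
  int := by
    rintro _ ⟨c, rfl⟩
    obtain ⟨hint, -, -⟩ := (isUnivHomeo_SpecMap_iff ψ).mp hψ
    obtain ⟨p, hp, hpc⟩ := hint c
    refine ⟨p, hp, ?_⟩
    have h1 := Polynomial.hom_eval₂ p ψ (iota ψ hψ) c
    rw [iota_comp, hpc, map_zero] at h1
    exact h1.symm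
  ext := by
    intro K _ g₁ g₂ h
    obtain ⟨-, -, hfp⟩ := (isUnivHomeo_SpecMap_iff ψ).mp hψ
    have h12 : g₁.comp (iota ψ hψ).rangeRestrict = g₂.comp (iota ψ hψ).rangeRestrict := by
      apply hfp K
      ext a
      have := h a
      simp only [RingHom.comp_apply]
      convert this using 2 <;>
      · apply Subtype.ext
        exact congrFun (congrArg DFunLike.coe (iota_comp ψ hψ)) a
    ext ⟨_, ⟨c, rfl⟩⟩
    exact congrFun (congrArg DFunLike.coe h12) c

theorem existsUnique_chi : ∃! χ : C →+* awn A, χ.comp ψ = phi A := by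
  have hle : (iota ψ hψ).range ≤ awn A := le_sSup (good_range_iota ψ hψ)
  refine ⟨(iota ψ hψ).codRestrict (awn A) (fun c => hle ⟨c, rfl⟩), ?_, ?_⟩
  · apply RingHom.ext
    intro a
    apply Subtype.ext
    exact congrFun (congrArg DFunLike.coe (iota_comp ψ hψ)) a
  · intro χ' hχ'
    obtain ⟨-, -, hfp⟩ := (isUnivHomeo_SpecMap_iff ψ).mp hψ
    ext c p
    let e : P A →+* AlgebraicClosure p.asIdeal.ResidueField :=
      Pi.evalRingHom (fun p : PrimeSpectrum A => AlgebraicClosure p.asIdeal.ResidueField) p
    have h12 : (e.comp ((awn A).subtype.comp χ')) =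
        (e.comp ((awn A).subtype.comp
          ((iota ψ hψ).codRestrict (awn A) (fun c => hle ⟨c, rfl⟩)))) := by
      apply hfp
      ext a
      simp only [RingHom.comp_apply]
      have h1 : χ' (ψ a) = phi A a := congrFun (congrArg DFunLike.coe hχ') a
      rw [h1]
      congr 2
      apply Subtype.ext
      exact (congrFun (congrArg DFunLike.coe (iota_comp ψ hψ)) a).symm
    exact congrFun (congrArg DFunLike.coe h12) c

end final

/-- S7422 -/
theorem exists_isRingAWN : ∃ (B : Type u) (_ : CommRing B) (φ : A →+* B), HTop.IsRingAWN φ :=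
  ⟨awn A, inferInstance, phi A, isUnivHomeo_phi A, fun _ _ ψ hψ => existsUnique_chi ψ hψ⟩

end AWNConstr

end SpecUH

end Groth.Agent.Lib.Helper70
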