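import Mathlib
import Groth.Agent.Lib.Helper70.RingAWN

/-!
# Relative weak normalisation: the largest universally homeomorphic subring (helper70)

For `d : A →+* P`, `RelWN.wn d` is the largest subring of `P` containing `d(A)`, integral over `A`,
whose field-valued points are determined by their restriction to `A` (`RelWN.Good`).
`RelWN.exists_relative_weak_normalization_subalgebra` (= S7427).
-/

universe u

namespace Groth.Agent.Lib.Helper70

open CategoryTheory AlgebraicGeometry

namespace SpecUH

namespace RelWN

variable {A P : Type u} [CommRing A] [CommRing P] (d : A →+* P)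

/-- a subring of `P` is good (relative to `d : A → P`) if it contains the image of `A`, is integral
over `A`, and its field-valued points are determined by their restriction to `A`. -/
structure Good (C : Subring P) : Prop where
  le : d.range ≤ C
  int : ∀ x ∈ C, d.IsIntegralElem x
  ext : ∀ (K : Type u) [Field K] (g₁ g₂ : C →+* K),
    (∀ a : A, g₁ ⟨d a, le ⟨a, rfl⟩⟩ = g₂ ⟨d a, le ⟨a, rfl⟩⟩) → g₁ = g₂

/-- the largest good subring. -/
noncomputable def wn : Subring P := sSup {C | Good d C}

theorem good_range : Good d d.range where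
  le := le_rfl
  int := by
    rintro _ ⟨a, rfl⟩
    exact d.isIntegralElem_map
  ext := by
    intro K _ g₁ g₂ h
    ext ⟨_, ⟨a, rfl⟩⟩
    exact h a

theorem good_wn : Good d (wn d) where
  le := le_sSup (good_range d)
  int := by
    intro x hx
    let _ := d.toAlgebra
    have hle : wn d ≤ (integralClosure A P).toSubring := by
      apply sSup_le
      intro C hC x hx
      exact hC.int x hx
    exact hle hx
  ext := by
    intro K _ g₁ g₂ h
    let E : Subring P := (RingHom.eqLocus g₁ g₂).map (wn d).subtype
    have hE : wn d ≤ E := by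
      apply sSup_le
      intro C hC x hx
      have hCle : C ≤ wn d := le_sSup hC
      let i : C →+* wn d := Subring.inclusion hCle
      have h12 : g₁.comp i = g₂.comp i := by
        apply hC.ext K
        intro a
        exact h a
      refine ⟨⟨x, hCle hx⟩, ?_, rfl⟩
      exact congrFun (congrArg DFunLike.coe h12) ⟨x, hx⟩
    ext x
    obtain ⟨y, hy, hyx⟩ := hE x.2
    have : y = x := Subtype.ext hyx
    rw [← this]
    exact hy

/-- the range of a map from a universally homeomorphic `A`-algebra is good. -/
theorem good_range_of_isUnivHomeo {C : Type u} [CommRing C] (ψ : A →+* C)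
    (hψ : FlatMor.IsUnivHomeo (Spec.map (CommRingCat.ofHom ψ))) (ι : C →+* P)
    (hι : ι.comp ψ = d) : Good d ι.range where
  le := by
    rintro _ ⟨a, rfl⟩
    exact ⟨ψ a, congrFun (congrArg DFunLike.coe hι) a⟩
  int := by
    rintro _ ⟨c, rfl⟩
    obtain ⟨hint, -, -⟩ := (isUnivHomeo_SpecMap_iff ψ).mp hψ
    obtain ⟨p, hp, hpc⟩ := hint c
    refine ⟨p, hp, ?_⟩
    have h1 := Polynomial.hom_eval₂ p ψ ι c
    rw [hι, hpc, map_zero] at h1
    exact h1.symm
  ext := by
    intro K _ g₁ g₂ h
    obtain ⟨-, -, hfp⟩ := (isUnivHomeo_SpecMap_iff ψ).mp hψ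
    have h12 : g₁.comp ι.rangeRestrict = g₂.comp ι.rangeRestrict := by
      apply hfp K
      ext a
      have := h a
      simp only [RingHom.comp_apply]
      convert this using 2 <;>
      · apply Subtype.ext
        exact congrFun (congrArg DFunLike.coe hι) a
    ext ⟨_, ⟨c, rfl⟩⟩
    exact congrFun (congrArg DFunLike.coe h12) c

/-- a good subring, with nil kernel, is universally homeomorphic over `A`. -/
theorem isUnivHomeo_of_good (C : Subring P) (hC : Good d C) (hker : RingHom.ker d ≤ nilradical A) :
    FlatMor.IsUnivHomeo (Spec.map (CommRingCat.ofHom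
      (d.codRestrict C (fun a => hC.le ⟨a, rfl⟩)))) := by
  rw [isUnivHomeo_SpecMap_iff]
  refine ⟨?_, ?_, ?_⟩
  · intro x
    obtain ⟨p, hp, hpx⟩ := hC.int x.1 x.2
    refine ⟨p, hp, ?_⟩
    apply Subtype.ext
    have h1 : C.subtype (Polynomial.eval₂ (d.codRestrict C (fun a => hC.le ⟨a, rfl⟩)) x p) =
        Polynomial.eval₂ (C.subtype.comp (d.codRestrict C (fun a => hC.le ⟨a, rfl⟩)))
          (C.subtype x) p :=
      Polynomial.hom_eval₂ p _ C.subtype x
    have h2 : C.subtype.comp (d.codRestrict C (fun a => hC.le ⟨a, rfl⟩)) = d := by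
      ext a; rfl
    rw [h2] at h1
    exact h1.trans hpx
  · intro a ha
    apply hker
    rw [RingHom.mem_ker] at ha ⊢
    exact congrArg Subtype.val ha
  · intro K _ g₁ g₂ h
    exact hC.ext K g₁ g₂ (fun a => congrFun (congrArg DFunLike.coe h) a)

/-- S7427 -/
theorem exists_relative_weak_normalization_subalgebra {A B : Type u} [CommRing A] [CommRing B]
    [Algebra A B] [IsDominant (Spec.map (CommRingCat.ofHom (algebraMap A B)))] :
    ∃ B' : Subalgebra A B, FlatMor.IsUnivHomeo (Spec.map (CommRingCat.ofHom (algebraMap A B'))) ∧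
      ∀ (C : Type u) [CommRing C] [Algebra A C] (g : C →ₐ[A] B),
        FlatMor.IsUnivHomeo (Spec.map (CommRingCat.ofHom (algebraMap A C))) → g.range ≤ B' := by
  have hker : RingHom.ker (algebraMap A B) ≤ nilradical A := by
    rw [← PrimeSpectrum.denseRange_comap_iff_ker_le_nilRadical]
    exact (inferInstance : IsDominant (Spec.map (CommRingCat.ofHom (algebraMap A B)))).denseRange
  have hgood := good_wn (algebraMap A B)
  let B' : Subalgebra A B :=
    { toSubsemiring := (wn (algebraMap A B)).toSubsemiring
      algebraMap_mem' := fun a => hgood.le ⟨a, rfl⟩ }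
  have hmem : ∀ x : B, x ∈ B' ↔ x ∈ wn (algebraMap A B) := fun x => Iff.rfl
  refine ⟨B', ?_, ?_⟩
  · rw [isUnivHomeo_SpecMap_iff]
    have h2 : B'.val.toRingHom.comp (algebraMap A B') = algebraMap A B := by
      ext a; rfl
    refine ⟨?_, ?_, ?_⟩
    · intro x
      obtain ⟨p, hp, hpx⟩ := hgood.int x.1 x.2
      refine ⟨p, hp, ?_⟩
      apply Subtype.ext
      have h1 := Polynomial.hom_eval₂ p (algebraMap A B') B'.val.toRingHom x
      rw [h2] at h1
      exact h1.trans hpx
    · intro a ha
      apply hker
      rw [RingHom.mem_ker] at ha ⊢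
      exact congrArg Subtype.val ha
    · intro K _ g₁ g₂ h
      let e : wn (algebraMap A B) →+* B' :=
        { toFun := fun x => ⟨x.1, x.2⟩
          map_one' := rfl
          map_mul' := fun _ _ => rfl
          map_zero' := rfl
          map_add' := fun _ _ => rfl }
      have h12 : g₁.comp e = g₂.comp e := by
        apply hgood.ext K
        intro a
        exact congrFun (congrArg DFunLike.coe h) a
      ext x
      exact congrFun (congrArg DFunLike.coe h12) ⟨x.1, x.2⟩
  · intro C _ _ g hC
    have hg : Good (algebraMap A B) g.toRingHom.range :=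
      good_range_of_isUnivHomeo (algebraMap A B) (algebraMap A C) hC g.toRingHom (by
        ext a
        exact g.commutes a)
    have hle : g.toRingHom.range ≤ wn (algebraMap A B) := le_sSup hg
    rintro _ ⟨c, rfl⟩
    exact hle ⟨c, rfl⟩

end RelWN

end SpecUH

end Groth.Agent.Lib.Helper70
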