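import Mathlib
import Groth.Agent.Lib.Helper70.RelWN

/-!
# Trivial residue field extensions in field-point form, and the relative seminormalisation (helper70)

* `surjective_residueFieldMap_SpecMap_iff`: bridge between `(Spec.map ψ).residueFieldMap q` and
  `Ideal.ResidueField.map`.
* `TRf ψ`: every field-valued point `g : C → K` has image in the subfield generated by `g (ψ A)`;
  `TRf_iff`, `TRf_iff_SpecMap`: equivalent to surjectivity of all residue field maps of `Spec ψ`.
* `RelSN.exists_relative_seminormalization_subalgebra` (= S7428).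
-/

universe u

namespace Groth.Agent.Lib.Helper70

open CategoryTheory AlgebraicGeometry

namespace SpecUH

theorem residueField_exists_div {R : Type*} [CommRing R] (I : Ideal R) [I.IsPrime]
    (y : I.ResidueField) :
    ∃ u v : R, v ∉ I ∧ y = algebraMap R I.ResidueField u / algebraMap R I.ResidueField v := by
  obtain ⟨x, z, hz, rfl⟩ := IsFractionRing.div_surjective (A := R ⧸ I) y
  obtain ⟨u, rfl⟩ := Ideal.Quotient.mk_surjective x
  obtain ⟨v, rfl⟩ := Ideal.Quotient.mk_surjective z
  refine ⟨u, v, ?_, ?_⟩
  · intro hv
    have : (Ideal.Quotient.mk I v) = 0 := Ideal.Quotient.eq_zero_iff_mem.mpr hv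
    rw [this] at hz
    exact zero_notMem_nonZeroDivisors hz
  · rfl

/-- bridge: surjectivity of the scheme-theoretic residue field map of `Spec ψ` at `q`. -/
theorem surjective_residueFieldMap_SpecMap_iff {A C : Type u} [CommRing A] [CommRing C]
    (ψ : A →+* C) (q : PrimeSpectrum C) :
    Function.Surjective ((Spec.map (CommRingCat.ofHom ψ)).residueFieldMap q) ↔
      Function.Surjective
        (Ideal.ResidueField.map (PrimeSpectrum.comap ψ q).asIdeal q.asIdeal ψ rfl) := by
  have hb := residueFieldMap_Spec_bridge (CommRingCat.ofHom ψ) q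
  have e : (Ideal.ResidueField.map (PrimeSpectrum.comap ψ q).asIdeal q.asIdeal ψ rfl : _ → _) =
      (Scheme.Spec.residueFieldIso (CommRingCat.of C) q).hom.hom ∘
        ((Spec.map (CommRingCat.ofHom ψ)).residueFieldMap q).hom ∘
        (Scheme.Spec.residueFieldIso (CommRingCat.of A) ((Spec.map (CommRingCat.ofHom ψ)) q)).inv.hom := by
    have := congrArg (fun k => (k.hom : _ → _)) hb
    exact this.symm
  have h1 : Function.Bijective
      (Scheme.Spec.residueFieldIso (CommRingCat.of C) q).hom.hom :=
    ConcreteCategory.bijective_of_isIso (Scheme.Spec.residueFieldIso (CommRingCat.of C) q).hom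
  have h2 : Function.Bijective
      (Scheme.Spec.residueFieldIso (CommRingCat.of A) ((Spec.map (CommRingCat.ofHom ψ)) q)).inv.hom :=
    ConcreteCategory.bijective_of_isIso
      (Scheme.Spec.residueFieldIso (CommRingCat.of A) ((Spec.map (CommRingCat.ofHom ψ)) q)).inv
  rw [e]
  constructor
  · intro h
    exact h1.2.comp (h.comp h2.2)
  · intro h
    have h3 : Function.Surjective
        (((Spec.map (CommRingCat.ofHom ψ)).residueFieldMap q).hom ∘
        (Scheme.Spec.residueFieldIso (CommRingCat.of A) ((Spec.map (CommRingCat.ofHom ψ)) q)).inv.hom) :=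
      (Function.Surjective.of_comp_iff' h1 _).mp h
    exact (Function.Surjective.of_comp_iff _ h2.2).mp h3

/-- field-point formulation of triviality of residue field extensions. -/
def TRf {A C : Type u} [CommRing A] [CommRing C] (ψ : A →+* C) : Prop :=
  ∀ (K : Type u) [Field K] (g : C →+* K) (x : C),
    g x ∈ Subfield.closure (Set.range (g.comp ψ))

theorem TRf_iff {A C : Type u} [CommRing A] [CommRing C] (ψ : A →+* C) :
    TRf ψ ↔ ∀ q : PrimeSpectrum C, Function.Surjective
      (Ideal.ResidueField.map (PrimeSpectrum.comap ψ q).asIdeal q.asIdeal ψ rfl) := by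
  constructor
  · intro h q y
    obtain ⟨u, v, hv, rfl⟩ := residueField_exists_div q.asIdeal y
    set ρ := Ideal.ResidueField.map (PrimeSpectrum.comap ψ q).asIdeal q.asIdeal ψ rfl with hρ
    have hle : Subfield.closure (Set.range ((algebraMap C q.asIdeal.ResidueField).comp ψ)) ≤
        ρ.fieldRange := by
      rw [Subfield.closure_le]
      rintro _ ⟨a, rfl⟩
      refine ⟨algebraMap A _ a, ?_⟩
      rw [hρ, Ideal.ResidueField.map_algebraMap]
      rfl
    obtain ⟨z₁, hz₁⟩ := hle (h q.asIdeal.ResidueField (algebraMap C _) u)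
    obtain ⟨z₂, hz₂⟩ := hle (h q.asIdeal.ResidueField (algebraMap C _) v)
    exact ⟨z₁ / z₂, by rw [map_div₀, hz₁, hz₂]⟩
  · intro h K _ g x
    have hker : (RingHom.ker g).IsPrime := RingHom.ker_isPrime g
    let q : PrimeSpectrum C := ⟨RingHom.ker g, hker⟩
    let gbar : q.asIdeal.ResidueField →+* K := Ideal.ResidueField.lift q.asIdeal g le_rfl (by
      intro v hv
      simp only [Submonoid.mem_comap, IsUnit.mem_submonoid_iff]
      exact IsUnit.mk0 _ hv)
    have hgbar : ∀ c : C, gbar (algebraMap C _ c) = g c :=
      fun c => Ideal.ResidueField.lift_algebraMap _ _ _ _ c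
    obtain ⟨z, hz⟩ := h q (algebraMap C _ x)
    obtain ⟨u, v, hv, rfl⟩ := residueField_exists_div (PrimeSpectrum.comap ψ q).asIdeal z
    rw [map_div₀, Ideal.ResidueField.map_algebraMap, Ideal.ResidueField.map_algebraMap] at hz
    have : g x = g (ψ u) / g (ψ v) := by
      rw [← hgbar x, ← hz, map_div₀, hgbar, hgbar]
    rw [this]
    exact div_mem (Subfield.subset_closure ⟨u, rfl⟩) (Subfield.subset_closure ⟨v, rfl⟩)

theorem TRf_iff_SpecMap {A C : Type u} [CommRing A] [CommRing C] (ψ : A →+* C) :
    TRf ψ ↔ ∀ x : Spec (CommRingCat.of C),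
      Function.Surjective ((Spec.map (CommRingCat.ofHom ψ)).residueFieldMap x) := by
  rw [TRf_iff]
  exact forall_congr' fun q => (surjective_residueFieldMap_SpecMap_iff ψ q).symm

namespace RelSN
open RelWN

variable {A P : Type u} [CommRing A] [CommRing P] (d : A →+* P)

/-- good subrings with trivial residue field extensions (in field-point form). -/
structure GoodT (C : Subring P) : Prop where
  good : Good d C
  triv : TRf (d.codRestrict C (fun a => good.le ⟨a, rfl⟩))

/-- the largest good subring with trivial residue field extensions. -/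
noncomputable def sn : Subring P := sSup {C | GoodT d C}

theorem goodT_range : GoodT d d.range where
  good := good_range d
  triv := by
    intro K _ g x
    obtain ⟨_, ⟨a, rfl⟩⟩ := x
    exact Subfield.subset_closure ⟨a, rfl⟩

theorem good_sn : Good d (sn d) where
  le := le_sSup (goodT_range d)
  int := by
    intro x hx
    let _ := d.toAlgebra
    have hle : sn d ≤ (integralClosure A P).toSubring := by
      apply sSup_le
      intro C hC x hx
      exact hC.good.int x hx
    exact hle hx
  ext := by
    intro K _ g₁ g₂ h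
    let E : Subring P := (RingHom.eqLocus g₁ g₂).map (sn d).subtype
    have hE : sn d ≤ E := by
      apply sSup_le
      intro C hC x hx
      have hCle : C ≤ sn d := le_sSup hC
      let i : C →+* sn d := Subring.inclusion hCle
      have h12 : g₁.comp i = g₂.comp i := by
        apply hC.good.ext K
        intro a
        exact h a
      refine ⟨⟨x, hCle hx⟩, ?_, rfl⟩
      exact congrFun (congrArg DFunLike.coe h12) ⟨x, hx⟩
    ext x
    obtain ⟨y, hy, hyx⟩ := hE x.2
    have : y = x := Subtype.ext hyx
    rw [← this]
    exact hy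

theorem goodT_sn : GoodT d (sn d) where
  good := good_sn d
  triv := by
    intro K _ g x
    set F := Subfield.closure (Set.range (g.comp
      (d.codRestrict (sn d) (fun a => (good_sn d).le ⟨a, rfl⟩)))) with hF
    let E : Subring P := (F.toSubring.comap g).map (sn d).subtype
    have hE : sn d ≤ E := by
      apply sSup_le
      intro C hC x hx
      have hCle : C ≤ sn d := le_sSup hC
      let i : C →+* sn d := Subring.inclusion hCle
      refine ⟨⟨x, hCle hx⟩, ?_, rfl⟩
      have := hC.triv K (g.comp i) ⟨x, hx⟩
      exact this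
    obtain ⟨y, hy, hyx⟩ := hE x.2
    have : y = x := Subtype.ext hyx
    rw [← this]
    exact hy

theorem goodT_range_of_isUnivHomeo {C : Type u} [CommRing C] (ψ : A →+* C)
    (hψ : FlatMor.IsUnivHomeo (Spec.map (CommRingCat.ofHom ψ))) (hT : TRf ψ) (ι : C →+* P)
    (hι : ι.comp ψ = d) : GoodT d ι.range where
  good := good_range_of_isUnivHomeo d ψ hψ ι hι
  triv := by
    intro K _ g x
    obtain ⟨_, ⟨c, rfl⟩⟩ := x
    have h1 := hT K (g.comp ι.rangeRestrict) c
    have h2 : Set.range ((g.comp ι.rangeRestrict).comp ψ) =
        Set.range (g.comp (d.codRestrict ι.range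
          (fun a => (good_range_of_isUnivHomeo d ψ hψ ι hι).le ⟨a, rfl⟩))) := by
      congr 1
      funext a
      simp only [RingHom.comp_apply]
      congr 1
      apply Subtype.ext
      exact congrFun (congrArg DFunLike.coe hι) a
    rw [h2] at h1
    exact h1

/-- S7428 -/
theorem exists_relative_seminormalization_subalgebra {A B : Type u} [CommRing A] [CommRing B]
    [Algebra A B] [IsDominant (Spec.map (CommRingCat.ofHom (algebraMap A B)))] :
    ∃ B' : Subalgebra A B, (FlatMor.IsUnivHomeo (Spec.map (CommRingCat.ofHom (algebraMap A B'))) ∧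
      ∀ x : Spec (CommRingCat.of B'),
        Function.Surjective ((Spec.map (CommRingCat.ofHom (algebraMap A B'))).residueFieldMap x)) ∧
      ∀ (C : Type u) [CommRing C] [Algebra A C] (g : C →ₐ[A] B),
        FlatMor.IsUnivHomeo (Spec.map (CommRingCat.ofHom (algebraMap A C))) →
        (∀ x : Spec (CommRingCat.of C),
          Function.Surjective ((Spec.map (CommRingCat.ofHom (algebraMap A C))).residueFieldMap x)) →
        g.range ≤ B' := by
  have hker : RingHom.ker (algebraMap A B) ≤ nilradical A := by
    rw [← PrimeSpectrum.denseRange_comap_iff_ker_le_nilRadical]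
    exact (inferInstance : IsDominant (Spec.map (CommRingCat.ofHom (algebraMap A B)))).denseRange
  have hgoodT := goodT_sn (algebraMap A B)
  have hgood := hgoodT.good
  let B' : Subalgebra A B :=
    { toSubsemiring := (sn (algebraMap A B)).toSubsemiring
      algebraMap_mem' := fun a => hgood.le ⟨a, rfl⟩ }
  let e : sn (algebraMap A B) →+* B' :=
    { toFun := fun x => ⟨x.1, x.2⟩
      map_one' := rfl
      map_mul' := fun _ _ => rfl
      map_zero' := rfl
      map_add' := fun _ _ => rfl }
  refine ⟨B', ⟨?_, ?_⟩, ?_⟩
  · rw [isUnivHomeo_SpecMap_iff]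
    have h2 : B'.val.toRingHom.comp (algebraMap A B') = algebraMap A B := by
      ext a; rfl
    refine ⟨?_, ?_, ?_⟩
    · intro x
      obtain ⟨p, hp, hpx⟩ := hgood.int x.1 x.2
      refine ⟨p, hp, ?_⟩
      apply Subtype.ext
      have h1 := Polynomial.hom_eval₂ p (algebraMap A B') B'.val.toRingHom x
      rw [h2] at h1
      exact h1.trans hpx
    · intro a ha
      apply hker
      rw [RingHom.mem_ker] at ha ⊢
      exact congrArg Subtype.val ha
    · intro K _ g₁ g₂ h
      have h12 : g₁.comp e = g₂.comp e := by
        apply hgood.ext K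
        intro a
        exact congrFun (congrArg DFunLike.coe h) a
      ext x
      exact congrFun (congrArg DFunLike.coe h12) ⟨x.1, x.2⟩
  · rw [← TRf_iff_SpecMap]
    intro K _ g x
    exact hgoodT.triv K (g.comp e) ⟨x.1, x.2⟩
  · intro C _ _ g hC hCres
    have hg : GoodT (algebraMap A B) g.toRingHom.range :=
      goodT_range_of_isUnivHomeo (algebraMap A B) (algebraMap A C) hC
        ((TRf_iff_SpecMap _).mpr hCres) g.toRingHom (by
        ext a
        exact g.commutes a)
    have hle : g.toRingHom.range ≤ sn (algebraMap A B) := le_sSup hg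
    rintro _ ⟨c, rfl⟩
    exact hle ⟨c, rfl⟩

end RelSN

end SpecUH

end Groth.Agent.Lib.Helper70
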