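import Mathlib
import Groth.Agent.Lib.Helper70.RelSN

/-!
# Subalgebras inherit universal homeomorphy and variants (helper70)

Ring-level criteria `universallyClosed_SpecMap_iff` (⇔ integral), `universallyInjective_SpecMap_iff`
(⇔ field-valued points determined by restriction), and S7404.
-/

universe u

namespace Groth.Agent.Lib.Helper70

open CategoryTheory AlgebraicGeometry

namespace SpecUH

section Sub
variable {A B : Type u} [CommRing A] [CommRing B] [Algebra A B] (B' : Subalgebra A B)

theorem sub_isIntegral (h : (algebraMap A B).IsIntegral) : (algebraMap A B').IsIntegral := by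
  intro x
  have hx : IsIntegral A (B'.val x) := h x.1
  exact (isIntegral_algHom_iff B'.val Subtype.val_injective).mp hx

theorem sub_val_isIntegral (h : (algebraMap A B).IsIntegral) : B'.val.toRingHom.IsIntegral := by
  intro b
  have hb : IsIntegral A b := h b
  exact hb.tower_top

/-- field-point criterion passes to subalgebras of an integral algebra. -/
theorem sub_fieldPoint (h : (algebraMap A B).IsIntegral)
    (hfp : ∀ (K : Type u) [Field K] (g₁ g₂ : B →+* K),
      g₁.comp (algebraMap A B) = g₂.comp (algebraMap A B) → g₁ = g₂) :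
    ∀ (K : Type u) [Field K] (g₁ g₂ : B' →+* K),
      g₁.comp (algebraMap A B') = g₂.comp (algebraMap A B') → g₁ = g₂ := by
  intro K _ g₁ g₂ hg
  obtain ⟨f₁, hf₁⟩ := exists_extension_algebraicClosure B'.val.toRingHom
    (sub_val_isIntegral B' h) Subtype.val_injective g₁
  obtain ⟨f₂, hf₂⟩ := exists_extension_algebraicClosure B'.val.toRingHom
    (sub_val_isIntegral B' h) Subtype.val_injective g₂
  have hval : B'.val.toRingHom.comp (algebraMap A B') = algebraMap A B := by ext a; rfl
  have h12 : f₁ = f₂ := by
    apply hfp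
    rw [← hval, ← RingHom.comp_assoc, ← RingHom.comp_assoc, hf₁, hf₂, RingHom.comp_assoc,
      RingHom.comp_assoc, hg]
  ext x
  apply (algebraMap K (AlgebraicClosure K)).injective
  have e1 := congrFun (congrArg DFunLike.coe hf₁) x
  have e2 := congrFun (congrArg DFunLike.coe hf₂) x
  simp only [RingHom.comp_apply] at e1 e2
  rw [← e1, ← e2, h12]

theorem sub_TRf (h : (algebraMap A B).IsIntegral) (hT : TRf (algebraMap A B)) :
    TRf (algebraMap A B') := by
  intro K _ g x
  obtain ⟨f, hf⟩ := exists_extension_algebraicClosure B'.val.toRingHom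
    (sub_val_isIntegral B' h) Subtype.val_injective g
  have hval : B'.val.toRingHom.comp (algebraMap A B') = algebraMap A B := by ext a; rfl
  have h1 := hT (AlgebraicClosure K) f (B'.val x)
  have h2 : Set.range (f.comp (algebraMap A B)) =
      (algebraMap K (AlgebraicClosure K)) '' Set.range (g.comp (algebraMap A B')) := by
    rw [← hval, ← RingHom.comp_assoc, hf, RingHom.comp_assoc]
    ext y
    constructor
    · rintro ⟨a, rfl⟩
      exact ⟨_, ⟨a, rfl⟩, rfl⟩
    · rintro ⟨_, ⟨a, rfl⟩, rfl⟩
      exact ⟨a, rfl⟩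
  rw [h2, ← RingHom.map_field_closure] at h1
  obtain ⟨z, hz, hzx⟩ := h1
  have e1 := congrFun (congrArg DFunLike.coe hf) x
  simp only [RingHom.comp_apply] at e1
  have : z = g x := (algebraMap K (AlgebraicClosure K)).injective (hzx.trans e1)
  rw [← this]
  exact hz

theorem sub_ker : RingHom.ker (algebraMap A B') = RingHom.ker (algebraMap A B) := by
  ext a
  rw [RingHom.mem_ker, RingHom.mem_ker]
  constructor
  · intro h
    exact congrArg Subtype.val h
  · intro h
    exact Subtype.ext h

end Sub

theorem universallyClosed_SpecMap_iff {A C : Type u} [CommRing A] [CommRing C] (ψ : A →+* C) :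
    UniversallyClosed (Spec.map (CommRingCat.ofHom ψ)) ↔ ψ.IsIntegral := by
  constructor
  · intro h
    have : IsIntegralHom (Spec.map (CommRingCat.ofHom ψ)) :=
      IsIntegralHom.iff_universallyClosed_and_isAffineHom.mpr ⟨h, inferInstance⟩
    exact IsIntegralHom.SpecMap_iff.mp this
  · intro h
    have : IsIntegralHom (Spec.map (CommRingCat.ofHom ψ)) := IsIntegralHom.SpecMap_iff.mpr h
    infer_instance

theorem universallyInjective_SpecMap_iff {A C : Type u} [CommRing A] [CommRing C] (ψ : A →+* C) :
    UniversallyInjective (Spec.map (CommRingCat.ofHom ψ)) ↔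
      ∀ (K : Type u) [Field K] (g₁ g₂ : C →+* K), g₁.comp ψ = g₂.comp ψ → g₁ = g₂ :=
  ⟨fun _ K _ g₁ g₂ hg => ringHom_ext_of_universallyInjective ψ K g₁ g₂ hg,
    fun h => universallyInjective_SpecMap_of ψ h⟩

/-- S7404 -/
theorem subalgebra_inherits_isUnivHomeo_and_variants {A B : Type u} [CommRing A] [CommRing B]
    [Algebra A B] (B' : Subalgebra A B) :
    (FlatMor.IsUnivHomeo (Spec.map (CommRingCat.ofHom (algebraMap A B))) →
      FlatMor.IsUnivHomeo (Spec.map (CommRingCat.ofHom (algebraMap A B')))) ∧
    ((FlatMor.IsUnivHomeo (Spec.map (CommRingCat.ofHom (algebraMap A B))) ∧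
      ∀ x : Spec (CommRingCat.of B),
        Function.Surjective ((Spec.map (CommRingCat.ofHom (algebraMap A B))).residueFieldMap x)) →
      FlatMor.IsUnivHomeo (Spec.map (CommRingCat.ofHom (algebraMap A B'))) ∧
      ∀ x : Spec (CommRingCat.of B'),
        Function.Surjective ((Spec.map (CommRingCat.ofHom (algebraMap A B'))).residueFieldMap x)) ∧
    (UniversallyClosed (Spec.map (CommRingCat.ofHom (algebraMap A B))) →
      UniversallyClosed (Spec.map (CommRingCat.ofHom (algebraMap A B')))) ∧
    (UniversallyClosed (Spec.map (CommRingCat.ofHom (algebraMap A B))) →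
      UniversallyInjective (Spec.map (CommRingCat.ofHom (algebraMap A B))) →
      UniversallyClosed (Spec.map (CommRingCat.ofHom (algebraMap A B'))) ∧
      UniversallyInjective (Spec.map (CommRingCat.ofHom (algebraMap A B')))) := by
  have key : FlatMor.IsUnivHomeo (Spec.map (CommRingCat.ofHom (algebraMap A B))) →
      FlatMor.IsUnivHomeo (Spec.map (CommRingCat.ofHom (algebraMap A B'))) := by
    intro h
    rw [isUnivHomeo_SpecMap_iff] at h ⊢
    obtain ⟨hint, hker, hfp⟩ := h
    exact ⟨sub_isIntegral B' hint, (sub_ker B').le.trans hker, sub_fieldPoint B' hint hfp⟩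
  refine ⟨key, ?_, ?_, ?_⟩
  · rintro ⟨h, hres⟩
    refine ⟨key h, ?_⟩
    rw [← TRf_iff_SpecMap] at hres ⊢
    exact sub_TRf B' ((isUnivHomeo_SpecMap_iff _).mp h).1 hres
  · intro h
    rw [universallyClosed_SpecMap_iff] at h ⊢
    exact sub_isIntegral B' h
  · intro h hUI
    rw [universallyClosed_SpecMap_iff] at h ⊢
    rw [universallyInjective_SpecMap_iff] at hUI ⊢
    exact ⟨sub_isIntegral B' h, sub_fieldPoint B' h hUI⟩

end SpecUH

end Groth.Agent.Lib.Helper70
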