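import Mathlib
import Groth.Agent.Lib.Helper70.UnivHomeoSub

/-!
# Filtered colimits of algebras inherit universal homeomorphy and variants (helper70, S7405)
-/

universe u

namespace Groth.Agent.Lib.Helper70

open CategoryTheory AlgebraicGeometry Limits

namespace SpecUH

section Colim
variable (A : CommRingCat.{u}) {J : Type u} [SmallCategory J] [IsFiltered J] (F : J ⥤ Under A)
  (c : Cocone F) (hc : IsColimit c)
include hc

theorem colim_exists_rep (b : c.pt.right) :
    ∃ (j : J) (y : (F.obj j).right), (c.ι.app j).right.hom y = b := by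
  have hc' := isColimitOfPreserves (Under.forget A ⋙ forget CommRingCat) hc
  obtain ⟨j, y, hy⟩ := Types.jointly_surjective_of_isColimit hc' b
  exact ⟨j, y, hy⟩

theorem colim_eq_zero (j : J) (y : (F.obj j).right) (h : (c.ι.app j).right.hom y = 0) :
    ∃ (k : J) (f : j ⟶ k), (F.map f).right.hom y = 0 := by
  have hc' := isColimitOfPreserves (Under.forget A ⋙ forget CommRingCat) hc
  have h2 : ((Under.forget A ⋙ forget CommRingCat).mapCocone c).ι.app j y =
      ((Under.forget A ⋙ forget CommRingCat).mapCocone c).ι.app j (0 : (F.obj j).right) := by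
    change (c.ι.app j).right.hom y = (c.ι.app j).right.hom 0
    rw [h, map_zero]
  obtain ⟨k, f, g, hfg⟩ := (Types.FilteredColimit.isColimit_eq_iff _ hc').mp h2
  refine ⟨k, f, ?_⟩
  have h3 : (F.map f).right.hom y = (F.map g).right.hom 0 := hfg
  rw [h3, map_zero]

omit [IsFiltered J] hc in
theorem colim_comp (j : J) :
    (c.ι.app j).right.hom.comp (F.obj j).hom.hom = c.pt.hom.hom := by
  have := Under.w (c.ι.app j)
  exact congrArg CommRingCat.Hom.hom this

theorem colim_isIntegral (h : ∀ j, (F.obj j).hom.hom.IsIntegral) : c.pt.hom.hom.IsIntegral := by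
  intro b
  obtain ⟨j, y, rfl⟩ := colim_exists_rep A F c hc b
  obtain ⟨p, hp, hpy⟩ := h j y
  refine ⟨p, hp, ?_⟩
  have h1 := Polynomial.hom_eval₂ p (F.obj j).hom.hom (c.ι.app j).right.hom y
  rw [colim_comp A F c j, hpy, map_zero] at h1
  exact h1.symm

theorem colim_fieldPoint
    (h : ∀ j, ∀ (K : Type u) [Field K] (g₁ g₂ : (F.obj j).right →+* K),
      g₁.comp (F.obj j).hom.hom = g₂.comp (F.obj j).hom.hom → g₁ = g₂) :
    ∀ (K : Type u) [Field K] (g₁ g₂ : c.pt.right →+* K),
      g₁.comp c.pt.hom.hom = g₂.comp c.pt.hom.hom → g₁ = g₂ := by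
  intro K _ g₁ g₂ hg
  ext b
  obtain ⟨j, y, rfl⟩ := colim_exists_rep A F c hc b
  have h12 : g₁.comp (c.ι.app j).right.hom = g₂.comp (c.ι.app j).right.hom := by
    apply h j K
    rw [RingHom.comp_assoc, RingHom.comp_assoc, colim_comp A F c j, hg]
  exact congrFun (congrArg DFunLike.coe h12) y

theorem colim_ker (h : ∀ j, RingHom.ker (F.obj j).hom.hom ≤ nilradical A) :
    RingHom.ker c.pt.hom.hom ≤ nilradical A := by
  intro a ha
  obtain ⟨j⟩ : Nonempty J := IsFiltered.nonempty
  have h1 : (c.ι.app j).right.hom ((F.obj j).hom.hom a) = 0 := by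
    have := congrFun (congrArg DFunLike.coe (colim_comp A F c j)) a
    rw [RingHom.comp_apply] at this
    rw [this]
    exact ha
  obtain ⟨k, f, hk⟩ := colim_eq_zero A F c hc j _ h1
  apply h k
  rw [RingHom.mem_ker]
  have hw : (F.map f).right.hom.comp (F.obj j).hom.hom = (F.obj k).hom.hom :=
    congrArg CommRingCat.Hom.hom (Under.w (F.map f))
  rw [← hw]
  exact hk

theorem colim_TRf (h : ∀ j, TRf (F.obj j).hom.hom) : TRf c.pt.hom.hom := by
  intro K _ g b
  obtain ⟨j, y, rfl⟩ := colim_exists_rep A F c hc b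
  have h1 := h j K (g.comp (c.ι.app j).right.hom) y
  rw [RingHom.comp_assoc, colim_comp A F c j] at h1
  exact h1

end Colim

/-- S7405 -/
theorem filteredColimit_inherits_isUnivHomeo_and_variants (A : CommRingCat.{u}) {J : Type u}
    [SmallCategory J] [IsFiltered J] (F : J ⥤ Under A) (c : Limits.Cocone F)
    (hc : Limits.IsColimit c) :
    ((∀ j, FlatMor.IsUnivHomeo (Spec.map (F.obj j).hom)) → FlatMor.IsUnivHomeo (Spec.map c.pt.hom)) ∧
    ((∀ j, FlatMor.IsUnivHomeo (Spec.map (F.obj j).hom) ∧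
        ∀ x : Spec (F.obj j).right, Function.Surjective ((Spec.map (F.obj j).hom).residueFieldMap x)) →
      FlatMor.IsUnivHomeo (Spec.map c.pt.hom) ∧
        ∀ x : Spec c.pt.right, Function.Surjective ((Spec.map c.pt.hom).residueFieldMap x)) ∧
    ((∀ j, UniversallyClosed (Spec.map (F.obj j).hom)) → UniversallyClosed (Spec.map c.pt.hom)) ∧
    ((∀ j, UniversallyClosed (Spec.map (F.obj j).hom) ∧ UniversallyInjective (Spec.map (F.obj j).hom)) →
      UniversallyClosed (Spec.map c.pt.hom) ∧ UniversallyInjective (Spec.map c.pt.hom)) := by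
  have e0 : ∀ {B : CommRingCat.{u}} (φ : A ⟶ B), Spec.map φ = Spec.map (CommRingCat.ofHom φ.hom) :=
    fun φ => rfl
  have key : (∀ j, FlatMor.IsUnivHomeo (Spec.map (F.obj j).hom)) →
      FlatMor.IsUnivHomeo (Spec.map c.pt.hom) := by
    intro h
    rw [e0, isUnivHomeo_SpecMap_iff]
    have h' := fun j => (isUnivHomeo_SpecMap_iff (F.obj j).hom.hom).mp (h j)
    exact ⟨colim_isIntegral A F c hc (fun j => (h' j).1), colim_ker A F c hc (fun j => (h' j).2.1),
      colim_fieldPoint A F c hc (fun j => (h' j).2.2)⟩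
  refine ⟨key, ?_, ?_, ?_⟩
  · intro h
    refine ⟨key (fun j => (h j).1), ?_⟩
    have hT : TRf c.pt.hom.hom :=
      colim_TRf A F c hc (fun j => (TRf_iff_SpecMap (F.obj j).hom.hom).mpr (h j).2)
    exact (TRf_iff_SpecMap c.pt.hom.hom).mp hT
  · intro h
    rw [e0, universallyClosed_SpecMap_iff]
    exact colim_isIntegral A F c hc (fun j => (universallyClosed_SpecMap_iff _).mp (h j))
  · intro h
    rw [e0, universallyClosed_SpecMap_iff, universallyInjective_SpecMap_iff]
    exact ⟨colim_isIntegral A F c hc (fun j => (universallyClosed_SpecMap_iff _).mp (h j).1),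
      colim_fieldPoint A F c hc (fun j => (universallyInjective_SpecMap_iff _).mp (h j).2)⟩

end SpecUH

end Groth.Agent.Lib.Helper70
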