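import Mathlib
import Groth.Agent.Lib.Helper70.UnivHomeoColim

universe u

namespace Groth.Agent.Lib.Helper70

open CategoryTheory AlgebraicGeometry

namespace SqCube
open SpecUH

/-! ### elementary field lemmas -/

theorem eq_of_sq_cube {K : Type*} [Field K] {u v : K} (h2 : u ^ 2 = v ^ 2) (h3 : u ^ 3 = v ^ 3) :
    u = v := by
  by_cases hu : u = 0
  · subst hu
    have : v ^ 2 = 0 := by rw [← h2]; ring
    exact (pow_eq_zero_iff (two_ne_zero)).mp this |>.symm
  · have hu2 : u ^ 2 ≠ 0 := pow_ne_zero 2 hu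
    have e1 : u = u ^ 3 / u ^ 2 := by field_simp
    have hv : v ≠ 0 := by
      rintro rfl
      apply hu2
      rw [h2]; ring
    have e2 : v = v ^ 3 / v ^ 2 := by field_simp
    rw [e1, e2, h2, h3]

theorem eq_of_mul_pow {K : Type*} [Field K] {p : ℕ} (hp : p.Prime) {u v : K}
    (h1 : (p : K) * u = (p : K) * v) (h2 : u ^ p = v ^ p) : u = v := by
  by_cases hpK : (p : K) = 0
  · have : Fact p.Prime := ⟨hp⟩
    have : CharP K p := (CharP.charP_iff_prime_eq_zero hp).2 hpK
    exact frobenius_inj K p h2
  · exact mul_left_cancel₀ hpK h1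

theorem mem_of_sq_cube {K : Type*} [Field K] (F : Subfield K) {u : K} (h2 : u ^ 2 ∈ F)
    (h3 : u ^ 3 ∈ F) : u ∈ F := by
  by_cases hu : u = 0
  · subst hu; exact zero_mem _
  · have e1 : u = u ^ 3 / u ^ 2 := by field_simp
    rw [e1]
    exact div_mem h3 h2

/-! ### towers -/

section Tower
variable {A B : Type*} [CommRing A] [CommRing B] [Algebra A B]

/-- the `Fin`-indexed tower condition used in the statements. -/
def IsTower (Step : Subalgebra A B → B → Prop) (l : List B) : Prop :=
  ∀ i : Fin l.length,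
    Step (Algebra.adjoin A {b : B | ∃ j : Fin l.length, j < i ∧ b = l.get j}) (l.get i)

/-- towers stay inside any subalgebra closed under the step. -/
theorem adjoin_le_of_isTower {Step : Subalgebra A B → B → Prop} (S : Subalgebra A B)
    (hS : ∀ (S' : Subalgebra A B) (b : B), S' ≤ S → Step S' b → b ∈ S)
    {l : List B} (hl : IsTower Step l) : Algebra.adjoin A {b : B | b ∈ l} ≤ S := by
  have key : ∀ n : ℕ, ∀ i : Fin l.length, i.val = n → l.get i ∈ S := by
    intro n
    induction n using Nat.strong_induction_on with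
    | _ n ih =>
      intro i hi
      apply hS _ _ _ (hl i)
      apply Algebra.adjoin_le
      rintro _ ⟨j, hj, rfl⟩
      exact ih j.val (by rw [← hi]; exact hj) j rfl
  apply Algebra.adjoin_le
  intro b hb
  obtain ⟨i, rfl⟩ := List.mem_iff_get.mp hb
  exact key i.val i rfl

theorem isTower_append_one {Step : Subalgebra A B → B → Prop}
    (hmono : ∀ (S S' : Subalgebra A B) (b : B), S ≤ S' → Step S b → Step S' b)
    {l : List B} (hl : IsTower Step l) {b : B} (hb : Step (Algebra.adjoin A {x : B | x ∈ l}) b) :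
    IsTower Step (l ++ [b]) := by
  intro i
  by_cases hi : i.val < l.length
  · have e : (l ++ [b]).get i = l.get ⟨i.val, hi⟩ := by
      simp [List.getElem_append_left hi]
    rw [e]
    refine hmono _ _ _ ?_ (hl ⟨i.val, hi⟩)
    apply Algebra.adjoin_mono
    rintro _ ⟨j, hj, rfl⟩
    refine ⟨⟨j.val, by simp⟩, hj, ?_⟩
    simp [List.getElem_append_left j.isLt]
  · have hi' : i.val = l.length := by
      have := i.isLt
      simp at this
      omega
    have e : (l ++ [b]).get i = b := by
      simp [hi']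
    rw [e]
    refine hmono _ _ _ ?_ hb
    apply Algebra.adjoin_mono
    intro x hx
    obtain ⟨j, rfl⟩ := List.mem_iff_get.mp hx
    refine ⟨⟨j.val, by simp⟩, ?_, ?_⟩
    · change j.val < i.val
      rw [hi']; exact j.isLt
    · simp [List.getElem_append_left j.isLt]

/-- recursive towers: the head is the last element adjoined. -/
def RTower (Step : Subalgebra A B → B → Prop) : List B → Prop
  | [] => True
  | b :: l => RTower Step l ∧ Step (Algebra.adjoin A {x : B | x ∈ l}) b

theorem rtower_append {Step : Subalgebra A B → B → Prop}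
    (hmono : ∀ (S S' : Subalgebra A B) (b : B), S ≤ S' → Step S b → Step S' b)
    {l l' : List B} (hl : RTower Step l) (hl' : RTower Step l') : RTower Step (l' ++ l) := by
  induction l' with
  | nil => simpa using hl
  | cons b l'' ih =>
    obtain ⟨h1, h2⟩ := hl'
    refine ⟨ih h1, hmono _ _ _ ?_ h2⟩
    apply Algebra.adjoin_mono
    intro x hx
    exact List.mem_append_left _ hx

theorem isTower_reverse_of_rtower {Step : Subalgebra A B → B → Prop}
    (hmono : ∀ (S S' : Subalgebra A B) (b : B), S ≤ S' → Step S b → Step S' b)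
    {l : List B} (hl : RTower Step l) : IsTower Step l.reverse := by
  induction l with
  | nil => intro i; exact absurd i.isLt (by simp)
  | cons b l ih =>
    obtain ⟨h1, h2⟩ := hl
    rw [List.reverse_cons]
    refine isTower_append_one hmono (ih h1) ?_
    have : {x : B | x ∈ l.reverse} = {x : B | x ∈ l} := by ext x; simp
    rw [this]
    exact h2

/-- the square-cube step. -/
def StepSC (S : Subalgebra A B) (b : B) : Prop := b ^ 2 ∈ S ∧ b ^ 3 ∈ S

/-- the square-cube or `p`-th root step. -/
def StepP (S : Subalgebra A B) (b : B) : Prop :=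
  (b ^ 2 ∈ S ∧ b ^ 3 ∈ S) ∨ ∃ p : ℕ, p.Prime ∧ (p : B) * b ∈ S ∧ b ^ p ∈ S

theorem stepSC_mono (S S' : Subalgebra A B) (b : B) (h : S ≤ S') (hb : StepSC S b) :
    StepSC S' b := ⟨h hb.1, h hb.2⟩

theorem stepP_mono (S S' : Subalgebra A B) (b : B) (h : S ≤ S') (hb : StepP S b) :
    StepP S' b := by
  rcases hb with hb | ⟨p, hp, h1, h2⟩
  · exact Or.inl ⟨h hb.1, h hb.2⟩
  · exact Or.inr ⟨p, hp, h h1, h h2⟩

theorem stepP_of_stepSC (S : Subalgebra A B) (b : B) (hb : StepSC S b) : StepP S b := Or.inl hb

theorem isTower_stepP_of_stepSC {l : List B} (hl : IsTower (A := A) StepSC l) :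
    IsTower (A := A) StepP l := fun i => Or.inl (hl i)

theorem isIntegral_of_towers
    (h : ∀ b : B, ∃ l : List B, b ∈ Algebra.adjoin A {x : B | x ∈ l} ∧ IsTower (A := A) StepP l) :
    (algebraMap A B).IsIntegral := by
  intro b
  obtain ⟨l, hb, hl⟩ := h b
  have hle : Algebra.adjoin A {x : B | x ∈ l} ≤ integralClosure A B := by
    refine adjoin_le_of_isTower (integralClosure A B) ?_ hl
    intro S' c hS' hc
    rcases hc with hc | ⟨p, hp, -, h2⟩
    · have : IsIntegral A (c ^ 2) := hS' hc.1
      exact IsIntegral.of_pow (by norm_num) this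
    · have : IsIntegral A (c ^ p) := hS' h2
      exact IsIntegral.of_pow hp.pos this
  exact hle hb

theorem fieldPoint_of_towers
    (h : ∀ b : B, ∃ l : List B, b ∈ Algebra.adjoin A {x : B | x ∈ l} ∧ IsTower (A := A) StepP l)
    (K : Type*) [Field K] (g₁ g₂ : B →+* K)
    (hg : g₁.comp (algebraMap A B) = g₂.comp (algebraMap A B)) : g₁ = g₂ := by
  let S : Subalgebra A B :=
    { (RingHom.eqLocus g₁ g₂).toSubsemiring with
      algebraMap_mem' := fun a => congrFun (congrArg DFunLike.coe hg) a }
  have hS : ∀ c : B, c ∈ S ↔ g₁ c = g₂ c := fun c => Iff.rfl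
  ext b
  obtain ⟨l, hb, hl⟩ := h b
  have hle : Algebra.adjoin A {x : B | x ∈ l} ≤ S := by
    refine adjoin_le_of_isTower S ?_ hl
    intro S' c hS' hc
    rw [hS]
    rcases hc with hc | ⟨p, hp, h1, h2⟩
    · apply eq_of_sq_cube
      · rw [← map_pow, ← map_pow]; exact (hS _).mp (hS' hc.1)
      · rw [← map_pow, ← map_pow]; exact (hS _).mp (hS' hc.2)
    · apply eq_of_mul_pow hp
      · have := (hS _).mp (hS' h1)
        simpa using this
      · rw [← map_pow, ← map_pow]; exact (hS _).mp (hS' h2)
  exact (hS b).mp (hle hb)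

theorem TRf_of_towers {A B : Type u} [CommRing A] [CommRing B] [Algebra A B]
    (h : ∀ b : B, ∃ l : List B, b ∈ Algebra.adjoin A {x : B | x ∈ l} ∧ IsTower (A := A) StepSC l) :
    TRf (algebraMap A B) := by
  intro K _ g b
  set F := Subfield.closure (Set.range (g.comp (algebraMap A B))) with hF
  let S : Subalgebra A B :=
    { (F.toSubring.comap g).toSubsemiring with
      algebraMap_mem' := fun a => Subfield.subset_closure ⟨a, rfl⟩ }
  have hS : ∀ c : B, c ∈ S ↔ g c ∈ F := fun c => Iff.rfl
  obtain ⟨l, hb, hl⟩ := h b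
  have hle : Algebra.adjoin A {x : B | x ∈ l} ≤ S := by
    refine adjoin_le_of_isTower S ?_ hl
    intro S' c hS' hc
    rw [hS]
    apply mem_of_sq_cube
    · rw [← map_pow]; exact (hS _).mp (hS' hc.1)
    · rw [← map_pow]; exact (hS _).mp (hS' hc.2)
  exact (hS b).mp (hle hb)

end Tower

end SqCube

end Groth.Agent.Lib.Helper70
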