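import Mathlib
import Groth.Agent.Lib.Helper70.UnivHomeoElem

universe u

namespace Groth.Agent.Lib.Helper70

open CategoryTheory AlgebraicGeometry Polynomial

namespace SqCube
open SpecUH

theorem ker_le_nilradical_of_points {A C : Type*} [CommRing A] [CommRing C] (ψ : A →+* C)
    (h : ∀ p : PrimeSpectrum A, ∃ (K : Type u) (_ : Field K) (χ : C →+* K),
      RingHom.ker (χ.comp ψ) ≤ p.asIdeal) : RingHom.ker ψ ≤ nilradical A := by
  intro a ha
  rw [mem_nilradical, nilpotent_iff_mem_prime]
  intro P hP
  obtain ⟨K, _, χ, hχ⟩ := h ⟨P, hP⟩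
  apply hχ
  rw [RingHom.mem_ker, RingHom.comp_apply, RingHom.mem_ker.mp ha, map_zero]

theorem adjoin_mk_X {A : Type*} [CommRing A] (I : Ideal A[X]) :
    Algebra.adjoin A {(Ideal.Quotient.mk I X)} = ⊤ := by
  have h1 : Algebra.adjoin A {(X : A[X])} = ⊤ := Polynomial.adjoin_X
  have h2 := congrArg (Subalgebra.map (Ideal.Quotient.mkₐ A I)) h1
  rw [AlgHom.map_adjoin, Algebra.map_top, Set.image_singleton] at h2
  rw [Ideal.Quotient.mkₐ_eq_mk] at h2
  rw [h2]
  exact (AlgHom.range_eq_top _).mpr (Ideal.Quotient.mkₐ_surjective A I)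

/-- a one-step tower generated by `t`. -/
theorem towers_of_adjoin_singleton {A B : Type*} [CommRing A] [CommRing B] [Algebra A B]
    (Step : Subalgebra A B → B → Prop) (t : B) (ht : Algebra.adjoin A {t} = ⊤)
    (hstep : ∀ S : Subalgebra A B, Step S t) :
    ∀ b : B, ∃ l : List B, b ∈ Algebra.adjoin A {x : B | x ∈ l} ∧ IsTower (A := A) Step l := by
  intro b
  refine ⟨[t], ?_, ?_⟩
  · have : {x : B | x ∈ [t]} = {t} := by ext x; simp
    rw [this, ht]; exact Algebra.mem_top
  · intro i
    have : [t].get i = t := by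
      have := i.isLt
      simp
    rw [this]
    exact hstep _

section S7402
variable (A : Type u) [CommRing A] (x y : A)

theorem S7402_aux (h : x ^ 3 = y ^ 2) :
    FlatMor.IsUnivHomeo (Spec.map (CommRingCat.ofHom (algebraMap A
      (A[X] ⧸ Ideal.span ({X ^ 2 - C x, X ^ 3 - C y} : Set A[X]))))) ∧
    ∀ q : Spec (CommRingCat.of (A[X] ⧸ Ideal.span ({X ^ 2 - C x, X ^ 3 - C y} : Set A[X]))),
      Function.Surjective ((Spec.map (CommRingCat.ofHom (algebraMap A
        (A[X] ⧸ Ideal.span ({X ^ 2 - C x, X ^ 3 - C y} : Set A[X]))))).residueFieldMap q) := by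
  classical
  set I := Ideal.span ({X ^ 2 - C x, X ^ 3 - C y} : Set A[X]) with hI
  set t : A[X] ⧸ I := Ideal.Quotient.mk I X with ht
  have halg : ∀ a : A, algebraMap A (A[X] ⧸ I) a = Ideal.Quotient.mk I (C a) := fun a => rfl
  have ht2 : t ^ 2 = algebraMap A (A[X] ⧸ I) x := by
    rw [ht, ← map_pow, halg, Ideal.Quotient.eq]
    exact Ideal.subset_span (by simp)
  have ht3 : t ^ 3 = algebraMap A (A[X] ⧸ I) y := by
    rw [ht, ← map_pow, halg, Ideal.Quotient.eq]
    exact Ideal.subset_span (by simp)
  have htow := towers_of_adjoin_singleton (A := A) StepSC t (adjoin_mk_X I)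
    (fun S => ⟨by rw [ht2]; exact S.algebraMap_mem _, by rw [ht3]; exact S.algebraMap_mem _⟩)
  have htowP : ∀ b : A[X] ⧸ I, ∃ l : List (A[X] ⧸ I),
      b ∈ Algebra.adjoin A {x : A[X] ⧸ I | x ∈ l} ∧ IsTower (A := A) StepP l := by
    intro b
    obtain ⟨l, h1, h2⟩ := htow b
    exact ⟨l, h1, isTower_stepP_of_stepSC h2⟩
  have hker : RingHom.ker (algebraMap A (A[X] ⧸ I)) ≤ nilradical A := by
    apply ker_le_nilradical_of_points.{u}
    intro p
    let k := p.asIdeal.ResidueField
    let τ : k := if algebraMap A k x = 0 then 0 else algebraMap A k y / algebraMap A k x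
    have hxy : algebraMap A k x ^ 3 = algebraMap A k y ^ 2 := by
      rw [← map_pow, ← map_pow, h]
    have hτ2 : τ ^ 2 = algebraMap A k x := by
      by_cases hx : algebraMap A k x = 0
      · simp [τ, hx]
      · simp only [τ, hx, if_false]
        rw [div_pow, ← hxy, div_eq_iff (pow_ne_zero 2 hx)]
        ring
    have hτ3 : τ ^ 3 = algebraMap A k y := by
      by_cases hx : algebraMap A k x = 0
      · have hy : algebraMap A k y = 0 := by
          have : algebraMap A k y ^ 2 = 0 := by rw [← hxy, hx]; ring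
          exact (pow_eq_zero_iff two_ne_zero).mp this
        simp [τ, hx, hy]
      · simp only [τ, hx, if_false]
        rw [div_pow]
        have : algebraMap A k y ^ 3 = algebraMap A k y * algebraMap A k x ^ 3 := by
          rw [hxy]; ring
        rw [this, div_eq_iff (pow_ne_zero 3 hx)]
    let χ : A[X] ⧸ I →+* k := Ideal.Quotient.lift I (Polynomial.eval₂RingHom (algebraMap A k) τ) (by
      intro f hf
      have hle : I ≤ RingHom.ker (Polynomial.eval₂RingHom (algebraMap A k) τ) := by
        rw [hI, Ideal.span_le]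
        intro g hg
        rcases hg with rfl | rfl
        · simp [hτ2]
        · simp [hτ3]
      exact hle hf)
    refine ⟨k, inferInstance, χ, ?_⟩
    intro a ha
    rw [RingHom.mem_ker, RingHom.comp_apply, halg] at ha
    have : χ (Ideal.Quotient.mk I (C a)) = algebraMap A k a := by
      simp [χ]
    rw [this] at ha
    exact (Ideal.algebraMap_residueField_eq_zero).mp ha
  constructor
  · rw [isUnivHomeo_SpecMap_iff]
    exact ⟨isIntegral_of_towers htowP, hker, fun K _ g₁ g₂ hg => fieldPoint_of_towers htowP K g₁ g₂ hg⟩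
  · rw [← TRf_iff_SpecMap]
    exact TRf_of_towers htow

end S7402

section S7403
variable (A : Type u) [CommRing A] (p : ℕ) (x y : A)

theorem S7403_aux (hp : p.Prime) (h : (p : A) ^ p * x = y ^ p) :
    FlatMor.IsUnivHomeo (Spec.map (CommRingCat.ofHom (algebraMap A
      (A[X] ⧸ Ideal.span ({X ^ p - C x, C (p : A) * X - C y} : Set A[X]))))) := by
  classical
  set I := Ideal.span ({X ^ p - C x, C (p : A) * X - C y} : Set A[X]) with hI
  set t : A[X] ⧸ I := Ideal.Quotient.mk I X with ht
  have halg : ∀ a : A, algebraMap A (A[X] ⧸ I) a = Ideal.Quotient.mk I (C a) := fun a => rfl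
  have ht2 : t ^ p = algebraMap A (A[X] ⧸ I) x := by
    rw [ht, ← map_pow, halg, Ideal.Quotient.eq]
    exact Ideal.subset_span (by simp)
  have ht3 : (p : A[X] ⧸ I) * t = algebraMap A (A[X] ⧸ I) y := by
    have : (p : A[X] ⧸ I) = Ideal.Quotient.mk I (C (p : A)) := by
      rw [← halg, map_natCast]
    rw [this, ht, ← map_mul, halg, Ideal.Quotient.eq]
    exact Ideal.subset_span (by simp)
  have htowP := towers_of_adjoin_singleton (A := A) StepP t (adjoin_mk_X I)
    (fun S => Or.inr ⟨p, hp, by rw [ht3]; exact S.algebraMap_mem _,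
      by rw [ht2]; exact S.algebraMap_mem _⟩)
  have hker : RingHom.ker (algebraMap A (A[X] ⧸ I)) ≤ nilradical A := by
    apply ker_le_nilradical_of_points.{u}
    intro P
    let k := AlgebraicClosure P.asIdeal.ResidueField
    let ι : A →+* k := (algebraMap P.asIdeal.ResidueField k).comp (algebraMap A P.asIdeal.ResidueField)
    have hxy : (p : k) ^ p * ι x = ι y ^ p := by
      have := congrArg ι h
      simpa using this
    obtain ⟨z, hz⟩ := IsAlgClosed.exists_pow_nat_eq (ι x) hp.pos
    let τ : k := if (p : k) = 0 then z else ι y / (p : k)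
    have hτ2 : τ ^ p = ι x := by
      by_cases hx : (p : k) = 0
      · simp only [τ, hx, if_true]; exact hz
      · simp only [τ, hx, if_false]
        rw [div_pow, ← hxy, div_eq_iff (pow_ne_zero p hx)]
        ring
    have hτ3 : (p : k) * τ = ι y := by
      by_cases hx : (p : k) = 0
      · have hy : ι y = 0 := by
          have : ι y ^ p = 0 := by rw [← hxy, hx, zero_pow hp.ne_zero, zero_mul]
          exact (pow_eq_zero_iff hp.ne_zero).mp this
        rw [hx, hy, zero_mul]
      · simp only [τ, hx, if_false]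
        rw [mul_div_cancel₀ _ hx]
    let χ : A[X] ⧸ I →+* k := Ideal.Quotient.lift I (Polynomial.eval₂RingHom ι τ) (by
      intro f hf
      have hle : I ≤ RingHom.ker (Polynomial.eval₂RingHom ι τ) := by
        rw [hI, Ideal.span_le]
        intro g hg
        rcases hg with rfl | rfl
        · simp [hτ2]
        · simp [hτ3]
      exact hle hf)
    refine ⟨k, inferInstance, χ, ?_⟩
    intro a ha
    rw [RingHom.mem_ker, RingHom.comp_apply, halg] at ha
    have : χ (Ideal.Quotient.mk I (C a)) = ι a := by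
      simp [χ]
    rw [this] at ha
    have ha' : algebraMap A P.asIdeal.ResidueField a = 0 :=
      (algebraMap P.asIdeal.ResidueField k).injective (by rw [map_zero]; exact ha)
    exact (Ideal.algebraMap_residueField_eq_zero).mp ha'
  rw [isUnivHomeo_SpecMap_iff]
  exact ⟨isIntegral_of_towers htowP, hker, fun K _ g₁ g₂ hg => fieldPoint_of_towers htowP K g₁ g₂ hg⟩

end S7403

end SqCube

end Groth.Agent.Lib.Helper70
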