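import Mathlib
import Groth.Agent.Lib.Helper70.UnivHomeoElemB

universe u

namespace Groth.Agent.Lib.Helper70

open CategoryTheory AlgebraicGeometry Polynomial

namespace SqCube
open SpecUH

section Pow
variable {B : Type*} [CommRing B]

theorem pow_mem_of_ge (S : Subring B) (b : B) (n : ℕ) (hn0 : 0 < n) (hn : b ^ n ∈ S)
    (hn1 : b ^ (n + 1) ∈ S) (m : ℕ) (hm : n * n ≤ m) : b ^ m ∈ S := by
  have hq : n ≤ m / n := (Nat.le_div_iff_mul_le hn0).mpr hm
  have hr : m % n < n := Nat.mod_lt _ hn0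
  obtain ⟨d, hd⟩ := Nat.exists_eq_add_of_le (le_trans hr.le hq)
  have e : m = d * n + (m % n) * (n + 1) := by
    have := Nat.div_add_mod m n
    rw [hd] at this
    nlinarith
  rw [e, pow_add, pow_mul', pow_mul']
  exact S.mul_mem (S.pow_mem hn d) (S.pow_mem hn1 _)

theorem exists_sq_cube_of_pow (S : Subring B) (b : B) (hb : b ∉ S) (n : ℕ) (hn : b ^ n ∈ S)
    (hn1 : b ^ (n + 1) ∈ S) : ∃ b' : B, b' ∉ S ∧ b' ^ 2 ∈ S ∧ b' ^ 3 ∈ S := by
  classical
  have hn0 : 0 < n := by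
    rcases Nat.eq_zero_or_pos n with rfl | h
    · simp only [zero_add, pow_one] at hn1
      exact absurd hn1 hb
    · exact h
  let P : ℕ → Prop := fun m => b ^ m ∉ S
  have hP1 : P 1 := by simpa [P] using hb
  have hbig : ∀ m, n * n ≤ m → b ^ m ∈ S := pow_mem_of_ge S b n hn0 hn hn1
  have h1le : 1 ≤ n * n := Nat.mul_pos hn0 hn0
  set m₀ := Nat.findGreatest P (n * n) with hm₀
  have hPm₀ : P m₀ := Nat.findGreatest_spec h1le hP1
  have hm₀pos : 0 < m₀ := by
    rcases Nat.eq_zero_or_pos m₀ with h0 | h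
    · rw [h0] at hPm₀
      exact absurd (by rw [pow_zero]; exact S.one_mem) hPm₀
    · exact h
  have hgt : ∀ k, m₀ < k → b ^ k ∈ S := by
    intro k hk
    by_cases hkb : k ≤ n * n
    · have := Nat.findGreatest_is_greatest hk hkb
      simpa [P] using this
    · exact hbig k (by omega)
  refine ⟨b ^ m₀, hPm₀, ?_, ?_⟩
  · rw [← pow_mul]; exact hgt _ (by omega)
  · rw [← pow_mul]; exact hgt _ (by omega)

end Pow

section Cond
variable {A B : Type*} [CommRing A] [CommRing B] (φ : A →+* B)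

/-- the conductor `Ann_A (B / A)`. -/
def conductor : Ideal A where
  carrier := {a | ∀ b : B, φ a * b ∈ φ.range}
  add_mem' := fun {a a'} ha ha' b => by
    rw [map_add, add_mul]; exact add_mem (ha b) (ha' b)
  zero_mem' := fun b => by rw [map_zero, zero_mul]; exact zero_mem _
  smul_mem' := fun r a ha b => by
    rw [smul_eq_mul, map_mul, mul_assoc]; exact mul_mem ⟨r, rfl⟩ (ha b)

theorem mem_conductor {a : A} : a ∈ conductor φ ↔ ∀ b : B, φ a * b ∈ φ.range := Iff.rfl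

theorem map_conductor_le {x : B} (hx : x ∈ Ideal.map φ (conductor φ)) : x ∈ φ.range := by
  have key : ∀ c : B, c * x ∈ φ.range := by
    refine Submodule.span_induction (p := fun x _ => ∀ c : B, c * x ∈ φ.range) ?_ ?_ ?_ ?_ hx
    · rintro _ ⟨a, ha, rfl⟩ c
      rw [mul_comm]; exact ha c
    · intro c; rw [mul_zero]; exact zero_mem _
    · intro x y _ _ hx hy c
      rw [mul_add]; exact add_mem (hx c) (hy c)
    · intro r x _ hx c
      rw [smul_eq_mul, ← mul_assoc]; exact hx _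
  simpa using key 1

theorem conductor_ne_top (h : ¬ Function.Surjective φ) : conductor φ ≠ ⊤ := by
  intro htop
  apply h
  intro b
  have : (1 : A) ∈ conductor φ := by rw [htop]; trivial
  have := this b
  rwa [map_one, one_mul] at this

/-- `x` lies in `A` locally at `𝔭`. -/
def Loc (𝔭 : Ideal A) (x : B) : Prop := ∃ s : A, s ∉ 𝔭 ∧ φ s * x ∈ φ.range

theorem stepA (hspec : Function.Injective (PrimeSpectrum.comap φ)) (𝔮 : PrimeSpectrum B)
    (I : Ideal A) (hmin : (PrimeSpectrum.comap φ 𝔮).asIdeal ∈ I.minimalPrimes) (f : B)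
    (hf : f ∈ 𝔮.asIdeal) :
    ∃ s : A, s ∉ (PrimeSpectrum.comap φ 𝔮).asIdeal ∧ ∃ n : ℕ, φ s * f ^ n ∈ Ideal.map φ I := by
  set 𝔭 := (PrimeSpectrum.comap φ 𝔮).asIdeal with h𝔭
  have h𝔭prime : 𝔭.IsPrime := (PrimeSpectrum.comap φ 𝔮).isPrime
  have h1𝔭 : (1 : A) ∉ 𝔭 := (Ideal.ne_top_iff_one _).mp h𝔭prime.ne_top
  by_contra hcon
  push Not at hcon
  let T : Submonoid B :=
    { carrier := {x | ∃ s : A, s ∉ 𝔭 ∧ ∃ n : ℕ, x = φ s * f ^ n}
      one_mem' := ⟨1, h1𝔭, 0, by simp⟩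
      mul_mem' := by
        rintro _ _ ⟨s, hs, n, rfl⟩ ⟨s', hs', n', rfl⟩
        refine ⟨s * s', ?_, n + n', ?_⟩
        · intro h
          rcases h𝔭prime.mem_or_mem h with h | h
          exacts [hs h, hs' h]
        · rw [map_mul, pow_add]; ring }
  have hdisj : Disjoint (Ideal.map φ I : Set B) T := by
    rw [Set.disjoint_left]
    rintro x hxJ ⟨s, hs, n, rfl⟩
    exact hcon s hs n hxJ
  obtain ⟨P, hPprime, hJP, hPT⟩ := Ideal.exists_le_prime_disjoint _ T hdisj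
  have h1 : I ≤ Ideal.comap φ P := fun a ha => hJP (Ideal.mem_map_of_mem φ ha)
  have h2 : Ideal.comap φ P ≤ 𝔭 := by
    intro a ha
    by_contra hna
    exact Set.disjoint_left.mp hPT ha ⟨a, hna, 0, by simp⟩
  have h3 : 𝔭 ≤ Ideal.comap φ P := hmin.2 ⟨Ideal.comap_isPrime φ P, h1⟩ h2
  have h4 : PrimeSpectrum.comap φ ⟨P, hPprime⟩ = PrimeSpectrum.comap φ 𝔮 :=
    PrimeSpectrum.ext (le_antisymm h2 h3)
  have h5 : (⟨P, hPprime⟩ : PrimeSpectrum B) = 𝔮 := hspec h4
  have hfP : f ∈ P := by rw [← h5] at hf; exact hf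
  exact Set.disjoint_left.mp hPT hfP ⟨1, h1𝔭, 1, by simp⟩

theorem stepB (hspec : Function.Injective (PrimeSpectrum.comap φ)) (𝔮 : PrimeSpectrum B)
    (hmin : (PrimeSpectrum.comap φ 𝔮).asIdeal ∈ (conductor φ).minimalPrimes)
    (hno : ¬ ∃ b : B, b ∉ φ.range ∧ b ^ 2 ∈ φ.range ∧ b ^ 3 ∈ φ.range)
    (f : B) (hf : f ∈ 𝔮.asIdeal) : Loc φ (PrimeSpectrum.comap φ 𝔮).asIdeal f := by
  obtain ⟨s, hs, n, hn⟩ := stepA φ hspec 𝔮 _ hmin f hf
  refine ⟨s, hs, ?_⟩
  by_contra hg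
  apply hno
  have hn' : φ s * f ^ (n + 1) ∈ Ideal.map φ (conductor φ) := by
    have : φ s * f ^ (n + 1) = f * (φ s * f ^ n) := by ring
    rw [this]
    exact Ideal.mul_mem_left _ _ hn
  have e1 : (φ s * f) ^ n ∈ φ.range := by
    rcases Nat.eq_zero_or_pos n with rfl | hpos
    · rw [pow_zero]; exact one_mem _
    · have : (φ s * f) ^ n = φ (s ^ (n - 1)) * (φ s * f ^ n) := by
        rw [map_pow, mul_pow, ← mul_assoc, ← pow_succ, Nat.sub_add_cancel hpos]
      rw [this]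
      exact mul_mem ⟨_, rfl⟩ (map_conductor_le φ hn)
  have e2 : (φ s * f) ^ (n + 1) ∈ φ.range := by
    have : (φ s * f) ^ (n + 1) = φ (s ^ n) * (φ s * f ^ (n + 1)) := by
      rw [map_pow, mul_pow, ← mul_assoc, ← pow_succ]
    rw [this]
    exact mul_mem ⟨_, rfl⟩ (map_conductor_le φ hn')
  exact exists_sq_cube_of_pow φ.range (φ s * f) hg n e1 e2

end Cond

theorem not_forall_loc {A B : Type*} [CommRing A] [CommRing B] [Algebra A B] [Module.Finite A B]
    (𝔭 : Ideal A) [𝔭.IsPrime] (hI : conductor (algebraMap A B) ≤ 𝔭) :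
    ¬ ∀ x : B, Loc (algebraMap A B) 𝔭 x := by
  classical
  intro hall
  obtain ⟨G, hG⟩ := (Module.finite_def (R := A) (M := B)).mp inferInstance
  choose s hs hsx using hall
  let σ : A := ∏ g ∈ G, s g
  have hσ : σ ∉ 𝔭 := by
    intro h
    obtain ⟨g, -, hg⟩ := (Ideal.IsPrime.prod_mem_iff).mp h
    exact hs g hg
  apply hσ
  apply hI
  intro b
  have hb : b ∈ Submodule.span A (G : Set B) := by rw [hG]; trivial
  refine Submodule.span_induction
    (p := fun b _ => algebraMap A B σ * b ∈ (algebraMap A B).range) ?_ ?_ ?_ ?_ hb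
  · intro g hg
    have : σ = (∏ g' ∈ G.erase g, s g') * s g := (Finset.prod_erase_mul G s hg).symm
    rw [this, map_mul, mul_assoc]
    exact mul_mem ⟨_, rfl⟩ (hsx g)
  · rw [mul_zero]; exact zero_mem _
  · intro x y _ _ hx hy
    rw [mul_add]; exact add_mem hx hy
  · intro r x _ hx
    rw [Algebra.smul_def, ← mul_assoc, mul_comm _ (algebraMap A B r), mul_assoc]
    exact mul_mem ⟨_, rfl⟩ hx

section Res
variable {A B : Type*} [CommRing A] [CommRing B] (φ : A →+* B) (𝔮 : PrimeSpectrum B)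

theorem loc_of_mem_range_residue
    (hB : ∀ f ∈ 𝔮.asIdeal, Loc φ (PrimeSpectrum.comap φ 𝔮).asIdeal f) (β : B)
    (hβ : algebraMap B 𝔮.asIdeal.ResidueField β ∈
      Set.range (Ideal.ResidueField.map (PrimeSpectrum.comap φ 𝔮).asIdeal 𝔮.asIdeal φ rfl)) :
    Loc φ (PrimeSpectrum.comap φ 𝔮).asIdeal β := by
  obtain ⟨z, hz⟩ := hβ
  obtain ⟨u, v, hv, rfl⟩ := residueField_exists_div (PrimeSpectrum.comap φ 𝔮).asIdeal z
  rw [map_div₀, Ideal.ResidueField.map_algebraMap, Ideal.ResidueField.map_algebraMap] at hz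
  have hv' : algebraMap B 𝔮.asIdeal.ResidueField (φ v) ≠ 0 := by
    intro h0
    exact hv (show φ v ∈ 𝔮.asIdeal from Ideal.algebraMap_residueField_eq_zero.mp h0)
  have hf : φ v * β - φ u ∈ 𝔮.asIdeal := by
    rw [← Ideal.algebraMap_residueField_eq_zero, map_sub, map_mul, ← hz, mul_div_cancel₀ _ hv',
      sub_self]
  obtain ⟨s, hs, a, ha⟩ := hB _ hf
  have hprime : (PrimeSpectrum.comap φ 𝔮).asIdeal.IsPrime := (PrimeSpectrum.comap φ 𝔮).isPrime
  refine ⟨s * v, ?_, a + s * u, ?_⟩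
  · intro h
    rcases hprime.mem_or_mem h with h | h
    exacts [hs h, hv h]
  · rw [map_add, ha, map_mul, map_mul]; ring

theorem mem_range_residue_of_loc (β : B) (h : Loc φ (PrimeSpectrum.comap φ 𝔮).asIdeal β) :
    algebraMap B 𝔮.asIdeal.ResidueField β ∈
      Set.range (Ideal.ResidueField.map (PrimeSpectrum.comap φ 𝔮).asIdeal 𝔮.asIdeal φ rfl) := by
  obtain ⟨s, hs, a, ha⟩ := h
  have hs' : algebraMap B 𝔮.asIdeal.ResidueField (φ s) ≠ 0 := by
    intro h0
    exact hs (show φ s ∈ 𝔮.asIdeal from Ideal.algebraMap_residueField_eq_zero.mp h0)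
  refine ⟨algebraMap A _ a / algebraMap A _ s, ?_⟩
  rw [map_div₀, Ideal.ResidueField.map_algebraMap, Ideal.ResidueField.map_algebraMap, ha, map_mul,
    mul_div_cancel_left₀ _ hs']

end Res

end SqCube

end Groth.Agent.Lib.Helper70
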