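import Mathlib
import Groth.Agent.Lib.Helper70.SqCubeCore

universe u

namespace Groth.Agent.Lib.Helper70

open CategoryTheory AlgebraicGeometry Polynomial

namespace SqCube
open SpecUH

theorem prime_charP_of_expChar_ne_one (R : Type*) [AddMonoidWithOne R] (q : ℕ) [hq : ExpChar R q]
    (h : q ≠ 1) : q.Prime ∧ CharP R q := by
  cases hq with
  | zero => exact absurd rfl h
  | prime hp => exact ⟨hp, inferInstance⟩

theorem core_finite {A B : Type u} [CommRing A] [CommRing B] [Algebra A B] [Module.Finite A B]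
    (hns : ¬ Function.Surjective (algebraMap A B))
    (hU : FlatMor.IsUnivHomeo (Spec.map (CommRingCat.ofHom (algebraMap A B)))) :
    (∃ b : B, b ∉ (algebraMap A B).range ∧ b ^ 2 ∈ (algebraMap A B).range ∧
      b ^ 3 ∈ (algebraMap A B).range) ∨
    ((∃ 𝔮 : PrimeSpectrum B, ¬ Function.Surjective
        (Ideal.ResidueField.map (PrimeSpectrum.comap (algebraMap A B) 𝔮).asIdeal 𝔮.asIdeal
          (algebraMap A B) rfl)) ∧
      ∃ (p : ℕ) (b : B), p.Prime ∧ b ∉ (algebraMap A B).range ∧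
        (p : B) * b ∈ (algebraMap A B).range ∧ b ^ p ∈ (algebraMap A B).range) := by
  classical
  set φ := algebraMap A B with hφ
  obtain ⟨hint, hbij⟩ := isIntegral_and_bijective_of_isUnivHomeo φ hU
  by_cases hno : ∃ b : B, b ∉ φ.range ∧ b ^ 2 ∈ φ.range ∧ b ^ 3 ∈ φ.range
  · exact Or.inl hno
  right
  have hI := conductor_ne_top φ hns
  obtain ⟨M, hMmax, hIM⟩ := Ideal.exists_le_maximal _ hI
  have hMprime : M.IsPrime := hMmax.isPrime
  obtain ⟨𝔭₀, h𝔭₀min, -⟩ := Ideal.exists_minimalPrimes_le (J := M) hIM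
  obtain ⟨𝔮, h𝔮⟩ := hbij.2 ⟨𝔭₀, h𝔭₀min.1.1⟩
  have h𝔭 : 𝔭₀ = (PrimeSpectrum.comap φ 𝔮).asIdeal := by rw [h𝔮]
  subst h𝔭
  have h𝔭prime : (PrimeSpectrum.comap φ 𝔮).asIdeal.IsPrime := (PrimeSpectrum.comap φ 𝔮).isPrime
  have hB : ∀ f ∈ 𝔮.asIdeal, Loc φ (PrimeSpectrum.comap φ 𝔮).asIdeal f :=
    stepB φ hbij.1 𝔮 h𝔭₀min hno
  obtain ⟨β, hβ⟩ := not_forall.mp (not_forall_loc (PrimeSpectrum.comap φ 𝔮).asIdeal h𝔭₀min.1.2)
  set ρ := Ideal.ResidueField.map (PrimeSpectrum.comap φ 𝔮).asIdeal 𝔮.asIdeal φ rfl with hρ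
  have hβ' : algebraMap B 𝔮.asIdeal.ResidueField β ∉ Set.range ρ :=
    fun h => hβ (loc_of_mem_range_residue φ 𝔮 hB β h)
  refine ⟨⟨𝔮, fun hsurj => hβ' (hsurj _)⟩, ?_⟩
  have hpi := isPurelyInseparable_residue_of_isUnivHomeo φ hU 𝔮
  let _ := ρ.toAlgebra
  have hpi' : IsPurelyInseparable (PrimeSpectrum.comap φ 𝔮).asIdeal.ResidueField
      𝔮.asIdeal.ResidueField := hpi
  set q := ringExpChar (PrimeSpectrum.comap φ 𝔮).asIdeal.ResidueField with hq
  have hex : ∃ n : ℕ, (algebraMap B 𝔮.asIdeal.ResidueField β) ^ q ^ n ∈ Set.range ρ :=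
    IsPurelyInseparable.pow_mem (PrimeSpectrum.comap φ 𝔮).asIdeal.ResidueField q _
  obtain ⟨n, hn, hnmin⟩ : ∃ n : ℕ, (algebraMap B 𝔮.asIdeal.ResidueField β) ^ q ^ n ∈ Set.range ρ ∧
      ∀ m < n, (algebraMap B 𝔮.asIdeal.ResidueField β) ^ q ^ m ∉ Set.range ρ :=
    ⟨Nat.find hex, Nat.find_spec hex, fun m hm => Nat.find_min hex hm⟩
  have hn0 : n ≠ 0 := by
    intro h0
    rw [h0, pow_zero, pow_one] at hn
    exact hβ' hn
  obtain ⟨m, hm⟩ := Nat.exists_eq_succ_of_ne_zero hn0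
  have hmin : (algebraMap B 𝔮.asIdeal.ResidueField β) ^ q ^ m ∉ Set.range ρ :=
    hnmin m (by omega)
  have hq1 : q ≠ 1 := by
    intro h
    rw [h, one_pow, pow_one] at hn
    exact hβ' hn
  obtain ⟨hqprime, hchar⟩ :=
    prime_charP_of_expChar_ne_one (PrimeSpectrum.comap φ 𝔮).asIdeal.ResidueField q hq1
  have hqmem : (q : A) ∈ (PrimeSpectrum.comap φ 𝔮).asIdeal := by
    rw [← Ideal.algebraMap_residueField_eq_zero, map_natCast]
    exact CharP.cast_eq_zero _ q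
  set γ := β ^ q ^ m with hγ
  have hγ1 : ¬ Loc φ (PrimeSpectrum.comap φ 𝔮).asIdeal γ := by
    intro h
    apply hmin
    have := mem_range_residue_of_loc φ 𝔮 γ h
    rwa [hγ, map_pow] at this
  have hγ2 : Loc φ (PrimeSpectrum.comap φ 𝔮).asIdeal (γ ^ q) := by
    apply loc_of_mem_range_residue φ 𝔮 hB
    rw [hγ, ← pow_mul, ← pow_succ, map_pow]
    rw [hm] at hn
    exact hn
  obtain ⟨t, ht, a₁, ha₁⟩ := hγ2
  have hqγ : φ (q : A) * γ ∈ 𝔮.asIdeal := Ideal.mul_mem_right _ _ hqmem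
  obtain ⟨s', hs', a₂, ha₂⟩ := hB _ hqγ
  have hs't : s' * t ∉ (PrimeSpectrum.comap φ 𝔮).asIdeal := by
    intro h
    rcases h𝔭prime.mem_or_mem h with h | h
    exacts [hs' h, ht h]
  refine ⟨q, φ (s' * t) * γ, hqprime, ?_, ?_, ?_⟩
  · intro hmem
    exact hγ1 ⟨s' * t, hs't, hmem⟩
  · refine ⟨t * a₂, ?_⟩
    rw [map_mul, ha₂, map_mul, map_natCast]
    ring
  · have hq1 : 1 ≤ q := hqprime.one_le
    refine ⟨s' ^ q * t ^ (q - 1) * a₁, ?_⟩
    rw [map_mul, ha₁, map_mul, map_pow, map_pow, mul_pow, map_mul, mul_pow]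
    have : φ t ^ q = φ t ^ (q - 1) * φ t := by
      rw [← pow_succ, Nat.sub_add_cancel hq1]
    rw [this]
    ring

theorem core {A B : Type u} [CommRing A] [CommRing B] (φ : A →+* B)
    (hns : ¬ Function.Surjective φ)
    (hU : FlatMor.IsUnivHomeo (Spec.map (CommRingCat.ofHom φ))) :
    (∃ b : B, b ∉ φ.range ∧ b ^ 2 ∈ φ.range ∧ b ^ 3 ∈ φ.range) ∨
    (¬ TRf φ ∧ ∃ (p : ℕ) (b : B), p.Prime ∧ b ∉ φ.range ∧ (p : B) * b ∈ φ.range ∧
      b ^ p ∈ φ.range) := by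
  classical
  obtain ⟨b₀, hb₀⟩ := not_forall.mp hns
  let _ := φ.toAlgebra
  have hint : (algebraMap A B).IsIntegral := (isIntegral_and_bijective_of_isUnivHomeo φ hU).1
  let B' := Algebra.adjoin A {b₀}
  have : Module.Finite A B' := Algebra.finite_adjoin_simple_of_isIntegral (hint b₀)
  have hU' : FlatMor.IsUnivHomeo (Spec.map (CommRingCat.ofHom (algebraMap A B'))) :=
    (subalgebra_inherits_isUnivHomeo_and_variants B').1 hU
  have hns' : ¬ Function.Surjective (algebraMap A B') := by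
    intro h
    obtain ⟨a, ha⟩ := h ⟨b₀, Algebra.subset_adjoin rfl⟩
    exact hb₀ ⟨a, congrArg Subtype.val ha⟩
  have hmem : ∀ c : B', c ∈ (algebraMap A B').range ↔ (c : B) ∈ φ.range := by
    intro c
    constructor
    · rintro ⟨a, rfl⟩; exact ⟨a, rfl⟩
    · rintro ⟨a, ha⟩; exact ⟨a, Subtype.ext ha⟩
  rcases core_finite hns' hU' with ⟨b, h1, h2, h3⟩ | ⟨⟨𝔮, h𝔮⟩, p, b, hp, h1, h2, h3⟩
  · left
    rw [hmem] at h1 h2 h3
    exact ⟨b, h1, by simpa using h2, by simpa using h3⟩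
  · right
    refine ⟨?_, p, b, hp, ?_, ?_, ?_⟩
    · intro hT
      have hT' : TRf (algebraMap A B') := sub_TRf B' hint hT
      exact h𝔮 ((TRf_iff _).mp hT' 𝔮)
    · rwa [hmem] at h1
    · rw [hmem] at h2; simpa using h2
    · rw [hmem] at h3; simpa using h3

/-- S7398 -/
theorem exists_sq_cube_of_isUnivHomeo_residueFields_bijective {A B : Type u} [CommRing A]
    [CommRing B] (φ : A →+* B) (hns : ¬ Function.Surjective φ)
    (hU : FlatMor.IsUnivHomeo (Spec.map (CommRingCat.ofHom φ)))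
    (hres : ∀ x : Spec (CommRingCat.of B),
      Function.Surjective ((Spec.map (CommRingCat.ofHom φ)).residueFieldMap x)) :
    ∃ b : B, b ∉ φ.range ∧ b ^ 2 ∈ φ.range ∧ b ^ 3 ∈ φ.range := by
  rcases core φ hns hU with h | ⟨h, -⟩
  · exact h
  · exact absurd ((TRf_iff_SpecMap φ).mpr hres) h

/-- S7399 -/
theorem exists_sq_cube_or_prime_of_isUnivHomeo {A B : Type u} [CommRing A]
    [CommRing B] (φ : A →+* B) (hns : ¬ Function.Surjective φ)
    (hU : FlatMor.IsUnivHomeo (Spec.map (CommRingCat.ofHom φ))) :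
    (∃ b : B, b ∉ φ.range ∧ b ^ 2 ∈ φ.range ∧ b ^ 3 ∈ φ.range) ∨
      ∃ (p : ℕ) (b : B), p.Prime ∧ b ∉ φ.range ∧ (p : B) * b ∈ φ.range ∧ b ^ p ∈ φ.range := by
  rcases core φ hns hU with h | ⟨-, h⟩
  · exact Or.inl h
  · exact Or.inr h

end SqCube

end Groth.Agent.Lib.Helper70
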