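import Mathlib
import Groth.Agent.Lib.Helper70.SqCubeMain

universe u

namespace Groth.Agent.Lib.Helper70

open CategoryTheory AlgebraicGeometry Polynomial

namespace SqCube
open SpecUH

section Reach
variable {A B : Type*} [CommRing A] [CommRing B] [Algebra A B]
variable (Step : Subalgebra A B → B → Prop)
  (hmono : ∀ (S S' : Subalgebra A B) (b : B), S ≤ S' → Step S b → Step S' b)

theorem adjoin_le_append_left (l l' : List B) :
    Algebra.adjoin A {x : B | x ∈ l'} ≤ Algebra.adjoin A {x : B | x ∈ l' ++ l} :=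
  Algebra.adjoin_mono (fun _ hx => List.mem_append_left _ hx)

theorem adjoin_le_append_right (l l' : List B) :
    Algebra.adjoin A {x : B | x ∈ l} ≤ Algebra.adjoin A {x : B | x ∈ l' ++ l} :=
  Algebra.adjoin_mono (fun _ hx => List.mem_append_right _ hx)

/-- elements reachable by a tower. -/
def reach : Subalgebra A B where
  carrier := {b | ∃ l : List B, RTower Step l ∧ b ∈ Algebra.adjoin A {x : B | x ∈ l}}
  mul_mem' := by
    rintro a b ⟨l, hl, ha⟩ ⟨l', hl', hb⟩
    exact ⟨l' ++ l, rtower_append hmono hl hl',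
      mul_mem (adjoin_le_append_right l l' ha) (adjoin_le_append_left l l' hb)⟩
  add_mem' := by
    rintro a b ⟨l, hl, ha⟩ ⟨l', hl', hb⟩
    exact ⟨l' ++ l, rtower_append hmono hl hl',
      add_mem (adjoin_le_append_right l l' ha) (adjoin_le_append_left l l' hb)⟩
  one_mem' := ⟨[], trivial, one_mem _⟩
  zero_mem' := ⟨[], trivial, zero_mem _⟩
  algebraMap_mem' := fun a => ⟨[], trivial, Subalgebra.algebraMap_mem _ a⟩

theorem mem_reach {b : B} : b ∈ reach Step hmono ↔
    ∃ l : List B, RTower Step l ∧ b ∈ Algebra.adjoin A {x : B | x ∈ l} := Iff.rfl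

theorem exists_common {a b : B} (ha : a ∈ reach Step hmono) (hb : b ∈ reach Step hmono) :
    ∃ l : List B, RTower Step l ∧ a ∈ Algebra.adjoin A {x : B | x ∈ l} ∧
      b ∈ Algebra.adjoin A {x : B | x ∈ l} := by
  obtain ⟨l, hl, ha⟩ := ha
  obtain ⟨l', hl', hb⟩ := hb
  exact ⟨l' ++ l, rtower_append hmono hl hl', adjoin_le_append_right l l' ha,
    adjoin_le_append_left l l' hb⟩

theorem exists_finset (h : reach Step hmono = ⊤) (E : Finset B) :
    ∃ l : List B, RTower Step l ∧ (↑E : Set B) ⊆ Algebra.adjoin A {x : B | x ∈ l} := by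
  classical
  induction E using Finset.induction_on with
  | empty => exact ⟨[], trivial, by simp⟩
  | insert e E' _ ih =>
    obtain ⟨l', hl', hE'⟩ := ih
    obtain ⟨l, hl, he⟩ : e ∈ reach Step hmono := by rw [h]; exact Algebra.mem_top
    refine ⟨l' ++ l, rtower_append hmono hl hl', ?_⟩
    intro x hx
    rw [Finset.coe_insert, Set.mem_insert_iff] at hx
    rcases hx with rfl | hx
    · exact adjoin_le_append_right l l' he
    · exact adjoin_le_append_left l l' (hE' hx)

theorem mem_reach_of_step {b : B} {l : List B} (hl : RTower Step l)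
    (hb : Step (Algebra.adjoin A {x : B | x ∈ l}) b) : b ∈ reach Step hmono :=
  ⟨b :: l, ⟨hl, hb⟩, Algebra.subset_adjoin (List.mem_cons_self)⟩

end Reach

section ReachSC
variable {A B : Type*} [CommRing A] [CommRing B] [Algebra A B]

theorem mem_reach_of_stepSC {b : B} (hb : StepSC (reach (A := A) StepSC stepSC_mono) b) :
    b ∈ reach (A := A) StepSC stepSC_mono := by
  obtain ⟨l, hl, h2, h3⟩ := exists_common StepSC stepSC_mono hb.1 hb.2
  exact mem_reach_of_step StepSC stepSC_mono hl ⟨h2, h3⟩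

theorem mem_reach_of_stepP {b : B} (hb : StepP (reach (A := A) StepP stepP_mono) b) :
    b ∈ reach (A := A) StepP stepP_mono := by
  rcases hb with hb | ⟨p, hp, h1, h2⟩
  · obtain ⟨l, hl, h2, h3⟩ := exists_common StepP stepP_mono hb.1 hb.2
    exact mem_reach_of_step StepP stepP_mono hl (Or.inl ⟨h2, h3⟩)
  · obtain ⟨l, hl, h2, h3⟩ := exists_common StepP stepP_mono h1 h2
    exact mem_reach_of_step StepP stepP_mono hl (Or.inr ⟨p, hp, h2, h3⟩)

end ReachSC

section Val
variable {A B : Type u} [CommRing A] [CommRing B] [Algebra A B] (R : Subalgebra A B)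

theorem isUnivHomeo_val (hU : FlatMor.IsUnivHomeo (Spec.map (CommRingCat.ofHom (algebraMap A B)))) :
    FlatMor.IsUnivHomeo (Spec.map (CommRingCat.ofHom R.val.toRingHom)) := by
  rw [isUnivHomeo_SpecMap_iff] at hU ⊢
  obtain ⟨hint, -, hfp⟩ := hU
  refine ⟨sub_val_isIntegral R hint, ?_, ?_⟩
  · intro x hx
    have : x = 0 := Subtype.val_injective (by simpa using hx)
    rw [this]; exact zero_mem _
  · intro K _ g₁ g₂ hg
    apply hfp
    ext a
    exact congrFun (congrArg DFunLike.coe hg) (algebraMap A R a)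

theorem TRf_val (hT : TRf (algebraMap A B)) : TRf R.val.toRingHom := by
  intro K _ g x
  refine Subfield.closure_mono ?_ (hT K g x)
  rintro _ ⟨a, rfl⟩
  exact ⟨algebraMap A R a, rfl⟩

theorem range_val : R.val.toRingHom.range = R.toSubring := by
  ext x
  constructor
  · rintro ⟨y, rfl⟩; exact y.2
  · intro hx; exact ⟨⟨x, hx⟩, rfl⟩

end Val

section Main
variable {A B : Type u} [CommRing A] [CommRing B] [Algebra A B]

theorem reachSC_eq_top
    (hU : FlatMor.IsUnivHomeo (Spec.map (CommRingCat.ofHom (algebraMap A B))))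
    (hT : TRf (algebraMap A B)) : reach (A := A) (B := B) StepSC stepSC_mono = ⊤ := by
  by_contra hne
  set R := reach (A := A) (B := B) StepSC stepSC_mono with hR
  have hns : ¬ Function.Surjective R.val.toRingHom := by
    intro hs
    apply hne
    rw [eq_top_iff]
    intro b _
    obtain ⟨y, rfl⟩ := hs b
    exact y.2
  obtain ⟨b, h1, h2, h3⟩ := exists_sq_cube_of_isUnivHomeo_residueFields_bijective R.val.toRingHom hns
    (isUnivHomeo_val R hU) ((TRf_iff_SpecMap _).mp (TRf_val R hT))
  rw [range_val] at h1 h2 h3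
  exact h1 (mem_reach_of_stepSC ⟨h2, h3⟩)

theorem reachP_eq_top
    (hU : FlatMor.IsUnivHomeo (Spec.map (CommRingCat.ofHom (algebraMap A B)))) :
    reach (A := A) (B := B) StepP stepP_mono = ⊤ := by
  by_contra hne
  set R := reach (A := A) (B := B) StepP stepP_mono with hR
  have hns : ¬ Function.Surjective R.val.toRingHom := by
    intro hs
    apply hne
    rw [eq_top_iff]
    intro b _
    obtain ⟨y, rfl⟩ := hs b
    exact y.2
  rcases exists_sq_cube_or_prime_of_isUnivHomeo R.val.toRingHom hns (isUnivHomeo_val R hU) with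
    ⟨b, h1, h2, h3⟩ | ⟨p, b, hp, h1, h2, h3⟩
  · rw [range_val] at h1 h2 h3
    exact h1 (mem_reach_of_stepP (Or.inl ⟨h2, h3⟩))
  · rw [range_val] at h1 h2 h3
    exact h1 (mem_reach_of_stepP (Or.inr ⟨p, hp, h2, h3⟩))

theorem exists_isTower_of_reach_eq_top (Step : Subalgebra A B → B → Prop)
    (hmono : ∀ (S S' : Subalgebra A B) (b : B), S ≤ S' → Step S b → Step S' b)
    (h : reach Step hmono = ⊤) (E : Finset B) :
    ∃ l : List B, (↑E : Set B) ⊆ Algebra.adjoin A {b : B | b ∈ l} ∧ IsTower (A := A) Step l := by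
  obtain ⟨l, hl, hE⟩ := exists_finset Step hmono h E
  refine ⟨l.reverse, ?_, isTower_reverse_of_rtower hmono hl⟩
  have : {b : B | b ∈ l.reverse} = {b : B | b ∈ l} := by ext x; simp
  rw [this]
  exact hE

/-- S7400 -/
theorem isUnivHomeo_residueFields_bijective_iff_sq_cube_towers
    (hinj : Function.Injective (algebraMap A B)) :
    (FlatMor.IsUnivHomeo (Spec.map (CommRingCat.ofHom (algebraMap A B))) ∧
      ∀ x : Spec (CommRingCat.of B),
        Function.Surjective ((Spec.map (CommRingCat.ofHom (algebraMap A B))).residueFieldMap x)) ↔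
    ∀ E : Finset B, ∃ l : List B, (↑E : Set B) ⊆ Algebra.adjoin A {b : B | b ∈ l} ∧
      IsTower (A := A) StepSC l := by
  constructor
  · rintro ⟨hU, hres⟩
    exact exists_isTower_of_reach_eq_top StepSC stepSC_mono
      (reachSC_eq_top hU ((TRf_iff_SpecMap _).mpr hres))
  · intro h
    have htow : ∀ b : B, ∃ l : List B, b ∈ Algebra.adjoin A {x : B | x ∈ l} ∧
        IsTower (A := A) StepSC l := by
      intro b
      obtain ⟨l, hE, hl⟩ := h {b}
      exact ⟨l, hE (by simp), hl⟩
    have htowP : ∀ b : B, ∃ l : List B, b ∈ Algebra.adjoin A {x : B | x ∈ l} ∧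
        IsTower (A := A) StepP l := by
      intro b
      obtain ⟨l, h1, h2⟩ := htow b
      exact ⟨l, h1, isTower_stepP_of_stepSC h2⟩
    constructor
    · rw [isUnivHomeo_SpecMap_iff]
      refine ⟨isIntegral_of_towers htowP, ?_,
        fun K _ g₁ g₂ hg => fieldPoint_of_towers htowP K g₁ g₂ hg⟩
      rw [(RingHom.injective_iff_ker_eq_bot _).mp hinj]
      exact bot_le
    · rw [← TRf_iff_SpecMap]
      exact TRf_of_towers htow

/-- S7401 -/
theorem isUnivHomeo_iff_sq_cube_or_prime_towers
    (hinj : Function.Injective (algebraMap A B)) :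
    FlatMor.IsUnivHomeo (Spec.map (CommRingCat.ofHom (algebraMap A B))) ↔
    ∀ E : Finset B, ∃ l : List B, (↑E : Set B) ⊆ Algebra.adjoin A {b : B | b ∈ l} ∧
      IsTower (A := A) StepP l := by
  constructor
  · intro hU
    exact exists_isTower_of_reach_eq_top StepP stepP_mono (reachP_eq_top hU)
  · intro h
    have htowP : ∀ b : B, ∃ l : List B, b ∈ Algebra.adjoin A {x : B | x ∈ l} ∧
        IsTower (A := A) StepP l := by
      intro b
      obtain ⟨l, hE, hl⟩ := h {b}
      exact ⟨l, hE (by simp), hl⟩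
    rw [isUnivHomeo_SpecMap_iff]
    refine ⟨isIntegral_of_towers htowP, ?_,
      fun K _ g₁ g₂ hg => fieldPoint_of_towers htowP K g₁ g₂ hg⟩
    rw [(RingHom.injective_iff_ker_eq_bot _).mp hinj]
    exact bot_le

end Main

end SqCube

end Groth.Agent.Lib.Helper70
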