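import Mathlib
import Groth.Agent.Lib.Helper70.SqCubeTower

universe u

namespace Groth.Agent.Lib.Helper70

open CategoryTheory AlgebraicGeometry Polynomial

namespace AWNRing
open SpecUH SqCube

section UH
variable {A B W : Type u} [CommRing A] [CommRing B] [CommRing W]

theorem isUnivHomeo_comp (φ : A →+* B) (ψ : B →+* W)
    (hφ : FlatMor.IsUnivHomeo (Spec.map (CommRingCat.ofHom φ)))
    (hψ : FlatMor.IsUnivHomeo (Spec.map (CommRingCat.ofHom ψ))) :
    FlatMor.IsUnivHomeo (Spec.map (CommRingCat.ofHom (ψ.comp φ))) := by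
  rw [isUnivHomeo_SpecMap_iff] at hφ hψ ⊢
  obtain ⟨h1, h2, h3⟩ := hφ
  obtain ⟨k1, k2, k3⟩ := hψ
  refine ⟨RingHom.IsIntegral.trans φ ψ h1 k1, ?_, ?_⟩
  · intro a ha
    have h : φ a ∈ nilradical B := k2 (by rw [RingHom.mem_ker] at ha ⊢; exact ha)
    obtain ⟨n, hn⟩ := mem_nilradical.mp h
    have h' : a ^ n ∈ nilradical A := h2 (by rw [RingHom.mem_ker, map_pow]; exact hn)
    obtain ⟨m, hm⟩ := mem_nilradical.mp h'
    exact mem_nilradical.mpr ⟨n * m, by rw [pow_mul]; exact hm⟩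
  · intro K _ g₁ g₂ hg
    apply k3
    apply h3
    rw [RingHom.comp_assoc, RingHom.comp_assoc]
    exact hg

theorem isUnivHomeo_of_comp (ψ : A →+* B) (χ : B →+* W)
    (hψ : FlatMor.IsUnivHomeo (Spec.map (CommRingCat.ofHom ψ)))
    (hφ : FlatMor.IsUnivHomeo (Spec.map (CommRingCat.ofHom (χ.comp ψ)))) :
    FlatMor.IsUnivHomeo (Spec.map (CommRingCat.ofHom χ)) := by
  obtain ⟨-, hbψ⟩ := isIntegral_and_bijective_of_isUnivHomeo ψ hψ
  obtain ⟨-, hbφ⟩ := isIntegral_and_bijective_of_isUnivHomeo (χ.comp ψ) hφ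
  rw [isUnivHomeo_SpecMap_iff] at hφ ⊢
  obtain ⟨h1, h2, h3⟩ := hφ
  refine ⟨RingHom.IsIntegral.tower_top ψ χ h1, ?_, ?_⟩
  · intro b hb
    rw [mem_nilradical, nilpotent_iff_mem_prime]
    intro Q hQ
    obtain ⟨R, hR⟩ := hbφ.2 (PrimeSpectrum.comap ψ ⟨Q, hQ⟩)
    have h4 : PrimeSpectrum.comap ψ (PrimeSpectrum.comap χ R) = PrimeSpectrum.comap ψ ⟨Q, hQ⟩ := by
      rw [← hR]; rfl
    have h5 := hbψ.1 h4
    have : b ∈ (PrimeSpectrum.comap χ R).asIdeal := by
      change χ b ∈ R.asIdeal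
      rw [RingHom.mem_ker.mp hb]; exact zero_mem _
    rw [h5] at this
    exact this
  · intro K _ g₁ g₂ hg
    apply h3
    rw [← RingHom.comp_assoc, ← RingHom.comp_assoc, hg]

theorem isUnivHomeo_of_surjective_of_ker (π : W →+* B) (hs : Function.Surjective π)
    (hk : RingHom.ker π ≤ nilradical W) :
    FlatMor.IsUnivHomeo (Spec.map (CommRingCat.ofHom π)) := by
  rw [isUnivHomeo_SpecMap_iff]
  exact ⟨RingHom.isIntegral_of_surjective π hs, hk,
    fun K _ g₁ g₂ hg => (RingHom.cancel_right hs).mp hg⟩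

end UH

section Red
variable {W : Type*} [CommRing W]

theorem eq_of_forall_residue [IsReduced W] (a a' : W)
    (h : ∀ (P : Ideal W) [P.IsPrime], algebraMap W P.ResidueField a = algebraMap W P.ResidueField a') :
    a = a' := by
  have : IsNilpotent (a - a') := by
    rw [nilpotent_iff_mem_prime]
    intro P hP
    rw [← Ideal.algebraMap_residueField_eq_zero, map_sub, h P, sub_self]
  exact sub_eq_zero.mp (this.eq_zero)

theorem eq_of_sq_cube_of_isReduced [IsReduced W] {a a' : W} (h2 : a ^ 2 = a' ^ 2)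
    (h3 : a ^ 3 = a' ^ 3) : a = a' := by
  apply eq_of_forall_residue
  intro P _
  apply eq_of_sq_cube
  · rw [← map_pow, ← map_pow, h2]
  · rw [← map_pow, ← map_pow, h3]

theorem eq_of_mul_pow_of_isReduced [IsReduced W] {p : ℕ} (hp : p.Prime) {a a' : W}
    (h1 : (p : W) * a = (p : W) * a') (h2 : a ^ p = a' ^ p) : a = a' := by
  apply eq_of_forall_residue
  intro P _
  apply eq_of_mul_pow hp
  · have := congrArg (algebraMap W P.ResidueField) h1
    simpa using this
  · rw [← map_pow, ← map_pow, h2]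

end Red

section AWN
variable {A W : Type u} [CommRing A] [CommRing W] (φ : A →+* W) (hφ : HTop.IsRingAWN φ)
include hφ

theorem endo_eq_id (τ : W →+* W) (h : τ.comp φ = φ) : τ = RingHom.id W := by
  obtain ⟨χ, -, hu⟩ := hφ.2 W φ hφ.1
  rw [hu τ h, hu (RingHom.id W) (RingHom.id_comp φ)]

/-- any univ. homeo. out of `W` has a retraction. -/
theorem exists_retraction {W' : Type u} [CommRing W'] (ι : W →+* W')
    (hι : FlatMor.IsUnivHomeo (Spec.map (CommRingCat.ofHom ι))) :
    ∃ σ : W' →+* W, σ.comp ι = RingHom.id W := by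
  obtain ⟨σ, hσ, -⟩ := hφ.2 W' (ι.comp φ) (isUnivHomeo_comp φ ι hφ.1 hι)
  refine ⟨σ, endo_eq_id φ hφ _ ?_⟩
  rw [RingHom.comp_assoc]; exact hσ

theorem isReduced_of_isRingAWN : IsReduced W := by
  constructor
  intro x hx
  obtain ⟨σ, hσ⟩ := exists_retraction φ hφ (Ideal.Quotient.mk (nilradical W))
    (isUnivHomeo_of_surjective_of_ker _ Ideal.Quotient.mk_surjective (by rw [Ideal.mk_ker]))
  have h0 : Ideal.Quotient.mk (nilradical W) x = 0 :=
    Ideal.Quotient.eq_zero_iff_mem.mpr (mem_nilradical.mpr hx)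
  have := congrFun (congrArg DFunLike.coe hσ) x
  simp only [RingHom.comp_apply, RingHom.id_apply] at this
  rw [← this, h0, map_zero]

theorem isAWNRing_of_isRingAWN : HTop.IsAWNRing W := by
  have hred : IsReduced W := isReduced_of_isRingAWN φ hφ
  constructor
  · intro x y h
    have hUH := (S7402_aux W x y h).1
    set I := Ideal.span ({X ^ 2 - C x, X ^ 3 - C y} : Set W[X]) with hI
    obtain ⟨σ, hσ⟩ := exists_retraction φ hφ _ hUH
    have hσ' : ∀ w : W, σ (Ideal.Quotient.mk I (C w)) = w := fun w =>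
      congrFun (congrArg DFunLike.coe hσ) w
    refine ⟨σ (Ideal.Quotient.mk I X), ⟨?_, ?_⟩, ?_⟩
    · rw [← map_pow, ← map_pow, ← hσ' x]
      congr 1
      rw [Ideal.Quotient.eq]
      exact Ideal.neg_mem_iff _ |>.mp (by
        rw [neg_sub]; exact Ideal.subset_span (by simp))
    · rw [← map_pow, ← map_pow, ← hσ' y]
      congr 1
      rw [Ideal.Quotient.eq]
      exact Ideal.neg_mem_iff _ |>.mp (by
        rw [neg_sub]; exact Ideal.subset_span (by simp))
    · rintro a' ⟨h2, h3⟩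
      apply eq_of_sq_cube_of_isReduced
      · rw [← h2]; rw [← map_pow, ← map_pow, ← hσ' x]
        congr 1
        rw [Ideal.Quotient.eq]
        exact Ideal.neg_mem_iff _ |>.mp (by
          rw [neg_sub]; exact Ideal.subset_span (by simp))
      · rw [← h3]; rw [← map_pow, ← map_pow, ← hσ' y]
        congr 1
        rw [Ideal.Quotient.eq]
        exact Ideal.neg_mem_iff _ |>.mp (by
          rw [neg_sub]; exact Ideal.subset_span (by simp))
  · intro p hp x y h
    have hUH := S7403_aux W p x y hp h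
    set I := Ideal.span ({X ^ p - C x, C (p : W) * X - C y} : Set W[X]) with hI
    obtain ⟨σ, hσ⟩ := exists_retraction φ hφ _ hUH
    have hσ' : ∀ w : W, σ (Ideal.Quotient.mk I (C w)) = w := fun w =>
      congrFun (congrArg DFunLike.coe hσ) w
    have e1 : x = σ (Ideal.Quotient.mk I X) ^ p := by
      rw [← map_pow, ← map_pow, ← hσ' x]
      congr 1
      rw [Ideal.Quotient.eq]
      exact Ideal.neg_mem_iff _ |>.mp (by
        rw [neg_sub]; exact Ideal.subset_span (by simp))
    have e2 : y = (p : W) * σ (Ideal.Quotient.mk I X) := by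
      have : (p : W) = σ (Ideal.Quotient.mk I (C (p : W))) := (hσ' _).symm
      rw [this, ← map_mul, ← map_mul, ← hσ' y]
      congr 1
      rw [Ideal.Quotient.eq]
      exact Ideal.neg_mem_iff _ |>.mp (by
        rw [neg_sub]; exact Ideal.subset_span (by simp))
    refine ⟨σ (Ideal.Quotient.mk I X), ⟨e1, e2⟩, ?_⟩
    rintro a' ⟨h2, h3⟩
    apply eq_of_mul_pow_of_isReduced hp
    · rw [← h3, ← e2]
    · rw [← h2, ← e1]

end AWN

section L4
variable {B W : Type u} [CommRing B] [CommRing W]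

theorem isReduced_of_isSeminormalRing (hB : HTop.IsSeminormalRing B) : IsReduced B := by
  constructor
  intro b hb
  -- reduce to the case `b ^ 2 = 0`
  have key : ∀ c : B, c ^ 2 = 0 → c = 0 := by
    intro c hc
    obtain ⟨a, -, hu⟩ := hB 0 0 (by simp)
    have h1 : c = a := hu c ⟨hc.symm, by rw [pow_succ, hc, zero_mul]⟩
    have h2 : (0 : B) = a := hu 0 ⟨by simp, by simp⟩
    rw [h1, ← h2]
  obtain ⟨n, hn⟩ := hb
  induction n using Nat.strong_induction_on generalizing b with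
  | _ n ih =>
    rcases Nat.lt_or_ge n 2 with h | h
    · interval_cases n
      · simpa using (show (1 : B) * b = 0 by rw [← pow_zero b, hn, zero_mul])
      · simpa using hn
    · -- b^n = 0 ⇒ (b^(n-1))^2 = 0 as 2(n-1) ≥ n
      have h1 : (b ^ (n - 1)) ^ 2 = 0 := by
        rw [← pow_mul]
        have : (n - 1) * 2 = n + (n - 2) := by omega
        rw [this, pow_add, hn, zero_mul]
      exact ih (n - 1) (by omega) b (key _ h1)

theorem bijective_of_isAWNRing (hB : HTop.IsAWNRing B) [IsReduced W] (χ : B →+* W)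
    (hχ : FlatMor.IsUnivHomeo (Spec.map (CommRingCat.ofHom χ))) : Function.Bijective χ := by
  have hBred : IsReduced B := isReduced_of_isSeminormalRing hB.1
  have hinj : Function.Injective χ := by
    rw [RingHom.injective_iff_ker_eq_bot, eq_bot_iff]
    intro b hb
    have := ((isUnivHomeo_SpecMap_iff χ).mp hχ).2.1 hb
    rw [Ideal.mem_bot]
    exact (mem_nilradical.mp this).eq_zero
  refine ⟨hinj, ?_⟩
  by_contra hns
  rcases exists_sq_cube_or_prime_of_isUnivHomeo χ hns hχ with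
    ⟨w, h1, ⟨x, hx⟩, ⟨y, hy⟩⟩ | ⟨p, w, hp, h1, ⟨y, hy⟩, ⟨x, hx⟩⟩
  · have hxy : x ^ 3 = y ^ 2 := by
      apply hinj
      rw [map_pow, map_pow, hx, hy]; ring
    obtain ⟨a, ⟨h2, h3⟩, -⟩ := hB.1 x y hxy
    apply h1
    refine ⟨a, ?_⟩
    apply eq_of_sq_cube_of_isReduced
    · rw [← map_pow, ← h2, hx]
    · rw [← map_pow, ← h3, hy]
  · have hxy : (p : B) ^ p * x = y ^ p := by
      apply hinj
      rw [map_mul, map_pow, map_pow, map_natCast, hx, hy]; ring
    obtain ⟨a, ⟨h2, h3⟩, -⟩ := hB.2 p hp x y hxy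
    apply h1
    refine ⟨a, ?_⟩
    apply eq_of_mul_pow_of_isReduced hp
    · rw [← hy, h3, map_mul, map_natCast]
    · rw [← map_pow, ← h2, hx]

theorem isSeminormalRing_of_ringEquiv (e : B ≃+* W) (hW : HTop.IsSeminormalRing W) :
    HTop.IsSeminormalRing B := by
  intro x y h
  obtain ⟨a, ⟨h1, h2⟩, hu⟩ := hW (e x) (e y) (by rw [← map_pow, ← map_pow, h])
  refine ⟨e.symm a, ⟨?_, ?_⟩, ?_⟩
  · apply e.injective; rw [map_pow, e.apply_symm_apply]; exact h1
  · apply e.injective; rw [map_pow, e.apply_symm_apply]; exact h2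
  · rintro b ⟨hb1, hb2⟩
    have := hu (e b) ⟨by rw [← map_pow, ← hb1], by rw [← map_pow, ← hb2]⟩
    rw [← this, e.symm_apply_apply]

theorem isAWNRing_of_ringEquiv (e : B ≃+* W) (hW : HTop.IsAWNRing W) : HTop.IsAWNRing B := by
  refine ⟨isSeminormalRing_of_ringEquiv e hW.1, ?_⟩
  intro p hp x y h
  obtain ⟨a, ⟨h1, h2⟩, hu⟩ := hW.2 p hp (e x) (e y) (by
    rw [← map_pow, ← h, map_mul, map_pow, map_natCast])
  refine ⟨e.symm a, ⟨?_, ?_⟩, ?_⟩
  · apply e.injective; rw [map_pow, e.apply_symm_apply]; exact h1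
  · apply e.injective; rw [map_mul, map_natCast, e.apply_symm_apply]; exact h2
  · rintro b ⟨hb1, hb2⟩
    have := hu (e b) ⟨by rw [← map_pow, ← hb1], by rw [hb2, map_mul, map_natCast]⟩
    rw [← this, e.symm_apply_apply]

end L4

/-- S7423 -/
theorem isRingAWN_comparison_bijective_iff_isAWNRing {A B W : Type u} [CommRing A] [CommRing B]
    [CommRing W] (φ : A →+* W) (hφ : HTop.IsRingAWN φ) (ψ : A →+* B)
    (hψ : FlatMor.IsUnivHomeo (Spec.map (CommRingCat.ofHom ψ))) (χ : B →+* W)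
    (hχ : χ.comp ψ = φ) : Function.Bijective χ ↔ HTop.IsAWNRing B := by
  constructor
  · intro hb
    exact isAWNRing_of_ringEquiv (RingEquiv.ofBijective χ hb) (isAWNRing_of_isRingAWN φ hφ)
  · intro hB
    have : IsReduced W := isReduced_of_isRingAWN φ hφ
    refine bijective_of_isAWNRing hB χ (isUnivHomeo_of_comp ψ χ hψ ?_)
    rw [hχ]; exact hφ.1

end AWNRing

end Groth.Agent.Lib.Helper70
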