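import Mathlib
import Groth.Agent.S0415
import Groth.Prelude.Def_HTop2

universe u

namespace Groth.Agent.Lib.Helper70

open CategoryTheory CategoryTheory.Limits AlgebraicGeometry MorphismProperty
open Groth.Agent.Lib.Helper2

namespace UHImage

/-- cancellation: if `g` is surjective and `g ≫ h` is a universal homeomorphism, so is `h`. -/
theorem isUnivHomeo_of_comp_surjective {X Y Z : Scheme.{u}} (g : X ⟶ Y) (h : Y ⟶ Z)
    [Surjective g] (hgh : FlatMor.IsUnivHomeo (g ≫ h)) : FlatMor.IsUnivHomeo h := by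
  intro Y' Z' i₁ i₂ h' H
  set P := pullback g i₁ with hP
  set p : P ⟶ Y' := pullback.snd g i₁ with hp
  have H1 : IsPullback p (pullback.fst g i₁) i₁ g :=
    (IsPullback.of_hasPullback g i₁).flip
  have H2 : IsPullback (p ≫ h') (pullback.fst g i₁) i₂ (g ≫ h) :=
    H1.paste_horiz H
  have hps : Surjective p := MorphismProperty.of_isPullback H1.flip inferInstance
  have h2 : IsHomeomorph ((p ≫ h' : P ⟶ Z') : P → Z') := hgh _ _ _ H2
  have hcomp : ((p ≫ h' : P ⟶ Z') : P → Z') = (h' : Y' → Z') ∘ (p : P → Y') := by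
    ext x; simp
  rw [hcomp] at h2
  change IsHomeomorph (h' : Y' → Z')
  have hpsurj : Function.Surjective (p : P → Y') := p.surjective
  have hinj : Function.Injective (h' : Y' → Z') := by
    intro y₁ y₂ hy
    obtain ⟨x₁, rfl⟩ := hpsurj y₁
    obtain ⟨x₂, rfl⟩ := hpsurj y₂
    have := h2.injective (a₁ := x₁) (a₂ := x₂) hy
    rw [this]
  have hsurj : Function.Surjective (h' : Y' → Z') := fun z => by
    obtain ⟨x, hx⟩ := h2.surjective z
    exact ⟨p x, hx⟩
  have hclosed : IsClosedMap (h' : Y' → Z') := by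
    intro C hC
    have : (h' : Y' → Z') '' C = ((h' : Y' → Z') ∘ (p : P → Y')) '' ((p : P → Y') ⁻¹' C) := by
      rw [Set.image_comp, Set.image_preimage_eq _ hpsurj]
    rw [this]
    exact h2.isClosedMap _ (hC.preimage p.continuous)
  exact isHomeomorph_iff_continuous_isClosedMap_bijective.mpr
    ⟨h'.continuous, hclosed, hinj, hsurj⟩

theorem ker_toImage {X Y : Scheme.{u}} (f : X ⟶ Y) [QuasiCompact f] : f.toImage.ker = ⊥ := by
  refine Scheme.IdealSheafData.ext_of_iSup_eq_top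
    (fun U : Y.affineOpens => (⟨f.imageι ⁻¹ᵁ U.1, U.2.preimage f.imageι⟩ : f.image.affineOpens))
    ?_ ?_
  · rw [eq_top_iff]
    intro x _
    obtain ⟨_, ⟨U, hU, rfl⟩, hxU, -⟩ :=
      Y.isBasis_affineOpens.exists_subset_of_mem_open (Set.mem_univ (f.imageι x)) isOpen_univ
    exact TopologicalSpace.Opens.mem_iSup.mpr ⟨⟨U, hU⟩, hxU⟩
  · intro U
    rw [Scheme.Hom.ker_apply, Scheme.IdealSheafData.ideal_bot]
    exact (RingHom.injective_iff_ker_eq_bot _).mp (f.toImage_app_injective U)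

/-- the scheme-theoretic image map is an epimorphism towards separated schemes. -/
theorem toImage_cancel {T' P X : Scheme.{u}} (γ : T' ⟶ P) [QuasiCompact γ] [X.IsSeparated]
    (u v : γ.image ⟶ X) (h : γ.toImage ≫ u = γ.toImage ≫ v) : u = v := by
  have hle : (equalizer.ι u v).ker ≤ (equalizer.lift γ.toImage h ≫ equalizer.ι u v).ker :=
    Scheme.Hom.le_ker_comp _ _
  rw [equalizer.lift_ι, ker_toImage, le_bot_iff] at hle
  have : IsIso (equalizer.ι u v) := IsClosedImmersion.isIso_iff_ker_eq_bot.mpr hle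
  exact (cancel_epi (equalizer.ι u v)).mp (equalizer.condition u v)

/-- the image of a universal homeomorphism inside a separated scheme locally of finite type. -/
theorem image_finite_univHomeo {T' T P : Scheme.{u}} (ν : T' ⟶ T) (hν : FlatMor.IsUnivHomeo ν)
    (p : P ⟶ T) [IsSeparated p] [LocallyOfFiniteType p] (γ : T' ⟶ P) (hγ : γ ≫ p = ν) :
    QuasiCompact γ ∧ IsFinite (γ.imageι ≫ p) ∧ FlatMor.IsUnivHomeo (γ.imageι ≫ p) ∧
      Surjective γ.toImage := by
  have hqc : QuasiCompact (γ ≫ p) := hγ ▸ IsUnivHomeo.quasiCompact hν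
  have hqcγ : QuasiCompact γ := QuasiCompact.of_comp γ p
  have hint : IsIntegralHom ν := ((Groth.Agent.S0415.result ν).mp hν).1
  have huc : UniversallyClosed (γ ≫ p) := by rw [hγ]; infer_instance
  have hucγ : UniversallyClosed γ := UniversallyClosed.of_comp_of_isSeparated γ p
  have hsurj : Surjective γ.toImage :=
    surjective_of_isDominant_of_isClosed_range _ γ.toImage.isClosedMap.isClosed_range
  have hUH : FlatMor.IsUnivHomeo (γ.imageι ≫ p) := by
    apply isUnivHomeo_of_comp_surjective γ.toImage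
    rw [Scheme.Hom.toImage_imageι_assoc, hγ]
    exact hν
  have hint' : IsIntegralHom (γ.imageι ≫ p) := ((Groth.Agent.S0415.result _).mp hUH).1
  refine ⟨hqcγ, ?_, hUH, hsurj⟩
  rw [IsFinite.iff_isIntegralHom_and_locallyOfFiniteType]
  exact ⟨hint', inferInstance⟩

theorem residueFieldsIso_of_comp_surjective {X Y Z : Scheme.{u}} (g : X ⟶ Y) (h : Y ⟶ Z)
    [Surjective g] (hgh : HTop.ResidueFieldsIso (g ≫ h)) : HTop.ResidueFieldsIso h := by
  intro y
  obtain ⟨x, rfl⟩ := g.surjective y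
  have h1 : IsIso (h.residueFieldMap (g x) ≫ g.residueFieldMap x) := by
    rw [← Scheme.residueFieldMap_comp]
    exact hgh x
  have hbij : Function.Bijective (h.residueFieldMap (g x) ≫ g.residueFieldMap x) :=
    ConcreteCategory.bijective_of_isIso _
  have hb : Function.Bijective (g.residueFieldMap x) := by
    refine ⟨(g.residueFieldMap x).hom.injective, ?_⟩
    intro z
    obtain ⟨w, hw⟩ := hbij.2 z
    exact ⟨h.residueFieldMap (g x) w, hw⟩
  have h2 : IsIso (g.residueFieldMap x) := (ConcreteCategory.isIso_iff_bijective _).mpr hb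
  exact IsIso.of_isIso_comp_right (h.residueFieldMap (g x)) (g.residueFieldMap x)

section Main
variable {S X T T' : Scheme.{u}} [X.IsSeparated] (fX : X ⟶ S) [LocallyOfFiniteType fX]
  (fT : T ⟶ S) (ν : T' ⟶ T) (hν : FlatMor.IsUnivHomeo ν)
include hν

theorem factor_exists (g : T' ⟶ X) (hg : g ≫ fX = ν ≫ fT) :
    ∃ (T₁ : Scheme.{u}) (π : T₁ ⟶ T) (_ : IsFinite π) (_ : FlatMor.IsUnivHomeo π) (g₁ : T₁ ⟶ X)
      (h : T' ⟶ T₁), h ≫ π = ν ∧ g₁ ≫ fX = π ≫ fT ∧ h ≫ g₁ = g ∧ Surjective h := by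
  let γ : T' ⟶ pullback fT fX := pullback.lift ν g hg.symm
  have hγ : γ ≫ pullback.fst fT fX = ν := pullback.lift_fst _ _ _
  obtain ⟨hqc, hfin, hUH, hsurj⟩ := image_finite_univHomeo ν hν (pullback.fst fT fX) γ hγ
  refine ⟨γ.image, γ.imageι ≫ pullback.fst fT fX, hfin, hUH, γ.imageι ≫ pullback.snd fT fX,
    γ.toImage, ?_, ?_, ?_, hsurj⟩
  · rw [Scheme.Hom.toImage_imageι_assoc, hγ]
  · rw [Category.assoc, Category.assoc, pullback.condition]
  · rw [Scheme.Hom.toImage_imageι_assoc]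
    exact pullback.lift_snd _ _ _

theorem factor_unique (T₁ T₂ : Scheme.{u}) (π₁ : T₁ ⟶ T) (π₂ : T₂ ⟶ T) [IsFinite π₁] [IsFinite π₂]
    (g₁ : T₁ ⟶ X) (g₂ : T₂ ⟶ X) (h₁ : T' ⟶ T₁) (h₂ : T' ⟶ T₂)
    (e₁ : h₁ ≫ π₁ = ν) (e₂ : h₂ ≫ π₂ = ν) (e : h₁ ≫ g₁ = h₂ ≫ g₂) :
    ∃ (T₃ : Scheme.{u}) (π₃ : T₃ ⟶ T) (_ : IsFinite π₃) (_ : FlatMor.IsUnivHomeo π₃)
      (a₁ : T₃ ⟶ T₁) (a₂ : T₃ ⟶ T₂) (h₃ : T' ⟶ T₃), a₁ ≫ π₁ = π₃ ∧ a₂ ≫ π₂ = π₃ ∧
        a₁ ≫ g₁ = a₂ ≫ g₂ ∧ h₃ ≫ π₃ = ν ∧ Surjective h₃ := by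
  let γ : T' ⟶ pullback π₁ π₂ := pullback.lift h₁ h₂ (e₁.trans e₂.symm)
  have hγ : γ ≫ (pullback.fst π₁ π₂ ≫ π₁) = ν := by
    rw [pullback.lift_fst_assoc, e₁]
  obtain ⟨hqc, hfin, hUH, hsurj⟩ :=
    image_finite_univHomeo ν hν (pullback.fst π₁ π₂ ≫ π₁) γ hγ
  refine ⟨γ.image, γ.imageι ≫ pullback.fst π₁ π₂ ≫ π₁, hfin, hUH,
    γ.imageι ≫ pullback.fst π₁ π₂, γ.imageι ≫ pullback.snd π₁ π₂, γ.toImage,
    by rw [Category.assoc], by rw [Category.assoc, pullback.condition], ?_, ?_, hsurj⟩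
  · apply toImage_cancel γ
    simp only [Category.assoc]
    rw [Scheme.Hom.toImage_imageι_assoc, Scheme.Hom.toImage_imageι_assoc,
      pullback.lift_fst_assoc, pullback.lift_snd_assoc, e]
  · rw [Scheme.Hom.toImage_imageι_assoc, hγ]

end Main

end UHImage

end Groth.Agent.Lib.Helper70
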