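import Mathlib
import Groth.Agent.Lib.Helper70.UnivHomeoImage
import Groth.Agent.Lib.Helper70.AWNRing
import Groth.Agent.Lib.Helper7.ReducedFibreScheme

universe u

namespace Groth.Agent.Lib.Helper70

open CategoryTheory CategoryTheory.Limits AlgebraicGeometry
open Groth.Agent.Lib.Helper2

namespace SNIso
open SpecUH SqCube AWNRing UHImage

/-- a seminormal ring has no nontrivial universal homeomorphisms with trivial residue field
extensions to reduced rings. -/
theorem bijective_of_isSeminormalRing {B W : Type u} [CommRing B] [CommRing W]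
    (hB : HTop.IsSeminormalRing B) [IsReduced W] (χ : B →+* W)
    (hχ : FlatMor.IsUnivHomeo (Spec.map (CommRingCat.ofHom χ))) (hT : TRf χ) :
    Function.Bijective χ := by
  have hBred : IsReduced B := isReduced_of_isSeminormalRing hB
  have hinj : Function.Injective χ := by
    rw [RingHom.injective_iff_ker_eq_bot, eq_bot_iff]
    intro b hb
    have := ((isUnivHomeo_SpecMap_iff χ).mp hχ).2.1 hb
    rw [Ideal.mem_bot]
    exact (mem_nilradical.mp this).eq_zero
  refine ⟨hinj, ?_⟩
  by_contra hns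
  obtain ⟨w, h1, ⟨x, hx⟩, ⟨y, hy⟩⟩ :=
    exists_sq_cube_of_isUnivHomeo_residueFields_bijective χ hns hχ ((TRf_iff_SpecMap χ).mp hT)
  have hxy : x ^ 3 = y ^ 2 := by
    apply hinj
    rw [map_pow, map_pow, hx, hy]; ring
  obtain ⟨a, ⟨h2, h3⟩, -⟩ := hB x y hxy
  apply h1
  refine ⟨a, ?_⟩
  apply eq_of_sq_cube_of_isReduced
  · rw [← map_pow, ← h2, hx]
  · rw [← map_pow, ← h3, hy]

section RFI
variable {X Y Z : Scheme.{u}}

theorem residueFieldsIso_comp (f : X ⟶ Y) (g : Y ⟶ Z) (hf : HTop.ResidueFieldsIso f)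
    (hg : HTop.ResidueFieldsIso g) : HTop.ResidueFieldsIso (f ≫ g) := by
  intro x
  rw [Scheme.residueFieldMap_comp]
  have h1 : IsIso (f.residueFieldMap x) := hf x
  have h2 : IsIso (g.residueFieldMap (f x)) := hg (f x)
  exact @IsIso.comp_isIso _ _ _ _ _ (g.residueFieldMap (f x)) (f.residueFieldMap x) h2 h1

theorem residueFieldsIso_of_isOpenImmersion (f : X ⟶ Y) [IsOpenImmersion f] :
    HTop.ResidueFieldsIso f := fun _ => inferInstance

theorem residueFieldsIso_of_comp_right (f : X ⟶ Y) (g : Y ⟶ Z)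
    (hfg : HTop.ResidueFieldsIso (f ≫ g)) (hg : HTop.ResidueFieldsIso g) :
    HTop.ResidueFieldsIso f := by
  intro x
  have h1 : IsIso (g.residueFieldMap (f x) ≫ f.residueFieldMap x) := by
    rw [← Scheme.residueFieldMap_comp]
    exact hfg x
  have := hg (f x)
  exact IsIso.of_isIso_comp_left (g.residueFieldMap (f x)) (f.residueFieldMap x)

theorem residueFieldsIso_morphismRestrict (f : X ⟶ Y) (hf : HTop.ResidueFieldsIso f)
    (U : Y.Opens) : HTop.ResidueFieldsIso (f ∣_ U) := by
  apply residueFieldsIso_of_comp_right (f ∣_ U) U.ι _ (residueFieldsIso_of_isOpenImmersion _)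
  rw [morphismRestrict_ι]
  exact residueFieldsIso_comp _ _ (residueFieldsIso_of_isOpenImmersion _) hf

theorem residueFieldsIso_SpecMap_appTop [IsAffine X] [IsAffine Y] (f : X ⟶ Y)
    (hf : HTop.ResidueFieldsIso f) : HTop.ResidueFieldsIso (Spec.map f.appTop) := by
  have h1 : Spec.map f.appTop = X.isoSpec.inv ≫ f ≫ Y.isoSpec.hom := by
    rw [Iso.eq_inv_comp, Scheme.isoSpec_hom_naturality]
  rw [h1]
  exact residueFieldsIso_comp _ _ (residueFieldsIso_of_isOpenImmersion _)
    (residueFieldsIso_comp _ _ hf (residueFieldsIso_of_isOpenImmersion _))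

end RFI

theorem isSeminormalRing_of_iso {A B : CommRingCat.{u}} (e : A ≅ B)
    (hB : HTop.IsSeminormalRing B) : HTop.IsSeminormalRing A :=
  isSeminormalRing_of_ringEquiv e.commRingCatIsoToRingEquiv hB

/-- a universal homeomorphism with trivial residue field extensions from a reduced scheme to a
seminormal scheme is an isomorphism. -/
theorem isIso_of_isSeminormal {Z T : Scheme.{u}} (π : Z ⟶ T) (hU : FlatMor.IsUnivHomeo π)
    (hR : HTop.ResidueFieldsIso π) [IsReduced Z] (hT : HTop.IsSeminormal T) : IsIso π := by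
  have hint : IsIntegralHom π := ((Groth.Agent.S0415.result π).mp hU).1
  choose U hxU hU' using hT
  have hcov : ⨆ t, (U t).1 = ⊤ := by
    rw [eq_top_iff]
    intro x _
    exact TopologicalSpace.Opens.mem_iSup.mpr ⟨x, hxU x⟩
  change (MorphismProperty.isomorphisms Scheme.{u}) π
  rw [HasAffineProperty.iff_of_iSup_eq_top (P := MorphismProperty.isomorphisms Scheme.{u}) U hcov]
  intro t
  have haff : IsAffine (π ⁻¹ᵁ (U t).1) := (U t).2.preimage π
  have haffU : IsAffine ((U t).1 : Scheme.{u}) := (U t).2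
  refine ⟨haff, ?_⟩
  have h1 : FlatMor.IsUnivHomeo (π ∣_ (U t).1) :=
    MorphismProperty.of_isPullback (isPullback_morphismRestrict π (U t).1).flip hU
  have h2 : FlatMor.IsUnivHomeo (Spec.map (π ∣_ (U t).1).appTop) :=
    (MorphismProperty.arrow_mk_iso_iff _ (arrowIsoSpecΓOfIsAffine _)).mp h1
  have h3 : HTop.ResidueFieldsIso (Spec.map (π ∣_ (U t).1).appTop) :=
    residueFieldsIso_SpecMap_appTop _ (residueFieldsIso_morphismRestrict π hR _)
  have h5 : TRf (π ∣_ (U t).1).appTop.hom := by
    rw [TRf_iff_SpecMap]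
    intro x
    have hx : IsIso ((Spec.map (π ∣_ (U t).1).appTop).residueFieldMap x) := h3 x
    exact (@ConcreteCategory.bijective_of_isIso _ _ _ _ _ _ _ _
      ((Spec.map (π ∣_ (U t).1).appTop).residueFieldMap x) hx).2
  have hA : HTop.IsSeminormalRing Γ(((U t).1 : Scheme.{u}), ⊤) :=
    isSeminormalRing_of_iso (U t).1.topIso (hU' t)
  have hbij := bijective_of_isSeminormalRing hA (π ∣_ (U t).1).appTop.hom h2 h5
  exact (ConcreteCategory.isIso_iff_bijective _).mpr hbij

theorem residueFieldsIso_of_isPreimmersion {X Y : Scheme.{u}} (f : X ⟶ Y) [IsPreimmersion f] :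
    HTop.ResidueFieldsIso f := by
  intro x
  have hinj : Function.Injective (f.residueFieldMap x) := (f.residueFieldMap x).hom.injective
  have hsurj : Function.Surjective (f.residueFieldMap x) := by
    intro y
    obtain ⟨s, rfl⟩ := IsLocalRing.residue_surjective y
    obtain ⟨s', rfl⟩ := f.stalkMap_surjective x s
    exact ⟨IsLocalRing.residue _ s', rfl⟩
  exact (ConcreteCategory.isIso_iff_bijective _).mpr ⟨hinj, hsurj⟩

/-- S15940 -/
theorem isIso_of_isSeminormalization_of_isSeminormal {X' X : Scheme.{u}} (ν : X' ⟶ X)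
    (hν : HTop.IsSeminormalization ν) (hX : HTop.IsSeminormal X) : IsIso ν := by
  obtain ⟨⟨hU, hR⟩, huniv⟩ := hν
  let i : X'.nilradical.subscheme ⟶ X' := X'.nilradical.subschemeι
  have hsurj : Surjective i := by
    constructor
    rw [← Set.range_eq_univ, Scheme.IdealSheafData.range_subschemeι, Scheme.support_nilradical]
    rfl
  have hiU : FlatMor.IsUnivHomeo i := IsUnivHomeo.of_isClosedImmersion_of_surjective i
  have hiR : HTop.ResidueFieldsIso i := residueFieldsIso_of_isPreimmersion i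
  have hπU : FlatMor.IsUnivHomeo (i ≫ ν) := MorphismProperty.comp_mem _ _ _ hiU hU
  have hπR := residueFieldsIso_comp i ν hiR hR
  have hiso : IsIso (i ≫ ν) := isIso_of_isSeminormal (i ≫ ν) hπU hπR hX
  let σ : X ⟶ X' := inv (i ≫ ν) ≫ i
  have hσ : σ ≫ ν = 𝟙 X := by
    simp only [σ, Category.assoc, IsIso.inv_hom_id]
  obtain ⟨h, hh, huniq⟩ := huniv X' ν hU hR
  have e1 : ν ≫ σ = h := huniq _ (by
    change (ν ≫ σ) ≫ ν = ν
    rw [Category.assoc, hσ, Category.comp_id])
  have e2 : 𝟙 X' = h := huniq _ (by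
    change 𝟙 X' ≫ ν = ν
    exact Category.id_comp ν)
  exact ⟨σ, by rw [e1, ← e2], hσ⟩

end SNIso

end Groth.Agent.Lib.Helper70
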