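import Mathlib
import Groth.Agent.Lib.Helper70.SeminormalIso

/-!
# Descent of sections along proper surjective morphisms to seminormal schemes: tools

* `DescSec.mem_range_of_tmul_eq`: `v ⊗ 1 = 1 ⊗ v` in `L ⊗[F] L` forces `v ∈ F`.
* `DescSec.ev`: evaluation of global sections at a ring-valued point.
* `DescSec.exists_lift`: lifting field-valued points of `Spec A'` to `Y` when `Y → Spec A'` is
  universally closed and `A' ⊆ Γ(Y, ⊤)`.
* `DescSec.ring_core`: an integral element `s` of a reduced extension of a seminormal ring `R`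
  such that `R[s]` has the same field-valued points and residue fields as `R`, lies in `R`.
-/

universe u

namespace Groth.Agent.Lib.Helper70

open CategoryTheory CategoryTheory.Limits AlgebraicGeometry TensorProduct

namespace DescSec
open SpecUH SNIso AWNRing

/-- linear algebra: `v ⊗ 1 = 1 ⊗ v` in `L ⊗[F] L` forces `v ∈ F`. -/
theorem mem_range_of_tmul_eq {F L : Type*} [Field F] [CommRing L] [Nontrivial L] [Algebra F L]
    (v : L) (h : v ⊗ₜ[F] (1 : L) = (1 : L) ⊗ₜ[F] v) : v ∈ Set.range (algebraMap F L) := by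
  have hinj : LinearMap.ker (Algebra.linearMap F L) = ⊥ := by
    rw [LinearMap.ker_eq_bot]
    exact (algebraMap F L).injective
  obtain ⟨lam, hlam⟩ := LinearMap.exists_leftInverse_of_injective (Algebra.linearMap F L) hinj
  have h1 : lam 1 = 1 := by
    have := LinearMap.congr_fun hlam 1
    simpa using this
  have h2 := congrArg (fun z => TensorProduct.lid F L (LinearMap.rTensor L lam z)) h
  simp only [LinearMap.rTensor_tmul, TensorProduct.lid_tmul, h1, one_smul] at h2
  refine ⟨lam v, ?_⟩
  rw [Algebra.algebraMap_eq_smul_one]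
  exact h2

variable {Y : Scheme.{u}}

/-- evaluation of global sections at a `C`-valued point. -/
noncomputable def ev {C : Type u} [CommRing C] (y : Spec (CommRingCat.of C) ⟶ Y) : Γ(Y, ⊤) →+* C :=
  (y.appTop ≫ (Scheme.ΓSpecIso (CommRingCat.of C)).hom).hom

theorem comp_toSpecΓ {C : Type u} [CommRing C] (y : Spec (CommRingCat.of C) ⟶ Y) :
    y ≫ Y.toSpecΓ = Spec.map (CommRingCat.ofHom (ev y)) := by
  rw [Scheme.toSpecΓ_naturality, ← SpecMap_ΓSpecIso_hom, ← Spec.map_comp]
  rfl

theorem ev_comp {C D : Type u} [CommRing C] [CommRing D] (y : Spec (CommRingCat.of C) ⟶ Y)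
    (ι : C →+* D) : ev (Spec.map (CommRingCat.ofHom ι) ≫ y) = ι.comp (ev y) := by
  unfold ev
  rw [Scheme.Hom.comp_appTop, Category.assoc, Scheme.ΓSpecIso_naturality, ← Category.assoc]
  rfl

/-- a morphism to `Spec R` seen through the adjunction -/
noncomputable def phi {R : CommRingCat.{u}} (π : Y ⟶ Spec R) : R ⟶ Γ(Y, ⊤) :=
  (Scheme.ΓSpecIso R).inv ≫ π.appTop

theorem toSpecΓ_phi {R : CommRingCat.{u}} (π : Y ⟶ Spec R) :
    Y.toSpecΓ ≫ Spec.map (phi π) = π := by
  unfold phi
  rw [Spec.map_comp, ← Category.assoc, ← Scheme.toSpecΓ_naturality, Category.assoc,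
    toSpecΓ_SpecMap_ΓSpecIso_inv, Category.comp_id]

theorem comp_eq_SpecMap {R : CommRingCat.{u}} (π : Y ⟶ Spec R) {C : Type u} [CommRing C]
    (y : Spec (CommRingCat.of C) ⟶ Y) :
    y ≫ π = Spec.map (CommRingCat.ofHom ((ev y).comp (phi π).hom)) := by
  conv_lhs => rw [← toSpecΓ_phi π, ← Category.assoc, comp_toSpecΓ, ← Spec.map_comp]
  rfl

theorem exists_lift {A' : Type u} [CommRing A'] (incl : A' →+* Γ(Y, ⊤))
    (hincl : Function.Injective incl) [CompactSpace Y]
    (hρ : UniversallyClosed (Y.toSpecΓ ≫ Spec.map (CommRingCat.ofHom incl)))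
    {K : Type u} [Field K] (g : A' →+* K) :
    ∃ (L : Type u) (_ : Field L) (j : K →+* L) (y : Spec (CommRingCat.of L) ⟶ Y),
      (ev y).comp incl = j.comp g := by
  set ρ := Y.toSpecΓ ≫ Spec.map (CommRingCat.ofHom incl) with hρdef
  have hdom : IsDominant ρ := by
    apply isDominant_of_of_appTop_injective
    rw [hρdef, Scheme.Hom.comp_appTop, Scheme.toSpecΓ_appTop, Scheme.ΓSpecIso_naturality]
    intro a b hab
    have h1 : incl ((Scheme.ΓSpecIso (CommRingCat.of A')).hom a) =
        incl ((Scheme.ΓSpecIso (CommRingCat.of A')).hom b) := hab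
    exact (ConcreteCategory.bijective_of_isIso (Scheme.ΓSpecIso (CommRingCat.of A')).hom).1
      (hincl h1)
  have hsurj : Surjective ρ := inferInstance
  let Z := pullback ρ (Spec.map (CommRingCat.ofHom g))
  have hs2 : Surjective (pullback.snd ρ (Spec.map (CommRingCat.ofHom g))) := inferInstance
  obtain ⟨pt⟩ : Nonempty (Spec (CommRingCat.of K)) := inferInstance
  obtain ⟨z, hz⟩ := (pullback.snd ρ (Spec.map (CommRingCat.ofHom g))).surjective pt
  let y0 : Spec (CommRingCat.of (Z.residueField z)) ⟶ Y :=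
    Z.fromSpecResidueField z ≫ pullback.fst _ _
  let w : Spec (CommRingCat.of (Z.residueField z)) ⟶ Spec (CommRingCat.of K) :=
    Z.fromSpecResidueField z ≫ pullback.snd _ _
  refine ⟨Z.residueField z, inferInstance, (Spec.preimage w).hom, y0, ?_⟩
  have h1 : y0 ≫ ρ = w ≫ Spec.map (CommRingCat.ofHom g) := by
    simp only [y0, w, Category.assoc, pullback.condition]
  have h2 : y0 ≫ ρ = Spec.map (CommRingCat.ofHom ((ev y0).comp incl)) := by
    rw [hρdef, ← Category.assoc, comp_toSpecΓ, ← Spec.map_comp]
    rfl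
  have h3 : w ≫ Spec.map (CommRingCat.ofHom g) =
      Spec.map (CommRingCat.ofHom ((Spec.preimage w).hom.comp g)) := by
    conv_lhs => rw [← Spec.map_preimage w, ← Spec.map_comp]
    rfl
  have h4 := Spec.map_injective (h2.symm.trans (h1.trans h3))
  exact congrArg CommRingCat.Hom.hom h4

theorem ring_core {R B : Type u} [CommRing R] [CommRing B] [Algebra R B] [IsReduced B]
    (hR : HTop.IsSeminormalRing R) (hinj : Function.Injective (algebraMap R B))
    (s : B) (hs : IsIntegral R s)
    (P1 : ∀ (K : Type u) [Field K] (g₁ g₂ : Algebra.adjoin R {s} →+* K),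
      g₁.comp (algebraMap R (Algebra.adjoin R {s})) = g₂.comp (algebraMap R (Algebra.adjoin R {s})) →
      g₁ ⟨s, Algebra.subset_adjoin (Set.mem_singleton s)⟩ =
        g₂ ⟨s, Algebra.subset_adjoin (Set.mem_singleton s)⟩)
    (P2 : ∀ (K : Type u) [Field K] (g : Algebra.adjoin R {s} →+* K),
      g ⟨s, Algebra.subset_adjoin (Set.mem_singleton s)⟩ ∈
        Subfield.closure (Set.range (g.comp (algebraMap R (Algebra.adjoin R {s}))))) :
    s ∈ Set.range (algebraMap R B) := by
  set A' := Algebra.adjoin R {s} with hA'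
  set χ : R →+* A' := algebraMap R A' with hχ
  have hs' : s ∈ A' := Algebra.subset_adjoin (Set.mem_singleton s)
  have hred : IsReduced A' := isReduced_of_injective A'.val Subtype.val_injective
  have hint : Algebra.IsIntegral R A' := Algebra.IsIntegral.adjoin (by
    intro x hx
    rw [Set.mem_singleton_iff] at hx
    rw [hx]; exact hs)
  have hχint : χ.IsIntegral := fun x => Algebra.IsIntegral.isIntegral x
  have hχinj : Function.Injective χ := by
    intro a b hab
    apply hinj
    have := congrArg (fun z : A' => (z : B)) hab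
    exact this
  -- induction principle
  have hind : ∀ (S : Subring A'), (∀ r, χ r ∈ S) → (⟨s, hs'⟩ : A') ∈ S → ∀ x : A', x ∈ S := by
    intro S h1 h2 x
    obtain ⟨x, hx⟩ := x
    induction hx using Algebra.adjoin_induction with
    | mem y hy =>
      rw [Set.mem_singleton_iff] at hy
      subst hy
      exact h2
    | algebraMap r => exact h1 r
    | add y z hy hz ihy ihz => exact S.add_mem ihy ihz
    | mul y z hy hz ihy ihz => exact S.mul_mem ihy ihz
  have hUH : FlatMor.IsUnivHomeo (Spec.map (CommRingCat.ofHom χ)) := by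
    rw [isUnivHomeo_SpecMap_iff]
    refine ⟨hχint, ?_, ?_⟩
    · intro a ha
      rw [RingHom.mem_ker] at ha
      have : a = 0 := hχinj (by rw [ha, map_zero])
      rw [this]; exact zero_mem _
    · intro K _ g₁ g₂ h
      apply RingHom.ext
      intro x
      apply hind (RingHom.eqLocus g₁ g₂)
      · intro r
        exact congrFun (congrArg DFunLike.coe h) r
      · exact P1 K g₁ g₂ h
  have hT : TRf χ := by
    intro K _ g x
    apply hind ((Subfield.closure (Set.range (g.comp χ))).toSubring.comap g)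
    · intro r
      exact Subfield.subset_closure ⟨r, rfl⟩
    · exact P2 K g
  obtain ⟨a, ha⟩ := (bijective_of_isSeminormalRing hR χ hUH hT).2 ⟨s, hs'⟩
  exact ⟨a, congrArg (fun z : A' => (z : B)) ha⟩

end DescSec

end Groth.Agent.Lib.Helper70
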