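import Mathlib
import Groth.Agent.Lib.Helper70.DescendSectionA
import Groth.Agent.S0415

universe u

namespace Groth.Agent.Lib.Helper70

open CategoryTheory CategoryTheory.Limits AlgebraicGeometry

namespace SteinUH
open DescSec

/-- an integral algebra over a field with connected spectrum has at most one prime. -/
theorem subsingleton_primeSpectrum_of_isIntegral {K C : Type*} [Field K] [CommRing C]
    [Algebra K C] [Algebra.IsIntegral K C] [PreconnectedSpace (PrimeSpectrum C)] :
    Subsingleton (PrimeSpectrum C) := by
  constructor
  intro p q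
  by_contra hne
  have hmax : ∀ r : PrimeSpectrum C, r.asIdeal.IsMaximal := by
    intro r
    have : (r.asIdeal.comap (algebraMap K C)).IsMaximal := by
      have hprime : (r.asIdeal.comap (algebraMap K C)).IsPrime := inferInstance
      have : r.asIdeal.comap (algebraMap K C) = ⊥ :=
        (Ideal.eq_bot_or_top _).resolve_right hprime.ne_top
      rw [this]
      exact Ideal.bot_isMaximal
    exact Ideal.isMaximal_of_isIntegral_of_isMaximal_comap r.asIdeal this
  have hnle : ¬ p.asIdeal ≤ q.asIdeal := by
    intro hle
    exact hne (PrimeSpectrum.ext ((hmax p).eq_of_le (hmax q).ne_top hle))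
  obtain ⟨c, hcp, hcq⟩ := Set.not_subset.mp hnle
  let B := Algebra.adjoin K {c}
  have hfin : Module.Finite K B :=
    Algebra.finite_adjoin_simple_of_isIntegral (Algebra.IsIntegral.isIntegral c)
  have hart : IsArtinianRing B := IsArtinianRing.of_finite K B
  let p' : PrimeSpectrum B := PrimeSpectrum.comap B.val.toRingHom p
  let q' : PrimeSpectrum B := PrimeSpectrum.comap B.val.toRingHom q
  have hclopen : IsClopen ({q'} : Set (PrimeSpectrum B)) := isClopen_discrete _
  obtain ⟨e, he, hse⟩ := PrimeSpectrum.isClopen_iff.mp hclopen
  have hcB : c ∈ B := Algebra.subset_adjoin (Set.mem_singleton c)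
  have hpq' : p' ≠ q' := by
    intro h
    have h1 : (⟨c, hcB⟩ : B) ∈ p'.asIdeal := hcp
    rw [h] at h1
    exact hcq h1
  have heq : e ∉ q'.asIdeal := by
    have : q' ∈ (PrimeSpectrum.basicOpen e : Set (PrimeSpectrum B)) := by
      rw [← hse]; exact Set.mem_singleton _
    exact this
  have hep : e ∈ p'.asIdeal := by
    by_contra h
    have : p' ∈ (PrimeSpectrum.basicOpen e : Set (PrimeSpectrum B)) := h
    rw [← hse] at this
    exact hpq' this
  have heC : IsIdempotentElem (e : C) := by
    have := congrArg (fun z : B => (z : C)) he.eq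
    exact this
  have hclC : IsClopen (PrimeSpectrum.basicOpen (e : C) : Set (PrimeSpectrum C)) :=
    PrimeSpectrum.isClopen_iff.mpr ⟨_, heC, rfl⟩
  rcases isClopen_iff.mp hclC with h | h
  · have : q ∈ (PrimeSpectrum.basicOpen (e : C) : Set (PrimeSpectrum C)) := heq
    rw [h] at this
    exact this
  · have : p ∈ (PrimeSpectrum.basicOpen (e : C) : Set (PrimeSpectrum C)) := by
      rw [h]; trivial
    exact this hep


/-- two sections of a connected scheme integral over a field coincide. -/
theorem section_unique {K : Type u} [Field K] {Z : Scheme.{u}} (p : Z ⟶ Spec (CommRingCat.of K))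
    [IsIntegralHom p] [ConnectedSpace Z] (a b : Spec (CommRingCat.of K) ⟶ Z)
    (ha : a ≫ p = 𝟙 _) (hb : b ≫ p = 𝟙 _) : a = b := by
  have haff : IsAffine Z := isAffine_of_isAffineHom p
  let φ : K →+* Γ(Z, ⊤) := (phi p).hom
  have hφint : φ.IsIntegral := by
    have h1 : p.appTop.hom.IsIntegral := p.isIntegral_app ⊤ (isAffineOpen_top _)
    exact RingHom.IsIntegral.trans _ _ (RingHom.isIntegral_of_surjective _
      (ConcreteCategory.bijective_of_isIso (Scheme.ΓSpecIso (CommRingCat.of K)).inv).2) h1
  let _ : Algebra K Γ(Z, ⊤) := φ.toAlgebra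
  have : Algebra.IsIntegral K Γ(Z, ⊤) := ⟨hφint⟩
  have hconn : PreconnectedSpace (PrimeSpectrum Γ(Z, ⊤)) := by
    have h := Z.isoSpec.hom.homeomorph
    exact (h.connectedSpace_iff.mp inferInstance).toPreconnectedSpace
  have hsub : Subsingleton (PrimeSpectrum Γ(Z, ⊤)) := subsingleton_primeSpectrum_of_isIntegral (K := K)
  -- evaluation maps
  have hα : (ev a).comp φ = RingHom.id K := by
    have h1 := comp_eq_SpecMap p a
    rw [ha] at h1
    have h2 : Spec.map (CommRingCat.ofHom (RingHom.id K)) =
        Spec.map (CommRingCat.ofHom ((ev a).comp (phi p).hom)) := by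
      rw [← h1]; exact Spec.map_id _
    exact (congrArg CommRingCat.Hom.hom (Spec.map_injective h2)).symm
  have hβ : (ev b).comp φ = RingHom.id K := by
    have h1 := comp_eq_SpecMap p b
    rw [hb] at h1
    have h2 : Spec.map (CommRingCat.ofHom (RingHom.id K)) =
        Spec.map (CommRingCat.ofHom ((ev b).comp (phi p).hom)) := by
      rw [← h1]; exact Spec.map_id _
    exact (congrArg CommRingCat.Hom.hom (Spec.map_injective h2)).symm
  have hker : RingHom.ker (ev a) = RingHom.ker (ev b) := by
    have h1 : (RingHom.ker (ev a)).IsPrime := RingHom.ker_isPrime _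
    have h2 : (RingHom.ker (ev b)).IsPrime := RingHom.ker_isPrime _
    exact congrArg PrimeSpectrum.asIdeal (hsub.elim ⟨_, h1⟩ ⟨_, h2⟩)
  have hev : ev a = ev b := by
    apply RingHom.ext
    intro c
    have h1 : c - φ (ev a c) ∈ RingHom.ker (ev a) := by
      rw [RingHom.mem_ker, map_sub]
      have := congrFun (congrArg DFunLike.coe hα) (ev a c)
      simp only [RingHom.comp_apply, RingHom.id_apply] at this
      rw [this, sub_self]
    rw [hker, RingHom.mem_ker, map_sub] at h1
    have h2 := congrFun (congrArg DFunLike.coe hβ) (ev a c)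
    simp only [RingHom.comp_apply, RingHom.id_apply] at h2
    rw [h2] at h1
    exact (sub_eq_zero.mp h1).symm
  apply ext_of_isAffine
  have h3 : a.appTop ≫ (Scheme.ΓSpecIso (CommRingCat.of K)).hom =
      b.appTop ≫ (Scheme.ΓSpecIso (CommRingCat.of K)).hom := by
    apply CommRingCat.hom_ext
    exact hev
  exact (cancel_mono _).mp h3

/-- For `f` proper with geometrically connected fibres, the integral part `S' ⟶ S` of the Stein
factorization of `f` is a universal homeomorphism. -/
theorem isUnivHomeo_fromNormalization {X S : Scheme.{u}} (f : X ⟶ S) [IsProper f]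
    [GeometricallyConnected f] : FlatMor.IsUnivHomeo f.fromNormalization := by
  set n := f.fromNormalization with hn
  set t := f.toNormalization with ht
  have htn : t ≫ n = f := f.toNormalization_fromNormalization
  have hsurjf : Surjective f := inferInstance
  have hsurjn : Surjective n := by
    constructor
    intro s
    obtain ⟨x, hx⟩ := hsurjf.surj s
    refine ⟨t x, ?_⟩
    rw [← Scheme.Hom.comp_apply, htn]; exact hx
  have hsep : IsSeparated n := inferInstance
  have hucf : UniversallyClosed (t ≫ n) := by rw [htn]; infer_instance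
  have huct : UniversallyClosed t := UniversallyClosed.of_comp_of_isSeparated t n
  have hdomt : IsDominant t := inferInstance
  have hsurjt : Surjective t := Surjective.of_universallyClosed_of_isDominant t
  rw [Groth.Agent.S0415.result]
  refine ⟨inferInstance, ?_, hsurjn⟩
  apply ((tfae_universallyInjective (f := n)).out 0 1).mpr
  intro K _ a b hab
  dsimp only at hab
  set y : Spec (CommRingCat.of K) ⟶ S := a ≫ n with hy
  -- the base change
  have hXK : ConnectedSpace ↑(pullback f y) :=
    GeometricallyConnected.geometrically_connectedSpace y _ _ (IsPullback.of_hasPullback f y)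
  let tK : pullback f y ⟶ pullback n y :=
    pullback.lift (pullback.fst f y ≫ t) (pullback.snd f y)
      (by rw [Category.assoc, htn]; exact pullback.condition)
  have htK1 : tK ≫ pullback.fst n y = pullback.fst f y ≫ t := pullback.lift_fst _ _ _
  have htK2 : tK ≫ pullback.snd n y = pullback.snd f y := pullback.lift_snd _ _ _
  have hsq : IsPullback tK (pullback.fst f y) (pullback.fst n y) t := by
    have hbig : IsPullback (pullback.fst f y) (pullback.snd f y) f y := IsPullback.of_hasPullback f y
    have hright : IsPullback (pullback.fst n y) (pullback.snd n y) n y := IsPullback.of_hasPullback n y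
    have h1 : IsPullback (pullback.fst f y) (tK ≫ pullback.snd n y) (t ≫ n) y := by
      rw [htK2, htn]; exact hbig
    exact IsPullback.of_right h1.flip htK1 hright.flip
  have hsurjtK : Surjective tK := MorphismProperty.of_isPullback hsq.flip hsurjt
  have hNK : ConnectedSpace ↑(pullback n y) := by
    have hne : Nonempty ↑(pullback n y) := by
      obtain ⟨z⟩ := hXK.toNonempty
      exact ⟨tK z⟩
    have : PreconnectedSpace ↑(pullback n y) := by
      constructor
      have := (isPreconnected_univ (α := ↑(pullback f y))).image tK tK.continuous.continuousOn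
      rwa [Set.image_univ, Set.range_eq_univ.mpr hsurjtK.surj] at this
    exact ⟨hne⟩
  let a' : Spec (CommRingCat.of K) ⟶ pullback n y :=
    pullback.lift a (𝟙 _) (by rw [Category.id_comp])
  let b' : Spec (CommRingCat.of K) ⟶ pullback n y :=
    pullback.lift b (𝟙 _) (by rw [Category.id_comp]; exact hab.symm)
  have ha1 : a' ≫ pullback.fst n y = a := pullback.lift_fst _ _ _
  have ha2 : a' ≫ pullback.snd n y = 𝟙 _ := pullback.lift_snd _ _ _
  have hb1 : b' ≫ pullback.fst n y = b := pullback.lift_fst _ _ _
  have hb2 : b' ≫ pullback.snd n y = 𝟙 _ := pullback.lift_snd _ _ _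
  have hab' : a' = b' := section_unique (pullback.snd n y) a' b' ha2 hb2
  rw [← ha1, ← hb1, hab']

end SteinUH

end Groth.Agent.Lib.Helper70
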