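import Mathlib

/-!
# Lifting idempotents along `A → A[1/ϖ]` when `ϖ` is a nonzerodivisor and `A/ϖ` is reduced

Ring-level and `PrimeSpectrum`-level input for "flat over a DVR with reduced special fibre and
connected total space ⇒ connected generic fibre".
-/

set_option autoImplicit false

namespace Groth.Agent.Lib.Helper70.DVRConnA

universe u

variable {A : Type u} [CommRing A] (ϖ : A)

/-- The two standing hypotheses: `ϖ` is a nonzerodivisor and `A/ϖ` is reduced (in elementwise
form). -/
structure Good : Prop where
  nzd : ∀ a : A, ϖ * a = 0 → a = 0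
  red : ∀ a b : A, a * a = ϖ * b → ∃ c, a = ϖ * c

variable {ϖ}

lemma Good.pow_nzd (h : Good ϖ) (n : ℕ) (a : A) (ha : ϖ ^ n * a = 0) : a = 0 := by
  induction n with
  | zero => simpa using ha
  | succ n ih =>
    apply ih
    apply h.nzd
    rw [← mul_assoc, ← pow_succ']
    exact ha

lemma Good.le_nonZeroDivisors (h : Good ϖ) : Submonoid.powers ϖ ≤ nonZeroDivisors A := by
  rintro _ ⟨n, rfl⟩
  rw [mem_nonZeroDivisors_iff_right]
  intro a ha
  exact h.pow_nzd n a (by rw [mul_comm]; exact ha)

variable (B : Type u) [CommRing B] [Algebra A B] [IsLocalization.Away ϖ B]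

include B in
lemma Good.injective (h : Good ϖ) : Function.Injective (algebraMap A B) :=
  IsLocalization.injective B h.le_nonZeroDivisors

/-- Every idempotent of `A[1/ϖ]` comes from `A`. -/
lemma Good.exists_lift (h : Good ϖ) (e : B) (he : IsIdempotentElem e) :
    ∃ a : A, IsIdempotentElem a ∧ algebraMap A B a = e := by
  have hinj := h.injective B
  have hu : IsUnit (algebraMap A B ϖ) := IsLocalization.Away.algebraMap_isUnit ϖ
  have key : ∀ n : ℕ, ∀ a : A, e * algebraMap A B ϖ ^ n = algebraMap A B a →
      ∃ a' : A, algebraMap A B a' = e := by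
    intro n
    induction n with
    | zero => intro a ha; exact ⟨a, by simpa using ha.symm⟩
    | succ n ih =>
      intro a ha
      have h1 : a * a = ϖ * (ϖ ^ n * a) := by
        apply hinj
        simp only [map_mul, map_pow]
        rw [← ha]
        have he' : e * e = e := he
        calc e * algebraMap A B ϖ ^ (n + 1) * (e * algebraMap A B ϖ ^ (n + 1))
            = (e * e) * (algebraMap A B ϖ ^ (n + 1) * algebraMap A B ϖ ^ (n + 1)) := by ring
          _ = e * (algebraMap A B ϖ ^ (n + 1) * algebraMap A B ϖ ^ (n + 1)) := by rw [he']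
          _ = _ := by ring
      obtain ⟨c, hc⟩ := h.red a _ h1
      apply ih c
      apply hu.mul_left_cancel
      rw [← map_mul, ← hc, ← ha]
      ring
  obtain ⟨n, a, ha⟩ := IsLocalization.Away.surj ϖ e
  obtain ⟨a', ha'⟩ := key n a ha
  refine ⟨a', ?_, ha'⟩
  apply hinj
  rw [map_mul, ha']
  exact he

end Groth.Agent.Lib.Helper70.DVRConnA
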