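import Mathlib
import Groth.Agent.Lib.Helper70.DVRConnA

/-!
# `PrimeSpectrum`-level consequences of `DVRConnA.Good`
-/

set_option autoImplicit false

namespace Groth.Agent.Lib.Helper70.DVRConnA

universe u

open PrimeSpectrum

variable {A : Type u} [CommRing A] {ϖ : A}

/-- If `ϖ` is a nonzerodivisor then `D(ϖ)` is dense in `Spec A`. -/
lemma Good.dense_basicOpen (h : Good ϖ) : Dense (basicOpen ϖ : Set (PrimeSpectrum A)) := by
  rw [(isTopologicalBasis_basic_opens (R := A)).dense_iff]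
  rintro _ ⟨g, rfl⟩ hne
  replace hne : (basicOpen g : Set (PrimeSpectrum A)).Nonempty := hne
  show ((basicOpen g : Set (PrimeSpectrum A)) ∩ basicOpen ϖ).Nonempty
  have hg : ¬ IsNilpotent g := by
    rw [← basicOpen_eq_bot_iff]
    intro h0
    rw [h0] at hne
    simp at hne
  have hgw : ¬ IsNilpotent (g * ϖ) := by
    rintro ⟨n, hn⟩
    apply hg
    refine ⟨n, h.pow_nzd n _ ?_⟩
    rw [← mul_pow, mul_comm]
    exact hn
  rw [← basicOpen_eq_bot_iff] at hgw
  rw [← TopologicalSpace.Opens.coe_inf, ← basicOpen_mul]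
  by_contra hc
  apply hgw
  ext1
  rw [Set.not_nonempty_iff_eq_empty] at hc
  rw [hc]
  rfl

/-- Key separation statement: a decomposition of `D(ϖ)` into two disjoint opens extends to a
decomposition of `Spec A` by an idempotent. -/
lemma Good.exists_idempotent (h : Good ϖ) (T₁ T₂ : Set (PrimeSpectrum A)) (h₁ : IsOpen T₁)
    (h₂ : IsOpen T₂) (hd : Disjoint T₁ T₂) (hu : T₁ ∪ T₂ = basicOpen ϖ) :
    ∃ a : A, IsIdempotentElem a ∧ T₁ ⊆ basicOpen a ∧ T₂ ⊆ basicOpen (1 - a) := by
  let B := Localization.Away ϖ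
  let φ : PrimeSpectrum B → PrimeSpectrum A := comap (algebraMap A B)
  have hφ : Continuous φ := continuous_comap _
  have hrange : Set.range φ = basicOpen ϖ := localization_away_comap_range B ϖ
  have hS : IsClopen (φ ⁻¹' T₁) := by
    refine ⟨?_, h₁.preimage hφ⟩
    have : (φ ⁻¹' T₁)ᶜ = φ ⁻¹' T₂ := by
      ext q
      have hq : φ q ∈ T₁ ∪ T₂ := by rw [hu, ← hrange]; exact ⟨q, rfl⟩
      simp only [Set.mem_compl_iff, Set.mem_preimage]
      constructor
      · intro hq1
        exact hq.resolve_left hq1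
      · intro hq2 hq1
        exact Set.disjoint_left.mp hd hq1 hq2
    rw [← isOpen_compl_iff, this]
    exact h₂.preimage hφ
  obtain ⟨e, he, hSe⟩ := PrimeSpectrum.isClopen_iff.mp hS
  obtain ⟨a, ha, rfl⟩ := h.exists_lift B e he
  refine ⟨a, ha, ?_, ?_⟩
  · intro t ht
    have : t ∈ Set.range φ := by rw [hrange, ← hu]; exact Or.inl ht
    obtain ⟨q, rfl⟩ := this
    have hq : q ∈ φ ⁻¹' T₁ := ht
    rw [hSe] at hq
    exact hq
  · intro t ht
    have : t ∈ Set.range φ := by rw [hrange, ← hu]; exact Or.inr ht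
    obtain ⟨q, rfl⟩ := this
    have hq : q ∉ φ ⁻¹' T₁ := fun hq1 => Set.disjoint_left.mp hd hq1 ht
    rw [hSe] at hq
    have hq' : algebraMap A B a ∈ q.asIdeal := by
      by_contra hc
      exact hq hc
    show (1 - a) ∉ (φ q).asIdeal
    intro hc
    have hc' : algebraMap A B (1 - a) ∈ q.asIdeal := hc
    rw [map_sub, map_one] at hc'
    have : (1 : B) ∈ q.asIdeal := by
      have := q.asIdeal.add_mem hc' hq'
      simpa using this
    exact q.2.ne_top ((Ideal.eq_top_iff_one _).mpr this)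

lemma Good.disjoint_closure (h : Good ϖ) (T₁ T₂ : Set (PrimeSpectrum A)) (h₁ : IsOpen T₁)
    (h₂ : IsOpen T₂) (hd : Disjoint T₁ T₂) (hu : T₁ ∪ T₂ = basicOpen ϖ) :
    Disjoint (closure T₁) (closure T₂) := by
  obtain ⟨a, ha, ha1, ha2⟩ := h.exists_idempotent T₁ T₂ h₁ h₂ hd hu
  have hc1 : IsClosed (basicOpen a : Set (PrimeSpectrum A)) :=
    (PrimeSpectrum.isClopen_iff.mpr ⟨a, ha, rfl⟩).1
  have hc2 : IsClosed (basicOpen (1 - a) : Set (PrimeSpectrum A)) :=
    (PrimeSpectrum.isClopen_iff.mpr ⟨1 - a, ha.one_sub, rfl⟩).1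
  have hdis : Disjoint (basicOpen a : Set (PrimeSpectrum A)) (basicOpen (1 - a)) := by
    rw [Set.disjoint_iff_inter_eq_empty, ← TopologicalSpace.Opens.coe_inf, ← basicOpen_mul]
    have : a * (1 - a) = 0 := by rw [mul_sub, mul_one, ha.eq, sub_self]
    rw [this, basicOpen_zero]
    rfl
  exact hdis.mono (closure_minimal ha1 hc1) (closure_minimal ha2 hc2)

lemma Good.closure_union (h : Good ϖ) (T₁ T₂ : Set (PrimeSpectrum A))
    (hu : T₁ ∪ T₂ = basicOpen ϖ) :
    closure T₁ ∪ closure T₂ = Set.univ := by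
  rw [← _root_.closure_union, hu]
  exact h.dense_basicOpen.closure_eq

end Groth.Agent.Lib.Helper70.DVRConnA
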