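import Mathlib
import Groth.Agent.Lib.Helper70.DVRConnB
import Groth.Agent.Lib.Helper49.FiberStalk

/-!
# Schemes over a DVR: pulled-back uniformizer on affine opens

For `f : X ⟶ Spec R`, `R` a DVR with uniformizer `ϖ`, and an affine open `V ⊆ X` we show that the
image of `ϖ` in `Γ(X, V)` is a nonzerodivisor if `f` is flat, and that `Γ(X, V)/ϖ` is reduced if
the closed fibre is reduced.
-/

set_option autoImplicit false

namespace Groth.Agent.Lib.Helper70.DVRConnC

universe u

open AlgebraicGeometry CategoryTheory Limits Opposite TopologicalSpace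

variable {R : Type u} [CommRing R] {X : Scheme.{u}} (f : X ⟶ Spec (CommRingCat.of R))

/-- Pull back elements of `R` to sections over an open of `X`. -/
noncomputable def pb (V : X.Opens) : R →+* Γ(X, V) :=
  (f.appLE ⊤ V le_top).hom.comp (Scheme.ΓSpecIso (CommRingCat.of R)).inv.hom

lemma pb_apply (V : X.Opens) (r : R) :
    pb f V r = (f.appLE ⊤ V le_top) ((Scheme.ΓSpecIso (CommRingCat.of R)).inv r) := rfl

lemma pb_res {V V' : X.Opens} (h : V' ≤ V) (r : R) :
    X.presheaf.map (homOfLE h).op (pb f V r) = pb f V' r := by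
  rw [pb_apply, pb_apply, ← CommRingCat.comp_apply, Scheme.Hom.appLE_map]

lemma basicOpen_pb (V : X.Opens) (r : R) :
    X.basicOpen (pb f V r) = V ⊓ f ⁻¹ᵁ (PrimeSpectrum.basicOpen r) := by
  rw [pb_apply, Scheme.basicOpen_appLE, basicOpen_eq_of_affine]

lemma mem_basicOpen_pb_iff (V : X.Opens) (r : R) (x : X) :
    x ∈ X.basicOpen (pb f V r) ↔ x ∈ V ∧ r ∉ (f.base x).asIdeal := by
  rw [basicOpen_pb]
  rfl

lemma germ_pb (V : X.Opens) (x : X) (hx : x ∈ V) (r : R) :
    X.presheaf.germ V x hx (pb f V r) =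
      f.stalkMap x ((Spec (CommRingCat.of R)).presheaf.germ ⊤ (f.base x) trivial
        ((Scheme.ΓSpecIso (CommRingCat.of R)).inv r)) := by
  rw [Scheme.Hom.germ_stalkMap_apply, pb_apply, Scheme.Hom.appLE, CommRingCat.comp_apply,
    TopCat.Presheaf.germ_res_apply]

lemma pb_nzd [IsDomain R] [Flat f] {V : X.Opens} (hV : IsAffineOpen V) {r : R} (hr : r ≠ 0)
    (a : Γ(X, V)) (ha : pb f V r * a = 0) : a = 0 := by
  have hflat : (f.appLE ⊤ V le_top).hom.Flat :=
    HasRingHomProperty.appLE @Flat f ‹_› ⟨⊤, isAffineOpen_top _⟩ ⟨V, hV⟩ le_top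
  have hflat' : (pb f V).Flat := by
    unfold pb
    exact RingHom.Flat.comp
      (RingHom.Flat.of_bijective (ConcreteCategory.bijective_of_isIso _)) hflat
  let _ := (pb f V).toAlgebra
  have : Module.Flat R Γ(X, V) := hflat'
  have hreg : IsSMulRegular Γ(X, V) r :=
    Module.Flat.isSMulRegular_of_nonZeroDivisors (mem_nonZeroDivisors_of_ne_zero hr)
  apply hreg
  simp only [smul_zero]
  rw [Algebra.smul_def, RingHom.algebraMap_toAlgebra]
  exact ha

/-- The maximal ideal of the stalk of `Spec R` at the closed point of a DVR is generated by the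
germ of the uniformizer. -/
lemma maximalIdeal_stalk_closedPoint [IsDomain R] [IsDiscreteValuationRing R] {ϖ : R}
    (hϖ : Irreducible ϖ) (y : Spec (CommRingCat.of R)) (hy : ϖ ∈ y.asIdeal) :
    IsLocalRing.maximalIdeal ((Spec (CommRingCat.of R)).presheaf.stalk y) =
      Ideal.span {(Spec (CommRingCat.of R)).presheaf.germ ⊤ y trivial
        ((Scheme.ΓSpecIso (CommRingCat.of R)).inv ϖ)} := by
  have hy' : y.asIdeal = Ideal.span {ϖ} := by
    rw [← hϖ.maximalIdeal_eq]
    have : IsLocalRing.maximalIdeal R ≤ y.asIdeal := by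
      rw [hϖ.maximalIdeal_eq, Ideal.span_singleton_le_iff_mem]; exact hy
    exact ((IsLocalRing.maximalIdeal.isMaximal R).eq_of_le y.2.ne_top this).symm
  have : IsLocalRing ((structurePresheafInCommRingCat R).stalk y) :=
    inferInstanceAs (IsLocalRing ((Spec (CommRingCat.of R)).presheaf.stalk y))
  have h1 := (IsLocalization.AtPrime.map_eq_maximalIdeal y.asIdeal
    ((structurePresheafInCommRingCat R).stalk y)).symm
  rw [hy', Ideal.map_span, Set.image_singleton] at h1
  exact h1

lemma pb_red [IsDomain R] [IsDiscreteValuationRing R]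
    (hred : IsReduced (f.fiber (IsLocalRing.closedPoint R))) {V : X.Opens} (hV : IsAffineOpen V)
    {ϖ : R} (hϖ : Irreducible ϖ) (a b : Γ(X, V)) (hab : a * a = pb f V ϖ * b) :
    ∃ c, a = pb f V ϖ * c := by
  suffices h : a ∈ Ideal.span {pb f V ϖ} by
    obtain ⟨c, hc⟩ := Ideal.mem_span_singleton'.mp h
    exact ⟨c, by rw [← hc, mul_comm]⟩
  rw [hV.mem_ideal_iff]
  intro x hx
  rw [Ideal.map_span, Set.image_singleton]
  show X.presheaf.germ V x hx a ∈ Ideal.span {X.presheaf.germ V x hx (pb f V ϖ)}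
  by_cases hϖx : ϖ ∈ (f.base x).asIdeal
  · have hfx : f.base x = IsLocalRing.closedPoint R := by
      apply PrimeSpectrum.ext
      have : IsLocalRing.maximalIdeal R ≤ (f.base x).asIdeal := by
        rw [hϖ.maximalIdeal_eq, Ideal.span_singleton_le_iff_mem]; exact hϖx
      exact ((IsLocalRing.maximalIdeal.isMaximal R).eq_of_le (f.base x).2.ne_top this).symm
    obtain ⟨z, rfl⟩ : ∃ z, (f.fiberι (IsLocalRing.closedPoint R)).base z = x := by
      have : x ∈ Set.range (f.fiberι (IsLocalRing.closedPoint R)).base := by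
        rw [f.range_fiberι]; exact hfx
      exact this
    have hmax := maximalIdeal_stalk_closedPoint hϖ (f.base ((f.fiberι (IsLocalRing.closedPoint R)).base z)) hϖx
    have hker := Groth.Agent.Lib.Helper49.ker_le_map f (IsLocalRing.closedPoint R) z
    have hker' := Groth.Agent.Lib.Helper49.map_le_ker f (IsLocalRing.closedPoint R) z
    rw [hmax, Ideal.map_span, Set.image_singleton] at hker hker'
    rw [germ_pb]
    apply hker
    rw [RingHom.mem_ker]
    have h0 : ((f.fiberι (IsLocalRing.closedPoint R)).stalkMap z).hom (X.presheaf.germ V _ hx (pb f V ϖ)) = 0 := by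
      rw [← RingHom.mem_ker]
      apply hker'
      rw [germ_pb]
      exact Ideal.subset_span rfl
    have h1 : ((f.fiberι (IsLocalRing.closedPoint R)).stalkMap z).hom (X.presheaf.germ V _ hx a) *
        ((f.fiberι (IsLocalRing.closedPoint R)).stalkMap z).hom (X.presheaf.germ V _ hx a) = 0 := by
      rw [← map_mul, ← map_mul, hab, map_mul, map_mul, h0, zero_mul]
    have := hred
    exact IsNilpotent.eq_zero ⟨2, by rw [pow_two]; exact h1⟩
  · have hu : IsUnit (X.presheaf.germ V x hx (pb f V ϖ)) := by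
      rw [← Scheme.mem_basicOpen _ _ _ hx, mem_basicOpen_pb_iff]
      exact ⟨hx, hϖx⟩
    rw [Ideal.span_singleton_eq_top.mpr hu]
    trivial

open Groth.Agent.Lib.Helper70.DVRConnA in
lemma good_pb [IsDomain R] [IsDiscreteValuationRing R] [Flat f]
    (hred : IsReduced (f.fiber (IsLocalRing.closedPoint R))) {V : X.Opens} (hV : IsAffineOpen V)
    {ϖ : R} (hϖ : Irreducible ϖ) : Good (pb f V ϖ) :=
  ⟨pb_nzd f hV hϖ.ne_zero, pb_red f hred hV hϖ⟩

end Groth.Agent.Lib.Helper70.DVRConnC
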