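import Mathlib
import Groth.Agent.Lib.Helper70.DVRConnC

/-!
# The generic fibre of a scheme over a DVR as a basic open
-/

set_option autoImplicit false

namespace Groth.Agent.Lib.Helper70.DVRFlatC

universe u

open AlgebraicGeometry CategoryTheory Limits Opposite TopologicalSpace
open Groth.Agent.Lib.Helper70.DVRConnC

variable {R : Type u} [CommRing R] [IsDomain R] [IsDiscreteValuationRing R]
  {X : Scheme.{u}} (f : X ⟶ Spec (CommRingCat.of R))

lemma preimage_bot_eq_basicOpen {ϖ : R} (hϖ : Irreducible ϖ) :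
    f.base ⁻¹' {(⟨⊥, Ideal.isPrime_bot⟩ : PrimeSpectrum R)} =
      (X.basicOpen (pb f ⊤ ϖ) : Set X) := by
  ext x
  rw [SetLike.mem_coe, mem_basicOpen_pb_iff]
  simp only [Set.mem_preimage]
  constructor
  · intro hx
    rw [hx]
    refine ⟨trivial, ?_⟩
    show ϖ ∉ (⊥ : Ideal R)
    rw [Ideal.mem_bot]
    exact hϖ.ne_zero
  · rintro ⟨-, hx⟩
    apply PrimeSpectrum.ext
    by_contra hne
    have hmax : (f.base x).asIdeal.IsMaximal :=
      Ring.DimensionLEOne.maximalOfPrime hne (f.base x).2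
    have := IsLocalRing.eq_maximalIdeal hmax
    apply hx
    rw [this, hϖ.maximalIdeal_eq]
    exact Ideal.mem_span_singleton_self _

lemma genericPoint_eq : genericPoint (Spec (CommRingCat.of R)) =
    (⟨⊥, Ideal.isPrime_bot⟩ : PrimeSpectrum R) :=
  genericPoint_eq_bot_of_affine (CommRingCat.of R)

lemma preimage_genericPoint_eq_basicOpen {ϖ : R} (hϖ : Irreducible ϖ) :
    f.base ⁻¹' {genericPoint (Spec (CommRingCat.of R))} =
      (X.basicOpen (pb f ⊤ ϖ) : Set X) := by
  rw [genericPoint_eq]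
  exact preimage_bot_eq_basicOpen f hϖ

end Groth.Agent.Lib.Helper70.DVRFlatC
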