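import Mathlib
import Groth.Agent.Lib.Helper70.DVRConnB

/-!
# Global consequence: `X.basicOpen t` is dense / preconnected

Let `t` be a global section of a scheme `X` such that on every affine open `V` the restriction
`t|_V` is a nonzerodivisor with `Γ(X, V)/t` reduced (`DVRConnA.Good`). Then `X.basicOpen t` is dense
in `X`, and it is preconnected as soon as `X` is.
-/

set_option autoImplicit false

namespace Groth.Agent.Lib.Helper70.DVRConnD

universe u

open AlgebraicGeometry CategoryTheory Limits Opposite TopologicalSpace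
open Groth.Agent.Lib.Helper70.DVRConnA

variable {X : Scheme.{u}} (t : Γ(X, ⊤))

/-- The restriction of a global section to an open. -/
noncomputable abbrev res (V : X.Opens) : Γ(X, V) := X.presheaf.map (homOfLE le_top).op t

variable {V : X.Opens} (hV : IsAffineOpen V)

/-- `fromSpec` as a map out of `PrimeSpectrum`. -/
noncomputable def φ : PrimeSpectrum Γ(X, V) → X := fun p => hV.fromSpec.base p

lemma φ_continuous : Continuous (φ hV) := hV.fromSpec.continuous

lemma φ_isOpenMap : IsOpenMap (φ hV) := hV.fromSpec.isOpenEmbedding.isOpenMap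

lemma range_φ : Set.range (φ hV) = V := hV.range_fromSpec

lemma φ_mem_basicOpen_iff (p : PrimeSpectrum Γ(X, V)) :
    φ hV p ∈ X.basicOpen t ↔ p ∈ PrimeSpectrum.basicOpen (res t V) := by
  have h1 := hV.fromSpec_preimage_basicOpen (res t V)
  rw [Scheme.basicOpen_res] at h1
  have h2 : p ∈ hV.fromSpec ⁻¹ᵁ (V ⊓ X.basicOpen t) ↔ p ∈ PrimeSpectrum.basicOpen (res t V) := by
    rw [h1]; exact Iff.rfl
  rw [← h2]
  have hpV : φ hV p ∈ V := by
    have : φ hV p ∈ Set.range (φ hV) := ⟨p, rfl⟩
    rw [range_φ] at this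
    exact this
  constructor
  · intro hp
    exact ⟨hpV, hp⟩
  · intro hp
    exact hp.2

lemma φ_preimage :
    φ hV ⁻¹' (X.basicOpen t : Set X) = (PrimeSpectrum.basicOpen (res t V) : Set _) := by
  ext p
  exact φ_mem_basicOpen_iff t hV p

lemma dense_basicOpen (h : ∀ V : X.Opens, IsAffineOpen V → Good (res t V)) :
    Dense (X.basicOpen t : Set X) := by
  intro x
  obtain ⟨_, ⟨V, hV : IsAffineOpen V, rfl⟩, hxV, -⟩ :=
    X.isBasis_affineOpens.exists_subset_of_mem_open (Set.mem_univ x) isOpen_univ
  have hx : x ∈ Set.range (φ hV) := by rw [range_φ]; exact hxV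
  obtain ⟨p, rfl⟩ := hx
  have hp : p ∈ closure (φ hV ⁻¹' (X.basicOpen t : Set X)) := by
    rw [φ_preimage t hV]
    exact (h V hV).dense_basicOpen p
  exact (φ_continuous hV).closure_preimage_subset _ hp

lemma disjoint_closure (h : ∀ V : X.Opens, IsAffineOpen V → Good (res t V))
    (W₁ W₂ : Set X) (h₁ : IsOpen W₁) (h₂ : IsOpen W₂) (hd : Disjoint W₁ W₂)
    (hu : W₁ ∪ W₂ = X.basicOpen t) : Disjoint (closure W₁) (closure W₂) := by
  rw [Set.disjoint_left]
  intro x hx1 hx2
  obtain ⟨_, ⟨V, hV : IsAffineOpen V, rfl⟩, hxV, -⟩ :=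
    X.isBasis_affineOpens.exists_subset_of_mem_open (Set.mem_univ x) isOpen_univ
  have hx : x ∈ Set.range (φ hV) := by rw [range_φ]; exact hxV
  obtain ⟨p, rfl⟩ := hx
  have hom : IsOpenMap (φ hV) := φ_isOpenMap hV
  have hc : Continuous (φ hV) := φ_continuous hV
  have e1 := hom.preimage_closure_eq_closure_preimage hc W₁
  have e2 := hom.preimage_closure_eq_closure_preimage hc W₂
  have hp1 : p ∈ closure (φ hV ⁻¹' W₁) := by rw [← e1]; exact hx1
  have hp2 : p ∈ closure (φ hV ⁻¹' W₂) := by rw [← e2]; exact hx2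
  have := (h V hV).disjoint_closure (φ hV ⁻¹' W₁) (φ hV ⁻¹' W₂)
    (h₁.preimage hc) (h₂.preimage hc) (hd.preimage _)
    (by rw [← Set.preimage_union, hu, φ_preimage t hV])
  exact Set.disjoint_left.mp this hp1 hp2

theorem isPreconnected_basicOpen [PreconnectedSpace X]
    (h : ∀ V : X.Opens, IsAffineOpen V → Good (res t V)) :
    _root_.IsPreconnected (X.basicOpen t : Set X) := by
  rw [isPreconnected_iff_subset_of_disjoint]
  intro u v hu hv huv hdisj
  set W : Set X := (X.basicOpen t : Set X) with hW
  have hWo : IsOpen W := (X.basicOpen t).2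
  have h₁ : IsOpen (W ∩ u) := hWo.inter hu
  have h₂ : IsOpen (W ∩ v) := hWo.inter hv
  have hd : Disjoint (W ∩ u) (W ∩ v) := by
    rw [Set.disjoint_iff_inter_eq_empty, ← Set.inter_inter_distrib_left]
    exact hdisj
  have hun : (W ∩ u) ∪ (W ∩ v) = X.basicOpen t := by
    rw [← Set.inter_union_distrib_left]
    exact Set.inter_eq_left.mpr huv
  have hdc := disjoint_closure t h _ _ h₁ h₂ hd hun
  have hcu : closure (W ∩ u) ∪ closure (W ∩ v) = Set.univ := by
    rw [← closure_union, hun]
    exact (dense_basicOpen t h).closure_eq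
  have hclopen : IsClopen (closure (W ∩ u)) := by
    refine ⟨isClosed_closure, ?_⟩
    have : closure (W ∩ u) = (closure (W ∩ v))ᶜ := by
      ext x
      constructor
      · intro hx hx'
        exact Set.disjoint_left.mp hdc hx hx'
      · intro hx
        have : x ∈ closure (W ∩ u) ∪ closure (W ∩ v) := by rw [hcu]; trivial
        exact this.resolve_right hx
    rw [this]
    exact isClosed_closure.isOpen_compl
  rcases isClopen_iff.mp hclopen with h0 | h1
  · right
    intro x hx
    rcases huv hx with hxu | hxv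
    · exfalso
      have : x ∈ closure (W ∩ u) := subset_closure ⟨hx, hxu⟩
      rw [h0] at this
      exact this
    · exact hxv
  · left
    intro x hx
    rcases huv hx with hxu | hxv
    · exact hxu
    · exfalso
      have h2 : x ∈ closure (W ∩ v) := subset_closure ⟨hx, hxv⟩
      have h3 : x ∈ closure (W ∩ u) := by rw [h1]; trivial
      exact Set.disjoint_left.mp hdc h3 h2

end Groth.Agent.Lib.Helper70.DVRConnD
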