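import Mathlib
import Groth.Agent.Lib.Helper70.DVRConnA

/-!
# `A` Noetherian, `A/ϖ` reduced, `D(ϖ)` dense ⇒ `ϖ` is a nonzerodivisor
-/

set_option autoImplicit false

namespace Groth.Agent.Lib.Helper70.DVRFlatA

universe u

open PrimeSpectrum

variable {A : Type u} [CommRing A] {ϖ : A}

/-- Elementwise reducedness of `A/ϖ`, iterated. -/
lemma red_pow (hred : ∀ a b : A, a * a = ϖ * b → ∃ c, a = ϖ * c) :
    ∀ k : ℕ, ∀ a b : A, a ^ (2 ^ k) = ϖ * b → ∃ c, a = ϖ * c := by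
  intro k
  induction k with
  | zero => intro a b hab; exact ⟨b, by simpa using hab⟩
  | succ k ih =>
    intro a b hab
    have h1 : a ^ (2 ^ k) * a ^ (2 ^ k) = ϖ * b := by
      rw [← pow_add, ← two_mul, ← pow_succ']
      exact hab
    obtain ⟨c, hc⟩ := hred _ _ h1
    exact ih a c hc

lemma mem_of_isNilpotent (hred : ∀ a b : A, a * a = ϖ * b → ∃ c, a = ϖ * c) (a : A)
    (ha : IsNilpotent a) : ∃ c, a = ϖ * c := by
  obtain ⟨n, hn⟩ := ha
  have h2 : a ^ (2 ^ n) = ϖ * 0 := by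
    rw [mul_zero]
    exact pow_eq_zero_of_le (Nat.lt_two_pow_self).le hn
  exact red_pow hred n a 0 h2

/-- `ϖ`-power torsion elements are nilpotent when `D(ϖ)` is dense. -/
lemma isNilpotent_of_pow_mul_eq_zero (hdense : Dense (basicOpen ϖ : Set (PrimeSpectrum A)))
    (a : A) (n : ℕ) (ha : ϖ ^ n * a = 0) : IsNilpotent a := by
  rw [← basicOpen_eq_bot_iff]
  by_contra hne
  have hne' : (basicOpen a : Set (PrimeSpectrum A)).Nonempty := by
    rw [Set.nonempty_iff_ne_empty]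
    intro h0
    apply hne
    ext1
    rw [h0]
    rfl
  obtain ⟨p, hpa, hpϖ⟩ := hdense.inter_open_nonempty _ (basicOpen a).2 hne'
  have hpa' : a ∉ p.asIdeal := hpa
  have hpϖ' : ϖ ∉ p.asIdeal := hpϖ
  have : ϖ ^ n * a ∈ p.asIdeal := by rw [ha]; exact zero_mem _
  rcases p.2.mem_or_mem this with h | h
  · exact hpϖ' (p.2.mem_of_pow_mem n h)
  · exact hpa' h

theorem nzd_of_dense [IsNoetherianRing A]
    (hred : ∀ a b : A, a * a = ϖ * b → ∃ c, a = ϖ * c)
    (hdense : Dense (basicOpen ϖ : Set (PrimeSpectrum A))) (a : A) (ha : ϖ * a = 0) : a = 0 := by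
  -- the ideal of `ϖ`-power torsion
  let T : Ideal A :=
    { carrier := {a | ∃ n : ℕ, ϖ ^ n * a = 0}
      add_mem' := by
        rintro x y ⟨n, hn⟩ ⟨m, hm⟩
        refine ⟨n + m, ?_⟩
        rw [mul_add, pow_add]
        have h1 : ϖ ^ n * ϖ ^ m * x = ϖ ^ m * (ϖ ^ n * x) := by ring
        have h2 : ϖ ^ n * ϖ ^ m * y = ϖ ^ n * (ϖ ^ m * y) := by ring
        rw [h1, h2, hn, hm, mul_zero, mul_zero, add_zero]
      zero_mem' := ⟨0, by simp⟩
      smul_mem' := by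
        rintro c x ⟨n, hn⟩
        refine ⟨n, ?_⟩
        rw [smul_eq_mul, mul_left_comm, hn, mul_zero] }
  have hT : T ≤ Ideal.span {ϖ} • T := by
    rintro x ⟨n, hn⟩
    obtain ⟨c, rfl⟩ := mem_of_isNilpotent hred x (isNilpotent_of_pow_mul_eq_zero hdense x n hn)
    have hc : c ∈ T := ⟨n + 1, by rw [pow_succ, mul_assoc]; exact hn⟩
    rw [← smul_eq_mul]
    exact Submodule.smul_mem_smul (Ideal.mem_span_singleton_self ϖ) hc
  obtain ⟨r, hr1, hr2⟩ :=
    Submodule.exists_sub_one_mem_and_smul_eq_zero_of_fg_of_le_smul (Ideal.span {ϖ}) T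
      (IsNoetherian.noetherian T) hT
  obtain ⟨s, hs⟩ := Ideal.mem_span_singleton'.mp hr1
  have haT : a ∈ T := ⟨1, by rw [pow_one]; exact ha⟩
  have h0 := hr2 a haT
  have hr : r = 1 + s * ϖ := by rw [hs]; ring
  rw [smul_eq_mul, hr, add_mul, one_mul, mul_assoc, ha, mul_zero, add_zero] at h0
  exact h0

end Groth.Agent.Lib.Helper70.DVRFlatA
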