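import Mathlib
import Groth.Agent.Lib.Helper70.DVRConnA
import Groth.Agent.Lib.Helper70.DVRFlatA

/-!
# Reducedness near the special fibre

`A` Noetherian, `ϖ` a nonzerodivisor with `A/ϖ` reduced. Then the nilradical `N` satisfies
`N = ϖ N`, hence is killed by some `r ∈ 1 + ϖ A`, and the localization of `A` at any prime contained
in a prime containing `ϖ` is reduced.
-/

set_option autoImplicit false

namespace Groth.Agent.Lib.Helper70.DVRRedA

universe u

open Groth.Agent.Lib.Helper70.DVRConnA Groth.Agent.Lib.Helper70.DVRFlatA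

variable {A : Type u} [CommRing A] {ϖ : A}

lemma exists_killer [IsNoetherianRing A] (h : Good ϖ) :
    ∃ r : A, r - 1 ∈ Ideal.span {ϖ} ∧ ∀ a : A, IsNilpotent a → r * a = 0 := by
  have hN : nilradical A ≤ Ideal.span {ϖ} • nilradical A := by
    intro a ha
    have ha' : IsNilpotent a := mem_nilradical.mp ha
    obtain ⟨c, rfl⟩ := mem_of_isNilpotent h.red a ha'
    have hc : c ∈ nilradical A := by
      rw [mem_nilradical]
      obtain ⟨n, hn⟩ := ha'
      refine ⟨n, h.pow_nzd n _ ?_⟩
      rw [← mul_pow]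
      exact hn
    rw [← smul_eq_mul]
    exact Submodule.smul_mem_smul (Ideal.mem_span_singleton_self ϖ) hc
  obtain ⟨r, hr1, hr2⟩ :=
    Submodule.exists_sub_one_mem_and_smul_eq_zero_of_fg_of_le_smul (Ideal.span {ϖ}) (nilradical A)
      (IsNoetherian.noetherian _) hN
  exact ⟨r, hr1, fun a ha => hr2 a (mem_nilradical.mpr ha)⟩

theorem isReduced_localization [IsNoetherianRing A] (h : Good ϖ) (p p' : Ideal A) [p.IsPrime]
    [p'.IsPrime] (hpp' : p ≤ p') (hϖ : ϖ ∈ p') (S : Type u) [CommRing S] [Algebra A S]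
    [IsLocalization.AtPrime S p] : IsReduced S := by
  obtain ⟨r, hr1, hr2⟩ := exists_killer h
  have hrp' : r ∉ p' := by
    intro hr
    have h1 : r - 1 ∈ p' := (Ideal.span_singleton_le_iff_mem (I := p')).mpr hϖ hr1
    have : (1 : A) ∈ p' := by
      have := p'.sub_mem hr h1
      simpa using this
    exact ‹p'.IsPrime›.ne_top ((Ideal.eq_top_iff_one _).mpr this)
  have hrp : r ∉ p := fun hr => hrp' (hpp' hr)
  refine ⟨fun ξ hξ => ?_⟩
  obtain ⟨n, hn⟩ := hξ
  obtain ⟨a, s, rfl⟩ := IsLocalization.exists_mk'_eq p.primeCompl ξ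
  have h1 : algebraMap A S (a ^ n) = 0 := by
    have : algebraMap A S a = IsLocalization.mk' S a s * algebraMap A S s := by
      rw [IsLocalization.mk'_spec]
    rw [map_pow, this, mul_pow, hn, zero_mul]
  obtain ⟨u, hu⟩ := (IsLocalization.map_eq_zero_iff p.primeCompl S _).mp h1
  have h2 : IsNilpotent ((u : A) * a) := by
    refine ⟨n + 1, ?_⟩
    rw [mul_pow, pow_succ (u : A), pow_succ a]
    have : (u : A) ^ n * u * (a ^ n * a) = (u : A) ^ n * a * (u * a ^ n) := by ring
    rw [this, hu, mul_zero]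
  have h3 := hr2 _ h2
  rw [IsLocalization.mk'_eq_zero_iff]
  refine ⟨⟨r * u, ?_⟩, ?_⟩
  · exact p.primeCompl.mul_mem (show r ∈ p.primeCompl from hrp) u.2
  · show r * u * a = 0
    rw [mul_assoc]
    exact h3

end Groth.Agent.Lib.Helper70.DVRRedA
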