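import Mathlib
import Groth.Agent.Lib.Helper70.DVRConnC
import Groth.Agent.Lib.Helper70.DVRConnD
import Groth.Agent.Lib.Helper70.DVRRedA

/-!
# Proper flat over a DVR with reduced special fibre ⇒ total space reduced
-/

set_option autoImplicit false

namespace Groth.Agent.Lib.Helper70.DVRRedB

universe u

open AlgebraicGeometry CategoryTheory Limits Opposite TopologicalSpace
open Groth.Agent.Lib.Helper70.DVRConnC Groth.Agent.Lib.Helper70.DVRConnA
open Groth.Agent.Lib.Helper70.DVRConnD

variable {R : Type u} [CommRing R] [IsDomain R] [IsDiscreteValuationRing R]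
  {X : Scheme.{u}} (f : X ⟶ Spec (CommRingCat.of R))

/-- Under a closed map to the spectrum of a local ring every point specializes to a point over the
closed point. -/
lemma exists_specializes_closedPoint (hcl : IsClosedMap f.base) (x : X) :
    ∃ x' : X, x ⤳ x' ∧ f.base x' = IsLocalRing.closedPoint R := by
  have h1 : IsClosed (f.base '' closure {x}) := hcl _ isClosed_closure
  have h2 : (IsLocalRing.closedPoint R : PrimeSpectrum R) ∈ closure {f.base x} :=
    (specializes_iff_mem_closure).mp (IsLocalRing.specializes_closedPoint (R := R) (f.base x))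
  have h3 : closure {f.base x} ⊆ f.base '' closure {x} :=
    closure_minimal (Set.singleton_subset_iff.mpr ⟨x, subset_closure rfl, rfl⟩) h1
  obtain ⟨x', hx', hfx'⟩ := h3 h2
  exact ⟨x', specializes_iff_mem_closure.mpr hx', hfx'⟩

theorem isReduced_stalk [IsLocallyNoetherian X] [Flat f] (hcl : IsClosedMap f.base)
    (hred : IsReduced (f.fiber (IsLocalRing.closedPoint R))) (x : X) :
    _root_.IsReduced (X.presheaf.stalk x) := by
  obtain ⟨ϖ, hϖ⟩ := IsDiscreteValuationRing.exists_irreducible R
  obtain ⟨x', hxx', hfx'⟩ := exists_specializes_closedPoint f hcl x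
  obtain ⟨_, ⟨V, hV : IsAffineOpen V, rfl⟩, hx'V, -⟩ :=
    X.isBasis_affineOpens.exists_subset_of_mem_open (Set.mem_univ x') isOpen_univ
  have hxV : x ∈ V := hxx'.mem_open V.2 hx'V
  have hgood : Good (res (pb f ⊤ ϖ) V) := by
    have : res (pb f ⊤ ϖ) V = pb f V ϖ := pb_res f le_top ϖ
    rw [this]
    exact good_pb f hred hV hϖ
  have hx : x ∈ Set.range (φ hV) := by rw [range_φ]; exact hxV
  have hx' : x' ∈ Set.range (φ hV) := by rw [range_φ]; exact hx'V
  obtain ⟨y, rfl⟩ := hx
  obtain ⟨y', rfl⟩ := hx'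
  have hyy' : y.asIdeal ≤ y'.asIdeal := by
    have h1 : y ⤳ y' := hV.fromSpec.isOpenEmbedding.isInducing.specializes_iff.mp hxx'
    exact (PrimeSpectrum.le_iff_specializes y y').mpr h1
  have hϖy' : res (pb f ⊤ ϖ) V ∈ y'.asIdeal := by
    by_contra hc
    have h1 : φ hV y' ∈ X.basicOpen (pb f ⊤ ϖ) := (φ_mem_basicOpen_iff _ hV y').mpr hc
    rw [mem_basicOpen_pb_iff, hfx'] at h1
    apply h1.2
    show ϖ ∈ IsLocalRing.maximalIdeal R
    rw [hϖ.maximalIdeal_eq]
    exact Ideal.mem_span_singleton_self _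
  have hN : IsNoetherianRing Γ(X, V) := IsLocallyNoetherian.component_noetherian ⟨V, hV⟩
  let _ : Algebra Γ(X, V) (X.presheaf.stalk (hV.fromSpec y)) :=
    TopCat.Presheaf.algebra_section_stalk X.presheaf ⟨hV.fromSpec y, hxV⟩
  have hloc : IsLocalization.AtPrime (X.presheaf.stalk (hV.fromSpec y)) y.asIdeal :=
    hV.isLocalization_stalk' y hxV
  exact Groth.Agent.Lib.Helper70.DVRRedA.isReduced_localization hgood y.asIdeal y'.asIdeal hyy'
    hϖy' (X.presheaf.stalk (hV.fromSpec y))

theorem isReduced_of_isClosedMap [IsLocallyNoetherian X] [Flat f] (hcl : IsClosedMap f.base)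
    (hred : IsReduced (f.fiber (IsLocalRing.closedPoint R))) : IsReduced X := by
  have := isReduced_stalk f hcl hred
  exact isReduced_of_isReduced_stalk X

end Groth.Agent.Lib.Helper70.DVRRedB
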