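import Mathlib
import Groth.Agent.Lib.Helper70.SteinUH

universe u

namespace Groth.Agent.Lib.Helper70

open CategoryTheory CategoryTheory.Limits AlgebraicGeometry

namespace SteinUH

/-- If `t ≫ n` has geometrically connected fibres, `t` is surjective and `n` is integral,
then `n` is a universal homeomorphism. -/
theorem isUnivHomeo_of_surjective_comp {X N S : Scheme.{u}} (t : X ⟶ N) (n : N ⟶ S)
    [IsIntegralHom n] [Surjective t] [GeometricallyConnected (t ≫ n)] :
    FlatMor.IsUnivHomeo n := by
  set f := t ≫ n with hf
  have htn : t ≫ n = f := rfl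
  have hsurjf : Surjective f := inferInstance
  have hsurjt : Surjective t := inferInstance
  have hsurjn : Surjective n := by
    constructor
    intro s
    obtain ⟨x, hx⟩ := hsurjf.surj s
    refine ⟨t x, ?_⟩
    rw [← Scheme.Hom.comp_apply, htn]; exact hx
  rw [Groth.Agent.S0415.result]
  refine ⟨inferInstance, ?_, hsurjn⟩
  apply ((tfae_universallyInjective (f := n)).out 0 1).mpr
  intro K _ a b hab
  dsimp only at hab
  set y : Spec (CommRingCat.of K) ⟶ S := a ≫ n with hy
  have hXK : ConnectedSpace ↑(pullback f y) :=
    GeometricallyConnected.geometrically_connectedSpace y _ _ (IsPullback.of_hasPullback f y)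
  let tK : pullback f y ⟶ pullback n y :=
    pullback.lift (pullback.fst f y ≫ t) (pullback.snd f y)
      (by rw [Category.assoc, htn]; exact pullback.condition)
  have htK1 : tK ≫ pullback.fst n y = pullback.fst f y ≫ t := pullback.lift_fst _ _ _
  have htK2 : tK ≫ pullback.snd n y = pullback.snd f y := pullback.lift_snd _ _ _
  have hsq : IsPullback tK (pullback.fst f y) (pullback.fst n y) t := by
    have hbig : IsPullback (pullback.fst f y) (pullback.snd f y) f y := IsPullback.of_hasPullback f y
    have hright : IsPullback (pullback.fst n y) (pullback.snd n y) n y := IsPullback.of_hasPullback n y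
    have h1 : IsPullback (pullback.fst f y) (tK ≫ pullback.snd n y) (t ≫ n) y := by
      rw [htK2, htn]; exact hbig
    exact IsPullback.of_right h1.flip htK1 hright.flip
  have hsurjtK : Surjective tK := MorphismProperty.of_isPullback hsq.flip hsurjt
  have hNK : ConnectedSpace ↑(pullback n y) := by
    have hne : Nonempty ↑(pullback n y) := by
      obtain ⟨z⟩ := hXK.toNonempty
      exact ⟨tK z⟩
    have : PreconnectedSpace ↑(pullback n y) := by
      constructor
      have := (isPreconnected_univ (α := ↑(pullback f y))).image tK tK.continuous.continuousOn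
      rwa [Set.image_univ, Set.range_eq_univ.mpr hsurjtK.surj] at this
    exact ⟨hne⟩
  let a' : Spec (CommRingCat.of K) ⟶ pullback n y :=
    pullback.lift a (𝟙 _) (by rw [Category.id_comp])
  let b' : Spec (CommRingCat.of K) ⟶ pullback n y :=
    pullback.lift b (𝟙 _) (by rw [Category.id_comp]; exact hab.symm)
  have ha1 : a' ≫ pullback.fst n y = a := pullback.lift_fst _ _ _
  have ha2 : a' ≫ pullback.snd n y = 𝟙 _ := pullback.lift_snd _ _ _
  have hb1 : b' ≫ pullback.fst n y = b := pullback.lift_fst _ _ _
  have hb2 : b' ≫ pullback.snd n y = 𝟙 _ := pullback.lift_snd _ _ _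
  have hab' : a' = b' := section_unique (pullback.snd n y) a' b' ha2 hb2
  rw [← ha1, ← hb1, hab']

end SteinUH

end Groth.Agent.Lib.Helper70
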