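import Mathlib
import Groth.Agent.Lib.Helper70.SteinUH2
import Groth.Agent.Lib.Helper70.RingAWN

/-!
# Proper schemes over a field: geometric connectedness via global sections (helper70)
-/

universe u

namespace Groth.Agent.Lib.Helper70

open CategoryTheory CategoryTheory.Limits AlgebraicGeometry TensorProduct

namespace SteinPI
open DescSec


theorem isNilpotent_pow_sub_pow {T : Type*} [CommRing T] {u v : T} (h : IsNilpotent (u - v)) (m : ℕ) :
    IsNilpotent (u ^ m - v ^ m) := by
  obtain ⟨w, hw⟩ := sub_dvd_pow_sub_pow u v m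
  rw [hw]
  exact (Commute.all _ _).isNilpotent_mul_right h

/-- the key closure property -/
theorem isUnit_or_isNilpotent_tensor {k R L : Type*} [Field k] [CommRing R] [Algebra k R]
    [Field L] [Algebra k L]
    (hpi : ∀ a : R, ∃ (n : ℕ) (c : k), IsNilpotent (a ^ (ringExpChar k ^ n) - algebraMap k R c)) :
    ∀ t : R ⊗[k] L, IsUnit t ∨ IsNilpotent t := by
  set q := ringExpChar k with hq
  by_cases htriv : Subsingleton (R ⊗[k] L)
  · intro t
    right
    exact ⟨1, Subsingleton.elim _ _⟩
  have hnt : Nontrivial (R ⊗[k] L) := not_subsingleton_iff_nontrivial.mp htriv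
  have hinj : Function.Injective (algebraMap k (R ⊗[k] L)) := (algebraMap k (R ⊗[k] L)).injective
  have hexp : ExpChar (R ⊗[k] L) q := expChar_of_injective_algebraMap hinj q
  have hqpos : ∀ N, q ^ N ≠ 0 := fun N => pow_ne_zero _ (expChar_pos k q).ne'
  -- the property
  let P : R ⊗[k] L → Prop := fun t => ∃ (N : ℕ) (l : L),
    IsNilpotent (t ^ (q ^ N) - (1 : R) ⊗ₜ[k] l)
  have hraise : ∀ (t : R ⊗[k] L) (N : ℕ) (l : L), IsNilpotent (t ^ (q ^ N) - (1 : R) ⊗ₜ[k] l) →
      ∀ m, IsNilpotent (t ^ (q ^ (N + m)) - (1 : R) ⊗ₜ[k] (l ^ (q ^ m))) := by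
    intro t N l h m
    have := isNilpotent_pow_sub_pow h (q ^ m)
    rw [← pow_mul, ← pow_add, Algebra.TensorProduct.tmul_pow, one_pow] at this
    exact this
  have hP : ∀ t, P t := by
    intro t
    induction t using TensorProduct.induction_on with
    | zero =>
      refine ⟨0, 0, ?_⟩
      simp
    | tmul r x =>
      obtain ⟨n, c, hc⟩ := hpi r
      refine ⟨n, c • x ^ (q ^ n), ?_⟩
      rw [Algebra.TensorProduct.tmul_pow]
      have e : (r ^ q ^ n) ⊗ₜ[k] (x ^ q ^ n) - (1 : R) ⊗ₜ[k] (c • x ^ q ^ n) =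
          (r ^ q ^ n - algebraMap k R c) ⊗ₜ[k] (x ^ q ^ n) := by
        rw [TensorProduct.sub_tmul, TensorProduct.tmul_smul, TensorProduct.smul_tmul', Algebra.smul_def,
          mul_one]
      rw [e]
      obtain ⟨m, hm⟩ := hc
      refine ⟨m, ?_⟩
      rw [Algebra.TensorProduct.tmul_pow, hm, TensorProduct.zero_tmul]
    | add s t hs ht =>
      obtain ⟨N₁, l₁, h₁⟩ := hs
      obtain ⟨N₂, l₂, h₂⟩ := ht
      have h₁' := hraise s N₁ l₁ h₁ N₂
      have h₂' := hraise t N₂ l₂ h₂ N₁
      rw [add_comm N₂ N₁] at h₂'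
      refine ⟨N₁ + N₂, l₁ ^ q ^ N₂ + l₂ ^ q ^ N₁, ?_⟩
      rw [add_pow_expChar_pow, TensorProduct.tmul_add]
      have := (Commute.all _ _).isNilpotent_add h₁' h₂'
      have e : s ^ q ^ (N₁ + N₂) + t ^ q ^ (N₁ + N₂) -
          ((1 : R) ⊗ₜ[k] (l₁ ^ q ^ N₂) + (1 : R) ⊗ₜ[k] (l₂ ^ q ^ N₁)) =
          (s ^ q ^ (N₁ + N₂) - (1 : R) ⊗ₜ[k] (l₁ ^ q ^ N₂)) +
          (t ^ q ^ (N₁ + N₂) - (1 : R) ⊗ₜ[k] (l₂ ^ q ^ N₁)) := by abel
      rw [e]
      exact this
  intro t
  obtain ⟨N, l, h⟩ := hP t
  by_cases hl : l = 0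
  · right
    rw [hl, TensorProduct.tmul_zero, sub_zero] at h
    exact (IsNilpotent.pow_iff_pos (hqpos N)).mp h
  · left
    have hu : IsUnit ((1 : R) ⊗ₜ[k] l) := by
      have : IsUnit l := isUnit_iff_ne_zero.mpr hl
      exact this.map (Algebra.TensorProduct.includeRight (R := k) (A := R) (B := L))
    have h2 : IsUnit (t ^ q ^ N) := by
      have := h.isUnit_add_right_of_commute hu (Commute.all _ _)
      simpa using this
    exact (isUnit_pow_iff (hqpos N)).mp h2

/-- only trivial idempotents -/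
theorem idempotent_trivial {T : Type*} [CommRing T] (h : ∀ t : T, IsUnit t ∨ IsNilpotent t)
    (e : T) (he : IsIdempotentElem e) : e = 0 ∨ e = 1 := by
  rcases h e with hu | hn
  · right
    obtain ⟨u, rfl⟩ := hu
    have := he.eq
    have h2 : (u : T) * u = u * 1 := by rw [this, mul_one]
    exact u.isUnit.mul_left_cancel h2
  · left
    exact he.eq_zero_of_isNilpotent hn



/-- a scheme whose ring of global sections has only the trivial idempotents is preconnected. -/
theorem preconnectedSpace_of_idempotent_trivial (X : Scheme.{u})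
    (h : ∀ e : Γ(X, ⊤), IsIdempotentElem e → e = 0 ∨ e = 1) : PreconnectedSpace X := by
  rw [preconnectedSpace_iff_clopen]
  intro s hs
  let W : Bool → X.Opens := fun b => if b then ⟨s, hs.isOpen⟩ else ⟨sᶜ, hs.compl.isOpen⟩
  have hWt : ((W true : X.Opens) : Set X) = s := rfl
  have hWf : ((W false : X.Opens) : Set X) = sᶜ := rfl
  have hdisj : ∀ i j, i ≠ j → W i ⊓ W j = ⊥ := by
    intro i j hij
    apply TopologicalSpace.Opens.ext
    rcases i with _ | _ <;> rcases j with _ | _ <;> simp_all [W]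
  let sf : ∀ b : Bool, Γ(X, W b) := fun b => if b then 1 else 0
  have hcompat : TopCat.Presheaf.IsCompatible X.presheaf W sf := by
    intro i j
    by_cases hij : i = j
    · subst hij
      rfl
    · have : Subsingleton Γ(X, W i ⊓ W j) := by
        rw [hdisj i j hij]; infer_instance
      exact Subsingleton.elim _ _
  have hcov : (⊤ : X.Opens) ≤ ⨆ b, W b := by
    intro x _
    by_cases hx : x ∈ s
    · exact TopologicalSpace.Opens.mem_iSup.mpr ⟨true, hx⟩
    · exact TopologicalSpace.Opens.mem_iSup.mpr ⟨false, hx⟩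
  obtain ⟨e0, he, -⟩ := X.sheaf.existsUnique_gluing' W ⊤ (fun b => homOfLE le_top) hcov sf hcompat
  let e : Γ(X, ⊤) := e0
  have het : (X.presheaf.map (homOfLE (le_top : W true ≤ ⊤)).op).hom e = 1 := he true
  have hef : (X.presheaf.map (homOfLE (le_top : W false ≤ ⊤)).op).hom e = 0 := he false
  have hidem : IsIdempotentElem e := by
    apply X.sheaf.eq_of_locally_eq' W ⊤ (fun b => homOfLE le_top) hcov
    intro b
    have hm : (X.presheaf.map (homOfLE (le_top : W b ≤ ⊤)).op).hom (e * e) =
        (X.presheaf.map (homOfLE (le_top : W b ≤ ⊤)).op).hom e *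
        (X.presheaf.map (homOfLE (le_top : W b ≤ ⊤)).op).hom e := map_mul _ _ _
    refine hm.trans ?_
    rcases b with _ | _
    · rw [hef, mul_zero]; exact hef.symm
    · rw [het, mul_one]; exact het.symm
  rcases h e hidem with h0 | h1
  · -- e = 0, so 1 = 0 on W true, so s = ∅
    left
    rw [h0, map_zero] at het
    by_contra hne
    have hne' : Nonempty (W true) := by
      obtain ⟨x, hx⟩ := Set.nonempty_iff_ne_empty.mpr hne
      exact ⟨⟨x, hx⟩⟩
    exact zero_ne_one het
  · right
    rw [h1, map_one] at hef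
    by_contra hne
    have hne' : Nonempty (W false) := by
      obtain ⟨x, hx⟩ := Set.nonempty_compl.mpr hne
      exact ⟨⟨x, hx⟩⟩
    exact one_ne_zero hef



/-- forward direction, ring form -/
theorem forward (k : Type u) [Field k] {X : Scheme.{u}}
    (f : X ⟶ Spec (CommRingCat.of k)) [IsProper f] [GeometricallyConnected f] :
    FlatMor.IsUnivHomeo (Spec.map (CommRingCat.ofHom (phi f).hom)) := by
  have hcomp : CompactSpace X := (quasiCompact_iff_compactSpace f).mp inferInstance
  have htn : X.toSpecΓ ≫ Spec.map (phi f) = f := toSpecΓ_phi f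
  have hφint : (phi f).hom.IsIntegral := by
    have h1 : f.appTop.hom.IsIntegral := isIntegral_appTop_of_universallyClosed f
    exact RingHom.IsIntegral.trans _ _ (RingHom.isIntegral_of_surjective _
      (ConcreteCategory.bijective_of_isIso (Scheme.ΓSpecIso (CommRingCat.of k)).inv).2) h1
  have hint : IsIntegralHom (Spec.map (phi f)) := IsIntegralHom.SpecMap_iff.mpr hφint
  have huc : UniversallyClosed (X.toSpecΓ ≫ Spec.map (phi f)) := by rw [htn]; infer_instance
  have huct : UniversallyClosed X.toSpecΓ :=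
    UniversallyClosed.of_comp_of_isSeparated X.toSpecΓ (Spec.map (phi f))
  have hsurj : Surjective X.toSpecΓ := Surjective.of_universallyClosed_of_isDominant X.toSpecΓ
  have hgc : GeometricallyConnected (X.toSpecΓ ≫ Spec.map (phi f)) := by rw [htn]; infer_instance
  exact SteinUH.isUnivHomeo_of_surjective_comp X.toSpecΓ (Spec.map (phi f))



/-- ring-level consequence of a universal homeomorphism onto the spectrum of a field. -/
theorem ring_forward {k R : Type u} [Field k] [CommRing R] (φ : k →+* R)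
    (h : FlatMor.IsUnivHomeo (Spec.map (CommRingCat.ofHom φ))) :
    IsLocalRing R ∧ ringKrullDim R = 0 ∧
      ∀ a : R, ∃ (n : ℕ) (c : k), IsNilpotent (a ^ (ringExpChar k ^ n) - φ c) := by
  obtain ⟨hint, hbij⟩ := SpecUH.isIntegral_and_bijective_of_isUnivHomeo φ h
  obtain ⟨-, -, hfp⟩ := (SpecUH.isUnivHomeo_SpecMap_iff φ).mp h
  -- the spectrum of R is a point
  have hsub : Subsingleton (PrimeSpectrum R) := hbij.1.subsingleton
  have hne : Nonempty (PrimeSpectrum R) := by
    obtain ⟨p, -⟩ := hbij.2 default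
    exact ⟨p⟩
  obtain ⟨p₀⟩ := hne
  have hnt : Nontrivial R := by
    have := p₀.isPrime.ne_top
    by_contra hcon
    rw [not_nontrivial_iff_subsingleton] at hcon
    exact this (Subsingleton.elim _ _)
  have hmax : ∀ I : Ideal R, I.IsMaximal → I = p₀.asIdeal := by
    intro I hI
    exact congrArg PrimeSpectrum.asIdeal (hsub.elim ⟨I, hI.isPrime⟩ p₀)
  have hp₀max : p₀.asIdeal.IsMaximal := by
    obtain ⟨M, hM⟩ := Ideal.exists_maximal R
    rw [← hmax M hM]; exact hM
  have hloc : IsLocalRing R := IsLocalRing.of_unique_max_ideal ⟨p₀.asIdeal, hp₀max, hmax⟩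
  refine ⟨hloc, ?_, ?_⟩
  · have : Nonempty (PrimeSpectrum R) := ⟨p₀⟩
    exact Order.krullDim_eq_zero
  · -- purely inseparable residue field
    have hmeq : IsLocalRing.maximalIdeal R = p₀.asIdeal := hmax _ (IsLocalRing.maximalIdeal.isMaximal R)
    let κ := IsLocalRing.ResidueField R
    let ψ : k →+* κ := (IsLocalRing.residue R).comp φ
    let _ : Algebra k κ := ψ.toAlgebra
    have hpins : IsPurelyInseparable k κ := by
      have : Nonempty (κ →+* AlgebraicClosure κ) := ⟨algebraMap κ (AlgebraicClosure κ)⟩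
      apply IsPurelyInseparable.of_injective_comp_algebraMap k κ (AlgebraicClosure κ)
      intro g₁ g₂ hg
      dsimp only at hg
      have h1 : (g₁.comp (IsLocalRing.residue R)).comp φ = (g₂.comp (IsLocalRing.residue R)).comp φ := by
        rw [RingHom.comp_assoc, RingHom.comp_assoc]
        exact hg
      have h2 := hfp (AlgebraicClosure κ) _ _ h1
      apply RingHom.ext
      intro x
      obtain ⟨r, rfl⟩ := IsLocalRing.residue_surjective x
      exact congrFun (congrArg DFunLike.coe h2) r
    intro a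
    obtain ⟨n, c, hc⟩ := IsPurelyInseparable.pow_mem k (ringExpChar k) (IsLocalRing.residue R a)
    refine ⟨n, c, ?_⟩
    have hmem : a ^ (ringExpChar k ^ n) - φ c ∈ IsLocalRing.maximalIdeal R := by
      rw [← IsLocalRing.residue_eq_zero_iff, map_sub, map_pow, ← hc]
      exact sub_self _
    rw [nilpotent_iff_mem_prime]
    intro J hJ
    have : J = p₀.asIdeal := congrArg PrimeSpectrum.asIdeal (hsub.elim ⟨J, hJ⟩ p₀)
    rw [this, ← hmeq]
    exact hmem



/-- flat base change of global sections along a field extension, as a pushout square of rings. -/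
theorem isPushout_sections {k K : Type u} [Field k] [Field K] {X Z : Scheme.{u}}
    (f : X ⟶ Spec (CommRingCat.of k)) [QuasiCompact f] [QuasiSeparated f] (ι : k →+* K)
    (fst : Z ⟶ X) (snd : Z ⟶ Spec (CommRingCat.of K))
    (hsq : IsPullback fst snd f (Spec.map (CommRingCat.ofHom ι))) :
    IsPushout (phi f) (CommRingCat.ofHom ι) fst.appTop (phi snd) := by
  have hcomp : CompactSpace X := (quasiCompact_iff_compactSpace f).mp inferInstance
  have hqs : QuasiSeparatedSpace X := quasiSeparatedSpace_of_quasiSeparated f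
  have hflat : Flat (Spec.map (CommRingCat.ofHom ι)) := by
    rw [Flat.SpecMap_iff]
    let _ : Algebra k K := ι.toAlgebra
    change Module.Flat k K
    infer_instance
  have hiso := isIso_pushoutSection_of_isQuasiSeparated_of_flat_right hsq
    (US := ⊤) (UT := ⊤) (UX := ⊤) (UY := ⊤) le_top le_top (by simp)
    (isAffineOpen_top _) (isAffineOpen_top _) isCompact_univ isQuasiSeparated_univ
  have hpo := (isIso_pushoutSection_iff hsq (US := ⊤) (UT := ⊤) (UX := ⊤) (UY := ⊤)
    le_top le_top (by simp)).mp hiso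
  have e1 : ∀ {A B : Scheme.{u}} (g : A ⟶ B) (h : (⊤ : A.Opens) ≤ g ⁻¹ᵁ ⊤),
      g.appLE ⊤ ⊤ h = g.appTop := fun g h => g.appLE_eq_app
  rw [e1, e1, e1, e1] at hpo
  refine hpo.of_iso (Scheme.ΓSpecIso (CommRingCat.of k)) (Iso.refl _)
    (Scheme.ΓSpecIso (CommRingCat.of K)) (Iso.refl _) ?_ ?_ ?_ ?_
  · simp [phi]
  · exact Scheme.ΓSpecIso_naturality (CommRingCat.ofHom ι)
  · simp
  · simp [phi]


/-- backward direction: connectedness of the base change to a field extension. -/
theorem connectedSpace_of_pi {k K : Type u} [Field k] [Field K] {X Z : Scheme.{u}}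
    (f : X ⟶ Spec (CommRingCat.of k)) [QuasiCompact f] [QuasiSeparated f] (ι : k →+* K)
    (fst : Z ⟶ X) (snd : Z ⟶ Spec (CommRingCat.of K))
    (hsq : IsPullback fst snd f (Spec.map (CommRingCat.ofHom ι)))
    (hnt : Nontrivial Γ(X, ⊤))
    (hpi : ∀ a : Γ(X, ⊤), ∃ (n : ℕ) (c : k),
      IsNilpotent (a ^ (ringExpChar k ^ n) - (phi f).hom c)) :
    ConnectedSpace Z := by
  have hpo := isPushout_sections f ι fst snd hsq
  let _ : Algebra k Γ(X, ⊤) := (phi f).hom.toAlgebra
  let _ : Algebra k K := ι.toAlgebra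
  have hten := CommRingCat.isPushout_tensorProduct k Γ(X, ⊤) K
  let E : CommRingCat.of (Γ(X, ⊤) ⊗[k] K) ≅ Γ(Z, ⊤) := hten.isoIsPushout _ _ hpo
  have hUN := isUnit_or_isNilpotent_tensor (k := k) (R := Γ(X, ⊤)) (L := K) hpi
  have hntT : Nontrivial (Γ(X, ⊤) ⊗[k] K) :=
    Algebra.TensorProduct.nontrivial_of_algebraMap_injective_of_flat_left k Γ(X, ⊤) K
      (algebraMap k K).injective
  have hEinv : ∀ e : Γ(Z, ⊤), E.hom.hom (E.inv.hom e) = e := by
    intro e
    have := congrArg (fun g => g.hom e) E.inv_hom_id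
    exact this
  have hidem : ∀ e : Γ(Z, ⊤), IsIdempotentElem e → e = 0 ∨ e = 1 := by
    intro e he
    have he' : IsIdempotentElem (E.inv.hom e) := he.map E.inv.hom
    rcases idempotent_trivial hUN _ he' with h0 | h1
    · left
      have := congrArg E.hom.hom h0
      rw [map_zero, hEinv] at this
      exact this
    · right
      have := congrArg E.hom.hom h1
      rw [map_one, hEinv] at this
      exact this
  have hpre := preconnectedSpace_of_idempotent_trivial Z hidem
  have hne : Nonempty Z := by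
    by_contra hcon
    rw [not_nonempty_iff] at hcon
    have hsub : Subsingleton Γ(Z, ⊤) := inferInstance
    have h01 : E.hom.hom (0 : Γ(X, ⊤) ⊗[k] K) = E.hom.hom 1 := Subsingleton.elim _ _
    have hinj : Function.Injective E.hom.hom :=
      (ConcreteCategory.bijective_of_isIso E.hom).1
    exact zero_ne_one (hinj h01)
  exact { toPreconnectedSpace := hpre, toNonempty := hne }

end SteinPI

end Groth.Agent.Lib.Helper70
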