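import Mathlib

/-!
# Coefficient ideals (helper70)

For a field `k`, `k`-algebras `R`, `A` and an ideal `I` of `R ⊗[k] A`, the *coefficient ideal*
`coeffIdeal I` of `R` is generated by the "coordinates" `(id ⊗ φ) x` for `x ∈ I` and `φ` a
`k`-linear functional on `A`.  For any `k`-algebra map `ψ : R → R'`, the ideal `I` dies in
`R' ⊗[k] A` iff `coeffIdeal I ≤ ker ψ`.
-/

set_option autoImplicit false

open TensorProduct

namespace Groth.Agent.Lib.Helper70.WeilA

variable {k : Type*} [Field k]

section slice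

variable (R : Type*) [CommRing R] [Algebra k R] {A : Type*} [CommRing A] [Algebra k A]

/-- `id ⊗ φ : R ⊗[k] A → R`. -/
noncomputable def slice (φ : A →ₗ[k] k) : R ⊗[k] A →ₗ[R] R :=
  (Algebra.TensorProduct.rid k R R).toLinearMap ∘ₗ φ.baseChange R

@[simp]
theorem slice_tmul (φ : A →ₗ[k] k) (r : R) (a : A) : slice R φ (r ⊗ₜ[k] a) = φ a • r := by
  simp [slice]

end slice

variable {R : Type*} [CommRing R] [Algebra k R] {A : Type*} [CommRing A] [Algebra k A]
variable {R' : Type*} [CommRing R'] [Algebra k R']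

theorem slice_map (φ : A →ₗ[k] k) (ψ : R →ₐ[k] R') (x : R ⊗[k] A) :
    slice R' φ (Algebra.TensorProduct.map ψ (AlgHom.id k A) x) = ψ (slice R φ x) := by
  induction x using TensorProduct.induction_on with
  | zero => simp
  | tmul r a => simp
  | add x y hx hy => simp only [map_add, hx, hy]

theorem eq_zero_of_forall_slice (y : R' ⊗[k] A) (h : ∀ φ : A →ₗ[k] k, slice R' φ y = 0) :
    y = 0 := by
  let b := Module.Free.chooseBasis k A
  let B := Algebra.TensorProduct.basis R' b
  have hcoord : ∀ (z : R' ⊗[k] A) i, B.repr z i = slice R' (b.coord i) z := by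
    intro z i
    induction z using TensorProduct.induction_on with
    | zero => simp
    | tmul r a =>
      simp only [B, Algebra.TensorProduct.basis_repr_tmul, slice_tmul, Module.Basis.coord_apply]
      rw [Algebra.smul_def, mul_comm]
      simp
    | add x y hx hy => simp only [map_add, Finsupp.coe_add, Pi.add_apply, hx, hy]
  apply B.repr.injective
  ext i
  rw [hcoord, h]
  simp

/-- the coefficient ideal of an ideal of `R ⊗[k] A`. -/
noncomputable def coeffIdeal (I : Ideal (R ⊗[k] A)) : Ideal R :=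
  Ideal.span { r | ∃ x ∈ I, ∃ φ : A →ₗ[k] k, r = slice R φ x }

theorem coeffIdeal_le_ker_iff (I : Ideal (R ⊗[k] A)) (ψ : R →ₐ[k] R') :
    coeffIdeal I ≤ RingHom.ker ψ ↔
      ∀ x ∈ I, Algebra.TensorProduct.map ψ (AlgHom.id k A) x = 0 := by
  constructor
  · intro h x hx
    apply eq_zero_of_forall_slice
    intro φ
    rw [slice_map]
    have : slice R φ x ∈ coeffIdeal I := Ideal.subset_span ⟨x, hx, φ, rfl⟩
    exact h this
  · intro h
    rw [coeffIdeal, Ideal.span_le]
    rintro _ ⟨x, hx, φ, rfl⟩
    show ψ (slice R φ x) = 0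
    rw [← slice_map, h x hx, map_zero]

end Groth.Agent.Lib.Helper70.WeilA
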