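import Mathlib
import Groth.Agent.Lib.Helper70.WeilA

/-!
# The locus where two morphisms on a product agree: affine core (helper70)
-/

set_option autoImplicit false
universe u
open CategoryTheory Limits AlgebraicGeometry TensorProduct

namespace Groth.Agent.Lib.Helper70.WeilB

open Groth.Agent.Lib.Helper70.WeilA

/-- the equalizer of two morphisms into a separated scheme, as a closed subscheme. -/
theorem exists_equalizer {P Y S : Scheme.{u}} (q : Y ⟶ S) [IsSeparated q] (a b : P ⟶ Y)
    (hab : a ≫ q = b ≫ q) :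
    ∃ (E : Scheme.{u}) (e : E ⟶ P), IsClosedImmersion e ∧ e ≫ a = e ≫ b ∧
      ∀ (W : Scheme.{u}) (h : W ⟶ P), h ≫ a = h ≫ b → ∃ l : W ⟶ E, l ≫ e = h := by
  let ab : P ⟶ pullback q q := pullback.lift a b hab
  let Δ : Y ⟶ pullback q q := pullback.diagonal q
  refine ⟨pullback ab Δ, pullback.fst ab Δ, inferInstance, ?_, ?_⟩
  · have hc : pullback.fst ab Δ ≫ ab = pullback.snd ab Δ ≫ Δ := pullback.condition
    have h1 := congrArg (· ≫ pullback.fst q q) hc
    have h2 := congrArg (· ≫ pullback.snd q q) hc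
    simp only [Category.assoc, ab, Δ, pullback.lift_fst, pullback.lift_snd,
      pullback.diagonal_fst, pullback.diagonal_snd, Category.comp_id] at h1 h2
    rw [h1, h2]
  · intro W h hh
    refine ⟨pullback.lift h (h ≫ a) ?_, pullback.lift_fst _ _ _⟩
    apply pullback.hom_ext
    · simp only [Category.assoc, ab, Δ, pullback.lift_fst, pullback.diagonal_fst, Category.comp_id]
    · simp only [Category.assoc, ab, Δ, pullback.lift_snd, pullback.diagonal_snd, Category.comp_id]
      exact hh.symm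

/-- morphisms from affine schemes equalizing two maps `Spec C₀ ⟶ Y` are cut out by an ideal. -/
theorem exists_ideal_equalizer {C₀ : CommRingCat.{u}} {Y S : Scheme.{u}} (q : Y ⟶ S) [IsSeparated q]
    (a b : Spec C₀ ⟶ Y) (hab : a ≫ q = b ≫ q) :
    ∃ I : Ideal C₀, ∀ (C : CommRingCat.{u}) (χ : C₀ ⟶ C),
      Spec.map χ ≫ a = Spec.map χ ≫ b ↔ I ≤ RingHom.ker χ.hom := by
  obtain ⟨E, e, he, heq, huniv⟩ := exists_equalizer q a b hab
  obtain ⟨I, iso, hiso⟩ := IsClosedImmersion.Spec_iff.mp he
  refine ⟨I, fun C χ => ⟨fun h => ?_, fun h => ?_⟩⟩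
  · obtain ⟨l, hl⟩ := huniv _ _ h
    intro x hx
    rw [RingHom.mem_ker]
    have h1 : Spec.map χ = Spec.map (CommRingCat.ofHom (Ideal.Quotient.mk I) ≫
        Spec.preimage (l ≫ iso.hom)) := by
      rw [Spec.map_comp, Spec.map_preimage, Category.assoc, ← hiso, hl]
    have h2 : χ = CommRingCat.ofHom (Ideal.Quotient.mk I) ≫ Spec.preimage (l ≫ iso.hom) :=
      Spec.map_injective h1
    rw [h2]
    simp [Ideal.Quotient.eq_zero_iff_mem.mpr hx]
  · let χ' : CommRingCat.of (C₀ ⧸ I) ⟶ C := CommRingCat.ofHom (Ideal.Quotient.lift I χ.hom h)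
    have h1 : χ = CommRingCat.ofHom (Ideal.Quotient.mk I) ≫ χ' := by
      ext x
      simp [χ']
    have h2 : Spec.map χ = (Spec.map χ' ≫ iso.inv) ≫ e := by
      rw [h1, Spec.map_comp, hiso, Category.assoc, Iso.inv_hom_id_assoc]
    rw [h2]
    simp only [Category.assoc, heq]

/-- base change of the parameter along `t`. -/
noncomputable abbrev wh {T B X S : Scheme.{u}} (sB : B ⟶ S) (sX : X ⟶ S) (t : T ⟶ B) :
    pullback (t ≫ sB) sX ⟶ pullback sB sX :=
  pullback.map (t ≫ sB) sX sB sX t (𝟙 X) (𝟙 S) (by simp) (by simp)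

/-- the pullback square of spectra of a tensor product over a field -/
theorem isPullback_tensor (k R A : Type u) [Field k] [CommRing R] [CommRing A] [Algebra k R]
    [Algebra k A] (sR : Spec (.of R) ⟶ Spec (.of k)) (sA : Spec (.of A) ⟶ Spec (.of k))
    (hR : Spec.map (CommRingCat.ofHom (algebraMap k R)) = sR)
    (hA : Spec.map (CommRingCat.ofHom (algebraMap k A)) = sA) :
    IsPullback
      (Spec.map (CommRingCat.ofHom (S := R ⊗[k] A) Algebra.TensorProduct.includeLeftRingHom))
      (Spec.map (CommRingCat.ofHom (S := R ⊗[k] A) Algebra.TensorProduct.includeRight.toRingHom))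
      sR sA := by
  have h := isPullback_SpecMap_of_isPushout _ _ _ _ (CommRingCat.isPushout_tensorProduct k R A)
  rw [hR, hA] at h
  exact h

/-- **Affine core**: for `a b : Spec R ×ₖ Spec A ⟶ Y` with `Y` separated over the field `k`, the
ring maps `ψ : R → R'` over which `a` and `b` agree are exactly those killing an ideal of `R`. -/
theorem affine_core (k : Type u) [Field k] (R A : CommRingCat.{u})
    (sR : Spec R ⟶ Spec (.of k)) (sA : Spec A ⟶ Spec (.of k))
    {Y : Scheme.{u}} (q : Y ⟶ Spec (.of k)) [IsSeparated q]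
    (a b : pullback sR sA ⟶ Y) (hab : a ≫ q = b ≫ q) :
    ∃ c : Ideal R, ∀ (R' : CommRingCat.{u}) (ψ : R ⟶ R'),
      (wh sR sA (Spec.map ψ) ≫ a = wh sR sA (Spec.map ψ) ≫ b) ↔ c ≤ RingHom.ker ψ.hom := by
  let algR : Algebra k R := (Spec.preimage sR).hom.toAlgebra
  let algA : Algebra k A := (Spec.preimage sA).hom.toAlgebra
  have hR : Spec.map (CommRingCat.ofHom (algebraMap k R)) = sR := Spec.map_preimage sR
  have hA : Spec.map (CommRingCat.ofHom (algebraMap k A)) = sA := Spec.map_preimage sA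
  have hP := isPullback_tensor k R A sR sA hR hA
  obtain ⟨I, hI⟩ := exists_ideal_equalizer q (hP.isoPullback.hom ≫ a) (hP.isoPullback.hom ≫ b)
    (by rw [Category.assoc, Category.assoc, hab])
  refine ⟨coeffIdeal I, fun R' ψ => ?_⟩
  let algR' : Algebra k R' := (ψ.hom.comp (algebraMap k R)).toAlgebra
  let ψ' : R →ₐ[k] R' := { ψ.hom with commutes' := fun _ => rfl }
  have hR' : Spec.map (CommRingCat.ofHom (algebraMap k R')) = Spec.map ψ ≫ sR := by
    rw [← hR, ← Spec.map_comp]
    rfl
  have hP' := isPullback_tensor k R' A (Spec.map ψ ≫ sR) sA hR' hA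
  let χ : CommRingCat.of (R ⊗[k] A) ⟶ CommRingCat.of (R' ⊗[k] A) :=
    CommRingCat.ofHom (Algebra.TensorProduct.map ψ' (AlgHom.id k A)).toRingHom
  have hsq : hP'.isoPullback.hom ≫ wh sR sA (Spec.map ψ) = Spec.map χ ≫ hP.isoPullback.hom := by
    apply pullback.hom_ext
    · simp only [wh, Category.assoc, pullback.lift_fst, IsPullback.isoPullback_hom_fst,
        IsPullback.isoPullback_hom_fst_assoc, ← Spec.map_comp]
      congr 1
      try (ext x; simp [χ, ψ'])
    · simp only [wh, Category.assoc, pullback.lift_snd, IsPullback.isoPullback_hom_snd,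
        IsPullback.isoPullback_hom_snd_assoc, Category.comp_id, ← Spec.map_comp]
      congr 1
      try (ext x; simp [χ, ψ'])
  have h1 : (wh sR sA (Spec.map ψ) ≫ a = wh sR sA (Spec.map ψ) ≫ b) ↔
      Spec.map χ ≫ hP.isoPullback.hom ≫ a = Spec.map χ ≫ hP.isoPullback.hom ≫ b := by
    rw [← cancel_epi hP'.isoPullback.hom, ← Category.assoc, ← Category.assoc, hsq,
      Category.assoc, Category.assoc]
  rw [h1, hI, show RingHom.ker ψ.hom = RingHom.ker ψ' from rfl, coeffIdeal_le_ker_iff I ψ']
  constructor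
  · intro h x hx
    exact h hx
  · intro h x hx
    exact h x hx

end Groth.Agent.Lib.Helper70.WeilB
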