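import Mathlib
import Groth.Agent.Lib.Helper70.WeilB

/-!
# The locus where two morphisms on a product agree: globalisation (helper70)

`k` a field, `B`, `X`, `Y` schemes over `k` with `Y` separated, `a b : B ×ₖ X ⟶ Y` over `k`.
`YGood t` says that `a` and `b` agree after base change along `t : T ⟶ B`, in functor-of-points
form.  We show that the `t` which are good are exactly those factoring through a closed subscheme
of `B`.
-/

set_option autoImplicit false
universe u
open CategoryTheory Limits AlgebraicGeometry TensorProduct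

namespace Groth.Agent.Lib.Helper70.WeilC

open Groth.Agent.Lib.Helper70.WeilB

section

variable {B X Y S : Scheme.{u}} (sB : B ⟶ S) (sX : X ⟶ S) (a b : pullback sB sX ⟶ Y)

/-- `a` and `b` agree on all points `(w ≫ t, x)` of `B ×ₛ X`. -/
def YGood {T : Scheme.{u}} (t : T ⟶ B) : Prop :=
  ∀ (W : Scheme.{u}) (w : W ⟶ T) (x : W ⟶ X) (hw : (w ≫ t) ≫ sB = x ≫ sX),
    pullback.lift (w ≫ t) x hw ≫ a = pullback.lift (w ≫ t) x hw ≫ b

/-- the same with `x` restricted to factor through `v : V ⟶ X`. -/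
def YGoodOn {V : Scheme.{u}} (v : V ⟶ X) {T : Scheme.{u}} (t : T ⟶ B) : Prop :=
  ∀ (W : Scheme.{u}) (w : W ⟶ T) (x : W ⟶ V) (hw : (w ≫ t) ≫ sB = (x ≫ v) ≫ sX),
    pullback.lift (w ≫ t) (x ≫ v) hw ≫ a = pullback.lift (w ≫ t) (x ≫ v) hw ≫ b

variable {sB sX a b}

theorem YGood.comp {T T' : Scheme.{u}} {t : T ⟶ B} (h : YGood sB sX a b t) (g : T' ⟶ T) :
    YGood sB sX a b (g ≫ t) := by
  intro W w x hw
  have := h W (w ≫ g) x (by simpa using hw)
  simpa using this

theorem YGoodOn.comp {V : Scheme.{u}} {v : V ⟶ X} {T T' : Scheme.{u}} {t : T ⟶ B}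
    (h : YGoodOn sB sX a b v t) (g : T' ⟶ T) :
    YGoodOn sB sX a b v (g ≫ t) := by
  intro W w x hw
  have := h W (w ≫ g) x (by simpa using hw)
  simpa using this

/-- `YGood` is local on the parameter scheme. -/
theorem YGood.of_openCover {T : Scheme.{u}} (t : T ⟶ B) (𝒰 : T.OpenCover)
    (h : ∀ i, YGood sB sX a b (𝒰.f i ≫ t)) : YGood sB sX a b t := by
  intro W w x hw
  apply Scheme.Cover.hom_ext (𝒰.pullback₁ w)
  intro (i : 𝒰.I₀)
  change pullback.fst w (𝒰.f i) ≫ _ = pullback.fst w (𝒰.f i) ≫ _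
  have hc : pullback.fst w (𝒰.f i) ≫ w = pullback.snd w (𝒰.f i) ≫ 𝒰.f i := pullback.condition
  have hw' : (pullback.snd w (𝒰.f i) ≫ 𝒰.f i ≫ t) ≫ sB = (pullback.fst w (𝒰.f i) ≫ x) ≫ sX := by
    rw [← Category.assoc (pullback.snd _ _), ← hc]
    simp only [Category.assoc] at hw ⊢
    rw [hw]
  have key : pullback.fst w (𝒰.f i) ≫ pullback.lift (w ≫ t) x hw =
      pullback.lift (pullback.snd w (𝒰.f i) ≫ 𝒰.f i ≫ t) (pullback.fst w (𝒰.f i) ≫ x) hw' := by
    apply pullback.hom_ext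
    · rw [Category.assoc, pullback.lift_fst, pullback.lift_fst, ← Category.assoc, hc,
        Category.assoc]
    · rw [Category.assoc, pullback.lift_snd, pullback.lift_snd]
  rw [← Category.assoc, ← Category.assoc, key]
  exact h i _ (pullback.snd w (𝒰.f i)) (pullback.fst w (𝒰.f i) ≫ x) hw'

theorem YGood.goodOn {V : Scheme.{u}} (v : V ⟶ X) {T : Scheme.{u}} {t : T ⟶ B}
    (h : YGood sB sX a b t) : YGoodOn sB sX a b v t :=
  fun W w x hw => h W w (x ≫ v) hw

/-- `YGood` is local on the other factor. -/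
theorem YGood.of_openCover_right {T : Scheme.{u}} (t : T ⟶ B) (𝒱 : X.OpenCover)
    (h : ∀ i, YGoodOn sB sX a b (𝒱.f i) t) : YGood sB sX a b t := by
  intro W w x hw
  apply Scheme.Cover.hom_ext (𝒱.pullback₁ x)
  intro (i : 𝒱.I₀)
  change pullback.fst x (𝒱.f i) ≫ _ = pullback.fst x (𝒱.f i) ≫ _
  have hc : pullback.fst x (𝒱.f i) ≫ x = pullback.snd x (𝒱.f i) ≫ 𝒱.f i := pullback.condition
  have hw' : ((pullback.fst x (𝒱.f i) ≫ w) ≫ t) ≫ sB = (pullback.snd x (𝒱.f i) ≫ 𝒱.f i) ≫ sX := by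
    rw [← hc]
    simp only [Category.assoc] at hw ⊢
    rw [hw]
  have key : pullback.fst x (𝒱.f i) ≫ pullback.lift (w ≫ t) x hw =
      pullback.lift ((pullback.fst x (𝒱.f i) ≫ w) ≫ t) (pullback.snd x (𝒱.f i) ≫ 𝒱.f i) hw' := by
    apply pullback.hom_ext
    · rw [Category.assoc, pullback.lift_fst, pullback.lift_fst, Category.assoc]
    · rw [Category.assoc, pullback.lift_snd, pullback.lift_snd, hc]
  rw [← Category.assoc, ← Category.assoc, key]
  exact h i _ (pullback.fst x (𝒱.f i) ≫ w) (pullback.snd x (𝒱.f i)) hw'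

end

section Field

variable (k : Type u) [Field k] {B X Y : Scheme.{u}} (sB : B ⟶ Spec (.of k))
  (sX : X ⟶ Spec (.of k)) (q : Y ⟶ Spec (.of k)) [IsSeparated q]
  (a b : pullback sB sX ⟶ Y) (hab : a ≫ q = b ≫ q)

include hab in
/-- affine core in functor-of-points form. -/
theorem affine_core_Y (R A : CommRingCat.{u}) (u : Spec R ⟶ B) (v : Spec A ⟶ X) :
    ∃ c : Ideal R, ∀ (R' : CommRingCat.{u}) (ψ : R ⟶ R'),
      YGoodOn sB sX a b v (Spec.map ψ ≫ u) ↔ c ≤ RingHom.ker ψ.hom := by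
  obtain ⟨sR, hsR⟩ : ∃ sR : Spec R ⟶ Spec (.of k), sR = u ≫ sB := ⟨_, rfl⟩
  obtain ⟨sA, hsA⟩ : ∃ sA : Spec A ⟶ Spec (.of k), sA = v ≫ sX := ⟨_, rfl⟩
  obtain ⟨m, hm1, hm2⟩ : ∃ m : pullback sR sA ⟶ pullback sB sX,
      m ≫ pullback.fst sB sX = pullback.fst sR sA ≫ u ∧
      m ≫ pullback.snd sB sX = pullback.snd sR sA ≫ v :=
    ⟨pullback.map sR sA sB sX u v (𝟙 _) (by simp [hsR]) (by simp [hsA]),
      pullback.lift_fst _ _ _, pullback.lift_snd _ _ _⟩
  obtain ⟨c, hc⟩ := affine_core k R A sR sA q (m ≫ a) (m ≫ b)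
    (by rw [Category.assoc, Category.assoc, hab])
  refine ⟨c, fun R' ψ => ?_⟩
  rw [← hc R' ψ]
  constructor
  · intro h
    have hw : ((pullback.fst (Spec.map ψ ≫ sR) sA) ≫ Spec.map ψ ≫ u) ≫ sB =
        (pullback.snd (Spec.map ψ ≫ sR) sA ≫ v) ≫ sX := by
      have := pullback.condition (f := Spec.map ψ ≫ sR) (g := sA)
      simp only [Category.assoc, hsR, hsA] at this ⊢
      exact this
    have key : pullback.lift ((pullback.fst (Spec.map ψ ≫ sR) sA) ≫ Spec.map ψ ≫ u)
        (pullback.snd (Spec.map ψ ≫ sR) sA ≫ v) hw = wh sR sA (Spec.map ψ) ≫ m := by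
      apply pullback.hom_ext
      · simp only [wh, Category.assoc, pullback.lift_fst, hm1, pullback.lift_fst_assoc]
      · simp only [wh, Category.assoc, pullback.lift_snd, hm2, pullback.lift_snd_assoc,
          Category.id_comp]
    have := h _ (pullback.fst (Spec.map ψ ≫ sR) sA) (pullback.snd (Spec.map ψ ≫ sR) sA) hw
    rw [key] at this
    simpa only [Category.assoc] using this
  · intro h W w x hw
    have hw'' : w ≫ (Spec.map ψ ≫ sR) = x ≫ sA := by
      simp only [Category.assoc, hsR, hsA] at hw ⊢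
      exact hw
    have key : pullback.lift (w ≫ Spec.map ψ ≫ u) (x ≫ v) hw =
        pullback.lift w x hw'' ≫ wh sR sA (Spec.map ψ) ≫ m := by
      apply pullback.hom_ext
      · simp only [wh, Category.assoc, pullback.lift_fst, hm1, pullback.lift_fst_assoc]
      · simp only [wh, Category.assoc, pullback.lift_snd, hm2, pullback.lift_snd_assoc,
          Category.id_comp]
    rw [key]
    simp only [Category.assoc] at h ⊢
    rw [h]

end Field

end Groth.Agent.Lib.Helper70.WeilC
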