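import Mathlib
import Groth.Agent.Lib.Helper70.WeilC

/-!
# The locus where two morphisms on a product agree is a closed subscheme (helper70)
-/

set_option autoImplicit false
universe u
open CategoryTheory Limits AlgebraicGeometry TensorProduct

namespace Groth.Agent.Lib.Helper70.WeilD

open Groth.Agent.Lib.Helper70.WeilC

variable (k : Type u) [Field k] {B X Y : Scheme.{u}} (sB : B ⟶ Spec (.of k))
  (sX : X ⟶ Spec (.of k)) (q : Y ⟶ Spec (.of k)) [IsSeparated q]
  (a b : pullback sB sX ⟶ Y) (hab : a ≫ q = b ≫ q)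

/-- the coefficient ideal for an affine open `U` of `B` and a member of the affine cover of `X`. -/
noncomputable def cIdeal (U : B.affineOpens) (i : X.affineOpenCover.I₀) : Ideal Γ(B, U) :=
  (affine_core_Y k sB sX q a b hab Γ(B, U) (X.affineOpenCover.X i) U.2.fromSpec
    (X.affineOpenCover.f i)).choose

theorem cIdeal_spec (U : B.affineOpens) (i : X.affineOpenCover.I₀) (R' : CommRingCat.{u})
    (ψ : Γ(B, U) ⟶ R') :
    YGoodOn sB sX a b (X.affineOpenCover.f i) (Spec.map ψ ≫ U.2.fromSpec) ↔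
      cIdeal k sB sX q a b hab U i ≤ RingHom.ker ψ.hom :=
  (affine_core_Y k sB sX q a b hab Γ(B, U) (X.affineOpenCover.X i) U.2.fromSpec
    (X.affineOpenCover.f i)).choose_spec R' ψ

/-- the ideal of the locus of agreement on an affine open `U` of `B`. -/
noncomputable def J (U : B.affineOpens) : Ideal Γ(B, U) :=
  ⨆ i, cIdeal k sB sX q a b hab U i

theorem J_spec (U : B.affineOpens) (R' : CommRingCat.{u}) (ψ : Γ(B, U) ⟶ R') :
    YGood sB sX a b (Spec.map ψ ≫ U.2.fromSpec) ↔ J k sB sX q a b hab U ≤ RingHom.ker ψ.hom := by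
  constructor
  · intro h
    refine iSup_le fun i => ?_
    exact (cIdeal_spec k sB sX q a b hab U i R' ψ).mp (h.goodOn _)
  · intro h
    refine YGood.of_openCover_right _ X.affineOpenCover.openCover fun i => ?_
    exact (cIdeal_spec k sB sX q a b hab U i R' ψ).mpr ((le_iSup _ i).trans h)

omit [Field k] in
theorem ideal_eq_of_forall_ker {R : CommRingCat.{u}} (𝔞 𝔟 : Ideal R)
    (h : ∀ (R' : CommRingCat.{u}) (ψ : R ⟶ R'), 𝔞 ≤ RingHom.ker ψ.hom ↔ 𝔟 ≤ RingHom.ker ψ.hom) :
    𝔞 = 𝔟 := by
  apply le_antisymm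
  · have := (h (.of (R ⧸ 𝔟)) (CommRingCat.ofHom (Ideal.Quotient.mk 𝔟))).mpr (by simp)
    simpa using this
  · have := (h (.of (R ⧸ 𝔞)) (CommRingCat.ofHom (Ideal.Quotient.mk 𝔞))).mp (by simp)
    simpa using this

theorem J_map_basicOpen (U : B.affineOpens) (f : Γ(B, U)) :
    (J k sB sX q a b hab U).map (B.presheaf.map (homOfLE (B.basicOpen_le f)).op).hom =
      J k sB sX q a b hab (B.affineBasicOpen f) := by
  apply ideal_eq_of_forall_ker
  intro R' ψ
  have h1 := J_spec k sB sX q a b hab U R' (B.presheaf.map (homOfLE (B.basicOpen_le f)).op ≫ ψ)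
  have h2 := J_spec k sB sX q a b hab (B.affineBasicOpen f) R' ψ
  have hfs : Spec.map (B.presheaf.map (homOfLE (B.basicOpen_le f)).op) ≫ U.2.fromSpec =
      (B.affineBasicOpen f).2.fromSpec :=
    IsAffineOpen.map_fromSpec U.2 (B.affineBasicOpen f).2 (homOfLE (B.basicOpen_le f)).op
  rw [Spec.map_comp, Category.assoc, hfs] at h1
  rw [Ideal.map_le_iff_le_comap, RingHom.comap_ker]
  exact h1.symm.trans h2

/-- the ideal sheaf of the locus of agreement. -/
noncomputable def Jdata : B.IdealSheafData where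
  ideal := J k sB sX q a b hab
  map_ideal_basicOpen := J_map_basicOpen k sB sX q a b hab

theorem yGood_subschemeι :
    YGood sB sX a b (Jdata k sB sX q a b hab).subschemeι := by
  refine YGood.of_openCover _ (Jdata k sB sX q a b hab).subschemeCover.openCover fun U => ?_
  have h1 : (Jdata k sB sX q a b hab).subschemeCover.openCover.f U ≫
      (Jdata k sB sX q a b hab).subschemeι =
      Spec.map (CommRingCat.ofHom (Ideal.Quotient.mk (J k sB sX q a b hab U))) ≫ U.2.fromSpec := by
    have h2 := (Jdata k sB sX q a b hab).subschemeCover_map_subschemeι U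
    rw [Scheme.IdealSheafData.glueDataObjι_ι] at h2
    exact h2
  rw [h1]
  refine (J_spec k sB sX q a b hab U _ _).mpr ?_
  simp

theorem le_ker_of_yGood {T : Scheme.{u}} (t : T ⟶ B) (h : YGood sB sX a b t) :
    Jdata k sB sX q a b hab ≤ t.ker := by
  refine Scheme.IdealSheafData.le_ofIdeals_iff.mpr fun U x hx => ?_
  rw [RingHom.mem_ker]
  apply T.IsSheaf.section_ext
  intro y hy
  obtain ⟨_, ⟨W, hW, rfl⟩, hyW, hWU⟩ :=
    T.isBasis_affineOpens.exists_subset_of_mem_open hy (t ⁻¹ᵁ U.1).isOpen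
  refine ⟨W, hWU, hyW, ?_⟩
  rw [map_zero]
  have h3 : YGood sB sX a b (Spec.map (t.appLE U.1 W hWU) ≫ U.2.fromSpec) := by
    rw [IsAffineOpen.SpecMap_appLE_fromSpec t U.2 hW hWU]
    exact h.comp _
  have h4 := (J_spec k sB sX q a b hab U _ _).mp h3 hx
  rw [RingHom.mem_ker] at h4
  rw [← h4, Scheme.Hom.appLE]
  rfl

/-- **Main theorem**: `t : T ⟶ B` factors through the closed subscheme `Jdata.subscheme` iff
`a` and `b` agree after base change along `t`. -/
theorem factors_iff_yGood {T : Scheme.{u}} (t : T ⟶ B) :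
    (∃ l : T ⟶ (Jdata k sB sX q a b hab).subscheme,
      l ≫ (Jdata k sB sX q a b hab).subschemeι = t) ↔ YGood sB sX a b t := by
  constructor
  · rintro ⟨l, rfl⟩
    exact (yGood_subschemeι k sB sX q a b hab).comp l
  · intro h
    have hle : (Jdata k sB sX q a b hab).subschemeι.ker ≤ t.ker := by
      rw [Scheme.IdealSheafData.ker_subschemeι]
      exact le_ker_of_yGood k sB sX q a b hab t h
    exact ⟨IsClosedImmersion.lift _ t hle, IsClosedImmersion.lift_fac _ _ _⟩

end Groth.Agent.Lib.Helper70.WeilD
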