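import Mathlib
import Groth.Agent.Lib.Helper70.WeilD

/-!
# The locus where two morphisms on a product agree: `Over` form (helper70)
-/

set_option autoImplicit false
universe u
open CategoryTheory Limits AlgebraicGeometry MonoidalCategory CartesianMonoidalCategory

namespace Groth.Agent.Lib.Helper70.WeilE

open Groth.Agent.Lib.Helper70.WeilC Groth.Agent.Lib.Helper70.WeilD

/-- Over a field `k`: for `a b : B ⊗ X ⟶ Y` with `Y` separated, the points `t` of `B` over which
`a` and `b` agree are exactly those factoring through a closed subscheme of `B`. -/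
theorem exists_closed_locus (k : Type u) [Field k] (Bo Xo Yo : Over (Spec (CommRingCat.of k)))
    [IsSeparated Yo.hom] (a b : Bo ⊗ Xo ⟶ Yo) :
    ∃ (Z : Over (Spec (CommRingCat.of k))) (j : Z ⟶ Bo), IsClosedImmersion j.left ∧
      ∀ (T : Over (Spec (CommRingCat.of k))) (t : T ⟶ Bo), (∃ z : T ⟶ Z, z ≫ j = t) ↔
        ∀ (W : Over (Spec (CommRingCat.of k))) (w : W ⟶ T) (x : W ⟶ Xo),
          lift (w ≫ t) x ≫ a = lift (w ≫ t) x ≫ b := by
  have hab : (a.left : pullback Bo.hom Xo.hom ⟶ Yo.left) ≫ Yo.hom = b.left ≫ Yo.hom := by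
    rw [Over.w a, Over.w b]
  let I := Jdata k Bo.hom Xo.hom Yo.hom a.left b.left hab
  refine ⟨Over.mk (I.subschemeι ≫ Bo.hom), Over.homMk I.subschemeι rfl,
    (inferInstance : IsClosedImmersion I.subschemeι), fun T t => ?_⟩
  have hmain := factors_iff_yGood k Bo.hom Xo.hom Yo.hom a.left b.left hab t.left
  constructor
  · rintro ⟨z, rfl⟩ W w x
    have h1 := hmain.mp ⟨z.left, rfl⟩
    ext1
    have hw : (w.left ≫ (z ≫ Over.homMk I.subschemeι rfl).left) ≫ Bo.hom = x.left ≫ Xo.hom := by
      rw [← Over.comp_left, Over.w, Over.w]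
    exact h1 W.left w.left x.left hw
  · intro h
    have h1 : YGood Bo.hom Xo.hom a.left b.left t.left := by
      intro W w x hw
      have hx : x ≫ Xo.hom = w ≫ T.hom := by
        rw [← hw, Category.assoc, Over.w t]
      let Wo : Over (Spec (CommRingCat.of k)) := Over.mk (w ≫ T.hom)
      let wo : Wo ⟶ T := Over.homMk w rfl
      let xo : Wo ⟶ Xo := Over.homMk x hx
      have := congrArg (fun m => m.left) (h Wo wo xo)
      exact this
    obtain ⟨l, hl⟩ := hmain.mpr h1
    refine ⟨Over.homMk l ?_, ?_⟩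
    · show l ≫ I.subschemeι ≫ Bo.hom = T.hom
      rw [← Category.assoc, hl, Over.w t]
    · ext1
      exact hl

end Groth.Agent.Lib.Helper70.WeilE
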