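import Mathlib
import Groth.Agent.Lib.Helper70.WeilE
import Groth.Agent.S5331

/-!
# Applications of the closed locus of agreement: fixed loci, transporters, centres (helper70)
-/

set_option autoImplicit false
universe u
open CategoryTheory Limits AlgebraicGeometry MonoidalCategory CartesianMonoidalCategory MonObj

namespace Groth.Agent.Lib.Helper70.WeilF

open Groth.Agent.Lib.Helper70.WeilE

variable (k : Type u) [Field k]

/-- fixed locus of an arbitrary morphism `a : Y ⊗ X ⟶ X`, functor-of-points form. -/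
theorem exists_fixedLocus (X Y : Over (Spec (CommRingCat.of k))) [IsSeparated X.hom]
    (a : Y ⊗ X ⟶ X) :
    ∃ (Z : Over (Spec (CommRingCat.of k))) (j : Z ⟶ X), IsClosedImmersion j.left ∧
      ∀ (T : Over (Spec (CommRingCat.of k))) (x : T ⟶ X), (∃ z : T ⟶ Z, z ≫ j = x) ↔
        ∀ (W : Over (Spec (CommRingCat.of k))) (w : W ⟶ T) (y : W ⟶ Y),
          lift y (w ≫ x) ≫ a = w ≫ x := by
  obtain ⟨Z, j, hj, hZ⟩ := exists_closed_locus k X Y X ((β_ X Y).hom ≫ a) (fst X Y)
  refine ⟨Z, j, hj, fun T x => ?_⟩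
  rw [hZ T x]
  have key : ∀ (W : Over (Spec (CommRingCat.of k))) (w : W ⟶ T) (y : W ⟶ Y),
      (lift (w ≫ x) y ≫ (β_ X Y).hom ≫ a = lift (w ≫ x) y ≫ fst X Y) ↔
        lift y (w ≫ x) ≫ a = w ≫ x := by
    intro W w y
    have h1 : lift (w ≫ x) y ≫ (β_ X Y).hom = lift y (w ≫ x) := by
      ext <;> simp
    rw [← Category.assoc, h1, lift_fst]
  constructor
  · intro h W w y
    exact (key W w y).mp (h W w y)
  · intro h W w y
    exact (key W w y).mpr (h W w y)

/-- the whiskered form of the fixed point condition. -/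
theorem whisker_iff (X Y : Over (Spec (CommRingCat.of k))) (a : Y ⊗ X ⟶ X)
    (T : Over (Spec (CommRingCat.of k))) (x : T ⟶ X) :
    ((Y ◁ x) ≫ a = snd Y T ≫ x) ↔
      ∀ (W : Over (Spec (CommRingCat.of k))) (w : W ⟶ T) (y : W ⟶ Y),
        lift y (w ≫ x) ≫ a = w ≫ x := by
  constructor
  · intro h W w y
    have h1 : lift y (w ≫ x) = lift y w ≫ (Y ◁ x) := by
      ext <;> simp
    rw [h1, Category.assoc, h, ← Category.assoc, lift_snd]
  · intro h
    have h1 := h (Y ⊗ T) (snd Y T) (fst Y T)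
    have h2 : lift (fst Y T) (snd Y T ≫ x) = Y ◁ x := by
      ext <;> simp
    rw [h2] at h1
    exact h1

theorem isSeparated_grpObj (G : Over (Spec (CommRingCat.of k))) [GrpObj G] : IsSeparated G.hom :=
  have : DiscreteTopology ↥(Spec (CommRingCat.of k)) := inferInstance
  Groth.Agent.S5331.result (Spec (CommRingCat.of k)) G

/-- the transporter of `u` into `v` is a closed subscheme. -/
theorem exists_transporter (G X : Over (Spec (CommRingCat.of k))) [GrpObj G] (u v : X ⟶ G) :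
    ∃ (T : Over (Spec (CommRingCat.of k))) (t : T ⟶ G), IsClosedImmersion t.left ∧
      ∀ (S' : Over (Spec (CommRingCat.of k))) (g : S' ⟶ G), (∃ z : S' ⟶ T, z ≫ t = g) ↔
        ∀ (S'' : Over (Spec (CommRingCat.of k))) (s : S'' ⟶ S') (x : S'' ⟶ X),
          (s ≫ g) * (x ≫ u) * (s ≫ g)⁻¹ = x ≫ v := by
  have hsep : IsSeparated G.hom := isSeparated_grpObj k G
  obtain ⟨Z, j, hj, hZ⟩ := exists_closed_locus k G X G
    (fst G X * (snd G X ≫ u) * (fst G X)⁻¹) (snd G X ≫ v)
  refine ⟨Z, j, hj, fun S' g => ?_⟩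
  rw [hZ S' g]
  have key : ∀ (W : Over (Spec (CommRingCat.of k))) (w : W ⟶ S') (x : W ⟶ X),
      (lift (w ≫ g) x ≫ (fst G X * (snd G X ≫ u) * (fst G X)⁻¹) =
        lift (w ≫ g) x ≫ snd G X ≫ v) ↔ (w ≫ g) * (x ≫ u) * (w ≫ g)⁻¹ = x ≫ v := by
    intro W w x
    rw [MonObj.comp_mul, MonObj.comp_mul, GrpObj.comp_inv, lift_fst, lift_snd_assoc,
      lift_snd_assoc]
  constructor
  · intro h W w x
    exact (key W w x).mp (h W w x)
  · intro h W w x
    exact (key W w x).mpr (h W w x)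

/-- the centre is a closed subscheme. -/
theorem exists_centre (G : Over (Spec (CommRingCat.of k))) [GrpObj G] :
    ∃ (Z : Over (Spec (CommRingCat.of k))) (incl : Z ⟶ G), IsClosedImmersion incl.left ∧
      ∀ (T : Over (Spec (CommRingCat.of k))) (g : T ⟶ G), (∃ z : T ⟶ Z, z ≫ incl = g) ↔
        ∀ (T' : Over (Spec (CommRingCat.of k))) (h : T' ⟶ T) (g' : T' ⟶ G),
          (h ≫ g) * g' = g' * (h ≫ g) := by
  have hsep : IsSeparated G.hom := isSeparated_grpObj k G
  obtain ⟨Z, j, hj, hZ⟩ := exists_closed_locus k G G G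
    (fst G G * snd G G) (snd G G * fst G G)
  refine ⟨Z, j, hj, fun T g => ?_⟩
  rw [hZ T g]
  have key : ∀ (W : Over (Spec (CommRingCat.of k))) (w : W ⟶ T) (x : W ⟶ G),
      (lift (w ≫ g) x ≫ (fst G G * snd G G) = lift (w ≫ g) x ≫ (snd G G * fst G G)) ↔
        (w ≫ g) * x = x * (w ≫ g) := by
    intro W w x
    rw [MonObj.comp_mul, MonObj.comp_mul, lift_fst, lift_snd]
  constructor
  · intro h W w x
    exact (key W w x).mp (h W w x)
  · intro h W w x
    exact (key W w x).mpr (h W w x)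

end Groth.Agent.Lib.Helper70.WeilF
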