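import Mathlib

/-!
# Constructible sets near a point of their closure (helper70)

For a constructible set `s` and a point `z`, either `s` or its complement contains a relatively
open neighbourhood of `z` in `closure {z}`.
-/

set_option autoImplicit false

open Set Topology

namespace Groth.Agent.Lib.Helper70.LangTop

variable {X : Type*} [TopologicalSpace X]

theorem exists_open_inter_closure {s : Set X} (hs : IsConstructible s) (z : X) :
    (z ∈ s → ∃ U : Set X, IsOpen U ∧ z ∈ U ∧ U ∩ closure {z} ⊆ s) ∧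
    (z ∉ s → ∃ U : Set X, IsOpen U ∧ z ∈ U ∧ U ∩ closure {z} ⊆ sᶜ) := by
  induction hs using IsConstructible.empty_union_induction with
  | open_retrocompact U hUopen hUcomp =>
    refine ⟨fun hz => ⟨U, hUopen, hz, inter_subset_left⟩, fun hz => ⟨univ, isOpen_univ, trivial, ?_⟩⟩
    rw [univ_inter]
    exact closure_minimal (singleton_subset_iff.mpr hz) hUopen.isClosed_compl
  | union s hs t ht hs' ht' =>
    refine ⟨fun hz => ?_, fun hz => ?_⟩
    · rcases hz with hz | hz
      · obtain ⟨U, hU, hzU, hsub⟩ := hs'.1 hz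
        exact ⟨U, hU, hzU, hsub.trans subset_union_left⟩
      · obtain ⟨U, hU, hzU, hsub⟩ := ht'.1 hz
        exact ⟨U, hU, hzU, hsub.trans subset_union_right⟩
    · have hzs : z ∉ s := fun h => hz (Or.inl h)
      have hzt : z ∉ t := fun h => hz (Or.inr h)
      obtain ⟨U, hU, hzU, hsub⟩ := hs'.2 hzs
      obtain ⟨V, hV, hzV, hsub'⟩ := ht'.2 hzt
      refine ⟨U ∩ V, hU.inter hV, ⟨hzU, hzV⟩, ?_⟩
      rintro x ⟨⟨hxU, hxV⟩, hxc⟩
      rw [compl_union]
      exact ⟨hsub ⟨hxU, hxc⟩, hsub' ⟨hxV, hxc⟩⟩
  | compl s hs hs' =>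
    refine ⟨fun hz => hs'.2 hz, fun hz => ?_⟩
    rw [compl_compl]
    exact hs'.1 (not_not.mp hz)

/-- a constructible set containing a dense point contains a non-empty open set. -/
theorem exists_open_subset_of_dense {s : Set X} (hs : IsConstructible s) (z : X) (hz : z ∈ s)
    (hd : closure {z} = univ) : ∃ U : Set X, IsOpen U ∧ z ∈ U ∧ U ⊆ s := by
  obtain ⟨U, hU, hzU, hsub⟩ := (exists_open_inter_closure hs z).1 hz
  rw [hd, inter_univ] at hsub
  exact ⟨U, hU, hzU, hsub⟩

/-- in a Jacobson space a constructible set containing all closed points is everything. -/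
theorem eq_univ_of_closedPoints_subset [JacobsonSpace X] {s : Set X} (hs : IsConstructible s)
    (h : closedPoints X ⊆ s) : s = univ := by
  rw [eq_univ_iff_forall]
  intro z
  by_contra hz
  obtain ⟨U, hU, hzU, hsub⟩ := (exists_open_inter_closure hs z).2 hz
  have hlc : IsLocallyClosed (U ∩ closure {z}) := hU.isLocallyClosed.inter isClosed_closure.isLocallyClosed
  have hne : (U ∩ closure {z}).Nonempty := ⟨z, hzU, subset_closure rfl⟩
  obtain ⟨y, hy, hyc⟩ := nonempty_inter_closedPoints hne hlc
  exact hsub hy (h hyc)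

end Groth.Agent.Lib.Helper70.LangTop
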