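import Mathlib

/-!
# The rank of the ring of functions of a scheme over a field: clopen pieces and exhaustion by
quasi-compact opens (helper70)
-/

set_option autoImplicit false

namespace Groth.Agent.Lib.Helper70.FibRkA

universe u

open AlgebraicGeometry CategoryTheory Limits TopologicalSpace

/-- the rank of a ring over a field along a ring homomorphism. -/
noncomputable def rkOf {K : Type u} [Field K] {R : Type u} [CommRing R] (ψ : K →+* R) :
    Cardinal.{u} :=
  letI := ψ.toAlgebra
  Module.rank K R

section Alg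

variable {K : Type u} [Field K] {R R' : Type u} [CommRing R] [CommRing R']

theorem rkOf_comp_le (ψ : K →+* R) (ρ : R →+* R') (hρ : Function.Surjective ρ) :
    rkOf (ρ.comp ψ) ≤ rkOf ψ := by
  unfold rkOf
  letI := ψ.toAlgebra
  letI := (ρ.comp ψ).toAlgebra
  let l : R →ₗ[K] R' :=
    { toFun := ρ
      map_add' := map_add ρ
      map_smul' := by
        intro c x
        simp only [Algebra.smul_def, RingHom.algebraMap_toAlgebra, map_mul, RingHom.id_apply]
        rfl }
  exact LinearMap.rank_le_of_surjective l hρ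

theorem rkOf_comp_eq (ψ : K →+* R) (ρ : R →+* R') (hρ : Function.Bijective ρ) :
    rkOf (ρ.comp ψ) = rkOf ψ := by
  apply le_antisymm (rkOf_comp_le ψ ρ hρ.2)
  let e : R ≃+* R' := RingEquiv.ofBijective ρ hρ
  have h1 := rkOf_comp_le (ρ.comp ψ) e.symm.toRingHom e.symm.surjective
  have h2 : e.symm.toRingHom.comp (ρ.comp ψ) = ψ := by
    ext c
    exact e.symm_apply_apply (ψ c)
  rwa [h2] at h1

theorem le_rkOf_iff (ψ : K →+* R) (d : ℕ) :
    (d : Cardinal.{u}) ≤ rkOf ψ ↔
      ∃ v : Fin d → R, ∀ c : Fin d → K, ∑ i, ψ (c i) * v i = 0 → c = 0 := by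
  unfold rkOf
  letI := ψ.toAlgebra
  rw [Module.le_rank_iff]
  constructor
  · rintro ⟨v, hv⟩
    refine ⟨v, fun c hc => ?_⟩
    rw [Fintype.linearIndependent_iff] at hv
    funext i
    apply hv c _ i
    simpa only [Algebra.smul_def, RingHom.algebraMap_toAlgebra] using hc
  · rintro ⟨v, hv⟩
    refine ⟨v, ?_⟩
    rw [Fintype.linearIndependent_iff]
    intro c hc i
    have := hv c (by simpa only [Algebra.smul_def, RingHom.algebraMap_toAlgebra] using hc)
    rw [this]
    rfl

end Alg

section Sheaf

variable {Y : Scheme.{u}}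

/-- restriction to an open subset which is closed is surjective. -/
theorem restrict_surjective_of_isClosed (V₁ V₂ : Y.Opens) (h : V₁ ≤ V₂)
    (hcl : IsClosed (V₁ : Set Y)) :
    Function.Surjective (Y.presheaf.map (homOfLE h).op).hom := by
  intro t
  let W : Bool → Y.Opens := fun b => if b then V₁ else V₂ ⊓ ⟨(V₁ : Set Y)ᶜ, hcl.isOpen_compl⟩
  have hWle : ∀ b, W b ≤ V₂ := by
    intro b
    rcases b with _ | _
    · exact inf_le_left
    · exact h
  have hdisj : ∀ i j, i ≠ j → W i ⊓ W j = ⊥ := by
    intro i j hij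
    apply TopologicalSpace.Opens.ext
    rcases i with _ | _ <;> rcases j with _ | _
    · exact absurd rfl hij
    · ext y
      constructor
      · rintro ⟨⟨_, hy1⟩, hy2⟩
        exact hy1 hy2
      · intro hy
        exact absurd hy (Set.notMem_empty y)
    · ext y
      constructor
      · rintro ⟨hy2, _, hy1⟩
        exact hy1 hy2
      · intro hy
        exact absurd hy (Set.notMem_empty y)
    · exact absurd rfl hij
  let sf : ∀ b : Bool, Γ(Y, W b) := fun b =>
    match b with
    | true => t
    | false => 0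
  have hcompat : TopCat.Presheaf.IsCompatible Y.presheaf W sf := by
    intro i j
    by_cases hij : i = j
    · subst hij
      rfl
    · have : Subsingleton Γ(Y, W i ⊓ W j) := by
        rw [hdisj i j hij]; infer_instance
      exact Subsingleton.elim _ _
  have hcov : V₂ ≤ ⨆ b, W b := by
    intro x hx
    by_cases hx1 : x ∈ V₁
    · exact TopologicalSpace.Opens.mem_iSup.mpr ⟨true, hx1⟩
    · exact TopologicalSpace.Opens.mem_iSup.mpr ⟨false, hx, hx1⟩
  obtain ⟨e0, he, -⟩ := Y.sheaf.existsUnique_gluing' W V₂ (fun b => homOfLE (hWle b)) hcov sf hcompat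
  exact ⟨e0, he true⟩

/-- a section vanishing on all affine opens vanishes. -/
theorem eq_zero_of_forall_affine (t : Γ(Y, ⊤))
    (h : ∀ W : Y.affineOpens, (Y.presheaf.map (homOfLE (le_top : W.1 ≤ ⊤)).op).hom t = 0) :
    t = 0 := by
  apply Y.sheaf.eq_of_locally_eq' (fun W : Y.affineOpens => W.1) ⊤ (fun W => homOfLE le_top)
  · rw [iSup_affineOpens_eq_top]
  · intro W
    exact (h W).trans (map_zero _).symm

end Sheaf

end Groth.Agent.Lib.Helper70.FibRkA
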