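import Mathlib
import Groth.Agent.Lib.Helper70.FibRkA

/-!
# Exhaustion of the rank of the ring of global functions by quasi-compact opens (helper70)
-/

set_option autoImplicit false

namespace Groth.Agent.Lib.Helper70.FibRkB

universe u

open AlgebraicGeometry CategoryTheory Limits TopologicalSpace
open Groth.Agent.Lib.Helper70.FibRkA

variable {Y : Scheme.{u}} {K : Type u} [Field K]

/-- restriction from the whole scheme to an open. -/
noncomputable abbrev res (V : Y.Opens) : Γ(Y, ⊤) →+* Γ(Y, V) :=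
  (Y.presheaf.map (homOfLE (le_top : V ≤ ⊤)).op).hom

theorem res_res {V W : Y.Opens} (h : W ≤ V) (t : Γ(Y, ⊤)) :
    (Y.presheaf.map (homOfLE h).op).hom (res V t) = res W t := by
  change (Y.presheaf.map (homOfLE le_top).op ≫ Y.presheaf.map (homOfLE h).op).hom t = _
  rw [← Functor.map_comp]
  rfl

theorem res_eq_zero_of_le {V W : Y.Opens} (h : W ≤ V) (t : Γ(Y, ⊤)) (ht : res V t = 0) :
    res W t = 0 := by
  rw [← res_res h, ht, map_zero]

/-- the relations among the restrictions of `v` to `V`. -/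
noncomputable def rel (ψ : K →+* Γ(Y, ⊤)) {d : ℕ} (v : Fin d → Γ(Y, ⊤)) (V : Y.Opens) :
    Submodule K (Fin d → K) where
  carrier := {c | res V (∑ i, ψ (c i) * v i) = 0}
  add_mem' := by
    intro a b ha hb
    simp only [Set.mem_ofPred_eq] at ha hb ⊢
    have : ∑ i, ψ ((a + b) i) * v i = ∑ i, ψ (a i) * v i + ∑ i, ψ (b i) * v i := by
      rw [← Finset.sum_add_distrib]
      refine Finset.sum_congr rfl fun i _ => ?_
      rw [Pi.add_apply, map_add, add_mul]
    rw [this, map_add, ha, hb, add_zero]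
  zero_mem' := by
    simp only [Set.mem_ofPred_eq, Pi.zero_apply, map_zero, zero_mul, Finset.sum_const_zero]
  smul_mem' := by
    intro a c hc
    simp only [Set.mem_ofPred_eq] at hc ⊢
    have : ∑ i, ψ ((a • c) i) * v i = ψ a * ∑ i, ψ (c i) * v i := by
      rw [Finset.mul_sum]
      refine Finset.sum_congr rfl fun i _ => ?_
      rw [Pi.smul_apply, smul_eq_mul, map_mul, mul_assoc]
    rw [this, map_mul, hc, mul_zero]

theorem mem_rel (ψ : K →+* Γ(Y, ⊤)) {d : ℕ} (v : Fin d → Γ(Y, ⊤)) (V : Y.Opens)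
    (c : Fin d → K) : c ∈ rel ψ v V ↔ res V (∑ i, ψ (c i) * v i) = 0 := Iff.rfl

theorem rel_mono (ψ : K →+* Γ(Y, ⊤)) {d : ℕ} (v : Fin d → Γ(Y, ⊤)) {V W : Y.Opens}
    (h : W ≤ V) : rel ψ v V ≤ rel ψ v W := by
  intro c hc
  exact res_eq_zero_of_le h _ hc

/-- the key step: find a quasi-compact open on which there are no relations. -/
theorem exists_rel_eq_bot (ψ : K →+* Γ(Y, ⊤)) {d : ℕ} (v : Fin d → Γ(Y, ⊤))
    (hv : ∀ c : Fin d → K, ∑ i, ψ (c i) * v i = 0 → c = 0) :
    ∃ V : Y.Opens, IsCompact (V : Set Y) ∧ rel ψ v V = ⊥ := by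
  suffices H : ∀ n : ℕ, ∀ V : Y.Opens, IsCompact (V : Set Y) →
      Module.finrank K (rel ψ v V) = n → ∃ V : Y.Opens, IsCompact (V : Set Y) ∧ rel ψ v V = ⊥ from
    H _ ⊥ (by simp) rfl
  intro n
  induction n using Nat.strong_induction_on with
  | _ n ih =>
    intro V hV hn
    by_cases hbot : rel ψ v V = ⊥
    · exact ⟨V, hV, hbot⟩
    · obtain ⟨c, hc, hc0⟩ := (Submodule.ne_bot_iff _).mp hbot
      have hne : ∑ i, ψ (c i) * v i ≠ 0 := fun h => hc0 (hv c h)
      obtain ⟨W, hW⟩ : ∃ W : Y.affineOpens, res W.1 (∑ i, ψ (c i) * v i) ≠ 0 := by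
        by_contra hcon
        push Not at hcon
        exact hne (eq_zero_of_forall_affine _ hcon)
      have hlt : rel ψ v (V ⊔ W.1) < rel ψ v V := by
        refine lt_of_le_of_ne (rel_mono ψ v le_sup_left) fun heq => ?_
        have : c ∈ rel ψ v (V ⊔ W.1) := heq ▸ hc
        exact hW (res_eq_zero_of_le le_sup_right _ this)
      have hfl := Submodule.finrank_lt_finrank_of_lt hlt
      refine ih _ (hn ▸ hfl) (V ⊔ W.1) ?_ rfl
      rw [Opens.coe_sup]
      exact hV.union W.2.isCompact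

/-- exhaustion: if `d ≤ rank Γ(Y, ⊤)` then `d ≤ rank Γ(Y, V)` for some quasi-compact open `V`. -/
theorem exists_isCompact_le_rkOf (ψ : K →+* Γ(Y, ⊤)) (d : ℕ)
    (h : (d : Cardinal.{u}) ≤ rkOf ψ) :
    ∃ V : Y.Opens, IsCompact (V : Set Y) ∧ (d : Cardinal.{u}) ≤ rkOf ((res V).comp ψ) := by
  obtain ⟨v, hv⟩ := (le_rkOf_iff ψ d).mp h
  obtain ⟨V, hV, hbot⟩ := exists_rel_eq_bot ψ v hv
  refine ⟨V, hV, (le_rkOf_iff _ d).mpr ⟨fun i => res V (v i), fun c hc => ?_⟩⟩
  have hmem : c ∈ rel ψ v V := by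
    rw [mem_rel, map_sum]
    rw [← hc]
    refine Finset.sum_congr rfl fun i _ => ?_
    rw [map_mul]
    rfl
  rw [hbot] at hmem
  exact (Submodule.mem_bot K).mp hmem

end Groth.Agent.Lib.Helper70.FibRkB
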