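import Mathlib
import Groth.Agent.Lib.Helper70.FibRkB

/-!
# The rank of the ring of global functions of a scheme over a field (helper70)
-/

set_option autoImplicit false

namespace Groth.Agent.Lib.Helper70.FibRkC

universe u

open AlgebraicGeometry CategoryTheory Limits TopologicalSpace
open Groth.Agent.Lib.Helper70.FibRkA Groth.Agent.Lib.Helper70.FibRkB

variable {K : Type u} [Field K] {Y Y' : Scheme.{u}}

/-- the structure ring homomorphism `K → Γ(Y, ⊤)` of a scheme over `Spec K`. -/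
noncomputable def strHom (h : Y ⟶ Spec (CommRingCat.of K)) : K →+* Γ(Y, ⊤) :=
  ((Scheme.ΓSpecIso (CommRingCat.of K)).inv ≫ h.appTop).hom

/-- the rank of `Γ(Y, ⊤)` over `K`. -/
noncomputable def rkΓ (h : Y ⟶ Spec (CommRingCat.of K)) : Cardinal.{u} := rkOf (strHom h)

theorem strHom_comp (e : Y' ⟶ Y) (h : Y ⟶ Spec (CommRingCat.of K)) :
    strHom (e ≫ h) = e.appTop.hom.comp (strHom h) := by
  unfold strHom
  rw [Scheme.Hom.comp_appTop]
  rfl

theorem rkΓ_comp_iso (e : Y' ⟶ Y) [IsIso e] (h : Y ⟶ Spec (CommRingCat.of K)) :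
    rkΓ (e ≫ h) = rkΓ h := by
  unfold rkΓ
  rw [strHom_comp]
  haveI : IsIso e.appTop := inferInstanceAs (IsIso (e.app ⊤))
  exact rkOf_comp_eq _ _ (ConcreteCategory.bijective_of_isIso e.appTop)

theorem rkΓ_ι_le (h : Y ⟶ Spec (CommRingCat.of K)) (V : Y.Opens) (hV : IsClosed (V : Set Y)) :
    rkΓ (V.ι ≫ h) ≤ rkΓ h := by
  unfold rkΓ
  rw [strHom_comp]
  refine rkOf_comp_le _ _ ?_
  have : IsClosed ((V.ι ''ᵁ ⊤ : Y.Opens) : Set Y) := by rw [V.ι_image_top]; exact hV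
  exact restrict_surjective_of_isClosed (V.ι ''ᵁ ⊤) ⊤ le_top this

theorem rkΓ_ι_eq (h : Y ⟶ Spec (CommRingCat.of K)) (V : Y.Opens) :
    rkΓ (V.ι ≫ h) = rkOf ((res V).comp (strHom h)) := by
  unfold rkΓ
  rw [strHom_comp]
  have h1 : (res V).comp (strHom h) =
      V.topIso.hom.hom.comp (V.ι.appTop.hom.comp (strHom h)) := by
    rw [← RingHom.comp_assoc]
    congr 1
    have h2 : V.ι.appTop ≫ V.topIso.hom = Y.presheaf.map (homOfLE (le_top : V ≤ ⊤)).op :=
      (Y.presheaf.map_comp (homOfLE (le_top : V.ι ''ᵁ ⊤ ≤ ⊤)).op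
        (eqToHom V.ι_image_top.symm).op).symm.trans
        (congrArg Y.presheaf.map (Subsingleton.elim _ _))
    change _ = (V.ι.appTop ≫ V.topIso.hom).hom
    rw [h2]
  rw [h1]
  exact (rkOf_comp_eq _ _ (ConcreteCategory.bijective_of_isIso V.topIso.hom)).symm

/-- exhaustion by quasi-compact opens. -/
theorem exists_isCompact_le_rkΓ (h : Y ⟶ Spec (CommRingCat.of K)) (d : ℕ)
    (hd : (d : Cardinal.{u}) ≤ rkΓ h) :
    ∃ V : Y.Opens, IsCompact (V : Set Y) ∧ (d : Cardinal.{u}) ≤ rkΓ (V.ι ≫ h) := by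
  obtain ⟨V, hV, hle⟩ := exists_isCompact_le_rkOf (strHom h) d hd
  exact ⟨V, hV, by rw [rkΓ_ι_eq]; exact hle⟩

end Groth.Agent.Lib.Helper70.FibRkC
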