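import Mathlib
import Groth.Agent.Lib.Helper70.FibRkC

/-!
# Finite pieces of a locally quasi-finite scheme over a field (helper70)
-/

set_option autoImplicit false

namespace Groth.Agent.Lib.Helper70.FibRkD

universe u

open AlgebraicGeometry CategoryTheory Limits TopologicalSpace
open Groth.Agent.Lib.Helper70.FibRkA Groth.Agent.Lib.Helper70.FibRkB
open Groth.Agent.Lib.Helper70.FibRkC

variable {K : Type u} [Field K] {Y W : Scheme.{u}}

/-- for a finite scheme over a field, the rank of the ring of functions is the degree. -/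
theorem rkΓ_eq_finrank (h : W ⟶ Spec (CommRingCat.of K)) [IsFinite h]
    (t : Spec (CommRingCat.of K)) : rkΓ h = (h.finrank t : Cardinal.{u}) := by
  have : IsAffine W := isAffine_of_isAffineHom h
  let φ : CommRingCat.of K ⟶ Γ(W, ⊤) := (Scheme.ΓSpecIso (CommRingCat.of K)).inv ≫ h.appTop
  have hfac : h = W.isoSpec.hom ≫ Spec.map φ := by
    have h1 := Scheme.isoSpec_hom_naturality h
    have h2 : (Spec (CommRingCat.of K)).isoSpec.hom =
        Spec.map (Scheme.ΓSpecIso (CommRingCat.of K)).hom := Scheme.isoSpec_Spec_hom _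
    rw [h2] at h1
    simp only [φ, Spec.map_comp]
    rw [reassoc_of% h1, ← Spec.map_comp, Iso.inv_hom_id, Spec.map_id, Category.comp_id]
  have hfin : IsFinite (Spec.map φ) := by
    have h3 : IsFinite (W.isoSpec.hom ≫ Spec.map φ) := hfac ▸ ‹IsFinite h›
    exact (MorphismProperty.cancel_left_of_respectsIso @IsFinite W.isoSpec.hom _).mp h3
  have hφfin : φ.hom.Finite := (IsFinite.SpecMap_iff φ).mp hfin
  letI : Algebra K Γ(W, ⊤) := φ.hom.toAlgebra
  have hφflat : φ.hom.Flat := (inferInstance : Module.Flat K Γ(W, ⊤))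
  have hFlat : Flat (Spec.map φ) := Flat.SpecMap_iff.mpr hφflat
  have h4 : h.finrank t = (Spec.map φ).finrank t := by
    rw [hfac, Scheme.Hom.finrank_comp_left_of_isIso]
  rw [h4, Scheme.Hom.finrank_SpecMap_eq_finrank hφfin hφflat]
  have : Module.Finite K Γ(W, ⊤) := hφfin
  have h5 : φ.hom.finrank t = Module.finrank K Γ(W, ⊤) := by
    change Module.rankAtStalk (R := K) Γ(W, ⊤) t = _
    rw [Module.rankAtStalk_eq_finrank_of_free]
    rfl
  rw [h5, Module.finrank_eq_rank]
  rfl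

instance : IsLocallyArtinian (Spec (CommRingCat.of K)) :=
  Scheme.isLocallyArtinianScheme_Spec.mpr (inferInstanceAs (IsArtinianRing K))

theorem discreteTopology_of_lqf (h : Y ⟶ Spec (CommRingCat.of K)) [LocallyQuasiFinite h] :
    DiscreteTopology Y := by
  have : IsLocallyArtinian Y := IsLocallyArtinian.of_locallyQuasiFinite h
  infer_instance

/-- quasi-compact opens of a locally quasi-finite scheme over a field are finite over the field. -/
theorem isFinite_ι_comp (h : Y ⟶ Spec (CommRingCat.of K)) [LocallyQuasiFinite h] (V : Y.Opens)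
    (hV : IsCompact (V : Set Y)) : IsFinite (V.ι ≫ h) := by
  have : CompactSpace V := isCompact_iff_compactSpace.mp hV
  have : QuasiCompact (V.ι ≫ h) :=
    (HasAffineProperty.iff_of_isAffine (P := @QuasiCompact)).mpr
      (inferInstanceAs (CompactSpace V))
  exact IsFinite.of_locallyQuasiFinite _

theorem isCompact_of_isFinite (h : Y ⟶ Spec (CommRingCat.of K)) (V : Y.Opens)
    [IsFinite (V.ι ≫ h)] : IsCompact (V : Set Y) := by
  have : CompactSpace V :=
    (HasAffineProperty.iff_of_isAffine (P := @QuasiCompact)).mp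
      (inferInstance : QuasiCompact (V.ι ≫ h))
  exact isCompact_iff_compactSpace.mpr this

/-- the degree of a finite piece. -/
noncomputable def deg (h : Y ⟶ Spec (CommRingCat.of K)) (V : Y.Opens) : ℕ :=
  (V.ι ≫ h).finrank (IsLocalRing.closedPoint K)

theorem rkΓ_ι_eq_deg (h : Y ⟶ Spec (CommRingCat.of K)) (V : Y.Opens) [IsFinite (V.ι ≫ h)] :
    rkΓ (V.ι ≫ h) = (deg h V : Cardinal.{u}) :=
  rkΓ_eq_finrank _ _

/-- the rank of the ring of functions is at least `d` iff some finite piece has degree at least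
`d`. -/
theorem le_rkΓ_iff (h : Y ⟶ Spec (CommRingCat.of K)) [LocallyQuasiFinite h] (d : ℕ) :
    (d : Cardinal.{u}) ≤ rkΓ h ↔ ∃ V : Y.Opens, IsFinite (V.ι ≫ h) ∧ d ≤ deg h V := by
  have hdisc := discreteTopology_of_lqf h
  constructor
  · intro hd
    obtain ⟨V, hV, hle⟩ := exists_isCompact_le_rkΓ h d hd
    have hfin := isFinite_ι_comp h V hV
    refine ⟨V, hfin, ?_⟩
    rw [rkΓ_ι_eq_deg] at hle
    exact_mod_cast hle
  · rintro ⟨V, hfin, hle⟩
    calc (d : Cardinal.{u}) ≤ (deg h V : Cardinal.{u}) := by exact_mod_cast hle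
      _ = rkΓ (V.ι ≫ h) := (rkΓ_ι_eq_deg h V).symm
      _ ≤ rkΓ h := rkΓ_ι_le h V (isClosed_discrete _)

/-- monotonicity of the degree of finite pieces. -/
theorem deg_mono (h : Y ⟶ Spec (CommRingCat.of K)) [LocallyQuasiFinite h] {V₁ V₂ : Y.Opens}
    (hle : V₁ ≤ V₂) [IsFinite (V₁.ι ≫ h)] [IsFinite (V₂.ι ≫ h)] : deg h V₁ ≤ deg h V₂ := by
  have hdisc := discreteTopology_of_lqf h
  have h1 : rkΓ (V₁.ι ≫ h) = rkΓ ((V₂.ι ⁻¹ᵁ V₁).ι ≫ V₂.ι ≫ h) := by
    rw [← rkΓ_comp_iso (Scheme.Opens.isoOfLE hle).hom (V₁.ι ≫ h),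
      ← Category.assoc, Scheme.Opens.isoOfLE_hom_ι, Category.assoc]
  have h2 : rkΓ ((V₂.ι ⁻¹ᵁ V₁).ι ≫ V₂.ι ≫ h) ≤ rkΓ (V₂.ι ≫ h) := by
    have : DiscreteTopology V₂ := inferInstanceAs (DiscreteTopology (V₂ : Set Y))
    exact rkΓ_ι_le _ _ (isClosed_discrete _)
  rw [← h1, rkΓ_ι_eq_deg, rkΓ_ι_eq_deg] at h2
  exact_mod_cast h2

end Groth.Agent.Lib.Helper70.FibRkD
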