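import Mathlib
import Groth.Agent.Lib.Helper70.FibRkD

/-!
# Base change of finite pieces and lifting field points (helper70)
-/

set_option autoImplicit false

namespace Groth.Agent.Lib.Helper70.FibRkE

universe u

open AlgebraicGeometry CategoryTheory Limits TopologicalSpace
open Groth.Agent.Lib.Helper70.FibRkC Groth.Agent.Lib.Helper70.FibRkD

/-- base change of a finite locally free piece. -/
theorem piece_bc {Y' Y T' T : Scheme.{u}} (p : Y' ⟶ Y) (h' : Y' ⟶ T') (h : Y ⟶ T) (t : T' ⟶ T)
    (sq : IsPullback p h' h t) (V : Y.Opens) [IsFinite (V.ι ≫ h)] [Flat (V.ι ≫ h)] :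
    IsFinite ((p ⁻¹ᵁ V).ι ≫ h') ∧
      ∀ t' : T', ((p ⁻¹ᵁ V).ι ≫ h').finrank t' = (V.ι ≫ h).finrank (t t') := by
  have sq' : IsPullback (p ∣_ V) ((p ⁻¹ᵁ V).ι ≫ h') (V.ι ≫ h) t :=
    (isPullback_morphismRestrict p V).paste_vert sq
  refine ⟨MorphismProperty.of_isPullback (P := @IsFinite) sq' inferInstance, fun t' => ?_⟩
  exact Scheme.Hom.finrank_of_isPullback _ _ _ _ sq' t'

/-- every point of the spectrum of a field is the closed point. -/
theorem eq_closedPoint {K : Type u} [Field K] (w : Spec (CommRingCat.of K)) :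
    w = IsLocalRing.closedPoint K :=
  Subsingleton.elim (α := PrimeSpectrum K) _ _

/-- lifting a field point to a neighbourhood after a field extension, together with the two
cartesian squares of fibres. -/
theorem exists_lift {X S U : Scheme.{u}} (f : X ⟶ S) (gU : U ⟶ S) {K : Type u} [Field K]
    (g : Spec (CommRingCat.of K) ⟶ S) (u : U) (hu : gU u = g (IsLocalRing.closedPoint K)) :
    ∃ (L : Type u) (_ : Field L) (φ : K →+* L) (g'' : Spec (CommRingCat.of L) ⟶ U)
      (π : pullback f (Spec.map (CommRingCat.ofHom φ) ≫ g) ⟶ pullback f g)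
      (q : pullback f (Spec.map (CommRingCat.ofHom φ) ≫ g) ⟶ pullback f gU),
      (∀ w, g'' w = u) ∧
      IsPullback π (pullback.snd f (Spec.map (CommRingCat.ofHom φ) ≫ g)) (pullback.snd f g)
        (Spec.map (CommRingCat.ofHom φ)) ∧
      IsPullback q (pullback.snd f (Spec.map (CommRingCat.ofHom φ) ≫ g)) (pullback.snd f gU) g'' ∧
      π ≫ pullback.fst f g = pullback.fst f (Spec.map (CommRingCat.ofHom φ) ≫ g) ∧
      q ≫ pullback.fst f gU = pullback.fst f (Spec.map (CommRingCat.ofHom φ) ≫ g) := by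
  obtain ⟨z, hz1, hz2⟩ := Scheme.Pullback.exists_preimage_pullback (f := g) (g := gU)
    (IsLocalRing.closedPoint K) u hu.symm
  let P := pullback g gU
  let ιz : Spec (P.residueField z) ⟶ P := P.fromSpecResidueField z
  obtain ⟨φ', hφ'⟩ := Spec.map_surjective (ιz ≫ pullback.fst g gU)
  refine ⟨P.residueField z, inferInstance, φ'.hom, ιz ≫ pullback.snd g gU, ?_⟩
  have hφ'' : Spec.map (CommRingCat.ofHom φ'.hom) = ιz ≫ pullback.fst g gU := hφ'
  have hcomm : (ιz ≫ pullback.snd g gU) ≫ gU = Spec.map (CommRingCat.ofHom φ'.hom) ≫ g := by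
    rw [hφ'', Category.assoc, Category.assoc, pullback.condition]
  let gL := Spec.map (CommRingCat.ofHom φ'.hom) ≫ g
  have hπc : pullback.fst f gL ≫ f =
      (pullback.snd f gL ≫ Spec.map (CommRingCat.ofHom φ'.hom)) ≫ g := by
    rw [Category.assoc]; exact pullback.condition
  have hqc : pullback.fst f gL ≫ f = (pullback.snd f gL ≫ (ιz ≫ pullback.snd g gU)) ≫ gU := by
    rw [Category.assoc, hcomm]; exact pullback.condition
  refine ⟨pullback.lift (pullback.fst f gL) _ hπc, pullback.lift (pullback.fst f gL) _ hqc,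
    ?_, ?_, ?_, pullback.lift_fst _ _ _, pullback.lift_fst _ _ _⟩
  · intro w
    have h1 : ιz w = z := Scheme.fromSpecResidueField_apply _ _
    change pullback.snd g gU (ιz w) = u
    rw [h1, hz2]
  · refine IsPullback.of_right ?_ (pullback.lift_snd _ _ _) (IsPullback.of_hasPullback f g)
    rw [pullback.lift_fst]
    exact IsPullback.of_hasPullback f gL
  · refine IsPullback.of_right ?_ (pullback.lift_snd _ _ _) (IsPullback.of_hasPullback f gU)
    rw [pullback.lift_fst, hcomm]
    exact IsPullback.of_hasPullback f gL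

end Groth.Agent.Lib.Helper70.FibRkE
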