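import Mathlib

/-!
# Finite unions of open pieces finite over the base; isolated points of fibres (helper70)
-/

set_option autoImplicit false

open CategoryTheory AlgebraicGeometry Limits

namespace Groth.Agent.Lib.Helper70.FinPartA

universe u

theorem isOpen_singleton_subtype_iff {X : Type*} [TopologicalSpace X] (A : Set X) (a : A) :
    IsOpen ({a} : Set A) ↔ ∃ O : Set X, IsOpen O ∧ O ∩ A = {a.1} := by
  rw [isOpen_induced_iff]
  constructor
  · rintro ⟨O, hO, h⟩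
    refine ⟨O, hO, ?_⟩
    ext z
    constructor
    · rintro ⟨hzO, hz⟩
      have h1 : (⟨z, hz⟩ : A) ∈ Subtype.val ⁻¹' O := hzO
      rw [h] at h1
      exact congrArg Subtype.val h1
    · intro hz
      rw [Set.mem_singleton_iff] at hz
      subst hz
      have h1 : a ∈ Subtype.val ⁻¹' O := by rw [h]; rfl
      exact ⟨h1, a.2⟩
  · rintro ⟨O, hO, h⟩
    refine ⟨O, hO, ?_⟩
    ext z
    constructor
    · intro hz
      have h1 : z.1 ∈ O ∩ A := ⟨hz, z.2⟩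
      rw [h] at h1
      exact Subtype.ext h1
    · intro hz
      rw [Set.mem_singleton_iff] at hz
      subst hz
      exact (h.ge rfl).1

theorem quasiFiniteAt_iff_exists_open {X Y : Scheme.{u}} (f : X ⟶ Y) [LocallyOfFiniteType f]
    (x : X) : f.QuasiFiniteAt x ↔ ∃ O : Set X, IsOpen O ∧ O ∩ f ⁻¹' {f x} = {x} := by
  rw [Scheme.Hom.quasiFiniteAt_iff_isOpen_singleton_asFiber, ← (f.fiberHomeo (f x)).isOpen_image]
  simp only [Set.image_singleton, Scheme.Hom.asFiber, Homeomorph.apply_symm_apply]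
  exact isOpen_singleton_subtype_iff (f ⁻¹' {f x}) ⟨x, rfl⟩

theorem apply_fiberι {X Y : Scheme.{u}} (f : X ⟶ Y) (s : Y) (w : f.fiber s) :
    f (f.fiberι s w) = s := by
  have h := (f.range_fiberι s).le ⟨w, rfl⟩
  exact h

theorem quasiFiniteAt_fiberι_iff {X Y : Scheme.{u}} (f : X ⟶ Y) [LocallyOfFiniteType f]
    (s : Y) (w : f.fiber s) :
    f.QuasiFiniteAt (f.fiberι s w) ↔ IsOpen ({w} : Set (f.fiber s)) := by
  rw [quasiFiniteAt_iff_exists_open, apply_fiberι, ← (f.fiberHomeo s).isOpen_image,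
    Set.image_singleton, isOpen_singleton_subtype_iff]
  rfl


theorem isClosed_of_isFinite_ι_comp {Y U : Scheme.{u}} (p : Y ⟶ U) [IsSeparated p] (V : Y.Opens)
    (hV : IsFinite (V.ι ≫ p)) : IsClosed (V : Set Y) := by
  have : IsFinite V.ι := .of_comp _ p
  have h := V.ι.isClosedMap.isClosed_range
  rwa [Scheme.Opens.range_ι] at h

theorem image_ι_preimage {Y U : Scheme.{u}} (p : Y ⟶ U) (V : Y.Opens) (O : Set U) :
    V.ι '' ((V.ι ≫ p) ⁻¹' O) = (V : Set Y) ∩ p ⁻¹' O := by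
  ext y
  constructor
  · rintro ⟨z, hz, rfl⟩
    exact ⟨z.2, hz⟩
  · rintro ⟨hy, hyO⟩
    exact ⟨⟨y, hy⟩, hyO, rfl⟩

theorem quasiCompact_iSup_ι_comp {Y U : Scheme.{u}} (p : Y ⟶ U) {ι : Type*} [Finite ι]
    (V : ι → Y.Opens) (hV : ∀ i, QuasiCompact ((V i).ι ≫ p)) :
    QuasiCompact ((⨆ i, V i).ι ≫ p) := by
  constructor
  intro O hO hOc
  rw [(⨆ i, V i).ι.isEmbedding.isCompact_iff, image_ι_preimage]
  have h1 : ((⨆ i, V i : Y.Opens) : Set Y) ∩ p ⁻¹' O = ⋃ i, ((V i : Set Y) ∩ p ⁻¹' O) := by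
    rw [TopologicalSpace.Opens.coe_iSup, Set.iUnion_inter]
  rw [h1]
  refine isCompact_iUnion fun i => ?_
  rw [← image_ι_preimage]
  exact ((hV i).isCompact_preimage O hO hOc).image (V i).ι.continuous

theorem existence_iSup_ι_comp {Y U : Scheme.{u}} (p : Y ⟶ U) {ι : Type*}
    (V : ι → Y.Opens) (hV : ∀ i, ValuativeCriterion.Existence ((V i).ι ≫ p)) :
    ValuativeCriterion.Existence ((⨆ i, V i).ι ≫ p) := by
  intro sq
  have hz : (⨆ i, V i).ι (sq.i₁ (IsLocalRing.closedPoint sq.K)) ∈ (⨆ i, V i : Y.Opens) :=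
    (sq.i₁ (IsLocalRing.closedPoint sq.K)).2
  rw [TopologicalSpace.Opens.mem_iSup] at hz
  obtain ⟨i, hi⟩ := hz
  have hrange : Set.range (sq.i₁ ≫ (⨆ i, V i).ι) ⊆ Set.range (V i).ι := by
    rw [Scheme.Opens.range_ι]
    rintro _ ⟨y, rfl⟩
    have : y = IsLocalRing.closedPoint sq.K := Subsingleton.elim (α := PrimeSpectrum sq.K) _ _
    rw [this]
    exact hi
  let j₁ : Spec (.of sq.K) ⟶ (V i).toScheme := IsOpenImmersion.lift (V i).ι _ hrange
  have hj₁ : j₁ ≫ (V i).ι = sq.i₁ ≫ (⨆ i, V i).ι := IsOpenImmersion.lift_fac _ _ _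
  have hsq : CommSq j₁ (Spec.map (CommRingCat.ofHom (algebraMap sq.R sq.K))) ((V i).ι ≫ p)
      sq.i₂ := ⟨by rw [reassoc_of% hj₁]; exact sq.commSq.w⟩
  obtain ⟨⟨l, hl₁, hl₂⟩⟩ := (hV i ⟨sq.R, sq.K, j₁, sq.i₂, hsq⟩).exists_lift
  have hl₁' : Spec.map (CommRingCat.ofHom (algebraMap sq.R sq.K)) ≫ l = j₁ := hl₁
  have hl₂' : l ≫ (V i).ι ≫ p = sq.i₂ := hl₂
  refine ⟨⟨⟨l ≫ Y.homOfLE (le_iSup V i), ?_, ?_⟩⟩⟩
  · rw [← cancel_mono (⨆ i, V i).ι, Category.assoc, Category.assoc, Scheme.homOfLE_ι,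
      ← hj₁, ← hl₁', Category.assoc]
  · rw [Category.assoc, Scheme.homOfLE_ι_assoc]
    exact hl₂'

theorem isFinite_iSup_ι_comp {Y U : Scheme.{u}} (p : Y ⟶ U) [IsSeparated p]
    [LocallyOfFiniteType p] {ι : Type*} [Finite ι] (V : ι → Y.Opens)
    (hV : ∀ i, IsFinite ((V i).ι ≫ p)) : IsFinite ((⨆ i, V i).ι ≫ p) := by
  have hqc : QuasiCompact ((⨆ i, V i).ι ≫ p) :=
    quasiCompact_iSup_ι_comp p V fun i => inferInstance
  have hex : ValuativeCriterion.Existence ((⨆ i, V i).ι ≫ p) := by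
    refine existence_iSup_ι_comp p V fun i => ?_
    have h : UniversallyClosed ((V i).ι ≫ p) := inferInstance
    rw [UniversallyClosed.eq_valuativeCriterion] at h
    exact h.1
  have huc : UniversallyClosed ((⨆ i, V i).ι ≫ p) := .of_valuativeCriterion _ hex
  have hproper : IsProper ((⨆ i, V i).ι ≫ p) := {}
  have hlqf : LocallyQuasiFinite ((⨆ i, V i).ι ≫ p) := by
    rw [← Scheme.Hom.quasiFiniteLocus_eq_top_iff, eq_top_iff]
    intro z _
    rw [Scheme.Hom.mem_quasiFiniteLocus, Scheme.Hom.quasiFiniteAt_comp_iff_of_isOpenImmersion]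
    have hz : (⨆ i, V i).ι z ∈ (⨆ i, V i : Y.Opens) := z.2
    rw [TopologicalSpace.Opens.mem_iSup] at hz
    obtain ⟨i, hi⟩ := hz
    have h1 : ((V i).ι ≫ p).QuasiFiniteAt ⟨(⨆ i, V i).ι z, hi⟩ := by
      rw [← Scheme.Hom.mem_quasiFiniteLocus, Scheme.Hom.quasiFiniteLocus_eq_top]
      trivial
    rw [Scheme.Hom.quasiFiniteAt_comp_iff_of_isOpenImmersion] at h1
    exact h1
  exact IsFinite.of_isProper_of_locallyQuasiFinite _

end Groth.Agent.Lib.Helper70.FinPartA
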