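import Mathlib
import Groth.Agent.S1354
import Groth.Agent.Lib.Helper70.FinPartA

/-!
# Splitting off the finite part of a separated morphism étale locally (helper70)
-/

set_option autoImplicit false

open CategoryTheory AlgebraicGeometry Limits

namespace Groth.Agent.Lib.Helper70.FinPartB

universe u

/-- If `κ(g u) → κ(u)` is bijective, the fibre of the base change over `u` is the fibre of `f`
over `g u`. -/
theorem fiber_bc {X S U : Scheme.{u}} (f : X ⟶ S) (g : U ⟶ S) (u : U)
    (hbij : Function.Bijective (g.residueFieldMap u)) :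
    ∃ τ : (pullback.snd f g).fiber u ⟶ f.fiber (g u), IsIso τ ∧
      τ ≫ f.fiberι (g u) = (pullback.snd f g).fiberι u ≫ pullback.fst f g := by
  have h := isPullback_fiberToSpecResidueField_of_isPullback (IsPullback.of_hasPullback f g) u
  have hiso : IsIso (g.residueFieldMap u) := (ConcreteCategory.isIso_iff_bijective _).mpr hbij
  have hiso' : IsIso (Spec.map (g.residueFieldMap u)) := inferInstance
  refine ⟨_, h.isIso_fst_of_isIso, ?_⟩
  exact pullback.lift_fst _ _ _

theorem isolated_transfer {X S U : Scheme.{u}} (f : X ⟶ S) (g : U ⟶ S) (u : U)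
    (hbij : Function.Bijective (g.residueFieldMap u)) (w : (pullback.snd f g).fiber u)
    (hopen : IsOpen ({w} : Set ((pullback.snd f g).fiber u))) :
    ∃ w₀ : f.fiber (g u), IsOpen ({w₀} : Set (f.fiber (g u))) ∧
      f.fiberι (g u) w₀ = pullback.fst f g ((pullback.snd f g).fiberι u w) := by
  obtain ⟨τ, hτ, hτι⟩ := fiber_bc f g u hbij
  refine ⟨τ w, ?_, ?_⟩
  · have h1 : IsOpen (τ '' {w}) := τ.homeomorph.isOpenMap _ hopen
    rwa [Set.image_singleton] at h1
  · have h2 := congrArg (fun q : (pullback.snd f g).fiber u ⟶ X => q w) hτι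
    exact h2

theorem unique_point {X S U : Scheme.{u}} (f : X ⟶ S) (g : U ⟶ S) (u : U)
    (hbij : Function.Bijective (g.residueFieldMap u)) (y y' : ↑(pullback f g))
    (hy : pullback.snd f g y = u) (hy' : pullback.snd f g y' = u)
    (hfst : pullback.fst f g y = pullback.fst f g y') : y = y' := by
  obtain ⟨τ, hτ, hτι⟩ := fiber_bc f g u hbij
  obtain ⟨w, rfl⟩ : y ∈ Set.range ((pullback.snd f g).fiberι u) := by
    rw [Scheme.Hom.range_fiberι]; exact hy
  obtain ⟨w', rfl⟩ : y' ∈ Set.range ((pullback.snd f g).fiberι u) := by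
    rw [Scheme.Hom.range_fiberι]; exact hy'
  have h1 : f.fiberι (g u) (τ w) = f.fiberι (g u) (τ w') := by
    have h2 := congrArg (fun q : (pullback.snd f g).fiber u ⟶ X => q w) hτι
    have h3 := congrArg (fun q : (pullback.snd f g).fiber u ⟶ X => q w') hτι
    exact h2.trans (hfst.trans h3.symm)
  have h4 : τ w = τ w' := (f.fiberι (g u)).isEmbedding.injective h1
  have h5 : w = w' := τ.homeomorph.injective h4
  rw [h5]

theorem main {X S : Scheme.{u}} (f : X ⟶ S) [LocallyOfFiniteType f] [IsSeparated f] (s : S)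
    (hfin : {x : ↑(f.fiber s) | IsOpen ({x} : Set ↑(f.fiber s))}.Finite) :
    ∃ (U : Scheme.{u}) (g : U ⟶ S) (u : U), Hens2.IsEtaleNbhd g u s ∧
      ∃ V : (pullback f g).Opens, IsClopen (V : Set ↑(pullback f g)) ∧
        IsFinite (V.ι ≫ pullback.snd f g) ∧
        ∀ w : ↑((pullback.snd f g).fiber u), (pullback.snd f g).fiberι u w ∉ V →
          ¬ IsOpen ({w} : Set ↑((pullback.snd f g).fiber u)) := by
  classical
  obtain ⟨n, e⟩ : ∃ n : ℕ, Nonempty (Fin n ≃ hfin.toFinset) :=
    ⟨_, ⟨hfin.toFinset.equivFin.symm⟩⟩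
  obtain ⟨e⟩ := e
  have hs : ∀ i : Fin n, f (f.fiberι s (e i).1) = s := fun i => FinPartA.apply_fiberι f s _
  have hx : ∀ i : Fin n, f.QuasiFiniteAt (f.fiberι s (e i).1) := fun i => by
    rw [FinPartA.quasiFiniteAt_fiberι_iff]
    exact hfin.mem_toFinset.mp (e i).2
  obtain ⟨U, g, u, hnb, V, v, hVv⟩ :=
    Groth.Agent.S1354.result f s (fun i : Fin n => f.fiberι s (e i).1) hs hx
  refine ⟨U, g, u, hnb, ⨆ i, V i, ⟨?_, (⨆ i, V i).2⟩, ?_, ?_⟩
  · rw [TopologicalSpace.Opens.coe_iSup]
    exact isClosed_iUnion_of_finite fun i =>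
      FinPartA.isClosed_of_isFinite_ι_comp _ (V i) (hVv i).2.1
  · exact FinPartA.isFinite_iSup_ι_comp _ V fun i => (hVv i).2.1
  · intro w hw hopen
    apply hw
    have hbij := hnb.residue_bijective
    obtain ⟨w₀, hw₀, hw₀ι⟩ := isolated_transfer f g u hbij w hopen
    have hqf : f.QuasiFiniteAt (pullback.fst f g ((pullback.snd f g).fiberι u w)) := by
      rw [← hw₀ι, FinPartA.quasiFiniteAt_fiberι_iff]
      exact hw₀
    have hpy : pullback.snd f g ((pullback.snd f g).fiberι u w) = u :=
      FinPartA.apply_fiberι _ u w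
    have hfs : f (pullback.fst f g ((pullback.snd f g).fiberι u w)) = s := by
      have h1 : (pullback.fst f g ≫ f) ((pullback.snd f g).fiberι u w) =
          (pullback.snd f g ≫ g) ((pullback.snd f g).fiberι u w) := by
        rw [pullback.condition]
      have h2 : f (pullback.fst f g ((pullback.snd f g).fiberι u w)) =
          g (pullback.snd f g ((pullback.snd f g).fiberι u w)) := h1
      rw [h2, hpy]
      exact hnb.base_eq
    obtain ⟨w₁, hw₁⟩ : pullback.fst f g ((pullback.snd f g).fiberι u w) ∈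
        Set.range (f.fiberι s) := by
      rw [Scheme.Hom.range_fiberι]; exact hfs
    have hw₁open : IsOpen ({w₁} : Set (f.fiber s)) := by
      rw [← FinPartA.quasiFiniteAt_fiberι_iff, hw₁]
      exact hqf
    have hmem : w₁ ∈ hfin.toFinset := hfin.mem_toFinset.mpr hw₁open
    obtain ⟨i, hi⟩ := e.surjective ⟨w₁, hmem⟩
    have hxi : f.fiberι s (e i).1 = pullback.fst f g ((pullback.snd f g).fiberι u w) := by
      rw [hi]; exact hw₁
    obtain ⟨hvi, -, hpv, -, hfv, -⟩ := hVv i
    have heq : (pullback.snd f g).fiberι u w = v i :=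
      unique_point f g u hbij _ _ hpy hpv (by rw [hfv]; exact hxi.symm)
    rw [heq]
    exact TopologicalSpace.Opens.mem_iSup.mpr ⟨i, hvi⟩

end Groth.Agent.Lib.Helper70.FinPartB
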