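import Mathlib
import Groth.Agent.Lib.Helper70.FibRkE
import Groth.Agent.Lib.Helper70.FinPartB

/-!
# Transfer of finite pieces between fibres through an étale neighbourhood (helper70)
-/

set_option autoImplicit false

namespace Groth.Agent.Lib.Helper70.FibRkF

universe u

open AlgebraicGeometry CategoryTheory Limits TopologicalSpace
open Groth.Agent.Lib.Helper70.FibRkC Groth.Agent.Lib.Helper70.FibRkD
open Groth.Agent.Lib.Helper70.FibRkE

variable {X S U : Scheme.{u}} (f : X ⟶ S) [Flat f] [LocallyQuasiFinite f] (gU : U ⟶ S)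

theorem deg_preimage {K L : Type u} [Field K] [Field L] {Y Y' : Scheme.{u}}
    (h : Y ⟶ Spec (CommRingCat.of K)) (h' : Y' ⟶ Spec (CommRingCat.of L)) (π : Y' ⟶ Y)
    (φ : K →+* L) (sq : IsPullback π h' h (Spec.map (CommRingCat.ofHom φ)))
    (V : Y.Opens) [IsFinite (V.ι ≫ h)] [Flat (V.ι ≫ h)] :
    IsFinite ((π ⁻¹ᵁ V).ι ≫ h') ∧ deg h' (π ⁻¹ᵁ V) = deg h V := by
  obtain ⟨h1, h2⟩ := piece_bc π h' h _ sq V
  refine ⟨h1, ?_⟩
  unfold deg
  rw [h2, eq_closedPoint (Spec.map (CommRingCat.ofHom φ) (IsLocalRing.closedPoint L))]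

/-- lower bound: a finite piece of the fibre over a field point is bounded by the degree of a
finite piece of the étale neighbourhood containing the corresponding points. -/
theorem deg_le_finrank {K : Type u} [Field K] (g : Spec (CommRingCat.of K) ⟶ S) (u : U)
    (hu : gU u = g (IsLocalRing.closedPoint K))
    (hbij : Function.Bijective (gU.residueFieldMap u))
    (V₀ : (pullback f g).Opens) [IsFinite (V₀.ι ≫ pullback.snd f g)]
    (V : (pullback f gU).Opens) [IsFinite (V.ι ≫ pullback.snd f gU)]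
    (H : ∀ y ∈ V₀, ∃ v ∈ V, pullback.snd f gU v = u ∧ pullback.fst f gU v = pullback.fst f g y) :
    deg (pullback.snd f g) V₀ ≤ (V.ι ≫ pullback.snd f gU).finrank u := by
  obtain ⟨L, _, φ, g'', π, q, hg'', sqπ, sqq, hπ, hq⟩ := exists_lift f gU g u hu
  obtain ⟨hf1, hd1⟩ := deg_preimage _ _ π φ sqπ V₀
  obtain ⟨hf2, hd2⟩ := piece_bc q _ _ g'' sqq V
  have hle : π ⁻¹ᵁ V₀ ≤ q ⁻¹ᵁ V := by
    intro y hy
    obtain ⟨v, hvV, hv1, hv2⟩ := H (π y) hy
    have h1 : pullback.snd f gU (q y) = u := by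
      have := congrArg (fun m : _ ⟶ U => m y) sqq.w
      exact this.trans (hg'' _)
    have h2 : pullback.fst f gU (q y) = pullback.fst f gU v := by
      have e1 := congrArg (fun m : _ ⟶ X => m y) hq
      have e2 := congrArg (fun m : _ ⟶ X => m y) hπ
      exact e1.trans (e2.symm.trans hv2.symm)
    have h3 : q y = v := FinPartB.unique_point f gU u hbij _ _ h1 hv1 h2
    change q y ∈ V
    rw [h3]
    exact hvV
  have hmono := deg_mono (pullback.snd f (Spec.map (CommRingCat.ofHom φ) ≫ g)) hle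
  rw [hd1] at hmono
  refine hmono.trans (le_of_eq ?_)
  unfold deg
  rw [hd2, hg'']

/-- upper bound propagation: a finite piece over the étale neighbourhood gives a finite piece of
at least the same degree on the fibre over any field point below. -/
theorem exists_piece {K : Type u} [Field K] (g : Spec (CommRingCat.of K) ⟶ S) (u : U)
    (hu : gU u = g (IsLocalRing.closedPoint K))
    (V : (pullback f gU).Opens) [IsFinite (V.ι ≫ pullback.snd f gU)] :
    ∃ V₁ : (pullback f g).Opens, IsFinite (V₁.ι ≫ pullback.snd f g) ∧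
      (V.ι ≫ pullback.snd f gU).finrank u ≤ deg (pullback.snd f g) V₁ := by
  obtain ⟨L, _, φ, g'', π, q, hg'', sqπ, sqq, hπ, hq⟩ := exists_lift f gU g u hu
  obtain ⟨hf2, hd2⟩ := piece_bc q _ _ g'' sqq V
  have hdisc := discreteTopology_of_lqf (pullback.snd f g)
  let V₁ : (pullback f g).Opens := ⟨π '' ((q ⁻¹ᵁ V : Opens _) : Set _), isOpen_discrete _⟩
  have hV₁c : IsCompact (V₁ : Set ↥(pullback f g : Scheme.{u})) :=
    (isCompact_of_isFinite (pullback.snd f (Spec.map (CommRingCat.ofHom φ) ≫ g))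
      (q ⁻¹ᵁ V)).image π.continuous
  have hV₁f : IsFinite (V₁.ι ≫ pullback.snd f g) := isFinite_ι_comp _ V₁ hV₁c
  obtain ⟨hf1, hd1⟩ := deg_preimage _ _ π φ sqπ V₁
  have hle : q ⁻¹ᵁ V ≤ π ⁻¹ᵁ V₁ := fun y hy => ⟨y, hy, rfl⟩
  have hmono := deg_mono (pullback.snd f (Spec.map (CommRingCat.ofHom φ) ≫ g)) hle
  refine ⟨V₁, hV₁f, ?_⟩
  rw [← hd1]
  refine le_trans (le_of_eq ?_) hmono
  unfold deg
  rw [hd2, hg'']

end Groth.Agent.Lib.Helper70.FibRkF
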