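import Mathlib
import Groth.Agent.Lib.Helper70.FibRkF

/-!
# Openness of the locus where the fibre degree of a flat quasi-finite separated morphism is at
least `d` (helper70)
-/

set_option autoImplicit false

namespace Groth.Agent.Lib.Helper70.FibRkG

universe u

open AlgebraicGeometry CategoryTheory Limits TopologicalSpace
open Groth.Agent.Lib.Helper70.FibRkC Groth.Agent.Lib.Helper70.FibRkD
open Groth.Agent.Lib.Helper70.FibRkE Groth.Agent.Lib.Helper70.FibRkF

variable {X S : Scheme.{u}} (f : X ⟶ S) [Flat f] [LocallyOfFinitePresentation f] [IsSeparated f]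
  [LocallyQuasiFinite f]

/-- an open of the base all of whose field points have fibre rank at least `d`. -/
def Good (W : S.Opens) (d : ℕ) : Prop :=
  ∀ (K : Type u) [Field K] (g : Spec (CommRingCat.of K) ⟶ S),
    g (IsLocalRing.closedPoint K) ∈ W → (d : Cardinal.{u}) ≤ rkΓ (pullback.snd f g)

/-- the key: around a field point of fibre rank at least `d` there is a good open. -/
theorem exists_good {K : Type u} [Field K] (g : Spec (CommRingCat.of K) ⟶ S) (d : ℕ)
    (hd : (d : Cardinal.{u}) ≤ rkΓ (pullback.snd f g)) :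
    ∃ W : S.Opens, g (IsLocalRing.closedPoint K) ∈ W ∧ Good f W d := by
  obtain ⟨V₀, hfin₀, hd₀⟩ := (le_rkΓ_iff (pullback.snd f g) d).mp hd
  have hfinite : Finite V₀ := by
    have h1 := Scheme.Hom.finite_preimage_singleton (V₀.ι ≫ pullback.snd f g)
      (IsLocalRing.closedPoint K)
    have h3 : (Set.univ : Set V₀).Finite := h1.subset fun y _ => eq_closedPoint _
    exact Set.finite_univ_iff.mp h3
  obtain ⟨n, ⟨e⟩⟩ : ∃ n : ℕ, Nonempty (Fin n ≃ V₀) := ⟨_, ⟨(Finite.equivFin V₀).symm⟩⟩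
  set s := g (IsLocalRing.closedPoint K) with hs_def
  have hs : ∀ i : Fin n, f (pullback.fst f g (e i).1) = s := by
    intro i
    have h1 := congrArg (fun m : pullback f g ⟶ S => m (e i).1) (pullback.condition (f := f) (g := g))
    have h2 : f (pullback.fst f g (e i).1) = g (pullback.snd f g (e i).1) := h1
    rw [h2, eq_closedPoint (pullback.snd f g (e i).1)]
  have hx : ∀ i : Fin n, f.QuasiFiniteAt (pullback.fst f g (e i).1) := fun i =>
    f.quasiFiniteAt _
  obtain ⟨U, gU, u, hnb, V, v, hVv⟩ :=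
    Groth.Agent.S1354.result f s (fun i : Fin n => pullback.fst f g (e i).1) hs hx
  have hfinV : IsFinite ((⨆ i, V i).ι ≫ pullback.snd f gU) :=
    FinPartA.isFinite_iSup_ι_comp _ V fun i => (hVv i).2.1
  have hlc := Scheme.Hom.isLocallyConstant_finrank ((⨆ i, V i).ι ≫ pullback.snd f gU)
  let U' : U.Opens := ⟨((⨆ i, V i).ι ≫ pullback.snd f gU).finrank ⁻¹'
    {((⨆ i, V i).ι ≫ pullback.snd f gU).finrank u}, hlc.isOpen_fiber _⟩
  have hetale := hnb.etale
  let W : S.Opens := ⟨gU '' (U' : Set U), gU.isOpenMap _ U'.2⟩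
  have hu : gU u = s := hnb.base_eq
  refine ⟨W, ⟨u, rfl, hu⟩, ?_⟩
  -- lower bound at `u`
  have hlow : d ≤ ((⨆ i, V i).ι ≫ pullback.snd f gU).finrank u := by
    refine hd₀.trans (deg_le_finrank f gU g u hu hnb.residue_bijective V₀ (⨆ i, V i) ?_)
    intro y hy
    obtain ⟨i, hi⟩ := e.surjective ⟨y, hy⟩
    obtain ⟨hvi, -, hpv, -, hfv, -⟩ := hVv i
    refine ⟨v i, Opens.mem_iSup.mpr ⟨i, hvi⟩, hpv, ?_⟩
    rw [hfv, hi]
  intro K' _ g' hg'
  obtain ⟨u', hu', hu'g⟩ := hg'
  obtain ⟨V₁, hV₁f, hV₁d⟩ := exists_piece f gU g' u' hu'g (⨆ i, V i)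
  refine (le_rkΓ_iff (pullback.snd f g') d).mpr ⟨V₁, hV₁f, hlow.trans (le_trans (le_of_eq ?_) hV₁d)⟩
  exact (hu' : _ = _).symm

/-- the filtration by fibre degree. -/
theorem main : ∃ U : ℕ → S.Opens, Antitone U ∧ U 0 = ⊤ ∧
    ∀ (K : Type u) [Field K] (g : Spec (CommRingCat.of K) ⟶ S) (d : ℕ),
      Set.range ⇑g ⊆ (U d : Set ↑S) ↔ (d : Cardinal.{u}) ≤ rkΓ (pullback.snd f g) := by
  refine ⟨fun d => sSup {W | Good f W d}, ?_, ?_, ?_⟩
  · intro d d' hdd'
    refine sSup_le_sSup fun W hW => ?_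
    intro K _ g hg
    exact le_trans (by exact_mod_cast hdd') (hW K g hg)
  · refine top_le_iff.mp (le_sSup ?_)
    intro K _ g _
    simp
  · intro K _ g d
    constructor
    · intro hsub
      have h1 : g (IsLocalRing.closedPoint K) ∈ sSup {W | Good f W d} := hsub ⟨_, rfl⟩
      obtain ⟨W, hW, hmem⟩ := Opens.mem_sSup.mp h1
      exact hW K g hmem
    · intro hd
      obtain ⟨W, hmem, hW⟩ := exists_good f g d hd
      rintro _ ⟨w, rfl⟩
      rw [eq_closedPoint w]
      exact Opens.mem_sSup.mpr ⟨W, hW, hmem⟩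

end Groth.Agent.Lib.Helper70.FibRkG
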