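import Mathlib
import Groth.Agent.Lib.Helper70.FibRkD

/-!
# Strict monotonicity of the degree of finite pieces (helper70)
-/

set_option autoImplicit false

namespace Groth.Agent.Lib.Helper70.FibRkH

universe u

open AlgebraicGeometry CategoryTheory Limits TopologicalSpace
open Groth.Agent.Lib.Helper70.FibRkA Groth.Agent.Lib.Helper70.FibRkB
open Groth.Agent.Lib.Helper70.FibRkC Groth.Agent.Lib.Helper70.FibRkD

section Alg

variable {K : Type u} [Field K] {R R' : Type u} [CommRing R] [CommRing R']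

theorem rkOf_comp_add_one_le (ψ : K →+* R) (ρ : R →+* R') (hρ : Function.Surjective ρ)
    (hker : ∃ e : R, e ≠ 0 ∧ ρ e = 0) : rkOf (ρ.comp ψ) + 1 ≤ rkOf ψ := by
  unfold rkOf
  letI := ψ.toAlgebra
  letI := (ρ.comp ψ).toAlgebra
  let l : R →ₗ[K] R' :=
    { toFun := ρ
      map_add' := map_add ρ
      map_smul' := by
        intro c x
        simp only [Algebra.smul_def, RingHom.algebraMap_toAlgebra, map_mul, RingHom.id_apply]
        rfl }
  have hl : Function.Surjective l := hρ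
  have h1 := LinearMap.rank_range_add_rank_ker l
  rw [LinearMap.range_eq_top.mpr hl, rank_top] at h1
  rw [← h1]
  gcongr
  obtain ⟨e, he0, he⟩ := hker
  have : Nontrivial (LinearMap.ker l) := ⟨⟨⟨e, he⟩, 0, fun h => he0 (congrArg Subtype.val h)⟩⟩
  exact Cardinal.one_le_iff_ne_zero.mpr (rank_pos_iff_nontrivial.mpr this).ne'

end Alg

section Sheaf

variable {Y : Scheme.{u}}

/-- on a clopen `V`, a section which is `0` on `V` and `1` on the complement. -/
theorem exists_zero_one_of_isClosed (V : Y.Opens) (hcl : IsClosed (V : Set Y)) :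
    ∃ e : Γ(Y, ⊤), res V e = 0 ∧ res ⟨(V : Set Y)ᶜ, hcl.isOpen_compl⟩ e = 1 := by
  let W : Bool → Y.Opens := fun b => if b then V else ⟨(V : Set Y)ᶜ, hcl.isOpen_compl⟩
  have hdisj : ∀ i j, i ≠ j → W i ⊓ W j = ⊥ := by
    intro i j hij
    apply TopologicalSpace.Opens.ext
    rcases i with _ | _ <;> rcases j with _ | _
    · exact absurd rfl hij
    · ext y
      constructor
      · rintro ⟨hy1, hy2⟩
        exact hy1 hy2
      · intro hy
        exact absurd hy (Set.notMem_empty y)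
    · ext y
      constructor
      · rintro ⟨hy2, hy1⟩
        exact hy1 hy2
      · intro hy
        exact absurd hy (Set.notMem_empty y)
    · exact absurd rfl hij
  let sf : ∀ b : Bool, Γ(Y, W b) := fun b =>
    match b with
    | true => 0
    | false => 1
  have hcompat : TopCat.Presheaf.IsCompatible Y.presheaf W sf := by
    intro i j
    by_cases hij : i = j
    · subst hij
      rfl
    · have : Subsingleton Γ(Y, W i ⊓ W j) := by
        rw [hdisj i j hij]; infer_instance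
      exact Subsingleton.elim _ _
  have hcov : (⊤ : Y.Opens) ≤ ⨆ b, W b := by
    intro x _
    by_cases hx1 : x ∈ V
    · exact TopologicalSpace.Opens.mem_iSup.mpr ⟨true, hx1⟩
    · exact TopologicalSpace.Opens.mem_iSup.mpr ⟨false, hx1⟩
  obtain ⟨e0, he, -⟩ := Y.sheaf.existsUnique_gluing' W ⊤ (fun b => homOfLE le_top) hcov sf hcompat
  exact ⟨e0, he true, he false⟩

end Sheaf

variable {K : Type u} [Field K] {Y : Scheme.{u}}

/-- a proper clopen piece has strictly smaller rank of functions. -/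
theorem rkΓ_ι_add_one_le (h : Y ⟶ Spec (CommRingCat.of K)) (V : Y.Opens)
    (hV : IsClosed (V : Set Y)) (hne : V ≠ ⊤) : rkΓ (V.ι ≫ h) + 1 ≤ rkΓ h := by
  rw [rkΓ_ι_eq]
  unfold rkΓ
  refine rkOf_comp_add_one_le _ _ ?_ ?_
  · exact restrict_surjective_of_isClosed V ⊤ le_top hV
  · obtain ⟨e, he0, he1⟩ := exists_zero_one_of_isClosed V hV
    refine ⟨e, fun h0 => ?_, he0⟩
    rw [h0, map_zero] at he1
    obtain ⟨y, hy⟩ : ∃ y : Y, y ∉ V := by
      by_contra hcon
      push Not at hcon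
      exact hne (eq_top_iff.mpr fun y _ => hcon y)
    have hnonempty : Nonempty (⟨(V : Set Y)ᶜ, hV.isOpen_compl⟩ : Y.Opens) := ⟨⟨y, hy⟩⟩
    have : Nontrivial Γ(Y, (⟨(V : Set Y)ᶜ, hV.isOpen_compl⟩ : Y.Opens)) :=
      Scheme.component_nontrivial Y _
    exact zero_ne_one he1

/-- strict monotonicity of the degree of finite pieces. -/
theorem deg_strict (h : Y ⟶ Spec (CommRingCat.of K)) [LocallyQuasiFinite h] {V₁ V₂ : Y.Opens}
    (hle : V₁ ≤ V₂) (hne : V₁ ≠ V₂) [IsFinite (V₁.ι ≫ h)] [IsFinite (V₂.ι ≫ h)] :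
    deg h V₁ + 1 ≤ deg h V₂ := by
  have hdisc := discreteTopology_of_lqf h
  have h1 : rkΓ (V₁.ι ≫ h) = rkΓ ((V₂.ι ⁻¹ᵁ V₁).ι ≫ V₂.ι ≫ h) := by
    rw [← rkΓ_comp_iso (Scheme.Opens.isoOfLE hle).hom (V₁.ι ≫ h),
      ← Category.assoc, Scheme.Opens.isoOfLE_hom_ι, Category.assoc]
  have h2 : rkΓ ((V₂.ι ⁻¹ᵁ V₁).ι ≫ V₂.ι ≫ h) + 1 ≤ rkΓ (V₂.ι ≫ h) := by
    have : DiscreteTopology V₂ := inferInstanceAs (DiscreteTopology (V₂ : Set Y))
    refine rkΓ_ι_add_one_le _ _ (isClosed_discrete _) fun htop => hne (le_antisymm hle ?_)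
    intro y hy
    have : (⟨y, hy⟩ : V₂) ∈ V₂.ι ⁻¹ᵁ V₁ := by rw [htop]; trivial
    exact this
  rw [← h1, rkΓ_ι_eq_deg, rkΓ_ι_eq_deg] at h2
  exact_mod_cast h2

end Groth.Agent.Lib.Helper70.FibRkH
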