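import Mathlib
import Groth.Agent.Lib.Helper70.FibRkF
import Groth.Agent.Lib.Helper70.FibRkH

/-!
# Fibres of constant degree are finite; strict propagation of pieces (helper70)
-/

set_option autoImplicit false

namespace Groth.Agent.Lib.Helper70.FibRkI

universe u

open AlgebraicGeometry CategoryTheory Limits TopologicalSpace
open Groth.Agent.Lib.Helper70.FibRkC Groth.Agent.Lib.Helper70.FibRkD
open Groth.Agent.Lib.Helper70.FibRkE Groth.Agent.Lib.Helper70.FibRkF
open Groth.Agent.Lib.Helper70.FibRkH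

variable {K : Type u} [Field K] {Y : Scheme.{u}}

/-- adding a point to a finite piece gives a finite piece of strictly larger degree. -/
theorem exists_bigger_piece (h : Y ⟶ Spec (CommRingCat.of K)) [LocallyQuasiFinite h]
    (V : Y.Opens) [IsFinite (V.ι ≫ h)] (y : Y) (hy : y ∉ V) :
    ∃ V' : Y.Opens, IsFinite (V'.ι ≫ h) ∧ V ≤ V' ∧ y ∈ V' ∧ deg h V + 1 ≤ deg h V' := by
  have hdisc := discreteTopology_of_lqf h
  let V' : Y.Opens := V ⊔ ⟨{y}, isOpen_discrete _⟩
  have hV'c : IsCompact (V' : Set Y) := by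
    rw [Opens.coe_sup]
    exact (isCompact_of_isFinite h V).union isCompact_singleton
  have hV'f : IsFinite (V'.ι ≫ h) := isFinite_ι_comp h V' hV'c
  have hyV' : y ∈ V' := Or.inr rfl
  refine ⟨V', hV'f, le_sup_left, hyV', ?_⟩
  exact deg_strict h le_sup_left fun heq => hy (heq ▸ hyV')

/-- if the rank of the ring of functions is a natural number `r`, the scheme is finite over the
field. -/
theorem isFinite_of_rkΓ_eq (h : Y ⟶ Spec (CommRingCat.of K)) [LocallyQuasiFinite h] (r : ℕ)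
    (hr : rkΓ h = (r : Cardinal.{u})) : IsFinite h := by
  obtain ⟨V₀, hfin₀, hd₀⟩ := (le_rkΓ_iff h r).mp hr.ge
  have htop : V₀ = ⊤ := by
    by_contra hne
    obtain ⟨y, hy⟩ : ∃ y : Y, y ∉ V₀ := by
      by_contra hcon
      push Not at hcon
      exact hne (eq_top_iff.mpr fun y _ => hcon y)
    obtain ⟨V', hV'f, -, -, hlt⟩ := exists_bigger_piece h V₀ y hy
    have h1 : ((r + 1 : ℕ) : Cardinal.{u}) ≤ rkΓ h :=
      (le_rkΓ_iff h (r + 1)).mpr ⟨V', hV'f, by omega⟩
    rw [hr] at h1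
    have h2 : r + 1 ≤ r := by exact_mod_cast h1
    omega
  subst htop
  have : IsIso (⊤ : Y.Opens).ι := inferInstanceAs (IsIso Y.topIso.hom)
  exact (MorphismProperty.cancel_left_of_respectsIso @IsFinite (⊤ : Y.Opens).ι h).mp hfin₀

/-- descent of finite pieces along a field extension. -/
theorem exists_piece_of_piece {L : Type u} [Field L] {Y' : Scheme.{u}}
    (h : Y ⟶ Spec (CommRingCat.of K)) [LocallyQuasiFinite h] [Flat h]
    (h' : Y' ⟶ Spec (CommRingCat.of L)) [LocallyQuasiFinite h'] (π : Y' ⟶ Y) (φ : K →+* L)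
    (sq : IsPullback π h' h (Spec.map (CommRingCat.ofHom φ)))
    (V' : Y'.Opens) [IsFinite (V'.ι ≫ h')] :
    ∃ V₁ : Y.Opens, IsFinite (V₁.ι ≫ h) ∧ deg h' V' ≤ deg h V₁ := by
  have hdisc := discreteTopology_of_lqf h
  let V₁ : Y.Opens := ⟨π '' (V' : Set Y'), isOpen_discrete _⟩
  have hV₁c : IsCompact (V₁ : Set Y) := (isCompact_of_isFinite h' V').image π.continuous
  have hV₁f : IsFinite (V₁.ι ≫ h) := isFinite_ι_comp _ V₁ hV₁c
  obtain ⟨hf1, hd1⟩ := deg_preimage h h' π φ sq V₁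
  have hle : V' ≤ π ⁻¹ᵁ V₁ := fun y hy => ⟨y, hy, rfl⟩
  have hmono := deg_mono h' hle
  exact ⟨V₁, hV₁f, hd1 ▸ hmono⟩

variable {X S U : Scheme.{u}} (f : X ⟶ S) [Flat f] [LocallyQuasiFinite f] (gU : U ⟶ S)

/-- strict upper bound propagation: if some point over `u` is missed by the finite piece `V`, the
fibre over any field point below `u` has a finite piece of strictly larger degree. -/
theorem exists_piece_strict (g : Spec (CommRingCat.of K) ⟶ S) (u : U)
    (hu : gU u = g (IsLocalRing.closedPoint K))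
    (V : (pullback f gU).Opens) [IsFinite (V.ι ≫ pullback.snd f gU)]
    (x' : ↥(pullback f gU : Scheme.{u})) (hx' : pullback.snd f gU x' = u) (hx'V : x' ∉ V) :
    ∃ V₁ : (pullback f g).Opens, IsFinite (V₁.ι ≫ pullback.snd f g) ∧
      (V.ι ≫ pullback.snd f gU).finrank u + 1 ≤ deg (pullback.snd f g) V₁ := by
  obtain ⟨L, _, φ, g'', π, q, hg'', sqπ, sqq, hπ, hq⟩ := exists_lift f gU g u hu
  obtain ⟨hf2, hd2⟩ := piece_bc q _ _ g'' sqq V
  obtain ⟨y', hy'1, -⟩ := Scheme.exists_preimage_of_isPullback sqq x'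
    (IsLocalRing.closedPoint L) (hx'.trans (hg'' _).symm)
  have hy'V : y' ∉ q ⁻¹ᵁ V := fun hmem => hx'V (hy'1 ▸ hmem)
  obtain ⟨V', hV'f, -, -, hlt⟩ :=
    exists_bigger_piece (pullback.snd f (Spec.map (CommRingCat.ofHom φ) ≫ g)) (q ⁻¹ᵁ V) y' hy'V
  obtain ⟨V₁, hV₁f, hV₁d⟩ := exists_piece_of_piece (pullback.snd f g)
    (pullback.snd f (Spec.map (CommRingCat.ofHom φ) ≫ g)) π φ sqπ V'
  refine ⟨V₁, hV₁f, le_trans (le_trans (le_of_eq ?_) hlt) hV₁d⟩
  unfold deg
  rw [hd2, hg'']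

end Groth.Agent.Lib.Helper70.FibRkI
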