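import Mathlib
import Groth.Agent.Lib.Helper1.AffineAndDescent

/-!
# Finiteness is fppf local on the target (helper70)
-/

set_option autoImplicit false

namespace Groth.Agent.Lib.Helper70.FibRkJ

universe u

open AlgebraicGeometry CategoryTheory Limits TopologicalSpace

/-- finiteness can be checked after base change along a jointly surjective family of flat
morphisms locally of finite presentation. -/
theorem isFinite_of_fppf_local {X S : Scheme.{u}} (f : X ⟶ S)
    (H : ∀ s : S, ∃ (C : Scheme.{u}) (c : C ⟶ S), Flat c ∧ LocallyOfFinitePresentation c ∧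
      s ∈ Set.range c ∧ IsFinite (pullback.snd f c)) : IsFinite f := by
  choose C c hflat hlfp hrange hfin using H
  have hsurj : Surjective (Sigma.desc c) := Surjective.sigmaDesc_of_union_range_eq_univ (by
    rw [Set.eq_univ_iff_forall]; intro s; exact Set.mem_iUnion.mpr ⟨s, hrange s⟩)
  have hccflat : Flat (Sigma.desc c) := IsZariskiLocalAtSource.sigmaDesc (P := @Flat) hflat
  have hcclfp : LocallyOfFinitePresentation (Sigma.desc c) :=
    IsZariskiLocalAtSource.sigmaDesc (P := @LocallyOfFinitePresentation) hlfp
  have hfincc : IsFinite (pullback.snd f (Sigma.desc c)) := by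
    rw [IsZariskiLocalAtTarget.iff_of_openCover (P := @IsFinite) (sigmaOpenCover C)]
    intro s
    change IsFinite (pullback.snd (pullback.snd f (Sigma.desc c)) (Sigma.ι C s))
    rw [← pullbackLeftPullbackSndIso_hom_snd f (Sigma.desc c) (Sigma.ι C s)]
    have : IsFinite (pullback.snd f (Sigma.ι C s ≫ Sigma.desc c)) := by
      rw [Sigma.ι_desc]
      exact hfin s
    infer_instance
  haveI := Groth.Agent.Lib.Helper1.descendsAlong_isFinite_fpqc
  exact MorphismProperty.of_pullback_snd_of_descendsAlong (P := @IsFinite)
    (Q := @Surjective ⊓ @Flat ⊓ @LocallyOfFinitePresentation) ⟨⟨hsurj, hccflat⟩, hcclfp⟩ hfincc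

end Groth.Agent.Lib.Helper70.FibRkJ
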