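import Mathlib
import Groth.Agent.Lib.Helper70.FibRkI
import Groth.Agent.Lib.Helper70.FibRkJ

/-!
# A flat separated locally quasi-finite morphism with constant fibre degree is finite (helper70)
-/

set_option autoImplicit false

namespace Groth.Agent.Lib.Helper70.FibRkK

universe u

open AlgebraicGeometry CategoryTheory Limits TopologicalSpace
open Groth.Agent.Lib.Helper70.FibRkC Groth.Agent.Lib.Helper70.FibRkD
open Groth.Agent.Lib.Helper70.FibRkE Groth.Agent.Lib.Helper70.FibRkF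
open Groth.Agent.Lib.Helper70.FibRkH Groth.Agent.Lib.Helper70.FibRkI
open Groth.Agent.Lib.Helper70.FibRkJ

theorem isFinite_morphismRestrict_of_le {Y U : Scheme.{u}} (p : Y ⟶ U) (V : Y.Opens)
    [IsFinite (V.ι ≫ p)] (U' : U.Opens) (hle : p ⁻¹ᵁ U' ≤ V) : IsFinite (p ∣_ U') := by
  have h1 : IsFinite ((V.ι ≫ p) ∣_ U') := IsZariskiLocalAtTarget.restrict ‹_› U'
  rw [morphismRestrict_comp] at h1
  have hiso : IsIso (V.ι ∣_ (p ⁻¹ᵁ U')) := by
    rw [isIso_iff_isOpenImmersion_and_epi_base]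
    refine ⟨inferInstance, (TopCat.epi_iff_surjective _).mpr ?_⟩
    intro y
    have hyV : y.1 ∈ V := hle y.2
    have hz : (⟨y.1, hyV⟩ : V) ∈ V.ι ⁻¹ᵁ (p ⁻¹ᵁ U') := y.2
    refine ⟨⟨⟨y.1, hyV⟩, hz⟩, ?_⟩
    apply (p ⁻¹ᵁ U').ι.isOpenEmbedding.injective
    have h2 := congrArg (fun m : _ ⟶ Y => m (⟨⟨y.1, hyV⟩, hz⟩ : ↥(V.ι ⁻¹ᵁ (p ⁻¹ᵁ U'))))
      (morphismRestrict_ι V.ι (p ⁻¹ᵁ U'))
    exact h2
  exact (MorphismProperty.cancel_left_of_respectsIso @IsFinite (V.ι ∣_ (p ⁻¹ᵁ U'))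
    (p ∣_ U')).mp h1

theorem isFinite_snd_comp_of_le {X S U : Scheme.{u}} (f : X ⟶ S) (gU : U ⟶ S)
    (V : (pullback f gU).Opens) [IsFinite (V.ι ≫ pullback.snd f gU)] (U' : U.Opens)
    (hle : (pullback.snd f gU) ⁻¹ᵁ U' ≤ V) : IsFinite (pullback.snd f (U'.ι ≫ gU)) := by
  have h1 := isFinite_morphismRestrict_of_le (pullback.snd f gU) V U' hle
  have h2 : IsFinite (pullback.snd (pullback.snd f gU) U'.ι) := by
    rw [← pullbackRestrictIsoRestrict_hom_morphismRestrict]
    infer_instance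
  rw [← pullbackLeftPullbackSndIso_hom_snd f gU U'.ι] at h2
  exact (MorphismProperty.cancel_left_of_respectsIso @IsFinite
    (pullbackLeftPullbackSndIso f gU U'.ι).hom (pullback.snd f (U'.ι ≫ gU))).mp h2

variable {X S : Scheme.{u}} (f : X ⟶ S) [Flat f] [LocallyOfFinitePresentation f] [IsSeparated f]
  [LocallyQuasiFinite f]

/-- constant fibre degree implies finite. -/
theorem isFinite_of_const (r : ℕ)
    (hr : ∀ (K : Type u) [Field K] (g : Spec (CommRingCat.of K) ⟶ S),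
      rkΓ (pullback.snd f g) = (r : Cardinal.{u})) : IsFinite f := by
  apply isFinite_of_fppf_local
  intro s
  let g : Spec (CommRingCat.of (S.residueField s)) ⟶ S := S.fromSpecResidueField s
  have hgs : g (IsLocalRing.closedPoint (S.residueField s)) = s :=
    Scheme.fromSpecResidueField_apply _ _
  have hfin : IsFinite (pullback.snd f g) := isFinite_of_rkΓ_eq (pullback.snd f g) r (hr _ g)
  have hfinite : Finite ↥(pullback f g : Scheme.{u}) := by
    have h1 := Scheme.Hom.finite_preimage_singleton (pullback.snd f g)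
      (IsLocalRing.closedPoint (S.residueField s))
    have h3 : (Set.univ : Set ↥(pullback f g : Scheme.{u})).Finite :=
      h1.subset fun y _ => eq_closedPoint _
    exact Set.finite_univ_iff.mp h3
  obtain ⟨n, ⟨e⟩⟩ : ∃ n : ℕ, Nonempty (Fin n ≃ ↥(pullback f g : Scheme.{u})) :=
    ⟨_, ⟨(Finite.equivFin _).symm⟩⟩
  have hs : ∀ i : Fin n, f (pullback.fst f g (e i)) = s := by
    intro i
    have h1 := congrArg (fun m : pullback f g ⟶ S => m (e i)) (pullback.condition (f := f) (g := g))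
    have h2 : f (pullback.fst f g (e i)) = g (pullback.snd f g (e i)) := h1
    rw [h2, eq_closedPoint (pullback.snd f g (e i))]
    exact hgs
  have hx : ∀ i : Fin n, f.QuasiFiniteAt (pullback.fst f g (e i)) := fun i => f.quasiFiniteAt _
  obtain ⟨U, gU, u, hnb, V, v, hVv⟩ :=
    Groth.Agent.S1354.result f s (fun i : Fin n => pullback.fst f g (e i)) hs hx
  have hfinV : IsFinite ((⨆ i, V i).ι ≫ pullback.snd f gU) :=
    FinPartA.isFinite_iSup_ι_comp _ V fun i => (hVv i).2.1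
  have hlc := Scheme.Hom.isLocallyConstant_finrank ((⨆ i, V i).ι ≫ pullback.snd f gU)
  let U' : U.Opens := ⟨((⨆ i, V i).ι ≫ pullback.snd f gU).finrank ⁻¹'
    {((⨆ i, V i).ι ≫ pullback.snd f gU).finrank u}, hlc.isOpen_fiber _⟩
  have hetale := hnb.etale
  have hu : gU u = g (IsLocalRing.closedPoint (S.residueField s)) := hnb.base_eq.trans hgs.symm
  -- lower bound at `u`
  have hlow : r ≤ ((⨆ i, V i).ι ≫ pullback.snd f gU).finrank u := by
    have htopfin : IsFinite ((⊤ : (pullback f g).Opens).ι ≫ pullback.snd f g) := by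
      have : IsIso (⊤ : (pullback f g).Opens).ι := inferInstanceAs (IsIso (pullback f g).topIso.hom)
      infer_instance
    have h1 := deg_le_finrank f gU g u hu hnb.residue_bijective ⊤ (⨆ i, V i) (by
      intro y _
      obtain ⟨i, hi⟩ := e.surjective y
      obtain ⟨hvi, -, hpv, -, hfv, -⟩ := hVv i
      refine ⟨v i, Opens.mem_iSup.mpr ⟨i, hvi⟩, hpv, ?_⟩
      rw [hfv, hi])
    refine le_trans ?_ h1
    have h2 : rkΓ ((⊤ : (pullback f g).Opens).ι ≫ pullback.snd f g) = (r : Cardinal.{u}) := by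
      have : IsIso (⊤ : (pullback f g).Opens).ι := inferInstanceAs (IsIso (pullback f g).topIso.hom)
      rw [rkΓ_comp_iso]
      exact hr _ g
    rw [rkΓ_ι_eq_deg] at h2
    have h3 : deg (pullback.snd f g) ⊤ = r := by exact_mod_cast h2
    exact h3.ge
  refine ⟨U', U'.ι ≫ gU, inferInstance, inferInstance, ⟨⟨u, rfl⟩, hnb.base_eq⟩, ?_⟩
  refine isFinite_snd_comp_of_le f gU (⨆ i, V i) U' ?_
  intro x' hx'
  by_contra hx'V
  let u' := pullback.snd f gU x'
  have hu'fin : ((⨆ i, V i).ι ≫ pullback.snd f gU).finrank u' =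
      ((⨆ i, V i).ι ≫ pullback.snd f gU).finrank u := hx'
  let g' : Spec (CommRingCat.of (U.residueField u')) ⟶ S := U.fromSpecResidueField u' ≫ gU
  have hg' : gU u' = g' (IsLocalRing.closedPoint (U.residueField u')) := by
    change gU u' = gU (U.fromSpecResidueField u' _)
    rw [Scheme.fromSpecResidueField_apply]
  obtain ⟨V₁, hV₁f, hV₁d⟩ := exists_piece_strict f gU g' u' hg' (⨆ i, V i) x' rfl hx'V
  have h4 : ((deg (pullback.snd f g') V₁ : ℕ) : Cardinal.{u}) ≤ rkΓ (pullback.snd f g') :=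
    (le_rkΓ_iff (pullback.snd f g') _).mpr ⟨V₁, hV₁f, le_rfl⟩
  rw [hr _ g'] at h4
  have h5 : deg (pullback.snd f g') V₁ ≤ r := by exact_mod_cast h4
  omega

end Groth.Agent.Lib.Helper70.FibRkK
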