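import Mathlib
import Groth.Agent.Lib.Helper70.FibRkG
import Groth.Agent.Lib.Helper70.FibRkK
import Groth.Prelude.Def_Mor2

/-!
# The stratification by fibre degree of a flat separated locally quasi-finite morphism with
bounded fibre degree (helper70)
-/

set_option autoImplicit false

namespace Groth.Agent.Lib.Helper70.FibRkL

universe u

open AlgebraicGeometry CategoryTheory Limits TopologicalSpace
open Groth.Agent.Lib.Helper70.FibRkC Groth.Agent.Lib.Helper70.FibRkD
open Groth.Agent.Lib.Helper70.FibRkE Groth.Agent.Lib.Helper70.FibRkK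

variable {X S : Scheme.{u}} (f : X ⟶ S) [Flat f] [LocallyOfFinitePresentation f] [IsSeparated f]
  [LocallyQuasiFinite f]

omit [Flat f] [LocallyOfFinitePresentation f] [IsSeparated f] [LocallyQuasiFinite f] in
/-- the rank of the fibre over a field point of a base change. -/
theorem rkΓ_baseChange {T : Scheme.{u}} (g : T ⟶ S) {K : Type u} [Field K]
    (τ : Spec (CommRingCat.of K) ⟶ T) :
    rkΓ (pullback.snd (pullback.snd f g) τ) = rkΓ (pullback.snd f (τ ≫ g)) := by
  rw [← pullbackLeftPullbackSndIso_hom_snd f g τ, rkΓ_comp_iso]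

omit [Flat f] [LocallyOfFinitePresentation f] [IsSeparated f] [LocallyQuasiFinite f] in
/-- every point is the image of a field point. -/
theorem exists_fieldPt (s : S) : ∃ (K : Type u) (_ : Field K) (g : Spec (CommRingCat.of K) ⟶ S),
    g (IsLocalRing.closedPoint K) = s :=
  ⟨S.residueField s, inferInstance, S.fromSpecResidueField s,
    Scheme.fromSpecResidueField_apply _ _⟩

theorem main (n : ℕ)
    (hn : ∀ (K : Type u) [Field K] (g : Spec (CommRingCat.of K) ⟶ S),
      rkΓ (pullback.snd f g) ≤ (n : Cardinal.{u})) :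
    ∃ deg : ↑S → ℕ, (∀ s, deg s ≤ n) ∧ (∀ r : ℕ, IsClosed {s : ↑S | deg s ≤ r}) ∧
      ∀ (T : Scheme.{u}) (g : T ⟶ S) (r : ℕ),
        Mor2.IsFinLocFreeOfDeg r (pullback.snd f g) ↔ ∀ t : T, deg (g t) = r := by
  classical
  obtain ⟨U, hanti, h0, hU⟩ := FibRkG.main f
  -- membership in `U d` through a field point
  have hmem : ∀ (K : Type u) [Field K] (g : Spec (CommRingCat.of K) ⟶ S) (d : ℕ),
      g (IsLocalRing.closedPoint K) ∈ U d ↔ (d : Cardinal.{u}) ≤ rkΓ (pullback.snd f g) := by
    intro K _ g d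
    rw [← hU K g d]
    constructor
    · rintro h _ ⟨w, rfl⟩
      rw [eq_closedPoint w]
      exact h
    · intro h
      exact h ⟨_, rfl⟩
  have hF1 : ∀ s d, s ∈ U d → d ≤ n := by
    intro s d hs
    obtain ⟨K, _, g, hg⟩ := exists_fieldPt s
    have h1 := (hmem K g d).mp (by rw [hg]; exact hs)
    have h2 := h1.trans (hn K g)
    exact_mod_cast h2
  let deg : ↑S → ℕ := fun s => Nat.findGreatest (fun d => s ∈ U d) n
  have hF2 : ∀ s d, d ≤ deg s ↔ s ∈ U d := by
    intro s d
    constructor
    · intro hd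
      have h1 : s ∈ U (deg s) :=
        Nat.findGreatest_spec (P := fun d => s ∈ U d) (m := 0) (Nat.zero_le n) (by
          change s ∈ U 0
          rw [h0]; trivial)
      exact hanti hd h1
    · intro hs
      exact Nat.le_findGreatest (hF1 s d hs) hs
  have hF3 : ∀ (K : Type u) [Field K] (g : Spec (CommRingCat.of K) ⟶ S),
      rkΓ (pullback.snd f g) = (deg (g (IsLocalRing.closedPoint K)) : Cardinal.{u}) := by
    intro K _ g
    obtain ⟨m, hm⟩ := Cardinal.lt_aleph0.mp
      (lt_of_le_of_lt (hn K g) (Cardinal.natCast_lt_aleph0))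
    rw [hm]
    have key : ∀ d : ℕ, d ≤ m ↔ d ≤ deg (g (IsLocalRing.closedPoint K)) := by
      intro d
      rw [hF2, hmem K g d, hm]
      exact Nat.cast_le.symm
    have h1 : m ≤ deg (g (IsLocalRing.closedPoint K)) := (key m).mp le_rfl
    have h2 : deg (g (IsLocalRing.closedPoint K)) ≤ m := (key _).mpr le_rfl
    rw [le_antisymm h1 h2]
  refine ⟨deg, fun s => Nat.findGreatest_le n, fun r => ?_, fun T g r => ?_⟩
  · have : {s : ↑S | deg s ≤ r} = ((U (r + 1) : Set ↑S))ᶜ := by
      ext s
      simp only [Set.mem_ofPred_eq, Set.mem_compl_iff, SetLike.mem_coe]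
      rw [← hF2]
      omega
    rw [this]
    exact (U (r + 1)).2.isClosed_compl
  · -- field points of `T`
    have hT : ∀ (K : Type u) [Field K] (τ : Spec (CommRingCat.of K) ⟶ T),
        rkΓ (pullback.snd (pullback.snd f g) τ) =
          (deg (g (τ (IsLocalRing.closedPoint K))) : Cardinal.{u}) := by
      intro K _ τ
      rw [rkΓ_baseChange, hF3]
      rfl
    constructor
    · rintro ⟨⟨hfin, hflat, hlfp⟩, hrank⟩ t
      obtain ⟨K, _, τ, hτ⟩ := exists_fieldPt t
      have h1 := hT K τ
      rw [hτ, rkΓ_eq_finrank _ (IsLocalRing.closedPoint K),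
        Scheme.Hom.finrank_pullback_snd, hrank] at h1
      exact_mod_cast h1.symm
    · intro hconst
      have hconst' : ∀ (K : Type u) [Field K] (τ : Spec (CommRingCat.of K) ⟶ T),
          rkΓ (pullback.snd (pullback.snd f g) τ) = (r : Cardinal.{u}) := by
        intro K _ τ
        rw [hT, hconst]
      have hfin : IsFinite (pullback.snd f g) := isFinite_of_const (pullback.snd f g) r hconst'
      refine ⟨⟨hfin, inferInstance, inferInstance⟩, fun t => ?_⟩
      obtain ⟨K, _, τ, hτ⟩ := exists_fieldPt t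
      have h1 := hconst' K τ
      rw [rkΓ_eq_finrank _ (IsLocalRing.closedPoint K),
        Scheme.Hom.finrank_pullback_snd, hτ] at h1
      exact_mod_cast h1

end Groth.Agent.Lib.Helper70.FibRkL
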