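import Mathlib
import Groth.Prelude.Def_Grpd
import Groth.Agent.Lib.Helper14.SmoothFibre

/-!
# Groupoid schemes: calculus of `T`-valued points, the cartesian squares for `c`, and
homogeneity of the smooth locus of `s` when `U` is a point (helper70)
-/

set_option autoImplicit false
universe u
open CategoryTheory CategoryTheory.Limits AlgebraicGeometry

namespace Groth.Agent.Lib.Helper70.GrpdSmA

open Grpd

variable {S : Scheme.{u}} (G : GroupoidScheme S)

/-- composition of `T`-points. -/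
noncomputable def cmp {T : Scheme.{u}} (α β : T ⟶ G.R) (h : α ≫ G.s = β ≫ G.t) : T ⟶ G.R :=
  pullback.lift α β h ≫ G.c

theorem cmp_congr {T : Scheme.{u}} {α α' β β' : T ⟶ G.R} (h : α ≫ G.s = β ≫ G.t)
    (hα : α = α') (hβ : β = β') :
    cmp G α β h = cmp G α' β' (by rw [← hα, ← hβ]; exact h) := by
  subst hα hβ
  rfl

theorem cmp_s {T : Scheme.{u}} (α β : T ⟶ G.R) (h : α ≫ G.s = β ≫ G.t) :
    cmp G α β h ≫ G.s = β ≫ G.s := G.comp_s α β h

theorem cmp_t {T : Scheme.{u}} (α β : T ⟶ G.R) (h : α ≫ G.s = β ≫ G.t) :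
    cmp G α β h ≫ G.t = α ≫ G.t := G.comp_t α β h

theorem cmp_assoc {T : Scheme.{u}} (α β δ : T ⟶ G.R) (h₁ : α ≫ G.s = β ≫ G.t)
    (h₂ : β ≫ G.s = δ ≫ G.t) :
    cmp G (cmp G α β h₁) δ ((cmp_s G α β h₁).trans h₂) =
      cmp G α (cmp G β δ h₂) (h₁.trans (cmp_t G β δ h₂).symm) :=
  G.assoc α β δ h₁ h₂

theorem precomp_cmp {T T' : Scheme.{u}} (u : T' ⟶ T) (α β : T ⟶ G.R)
    (h : α ≫ G.s = β ≫ G.t) :
    u ≫ cmp G α β h = cmp G (u ≫ α) (u ≫ β) (by rw [Category.assoc, Category.assoc, h]) := by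
  unfold cmp
  rw [← Category.assoc]
  congr 1
  apply pullback.hom_ext
  · rw [Category.assoc, pullback.lift_fst, pullback.lift_fst]
  · rw [Category.assoc, pullback.lift_snd, pullback.lift_snd]

theorem cmp_e {T : Scheme.{u}} (α : T ⟶ G.R) (ε : T ⟶ G.R) (hε : ε = α ≫ G.s ≫ G.e)
    (h : α ≫ G.s = ε ≫ G.t) : cmp G α ε h = α := by
  subst hε
  exact G.comp_e α

theorem e_cmp {T : Scheme.{u}} (α : T ⟶ G.R) (ε : T ⟶ G.R) (hε : ε = α ≫ G.t ≫ G.e)
    (h : ε ≫ G.s = α ≫ G.t) : cmp G ε α h = α := by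
  subst hε
  exact G.e_comp α

theorem cmp_i {T : Scheme.{u}} (α : T ⟶ G.R) (h : α ≫ G.s = (α ≫ G.i) ≫ G.t) :
    cmp G α (α ≫ G.i) h = α ≫ G.t ≫ G.e := G.comp_i α

theorem i_cmp {T : Scheme.{u}} (α : T ⟶ G.R) (h : (α ≫ G.i) ≫ G.s = α ≫ G.t) :
    cmp G (α ≫ G.i) α h = α ≫ G.s ≫ G.e := G.i_comp α

theorem i_i : G.i ≫ G.i = 𝟙 G.R := by
  -- α = 𝟙, β = i, γ = i ≫ i
  have hs : (G.i ≫ G.i) ≫ G.s = G.i ≫ G.t := by rw [Category.assoc, G.i_s]
  have h2 : G.i ≫ G.s = 𝟙 G.R ≫ G.t := by rw [G.i_s, Category.id_comp]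
  have e1 : G.i ≫ G.i = cmp G (G.i ≫ G.i) (cmp G G.i (𝟙 G.R) h2)
      (hs.trans (cmp_t G _ _ h2).symm) := by
    symm
    apply cmp_e
    have := i_cmp G (𝟙 G.R) (by rw [Category.id_comp, Category.id_comp]; exact G.i_s)
    rw [cmp_congr G h2 (Category.id_comp G.i).symm rfl, this, Category.id_comp,
      ← Category.assoc (G.i ≫ G.i) G.s G.e, hs, G.i_t]
  rw [e1, ← cmp_assoc G (G.i ≫ G.i) G.i (𝟙 G.R) hs h2]
  have e2 : cmp G (G.i ≫ G.i) G.i hs = G.i ≫ G.s ≫ G.e := i_cmp G G.i hs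
  have e3 : G.i ≫ G.s ≫ G.e = 𝟙 G.R ≫ G.t ≫ G.e := by
    rw [← Category.assoc, G.i_s, Category.id_comp]
  rw [cmp_congr G _ (e2.trans e3) rfl]
  exact G.e_comp (𝟙 G.R)

instance : IsIso G.i := ⟨G.i, i_i G, i_i G⟩

/-- The square `(c, pr₂; s, s)` is cartesian. -/
theorem isPullback_c : IsPullback G.c (pullback.snd G.s G.t) G.s G.s := by
  have hw : G.c ≫ G.s = pullback.snd G.s G.t ≫ G.s := by
    have := cmp_s G (pullback.fst G.s G.t) (pullback.snd G.s G.t) pullback.condition
    unfold cmp at this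
    rwa [show pullback.lift (pullback.fst G.s G.t) (pullback.snd G.s G.t) pullback.condition =
      𝟙 _ by apply pullback.hom_ext <;> simp, Category.id_comp] at this
  refine IsPullback.of_isLimit (c := PullbackCone.mk _ _ hw) ?_
  refine PullbackCone.IsLimit.mk hw
    (fun c => pullback.lift (cmp G c.fst (c.snd ≫ G.i)
      (by rw [Category.assoc, G.i_t]; exact c.condition)) c.snd
      (by rw [cmp_s, Category.assoc, G.i_s])) ?_ ?_ ?_
  · intro c
    have hc := c.condition
    change pullback.lift (cmp G c.fst (c.snd ≫ G.i) _) c.snd _ ≫ G.c = c.fst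
    change cmp G (cmp G c.fst (c.snd ≫ G.i) _) c.snd _ = c.fst
    rw [cmp_assoc G c.fst (c.snd ≫ G.i) c.snd
      (by rw [Category.assoc, G.i_t]; exact hc) (by rw [Category.assoc, G.i_s])]
    apply cmp_e
    rw [i_cmp, ← Category.assoc, ← hc, Category.assoc]
  · intro c
    exact pullback.lift_snd _ _ _
  · intro c m h1 h2
    apply pullback.hom_ext
    · rw [pullback.lift_fst]
      have hm : m = pullback.lift (m ≫ pullback.fst G.s G.t) (m ≫ pullback.snd G.s G.t)
          (by rw [Category.assoc, Category.assoc, pullback.condition]) := by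
        apply pullback.hom_ext
        · rw [pullback.lift_fst]
        · rw [pullback.lift_snd]
      have h1' : cmp G (m ≫ pullback.fst G.s G.t) (m ≫ pullback.snd G.s G.t)
          (by rw [Category.assoc, Category.assoc, pullback.condition]) = c.fst := by
        unfold cmp
        rw [← hm]
        exact h1
      have hcond : (m ≫ pullback.fst G.s G.t) ≫ G.s = c.snd ≫ G.t := by
        rw [Category.assoc, pullback.condition, ← Category.assoc, h2]
      have h1'' : cmp G (m ≫ pullback.fst G.s G.t) c.snd hcond = c.fst := by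
        rw [← h1']
        exact cmp_congr G _ rfl h2.symm
      rw [cmp_congr G _ h1''.symm rfl]
      rw [cmp_assoc G (m ≫ pullback.fst G.s G.t) c.snd (c.snd ≫ G.i) hcond
        (by rw [Category.assoc, G.i_t])]
      symm
      apply cmp_e
      rw [cmp_i, ← Category.assoc, ← hcond, Category.assoc]
    · rw [pullback.lift_snd]
      exact h2

/-- transport: the morphism `(a, b) ↦ (a, a⁻¹ b)` from `R ×_{t,t} R` to `R ×_{s,t} R`. -/
noncomputable def psi : pullback G.t G.t ⟶ pullback G.s G.t :=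
  pullback.lift (pullback.fst G.t G.t)
    (cmp G (pullback.fst G.t G.t ≫ G.i) (pullback.snd G.t G.t)
      (by rw [Category.assoc, G.i_s]; exact pullback.condition))
    (by rw [cmp_t, Category.assoc, G.i_t])

theorem psi_fst : psi G ≫ pullback.fst G.s G.t = pullback.fst G.t G.t := pullback.lift_fst _ _ _

theorem psi_c : psi G ≫ G.c = pullback.snd G.t G.t := by
  have hc : (pullback.fst G.t G.t ≫ G.i) ≫ G.s = pullback.snd G.t G.t ≫ G.t := by
    rw [Category.assoc, G.i_s]; exact pullback.condition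
  change cmp G (pullback.fst G.t G.t) (cmp G (pullback.fst G.t G.t ≫ G.i) (pullback.snd G.t G.t) hc)
    _ = _
  rw [← cmp_assoc G (pullback.fst G.t G.t) (pullback.fst G.t G.t ≫ G.i) (pullback.snd G.t G.t)
    (by rw [Category.assoc, G.i_t]) hc]
  apply e_cmp
  rw [cmp_i, pullback.condition_assoc]

/-- For two points `r`, `w` of `R` with the same target, there is a point `z` of `R ×_{s,t} R`
with first projection `r` and composition `w`. -/
theorem exists_point (r w : G.R) (h : G.t r = G.t w) :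
    ∃ z : ↥(pullback G.s G.t), pullback.fst G.s G.t z = r ∧ G.c z = w := by
  obtain ⟨y, hy1, hy2⟩ := Scheme.Pullback.exists_preimage_pullback r w h
  refine ⟨psi G y, ?_, ?_⟩
  · rw [← Scheme.Hom.comp_apply, psi_fst, hy1]
  · rw [← Scheme.Hom.comp_apply, psi_c, hy2]

end Groth.Agent.Lib.Helper70.GrpdSmA
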