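import Mathlib
import Groth.Agent.Lib.Helper70.AWNRing
import Groth.Agent.Lib.Helper70.RingAWN
import Groth.Agent.Lib.Helper37.AWN
import Groth.Agent.Lib.Helper2.UnivHomeo

/-!
# Absolute weak normalization of rings: uniqueness, functoriality, localization

* `AWNLoc.isUnivHomeo_includeRight`: base change of universal homeomorphisms at ring level.
* `AWNLoc.eq_of_comp_eq`: universal homeomorphisms are epimorphisms towards reduced rings.
* `AWNLoc.isRingAWN_of_isAWNRing`: a universal homeomorphism onto an AWN ring is an AWN-ization.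
* `AWNLoc.existsUnique_map`, `AWNLoc.exists_ringEquiv`: functoriality and uniqueness.
* `AWNLoc.isUnivHomeo_away`, `AWNLoc.isLocalization_away`: compatibility with `A → A[1/r]`.
-/

universe u

namespace Groth.Agent.Lib.Helper70

open CategoryTheory CategoryTheory.Limits AlgebraicGeometry TensorProduct

namespace AWNLoc
open SpecUH AWNRing Groth.Agent.Lib.Helper2

/-- base change of a universal homeomorphism of affine schemes, ring level. -/
theorem isUnivHomeo_includeRight {A C B : Type u} [CommRing A] [CommRing C] [CommRing B]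
    [Algebra A C] [Algebra A B]
    (h : FlatMor.IsUnivHomeo (Spec.map (CommRingCat.ofHom (algebraMap A C)))) :
    FlatMor.IsUnivHomeo (Spec.map (CommRingCat.ofHom
      (Algebra.TensorProduct.includeRight : B →ₐ[A] C ⊗[A] B).toRingHom)) :=
  MorphismProperty.of_isPullback (isPullback_SpecMap_of_isPushout _ _ _ _
    (CommRingCat.isPushout_tensorProduct A C B)) h

/-- universal homeomorphisms are epimorphisms towards reduced rings. -/
theorem eq_of_comp_eq {A C B : Type u} [CommRing A] [CommRing C] [CommRing B] (ψ : A →+* C)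
    (hψ : FlatMor.IsUnivHomeo (Spec.map (CommRingCat.ofHom ψ))) [IsReduced B]
    (χ₁ χ₂ : C →+* B) (h : χ₁.comp ψ = χ₂.comp ψ) : χ₁ = χ₂ := by
  obtain ⟨-, -, h3⟩ := (isUnivHomeo_SpecMap_iff ψ).mp hψ
  apply RingHom.ext
  intro c
  apply eq_of_forall_residue
  intro P _
  have := h3 P.ResidueField ((algebraMap B P.ResidueField).comp χ₁)
    ((algebraMap B P.ResidueField).comp χ₂) (by
      rw [RingHom.comp_assoc, RingHom.comp_assoc, h])
  exact congrFun (congrArg DFunLike.coe this) c

/-- a universal homeomorphism onto an absolutely weakly normal ring is an absolute weak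
normalization. -/
theorem isRingAWN_of_isAWNRing {A B : Type u} [CommRing A] [CommRing B] (ψ : A →+* B)
    (hψ : FlatMor.IsUnivHomeo (Spec.map (CommRingCat.ofHom ψ))) (hB : HTop.IsAWNRing B) :
    HTop.IsRingAWN ψ := by
  have hBred : IsReduced B := isReduced_of_isSeminormalRing hB.1
  refine ⟨hψ, fun C _ ψ' hψ' => ?_⟩
  let _ : Algebra A C := ψ'.toAlgebra
  let _ : Algebra A B := ψ.toAlgebra
  let T := C ⊗[A] B
  let ιB : B →+* T := (Algebra.TensorProduct.includeRight : B →ₐ[A] C ⊗[A] B).toRingHom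
  let ιC : C →+* T := Algebra.TensorProduct.includeLeftRingHom
  have hιB : FlatMor.IsUnivHomeo (Spec.map (CommRingCat.ofHom ιB)) :=
    isUnivHomeo_includeRight (A := A) (C := C) (B := B) hψ'
  let q : T →+* T ⧸ nilradical T := Ideal.Quotient.mk _
  have hq : FlatMor.IsUnivHomeo (Spec.map (CommRingCat.ofHom q)) :=
    isUnivHomeo_of_surjective_of_ker _ Ideal.Quotient.mk_surjective (by rw [Ideal.mk_ker])
  have hcomp := isUnivHomeo_comp ιB q hιB hq
  have hred : IsReduced (T ⧸ nilradical T) := by
    rw [← Ideal.isRadical_iff_quotient_reduced]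
    exact Ideal.radical_isRadical _
  have hbij := bijective_of_isAWNRing hB (q.comp ιB) hcomp
  let e := RingEquiv.ofBijective (q.comp ιB) hbij
  have hcomm : ιC.comp ψ' = ιB.comp ψ :=
    Algebra.TensorProduct.includeLeftRingHom_comp_algebraMap
  refine ⟨(e.symm.toRingHom.comp q).comp ιC, ?_, fun χ hχ => ?_⟩
  · apply RingHom.ext
    intro a
    change e.symm (q (ιC (ψ' a))) = ψ a
    rw [e.symm_apply_eq]
    have := congrFun (congrArg DFunLike.coe hcomm) a
    simp only [RingHom.comp_apply] at this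
    rw [this]
    rfl
  · apply eq_of_comp_eq ψ' hψ'
    rw [hχ]
    apply RingHom.ext
    intro a
    change ψ a = e.symm (q (ιC (ψ' a)))
    rw [eq_comm, e.symm_apply_eq]
    have := congrFun (congrArg DFunLike.coe hcomm) a
    simp only [RingHom.comp_apply] at this
    rw [this]
    rfl

/-- functoriality of absolute weak normalizations of rings. -/
theorem existsUnique_map {A A' B B' : Type u} [CommRing A] [CommRing A'] [CommRing B]
    [CommRing B'] (f : A →+* A') (φ : A →+* B) (hφ : HTop.IsRingAWN φ) (φ' : A' →+* B')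
    (hφ' : HTop.IsRingAWN φ') : ∃! θ : B →+* B', θ.comp φ = φ'.comp f := by
  have hB'red : IsReduced B' := isReduced_of_isRingAWN φ' hφ'
  let _ : Algebra A B := φ.toAlgebra
  let _ : Algebra A A' := f.toAlgebra
  let T := B ⊗[A] A'
  let ιA' : A' →+* T := (Algebra.TensorProduct.includeRight : A' →ₐ[A] B ⊗[A] A').toRingHom
  let ιB : B →+* T := Algebra.TensorProduct.includeLeftRingHom
  have hι : FlatMor.IsUnivHomeo (Spec.map (CommRingCat.ofHom ιA')) :=
    isUnivHomeo_includeRight (A := A) (C := B) (B := A') hφ.1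
  obtain ⟨χ, hχ, -⟩ := hφ'.2 T ιA' hι
  have hcomm : ιB.comp φ = ιA'.comp f :=
    Algebra.TensorProduct.includeLeftRingHom_comp_algebraMap
  refine ⟨χ.comp ιB, ?_, fun θ hθ => ?_⟩
  · change (χ.comp ιB).comp φ = φ'.comp f
    rw [RingHom.comp_assoc, hcomm, ← RingHom.comp_assoc, hχ]
  · apply eq_of_comp_eq φ hφ.1
    rw [hθ, RingHom.comp_assoc, hcomm, ← RingHom.comp_assoc, hχ]

theorem isUnivHomeo_id (A : Type u) [CommRing A] :
    FlatMor.IsUnivHomeo (Spec.map (CommRingCat.ofHom (RingHom.id A))) := by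
  rw [isUnivHomeo_SpecMap_iff]
  exact ⟨RingHom.isIntegral_of_surjective _ Function.surjective_id,
    fun a ha => by rw [RingHom.mem_ker] at ha; rw [show a = 0 from ha]; exact zero_mem _,
    fun K _ g₁ g₂ h => h⟩

/-- two absolute weak normalizations of the same ring are uniquely isomorphic. -/
theorem exists_ringEquiv {A B B' : Type u} [CommRing A] [CommRing B] [CommRing B']
    (φ : A →+* B) (hφ : HTop.IsRingAWN φ) (φ' : A →+* B') (hφ' : HTop.IsRingAWN φ') :
    ∃ e : B ≃+* B', e.toRingHom.comp φ = φ' := by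
  obtain ⟨θ, hθ, -⟩ := hφ'.2 B φ hφ.1
  obtain ⟨θ', hθ', -⟩ := hφ.2 B' φ' hφ'.1
  have h1 : θ.comp θ' = RingHom.id B' := endo_eq_id φ' hφ' _ (by
    rw [RingHom.comp_assoc, hθ', hθ])
  have h2 : θ'.comp θ = RingHom.id B := endo_eq_id φ hφ _ (by
    rw [RingHom.comp_assoc, hθ, hθ'])
  refine ⟨RingEquiv.ofRingHom θ θ' h1 h2, hθ⟩

/-- the localization of a universal homeomorphism at an element of the base is a universal
homeomorphism (ring level, via the characterization by points). -/
theorem isUnivHomeo_away {A A' B : Type u} [CommRing A] [CommRing A'] [CommRing B]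
    (r : A) (f : A →+* A') (hf : @IsLocalization.Away A _ r A' _ f.toAlgebra)
    (φ : A →+* B) (hφ : FlatMor.IsUnivHomeo (Spec.map (CommRingCat.ofHom φ)))
    (ψ : A' →+* Localization.Away (φ r))
    (hψf : ψ.comp f = (algebraMap B (Localization.Away (φ r))).comp φ) :
    FlatMor.IsUnivHomeo (Spec.map (CommRingCat.ofHom ψ)) := by
  let _ : Algebra A A' := f.toAlgebra
  have : IsLocalization.Away r A' := hf
  set Br := Localization.Away (φ r) with hBr
  rw [isUnivHomeo_SpecMap_iff]
  obtain ⟨h1, h2, h3⟩ := (isUnivHomeo_SpecMap_iff φ).mp hφ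
  have hfr : IsUnit (f r) := IsLocalization.Away.algebraMap_isUnit r
  refine ⟨?_, ?_, ?_⟩
  · intro x
    obtain ⟨⟨b, ⟨_, n, rfl⟩⟩, hx⟩ := IsLocalization.surj (Submonoid.powers (φ r)) x
    simp only at hx
    obtain ⟨p, hp, hpb⟩ := h1 b
    have hb' : ψ.IsIntegralElem (algebraMap B Br b) := by
      refine ⟨p.map f, hp.map f, ?_⟩
      rw [Polynomial.eval₂_map, hψf, ← Polynomial.hom_eval₂, hpb, map_zero]
    obtain ⟨u, hu⟩ := hfr
    have hx' : x = algebraMap B Br b * ψ ((u⁻¹ : A'ˣ) ^ n : A'ˣ) := by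
      rw [← hx, mul_assoc]
      have : algebraMap B Br (φ r ^ n) = ψ ((u : A') ^ n) := by
        rw [hu, map_pow, map_pow]
        congr 1
        exact (congrFun (congrArg DFunLike.coe hψf) r).symm
      rw [this, ← map_mul, ← Units.val_pow_eq_pow_val, ← Units.val_mul, ← mul_pow,
        mul_inv_cancel, one_pow, Units.val_one, map_one, mul_one]
    rw [hx']
    exact RingHom.IsIntegralElem.mul ψ hb' ψ.isIntegralElem_map
  · intro a' ha'
    rw [RingHom.mem_ker] at ha'
    obtain ⟨⟨a, ⟨_, n, rfl⟩⟩, hx⟩ := IsLocalization.surj (Submonoid.powers r) a'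
    simp only at hx
    have e1 : algebraMap B Br (φ a) = 0 := by
      have := congrFun (congrArg DFunLike.coe hψf) a
      simp only [RingHom.comp_apply] at this
      rw [← this]
      change ψ (algebraMap A A' a) = 0
      rw [← hx, map_mul, ha', zero_mul]
    obtain ⟨⟨_, m, rfl⟩, hm⟩ := (IsLocalization.map_eq_zero_iff (Submonoid.powers (φ r)) Br _).mp e1
    simp only at hm
    have e2 : r ^ m * a ∈ nilradical A := h2 (by
      rw [RingHom.mem_ker, map_mul, map_pow]; exact hm)
    obtain ⟨k, hk⟩ := mem_nilradical.mp e2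
    rw [mem_nilradical]
    refine ⟨k, ?_⟩
    have e3 : (f r ^ m) ^ k * (f r ^ n) ^ k * a' ^ k = 0 := by
      have : (f r ^ n) ^ k * a' ^ k = f a ^ k := by
        rw [← mul_pow, mul_comm]
        congr 1
        rw [← map_pow]
        exact hx
      rw [mul_assoc, this, ← mul_pow, ← map_pow, ← map_mul, ← map_pow, hk, map_zero]
    have hunit : IsUnit ((f r ^ m) ^ k * (f r ^ n) ^ k) :=
      ((hfr.pow m).pow k).mul ((hfr.pow n).pow k)
    exact hunit.mul_right_eq_zero.mp e3
  · intro K _ g₁ g₂ hg
    apply IsLocalization.ringHom_ext (Submonoid.powers (φ r))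
    apply h3
    rw [RingHom.comp_assoc, RingHom.comp_assoc, ← hψf, ← RingHom.comp_assoc,
      ← RingHom.comp_assoc, hg]

/-- absolute weak normalization commutes with localization at one element. -/
theorem isLocalization_away {A A' B B' : Type u} [CommRing A] [CommRing A'] [CommRing B]
    [CommRing B'] (r : A) (f : A →+* A') (hf : @IsLocalization.Away A _ r A' _ f.toAlgebra)
    (φ : A →+* B) (hφ : HTop.IsRingAWN φ) (φ' : A' →+* B') (hφ' : HTop.IsRingAWN φ')
    (θ : B →+* B') (hθ : θ.comp φ = φ'.comp f) :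
    @IsLocalization.Away B _ (φ r) B' _ θ.toAlgebra := by
  have hB'red : IsReduced B' := isReduced_of_isRingAWN φ' hφ'
  set Br := Localization.Away (φ r) with hBr
  have hunit : IsUnit (((algebraMap B Br).comp φ) r) :=
    IsLocalization.Away.algebraMap_isUnit (φ r)
  let _ : Algebra A A' := f.toAlgebra
  have hloc : IsLocalization.Away r A' := hf
  let ψ : A' →+* Br := IsLocalization.Away.lift r hunit
  have hψf : ψ.comp f = (algebraMap B Br).comp φ := IsLocalization.Away.lift_comp r hunit
  have hψ : FlatMor.IsUnivHomeo (Spec.map (CommRingCat.ofHom ψ)) :=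
    isUnivHomeo_away r f hf φ hφ.1 ψ hψf
  have hBrAWN : HTop.IsAWNRing Br :=
    Groth.Agent.Lib.Helper37.isAWNRing_of_isLocalizationAway (φ r) Br
      (isAWNRing_of_isRingAWN φ hφ)
  have hψAWN : HTop.IsRingAWN ψ := isRingAWN_of_isAWNRing ψ hψ hBrAWN
  obtain ⟨e, he⟩ := exists_ringEquiv ψ hψAWN φ' hφ'
  have hcompat : e.toRingHom.comp (algebraMap B Br) = θ := by
    apply eq_of_comp_eq φ hφ.1
    rw [RingHom.comp_assoc, ← hψf, ← RingHom.comp_assoc, he, hθ]
  let _ : Algebra B B' := θ.toAlgebra
  exact IsLocalization.isLocalization_of_algEquiv (Submonoid.powers (φ r))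
    (AlgEquiv.ofRingEquiv (f := e) (fun b => congrFun (congrArg DFunLike.coe hcompat) b))

end AWNLoc

end Groth.Agent.Lib.Helper70
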