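import Mathlib
import Groth.Agent.Lib.Helper37.Seminormal
import Groth.Agent.Lib.Helper70.SeminormalIso
import Groth.Agent.S7420
import Groth.Agent.S7421
import Groth.Prelude.Def_Pi1

/-!
# Normal schemes are seminormal; lifting through seminormalization-like maps

* `NormalSN.isSeminormalRing_of_forall_localization`: a ring all of whose localizations at primes
  are integrally closed domains is seminormal.
* `NormalSN.isSeminormal_of_isNormalScheme`, `NormalSN.isSeminormal_opens`.
* `NormalSN.exists_lift_of_isSeminormal`: a morphism from a seminormal scheme `T` to `S` lifts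
  through any universal homeomorphism `X' ⟶ S` inducing isomorphisms of residue fields.
* `NormalSN.eq_of_comp_eq_of_universallyInjective`: uniqueness of such lifts (reduced source).
-/

universe u

namespace Groth.Agent.Lib.Helper70

open CategoryTheory CategoryTheory.Limits AlgebraicGeometry

namespace NormalSN
open Groth.Agent.Lib.Helper37 Groth.Agent.Lib.Helper2

/-- in an integrally closed domain the cusp equation can be solved. -/
theorem exists_sq_cube_of_isIntegrallyClosed {B : Type*} [CommRing B] [IsDomain B]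
    [IsIntegrallyClosed B] (x y : B) (hxy : x ^ 3 = y ^ 2) : ∃ a : B, a ^ 2 = x ∧ a ^ 3 = y := by
  by_cases hx : x = 0
  · subst hx
    have hy : y = 0 := by
      have : y ^ 2 = 0 := by rw [← hxy]; ring
      exact pow_eq_zero_iff (two_ne_zero) |>.mp this
    exact ⟨0, by simp, by simp [hy]⟩
  let K := FractionRing B
  have hinj := IsFractionRing.injective B K
  have hx' : algebraMap B K x ≠ 0 := fun h => hx (hinj (by rw [h, map_zero]))
  set a' : K := algebraMap B K y / algebraMap B K x with ha'
  have h2 : a' ^ 2 = algebraMap B K x := by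
    rw [ha', div_pow, ← map_pow, ← hxy, map_pow, div_eq_iff (pow_ne_zero 2 hx')]
    ring
  have hint : IsIntegral B a' := by
    refine ⟨Polynomial.X ^ 2 - Polynomial.C x, Polynomial.monic_X_pow_sub_C x two_ne_zero, ?_⟩
    simp [h2]
  obtain ⟨a, ha⟩ := IsIntegrallyClosed.isIntegral_iff.mp hint
  have e2 : a ^ 2 = x := hinj (by rw [map_pow, ha, h2])
  refine ⟨a, e2, hinj ?_⟩
  rw [map_pow, ha, pow_succ, h2, ha', mul_comm]
  exact div_mul_cancel₀ _ hx'

theorem isSeminormalRing_of_forall_localization {A : Type u} [CommRing A]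
    (h : ∀ p : PrimeSpectrum A, ∃ (B : Type u) (_ : CommRing B) (_ : Algebra A B)
      (_ : IsLocalization.AtPrime B p.asIdeal), IsDomain B ∧ IsIntegrallyClosed B) :
    HTop.IsSeminormalRing A := by
  have hred : IsReduced A := by
    rw [isReduced_iff_pow_one_lt 2 (by norm_num)]
    intro a ha
    by_contra hne
    have hann : (Ideal.span {a}).annihilator ≠ ⊤ := by
      intro htop
      have h1 : (1 : A) ∈ (Ideal.span {a}).annihilator := by rw [htop]; trivial
      rw [Submodule.mem_annihilator_span_singleton] at h1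
      exact hne (by simpa using h1)
    obtain ⟨m, hm, hle⟩ := Ideal.exists_le_maximal _ hann
    obtain ⟨B, _, _, hloc, hdom, -⟩ := h ⟨m, hm.isPrime⟩
    have h0 : algebraMap A B a = 0 := by
      have : (algebraMap A B a) ^ 2 = 0 := by rw [← map_pow, ha, map_zero]
      exact pow_eq_zero_iff two_ne_zero |>.mp this
    rw [← map_zero (algebraMap A B)] at h0
    obtain ⟨c, hc⟩ := (IsLocalization.eq_iff_exists m.primeCompl B).mp h0
    have hcm : (c : A) ∈ m := hle (by
      rw [Submodule.mem_annihilator_span_singleton]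
      simpa using hc)
    exact c.2 hcm
  rw [isSeminormalRing_iff]
  refine ⟨hred, fun x y hxy => ?_⟩
  have htop : cuspIdeal x y hxy = ⊤ := by
    by_contra hne
    obtain ⟨m, hm, hle⟩ := Ideal.exists_le_maximal _ hne
    obtain ⟨B, _, _, hloc, hdom, hic⟩ := h ⟨m, hm.isPrime⟩
    obtain ⟨a, ha2, ha3⟩ := exists_sq_cube_of_isIntegrallyClosed (algebraMap A B x)
      (algebraMap A B y) (by rw [← map_pow, ← map_pow, hxy])
    obtain ⟨⟨b₀, c₀⟩, hbc⟩ := IsLocalization.surj m.primeCompl a
    simp only at hbc
    have e2 : algebraMap A B (b₀ ^ 2) = algebraMap A B ((c₀ : A) ^ 2 * x) := by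
      rw [map_pow, ← hbc, map_mul, map_pow, mul_pow, ha2]; ring
    have e3 : algebraMap A B (b₀ ^ 3) = algebraMap A B ((c₀ : A) ^ 3 * y) := by
      rw [map_pow, ← hbc, map_mul, map_pow, mul_pow, ha3]; ring
    obtain ⟨u, hu⟩ := (IsLocalization.eq_iff_exists m.primeCompl B).mp e2
    obtain ⟨v, hv⟩ := (IsLocalization.eq_iff_exists m.primeCompl B).mp e3
    have hmem : (u : A) * v * c₀ ∈ cuspIdeal x y hxy := by
      refine ⟨(u : A) * v * b₀, ?_, ?_⟩
      · calc ((u : A) * v * b₀) ^ 2 = u * v ^ 2 * (u * b₀ ^ 2) := by ring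
          _ = u * v ^ 2 * (u * ((c₀ : A) ^ 2 * x)) := by rw [hu]
          _ = ((u : A) * v * c₀) ^ 2 * x := by ring
      · calc ((u : A) * v * b₀) ^ 3 = u ^ 3 * v ^ 2 * (v * b₀ ^ 3) := by ring
          _ = u ^ 3 * v ^ 2 * (v * ((c₀ : A) ^ 3 * y)) := by rw [hv]
          _ = ((u : A) * v * c₀) ^ 3 * y := by ring
    exact (u * v * c₀).2 (hle hmem)
  have h1 : (1 : A) ∈ cuspIdeal x y hxy := by rw [htop]; trivial
  obtain ⟨b, hb2, hb3⟩ := h1
  exact ⟨b, by rw [hb2]; ring, by rw [hb3]; ring⟩

theorem isSeminormalRing_of_isNormalScheme {X : Scheme.{u}} (hX : Pi1.IsNormalScheme X)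
    (U : X.Opens) (hU : IsAffineOpen U) : HTop.IsSeminormalRing Γ(X, U) := by
  apply isSeminormalRing_of_forall_localization
  intro p
  have hp : hU.fromSpec p ∈ U := by
    have := hU.range_fromSpec
    rw [← SetLike.mem_coe, ← this]
    exact ⟨p, rfl⟩
  exact ⟨X.presheaf.stalk (hU.fromSpec p), inferInstance,
    TopCat.Presheaf.algebra_section_stalk X.presheaf ⟨hU.fromSpec p, hp⟩,
    hU.isLocalization_stalk' p hp, hX _⟩

theorem isSeminormal_of_isNormalScheme {X : Scheme.{u}} (hX : Pi1.IsNormalScheme X) :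
    HTop.IsSeminormal X := by
  rw [(Groth.Agent.S7420.result X).1]
  intro U
  exact isSeminormalRing_of_isNormalScheme hX U.1 U.2

theorem isSeminormal_opens {X : Scheme.{u}} (hX : HTop.IsSeminormal X) (V : X.Opens) :
    HTop.IsSeminormal V.toScheme := by
  rw [(Groth.Agent.S7420.result X).1] at hX
  rw [(Groth.Agent.S7420.result V.toScheme).1]
  intro W
  have hW : IsAffineOpen (V.ι ''ᵁ W.1) := W.2.image_of_isOpenImmersion V.ι
  exact hX ⟨V.ι ''ᵁ W.1, hW⟩

theorem isIso_residueFieldMap_of_section {P T : Scheme.{u}} (p : P ⟶ T) (t : T)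
    (s : Spec (T.residueField t) ⟶ P) (hs : s ≫ p = T.fromSpecResidueField t)
    (z : Spec (T.residueField t)) : IsIso (p.residueFieldMap (s z)) := by
  have h0 : IsIso ((s ≫ p).residueFieldMap z) := by
    rw [hs]
    exact SNIso.residueFieldsIso_of_isPreimmersion _ z
  rw [Scheme.residueFieldMap_comp] at h0
  have hb : Function.Bijective (p.residueFieldMap (s z) ≫ s.residueFieldMap z) :=
    @ConcreteCategory.bijective_of_isIso _ _ _ _ _ _ _ _ _ h0
  have hbi : IsIso (s.residueFieldMap z) := by
    apply (ConcreteCategory.isIso_iff_bijective _).mpr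
    refine ⟨(s.residueFieldMap z).hom.injective, ?_⟩
    intro y
    obtain ⟨w, hw⟩ := hb.2 y
    exact ⟨p.residueFieldMap (s z) w, hw⟩
  exact @IsIso.of_isIso_comp_right _ _ _ _ _ (p.residueFieldMap (s z)) (s.residueFieldMap z) hbi h0

/-- pointwise lifts through a universal homeomorphism with trivial residue field extensions. -/
theorem exists_pointwise_lift {X' S T : Scheme.{u}} (ν : X' ⟶ S) (hU : FlatMor.IsUnivHomeo ν)
    (hR : HTop.ResidueFieldsIso ν) (g : T ⟶ S) (t : T) :
    ∃ l : Spec (T.residueField t) ⟶ X', l ≫ ν = T.fromSpecResidueField t ≫ g := by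
  have hsurj : Surjective ν := IsUnivHomeo.surjective hU
  obtain ⟨x', hx'⟩ := ν.surjective (g t)
  have hiso : IsIso (ν.residueFieldMap x') := hR x'
  refine ⟨Spec.map (inv (ν.residueFieldMap x') ≫ (S.residueFieldCongr hx').hom ≫
    g.residueFieldMap t) ≫ X'.fromSpecResidueField x', ?_⟩
  rw [Category.assoc, ← Scheme.Hom.SpecMap_residueFieldMap_fromSpecResidueField,
    ← Spec.map_comp_assoc, IsIso.hom_inv_id_assoc, Spec.map_comp, Category.assoc,
    Scheme.residueFieldCongr_fromSpecResidueField,
    Scheme.Hom.SpecMap_residueFieldMap_fromSpecResidueField]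

theorem exists_lift_of_isSeminormal {X' S T : Scheme.{u}} (ν : X' ⟶ S)
    (hU : FlatMor.IsUnivHomeo ν) (hR : HTop.ResidueFieldsIso ν) (hT : HTop.IsSeminormal T)
    (g : T ⟶ S) : ∃ h : T ⟶ X', h ≫ ν = g := by
  let P := pullback ν g
  let p : P ⟶ T := pullback.snd ν g
  let q : P ⟶ X' := pullback.fst ν g
  have hpq : q ≫ ν = p ≫ g := pullback.condition
  have hpU : FlatMor.IsUnivHomeo p := MorphismProperty.pullback_snd _ _ hU
  have hpinj : UniversallyInjective p := IsUnivHomeo.universallyInjective hpU
  have hpt : ∀ t : T, ∃ s : Spec (T.residueField t) ⟶ P, s ≫ p = T.fromSpecResidueField t := by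
    intro t
    obtain ⟨l, hl⟩ := exists_pointwise_lift ν hU hR g t
    exact ⟨pullback.lift l (T.fromSpecResidueField t) hl, pullback.lift_snd _ _ _⟩
  have hz : ∀ t : T, Nonempty (Spec (T.residueField t)) := fun t => inferInstance
  have hpR : HTop.ResidueFieldsIso p := by
    intro x'
    obtain ⟨s, hs⟩ := hpt (p x')
    obtain ⟨z⟩ := hz (p x')
    have hsz : s z = x' := by
      apply p.injective
      rw [← Scheme.Hom.comp_apply, hs, Scheme.fromSpecResidueField_apply]
    have := isIso_residueFieldMap_of_section p (p x') s hs z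
    rw [← hsz]
    exact this
  let i : P.nilradical.subscheme ⟶ P := P.nilradical.subschemeι
  have hisurj : Surjective i := by
    constructor
    rw [← Set.range_eq_univ, Scheme.IdealSheafData.range_subschemeι, Scheme.support_nilradical]
    rfl
  have hiU : FlatMor.IsUnivHomeo i := IsUnivHomeo.of_isClosedImmersion_of_surjective i
  have hiR : HTop.ResidueFieldsIso i := SNIso.residueFieldsIso_of_isPreimmersion i
  have hπU : FlatMor.IsUnivHomeo (i ≫ p) := MorphismProperty.comp_mem _ _ _ hiU hpU
  have hπR := SNIso.residueFieldsIso_comp i p hiR hpR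
  have hiso : IsIso (i ≫ p) := SNIso.isIso_of_isSeminormal (i ≫ p) hπU hπR hT
  refine ⟨inv (i ≫ p) ≫ i ≫ q, ?_⟩
  rw [Category.assoc, Category.assoc, hpq, ← Category.assoc i, IsIso.inv_hom_id_assoc]

/-- morphisms from a reduced scheme into the source of a universally injective morphism are
determined by their composites. -/
theorem eq_of_comp_eq_of_universallyInjective {Y U T : Scheme.{u}} (π : Y ⟶ U)
    [UniversallyInjective π] [IsReduced T] (h1 h2 : T ⟶ Y) (h : h1 ≫ π = h2 ≫ π) : h1 = h2 := by
  have hΔ : IsClosedImmersion (pullback.diagonal π) :=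
    isClosedImmersion_diagonal_of_universallyInjective π
  have hs : Surjective (pullback.diagonal π) := (UniversallyInjective.iff_diagonal π).mp ‹_›
  let l : T ⟶ pullback π π := pullback.lift h1 h2 h
  have h3 : IsClosedImmersion (pullback.snd (pullback.diagonal π) l) :=
    MorphismProperty.pullback_snd _ _ hΔ
  have h4 : Surjective (pullback.snd (pullback.diagonal π) l) :=
    MorphismProperty.pullback_snd _ _ hs
  have h5 : IsIso (pullback.snd (pullback.diagonal π) l) :=
    isIso_of_isClosedImmersion_of_surjective _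
  have h6 : l = (inv (pullback.snd (pullback.diagonal π) l) ≫
      pullback.fst (pullback.diagonal π) l) ≫ pullback.diagonal π := by
    rw [Category.assoc, pullback.condition, IsIso.inv_hom_id_assoc]
  have e1 : h1 = l ≫ pullback.fst π π := (pullback.lift_fst _ _ _).symm
  have e2 : h2 = l ≫ pullback.snd π π := (pullback.lift_snd _ _ _).symm
  rw [e1, e2, h6]
  simp only [Category.assoc, pullback.diagonal_fst, pullback.diagonal_snd]

end NormalSN

end Groth.Agent.Lib.Helper70
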