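import Mathlib
import Groth.Agent.Lib.Helper70.NormalSeminormal
import Groth.Agent.Lib.Helper70.AWNLocalization

universe u

namespace Groth.Agent.Lib.Helper70

open CategoryTheory CategoryTheory.Limits AlgebraicGeometry TensorProduct Opposite

namespace AWNLift
open SpecUH AWNRing AWNLoc Groth.Agent.Lib.Helper2 SNIso NormalSN

theorem isUnivHomeo_eq : FlatMor.IsUnivHomeo.{u} =
    ((@IsIntegralHom ⊓ @UniversallyInjective) ⊓ @Surjective : MorphismProperty Scheme.{u}) := by
  ext X Y f
  exact (Groth.Agent.S0415.result f).trans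
    ⟨fun ⟨a, b, c⟩ => ⟨⟨a, b⟩, c⟩, fun ⟨⟨a, b⟩, c⟩ => ⟨a, b, c⟩⟩

instance : IsZariskiLocalAtTarget FlatMor.IsUnivHomeo.{u} := isUnivHomeo_eq ▸ inferInstance

theorem isAWNRing_of_iso {A B : CommRingCat.{u}} (e : A ≅ B)
    (hB : HTop.IsAWNRing B) : HTop.IsAWNRing A :=
  isAWNRing_of_ringEquiv e.commRingCatIsoToRingEquiv hB

/-- a universal homeomorphism from a reduced scheme to an absolutely weakly normal scheme is an
isomorphism. -/
theorem isIso_of_isAWN {Z T : Scheme.{u}} (π : Z ⟶ T) (hU : FlatMor.IsUnivHomeo π)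
    [IsReduced Z] (hT : HTop.IsAWN T) : IsIso π := by
  have hint : IsIntegralHom π := ((Groth.Agent.S0415.result π).mp hU).1
  choose U hxU hU' using hT
  have hcov : ⨆ t, (U t).1 = ⊤ := by
    rw [eq_top_iff]
    intro x _
    exact TopologicalSpace.Opens.mem_iSup.mpr ⟨x, hxU x⟩
  change (MorphismProperty.isomorphisms Scheme.{u}) π
  rw [HasAffineProperty.iff_of_iSup_eq_top (P := MorphismProperty.isomorphisms Scheme.{u}) U hcov]
  intro t
  have haff : IsAffine (π ⁻¹ᵁ (U t).1) := (U t).2.preimage π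
  have haffU : IsAffine ((U t).1 : Scheme.{u}) := (U t).2
  refine ⟨haff, ?_⟩
  have h1 : FlatMor.IsUnivHomeo (π ∣_ (U t).1) :=
    MorphismProperty.of_isPullback (isPullback_morphismRestrict π (U t).1).flip hU
  have h2 : FlatMor.IsUnivHomeo (Spec.map (π ∣_ (U t).1).appTop) :=
    (MorphismProperty.arrow_mk_iso_iff _ (arrowIsoSpecΓOfIsAffine _)).mp h1
  have hA : HTop.IsAWNRing Γ(((U t).1 : Scheme.{u}), ⊤) :=
    isAWNRing_of_iso (U t).1.topIso (hU' t)
  have hbij := bijective_of_isAWNRing hA (π ∣_ (U t).1).appTop.hom h2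
  exact (ConcreteCategory.isIso_iff_bijective _).mpr hbij

theorem isSeminormal_of_isAWN {T : Scheme.{u}} (hT : HTop.IsAWN T) : HTop.IsSeminormal T := by
  intro x
  obtain ⟨U, hx, hU⟩ := hT x
  exact ⟨U, hx, hU.1⟩

theorem isReduced_of_isAWN {T : Scheme.{u}} (hT : HTop.IsAWN T) : IsReduced T :=
  (Groth.Agent.S7421.result.{u}).2 T (isSeminormal_of_isAWN hT)

/-- morphisms from an absolutely weakly normal scheme lift uniquely through universal
homeomorphisms. -/
theorem existsUnique_lift_of_isAWN {Y S T : Scheme.{u}} (π : Y ⟶ S)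
    (hU : FlatMor.IsUnivHomeo π) (hT : HTop.IsAWN T) (g : T ⟶ S) :
    ∃! h : T ⟶ Y, h ≫ π = g := by
  have hTred : IsReduced T := isReduced_of_isAWN hT
  have hinj : UniversallyInjective π := IsUnivHomeo.universallyInjective hU
  let P := pullback π g
  let p : P ⟶ T := pullback.snd π g
  let q : P ⟶ Y := pullback.fst π g
  have hpq : q ≫ π = p ≫ g := pullback.condition
  have hpU : FlatMor.IsUnivHomeo p := MorphismProperty.pullback_snd _ _ hU
  let i : P.nilradical.subscheme ⟶ P := P.nilradical.subschemeι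
  have hisurj : Surjective i := by
    constructor
    rw [← Set.range_eq_univ, Scheme.IdealSheafData.range_subschemeι, Scheme.support_nilradical]
    rfl
  have hiU : FlatMor.IsUnivHomeo i := IsUnivHomeo.of_isClosedImmersion_of_surjective i
  have hπU : FlatMor.IsUnivHomeo (i ≫ p) := MorphismProperty.comp_mem _ _ _ hiU hpU
  have hiso : IsIso (i ≫ p) := isIso_of_isAWN (i ≫ p) hπU hT
  refine ⟨inv (i ≫ p) ≫ i ≫ q, ?_, fun h' hh' => ?_⟩
  · change (inv (i ≫ p) ≫ i ≫ q) ≫ π = g
    rw [Category.assoc, Category.assoc, hpq, ← Category.assoc i, IsIso.inv_hom_id_assoc]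
  · apply eq_of_comp_eq_of_universallyInjective π
    rw [hh', Category.assoc, Category.assoc, hpq, ← Category.assoc i, IsIso.inv_hom_id_assoc]

end AWNLift

end Groth.Agent.Lib.Helper70
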