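import Mathlib
import Groth.Agent.Lib.Helper70.AWNLocalization

universe u

namespace Groth.Agent.Lib.Helper70

open CategoryTheory CategoryTheory.Limits AlgebraicGeometry TensorProduct Opposite

namespace AWNScheme
open SpecUH AWNRing AWNLoc Groth.Agent.Lib.Helper2 Scheme.AffineZariskiSite

variable (X : Scheme.{u})

/-- the chosen absolute weak normalization of the ring of sections over an affine open. -/
abbrev aw (U : X.AffineZariskiSite) : Type u := AWNConstr.awn Γ(X, U.1)

/-- the structure map `Γ(X, U) → Γ(X, U)^awn`. -/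
noncomputable abbrev awMap (U : X.AffineZariskiSite) : Γ(X, U.1) →+* aw X U :=
  AWNConstr.phi Γ(X, U.1)

theorem awMap_spec (U : X.AffineZariskiSite) : HTop.IsRingAWN (awMap X U) :=
  ⟨AWNConstr.isUnivHomeo_phi _, fun _ _ ψ hψ => AWNConstr.existsUnique_chi ψ hψ⟩

variable {X}

/-- restriction maps. -/
noncomputable def awRes {U V : X.AffineZariskiSite} (h : U ≤ V) : aw X V →+* aw X U :=
  Classical.choose (existsUnique_map (X.presheaf.map (homOfLE (toOpens_mono h)).op).hom
    (awMap X V) (awMap_spec X V) (awMap X U) (awMap_spec X U)).exists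

theorem awRes_comp {U V : X.AffineZariskiSite} (h : U ≤ V) :
    (awRes h).comp (awMap X V) =
      (awMap X U).comp (X.presheaf.map (homOfLE (toOpens_mono h)).op).hom :=
  Classical.choose_spec (existsUnique_map (X.presheaf.map (homOfLE (toOpens_mono h)).op).hom
    (awMap X V) (awMap_spec X V) (awMap X U) (awMap_spec X U)).exists

theorem awRes_unique {U V : X.AffineZariskiSite} (h : U ≤ V) (θ : aw X V →+* aw X U)
    (hθ : θ.comp (awMap X V) =
      (awMap X U).comp (X.presheaf.map (homOfLE (toOpens_mono h)).op).hom) : θ = awRes h :=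
  (existsUnique_map (X.presheaf.map (homOfLE (toOpens_mono h)).op).hom
    (awMap X V) (awMap_spec X V) (awMap X U) (awMap_spec X U)).unique hθ (awRes_comp h)

variable (X)

/-- the presheaf of absolute weak normalizations on the affine opens. -/
noncomputable def F : X.AffineZariskiSiteᵒᵖ ⥤ CommRingCat.{u} where
  obj U := CommRingCat.of (aw X U.unop)
  map {U V} i := CommRingCat.ofHom (awRes (leOfHom i.unop))
  map_id U := by
    rw [← CommRingCat.ofHom_id]
    congr 1
    symm
    apply awRes_unique
    rw [RingHom.id_comp]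
    have : X.presheaf.map (homOfLE (toOpens_mono (leOfHom (𝟙 U).unop))).op = 𝟙 _ :=
      X.presheaf.map_id _
    rw [this]
    rfl
  map_comp {U V W} i j := by
    rw [← CommRingCat.ofHom_comp]
    congr 1
    symm
    apply awRes_unique
    rw [RingHom.comp_assoc, awRes_comp, ← RingHom.comp_assoc, awRes_comp, RingHom.comp_assoc]
    congr 1
    rw [← CommRingCat.hom_comp, ← X.presheaf.map_comp]
    rfl

/-- the structure map `𝒪_X → F`. -/
noncomputable def α : (toOpensFunctor X).op ⋙ X.presheaf ⟶ F X where
  app U := CommRingCat.ofHom (awMap X U.unop)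
  naturality {U V} i := by
    apply CommRingCat.hom_ext
    exact (awRes_comp (leOfHom i.unop)).symm

end AWNScheme

end Groth.Agent.Lib.Helper70
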