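import Mathlib
import Groth.Agent.Lib.Helper70.AWNSchemeA

universe u

namespace Groth.Agent.Lib.Helper70

open CategoryTheory CategoryTheory.Limits AlgebraicGeometry TensorProduct Opposite

namespace AWNScheme
open SpecUH AWNRing AWNLoc Groth.Agent.Lib.Helper2 Scheme.AffineZariskiSite

variable (X : Scheme.{u})

theorem coequifibered_α : (α X).Coequifibered := by
  rw [coequifibered_iff_forall_isLocalizationAway]
  intro U f
  exact isLocalization_away f (X.presheaf.map (homOfLE (X.basicOpen_le f)).op).hom
    (U.2.isLocalization_basicOpen f) (awMap X U) (awMap_spec X U) (awMap X (U.basicOpen f))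
    (awMap_spec X (U.basicOpen f)) (awRes (U.basicOpen_le f)) (awRes_comp _)

/-- the gluing data. -/
noncomputable def D : (Scheme.AffineZariskiSite.directedCover X).RelativeGluingData :=
  relativeGluingData (coequifibered_α X)

end AWNScheme

end Groth.Agent.Lib.Helper70
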