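import Mathlib
import Groth.Agent.Lib.Helper70.AWNSchemeB
import Groth.Agent.Lib.Helper70.AWNLift

universe u

namespace Groth.Agent.Lib.Helper70

open CategoryTheory CategoryTheory.Limits AlgebraicGeometry TensorProduct Opposite

namespace AWNScheme
open SpecUH AWNRing AWNLoc Groth.Agent.Lib.Helper2 Scheme.AffineZariskiSite AWNLift

variable (X : Scheme.{u})

/-- the absolute weak normalization of a scheme. -/
noncomputable abbrev Xawn : Scheme.{u} := (D X).glued

/-- the structure morphism of the absolute weak normalization. -/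
noncomputable abbrev ν : Xawn X ⟶ X := (D X).toBase

theorem isUnivHomeo_ν : FlatMor.IsUnivHomeo (ν X) := by
  rw [IsZariskiLocalAtTarget.iff_of_openCover (P := FlatMor.IsUnivHomeo)
    (Scheme.AffineZariskiSite.directedCover X)]
  intro U
  have hpb := ((D X).isPullback_natTrans_ι_toBase U).flip
  have e := hpb.isoPullback_hom_snd
  refine (MorphismProperty.cancel_left_of_respectsIso FlatMor.IsUnivHomeo
    hpb.isoPullback.hom _).mp ?_
  have key : FlatMor.IsUnivHomeo ((D X).natTrans.app U) := by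
    change FlatMor.IsUnivHomeo (Spec.map ((α X).app (op U)) ≫ ((restrictIsoSpec X).inv.app U))
    refine (MorphismProperty.cancel_right_of_respectsIso FlatMor.IsUnivHomeo _
      ((restrictIsoSpec X).inv.app U)).mpr ?_
    exact (awMap_spec X U).1
  exact e.symm ▸ key

theorem isAWN_Xawn : HTop.IsAWN (Xawn X) := by
  intro x'
  obtain ⟨U, y, hy⟩ := (D X).cover.exists_eq x'
  have hj : IsOpenImmersion ((D X).cover.f U) := inferInstance
  have haff : IsAffine ((D X).cover.X U) :=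
    inferInstanceAs (IsAffine (Spec (CommRingCat.of (aw X U))))
  refine ⟨⟨((D X).cover.f U).opensRange, isAffineOpen_opensRange ((D X).cover.f U)⟩,
    ⟨y, hy⟩, ?_⟩
  have e1 : Γ(Xawn X, ((D X).cover.f U).opensRange) ≅ Γ((D X).cover.X U, ⊤) :=
    (IsOpenImmersion.ΓIsoTop ((D X).cover.f U)).symm
  have e2 : Γ((D X).cover.X U, ⊤) ≅ CommRingCat.of (aw X U) :=
    Scheme.ΓSpecIso (CommRingCat.of (aw X U))
  exact isAWNRing_of_iso (e1 ≪≫ e2) (isAWNRing_of_isRingAWN _ (awMap_spec X U))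

/-- existence of the absolute weak normalization, together with its absolute weak normality. -/
theorem exists_isAWNormalization_isAWN :
    ∃ (X' : Scheme.{u}) (ν : X' ⟶ X), HTop.IsAWNormalization ν ∧ HTop.IsAWN X' :=
  ⟨Xawn X, ν X, ⟨isUnivHomeo_ν X, fun _ π hπ =>
    existsUnique_lift_of_isAWN π hπ (isAWN_Xawn X) (ν X)⟩, isAWN_Xawn X⟩

variable {X}

/-- absolute weak normality is invariant under isomorphisms. -/
theorem isAWN_of_isIso {X Y : Scheme.{u}} (f : X ⟶ Y) [IsIso f] (hY : HTop.IsAWN Y) :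
    HTop.IsAWN X := by
  intro x
  obtain ⟨U, hxU, hU⟩ := hY (f x)
  refine ⟨⟨f ⁻¹ᵁ U.1, U.2.preimage_of_isIso f⟩, hxU, ?_⟩
  exact isAWNRing_of_iso (asIso (f.app U.1)).symm hU

/-- the source of any absolute weak normalization is absolutely weakly normal. -/
theorem isAWN_of_isAWNormalization {X' X : Scheme.{u}} (ν' : X' ⟶ X)
    (hν' : HTop.IsAWNormalization ν') : HTop.IsAWN X' := by
  obtain ⟨X₀, ν₀, hν₀, hX₀⟩ := exists_isAWNormalization_isAWN X
  obtain ⟨a, ha, -⟩ := hν'.2 X₀ ν₀ hν₀.1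
  obtain ⟨b, hb, -⟩ := hν₀.2 X' ν' hν'.1
  have h1 : a ≫ b = 𝟙 X' := by
    obtain ⟨c, -, hc⟩ := hν'.2 X' ν' hν'.1
    rw [hc (a ≫ b) (by change (a ≫ b) ≫ ν' = ν'; rw [Category.assoc, hb, ha]),
      hc (𝟙 X') (Category.id_comp _)]
  have h2 : b ≫ a = 𝟙 X₀ := by
    obtain ⟨c, -, hc⟩ := hν₀.2 X₀ ν₀ hν₀.1
    rw [hc (b ≫ a) (by change (b ≫ a) ≫ ν₀ = ν₀; rw [Category.assoc, ha, hb]),
      hc (𝟙 X₀) (Category.id_comp _)]
  have : IsIso a := ⟨b, h1, h2⟩
  exact isAWN_of_isIso a hX₀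

end AWNScheme

end Groth.Agent.Lib.Helper70
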