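import Mathlib
import Groth.Agent.Lib.Helper70.SteinPI

universe u

namespace Groth.Agent.Lib.Helper70

open CategoryTheory CategoryTheory.Limits AlgebraicGeometry

namespace AffComp

/-- in an integral algebra over a field, distinct primes are separated by an idempotent. -/
theorem exists_idempotent_separating {K C : Type*} [Field K] [CommRing C]
    [Algebra K C] [Algebra.IsIntegral K C] (p q : PrimeSpectrum C) (hne : p ≠ q) :
    ∃ e : C, IsIdempotentElem e ∧ e ∈ p.asIdeal ∧ e ∉ q.asIdeal := by
  have hmax : ∀ r : PrimeSpectrum C, r.asIdeal.IsMaximal := by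
    intro r
    have : (r.asIdeal.comap (algebraMap K C)).IsMaximal := by
      have hprime : (r.asIdeal.comap (algebraMap K C)).IsPrime := inferInstance
      have : r.asIdeal.comap (algebraMap K C) = ⊥ :=
        (Ideal.eq_bot_or_top _).resolve_right hprime.ne_top
      rw [this]
      exact Ideal.bot_isMaximal
    exact Ideal.isMaximal_of_isIntegral_of_isMaximal_comap r.asIdeal this
  have hnle : ¬ p.asIdeal ≤ q.asIdeal := by
    intro hle
    exact hne (PrimeSpectrum.ext ((hmax p).eq_of_le (hmax q).ne_top hle))
  obtain ⟨c, hcp, hcq⟩ := Set.not_subset.mp hnle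
  let B := Algebra.adjoin K {c}
  have hfin : Module.Finite K B :=
    Algebra.finite_adjoin_simple_of_isIntegral (Algebra.IsIntegral.isIntegral c)
  have hart : IsArtinianRing B := IsArtinianRing.of_finite K B
  let p' : PrimeSpectrum B := PrimeSpectrum.comap B.val.toRingHom p
  let q' : PrimeSpectrum B := PrimeSpectrum.comap B.val.toRingHom q
  have hclopen : IsClopen ({q'} : Set (PrimeSpectrum B)) := isClopen_discrete _
  obtain ⟨e, he, hse⟩ := PrimeSpectrum.isClopen_iff.mp hclopen
  have hcB : c ∈ B := Algebra.subset_adjoin (Set.mem_singleton c)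
  have hpq' : p' ≠ q' := by
    intro h
    have h1 : (⟨c, hcB⟩ : B) ∈ p'.asIdeal := hcp
    rw [h] at h1
    exact hcq h1
  have heq : e ∉ q'.asIdeal := by
    have : q' ∈ (PrimeSpectrum.basicOpen e : Set (PrimeSpectrum B)) := by
      rw [← hse]; exact Set.mem_singleton _
    exact this
  have hep : e ∈ p'.asIdeal := by
    by_contra h
    have : p' ∈ (PrimeSpectrum.basicOpen e : Set (PrimeSpectrum B)) := h
    rw [← hse] at this
    exact hpq' this
  have heC : IsIdempotentElem (e : C) := by
    have := congrArg (fun z : B => (z : C)) he.eq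
    exact this
  exact ⟨(e : C), heC, hep, heq⟩

/-- connected components of a Noetherian space are open. -/
theorem isOpen_connectedComponent_of_noetherianSpace {α : Type*} [TopologicalSpace α]
    [TopologicalSpace.NoetherianSpace α] (x : α) : IsOpen (connectedComponent x) := by
  rw [← isClosed_compl_iff]
  have hfin : (irreducibleComponents α).Finite :=
    TopologicalSpace.NoetherianSpace.finite_irreducibleComponents
  have e : (connectedComponent x)ᶜ =
      ⋃ Z ∈ {Z ∈ irreducibleComponents α | Disjoint Z (connectedComponent x)}, Z := by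
    ext y
    simp only [Set.mem_compl_iff, Set.mem_ofPred_eq, Set.mem_iUnion, exists_prop]
    constructor
    · intro hy
      refine ⟨irreducibleComponent y, ⟨irreducibleComponent_mem_irreducibleComponents y, ?_⟩,
        mem_irreducibleComponent⟩
      rw [Set.disjoint_left]
      intro z hz hzC
      apply hy
      have hconn : IsPreconnected (irreducibleComponent y) :=
        (isIrreducible_irreducibleComponent (x := y)).2.isPreconnected
      have hsub := hconn.subset_connectedComponent hz
      rw [connectedComponent_eq hzC] at *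
      exact hsub mem_irreducibleComponent
    · rintro ⟨Z, ⟨-, hdisj⟩, hyZ⟩ hyC
      exact Set.disjoint_left.mp hdisj hyZ hyC
  rw [e]
  refine Set.Finite.isClosed_biUnion (hfin.subset fun Z hZ => hZ.1) ?_
  intro Z hZ
  exact isClosed_of_mem_irreducibleComponents Z hZ.1

/-- a clopen subset of a scheme is the non-vanishing locus of a global section. -/
theorem exists_section_basicOpen_eq (X : Scheme.{u}) (s : Set X) (hs : IsClopen s) :
    ∃ ε : Γ(X, ⊤), ((X.basicOpen ε : X.Opens) : Set X) = s := by
  let W : Bool → X.Opens := fun b => if b then ⟨s, hs.isOpen⟩ else ⟨sᶜ, hs.compl.isOpen⟩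
  have hWt : ((W true : X.Opens) : Set X) = s := rfl
  have hWf : ((W false : X.Opens) : Set X) = sᶜ := rfl
  have hdisj : ∀ i j, i ≠ j → W i ⊓ W j = ⊥ := by
    intro i j hij
    apply TopologicalSpace.Opens.ext
    rcases i with _ | _ <;> rcases j with _ | _ <;> simp_all [W]
  let sf : ∀ b : Bool, Γ(X, W b) := fun b => if b then 1 else 0
  have hcompat : TopCat.Presheaf.IsCompatible X.presheaf W sf := by
    intro i j
    by_cases hij : i = j
    · subst hij
      rfl
    · have : Subsingleton Γ(X, W i ⊓ W j) := by
        rw [hdisj i j hij]; infer_instance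
      exact Subsingleton.elim _ _
  have hcov : (⊤ : X.Opens) ≤ ⨆ b, W b := by
    intro x _
    by_cases hx : x ∈ s
    · exact TopologicalSpace.Opens.mem_iSup.mpr ⟨true, hx⟩
    · exact TopologicalSpace.Opens.mem_iSup.mpr ⟨false, hx⟩
  obtain ⟨e0, he, -⟩ := X.sheaf.existsUnique_gluing' W ⊤ (fun b => homOfLE le_top) hcov sf hcompat
  let e : Γ(X, ⊤) := e0
  have het : (X.presheaf.map (homOfLE (le_top : W true ≤ ⊤)).op).hom e = 1 := he true
  have hef : (X.presheaf.map (homOfLE (le_top : W false ≤ ⊤)).op).hom e = 0 := he false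
  have h1 := X.basicOpen_res e (homOfLE (le_top : W true ≤ ⊤)).op
  have h2 := X.basicOpen_res e (homOfLE (le_top : W false ≤ ⊤)).op
  refine ⟨e, ?_⟩
  apply Set.Subset.antisymm
  · intro x hx
    by_contra hxs
    have hxW : x ∈ W false := hxs
    have : x ∈ W false ⊓ X.basicOpen e := ⟨hxW, hx⟩
    rw [← h2] at this
    have h0 : X.basicOpen ((X.presheaf.map (homOfLE (le_top : W false ≤ ⊤)).op).hom e) = ⊥ := by
      rw [hef]; exact X.basicOpen_zero _
    rw [h0] at this
    exact this
  · intro x hx
    have hxW : x ∈ W true := hx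
    have h0 : X.basicOpen ((X.presheaf.map (homOfLE (le_top : W true ≤ ⊤)).op).hom e) = W true := by
      rw [het]; exact X.basicOpen_of_isUnit isUnit_one
    have : x ∈ W true ⊓ X.basicOpen e := by
      rw [← h1, h0]; exact hxW
    exact this.2

/-- For a proper scheme over a field, the fibres of the affinization map through a point are the
connected components. -/
theorem preimage_toSpecΓ_eq_connectedComponent {k : Type u} [Field k] {X : Scheme.{u}}
    (f : X ⟶ Spec (CommRingCat.of k)) [IsProper f] (x₀ : X) :
    X.toSpecΓ ⁻¹' {X.toSpecΓ x₀} = connectedComponent x₀ := by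
  have hφint : (DescSec.phi f).hom.IsIntegral := by
    have h1 : f.appTop.hom.IsIntegral := isIntegral_appTop_of_universallyClosed f
    exact RingHom.IsIntegral.trans _ _ (RingHom.isIntegral_of_surjective _
      (ConcreteCategory.bijective_of_isIso (Scheme.ΓSpecIso (CommRingCat.of k)).inv).2) h1
  let _ : Algebra k Γ(X, ⊤) := (DescSec.phi f).hom.toAlgebra
  have : Algebra.IsIntegral k Γ(X, ⊤) := ⟨hφint⟩
  have hlN : IsLocallyNoetherian X := LocallyOfFiniteType.isLocallyNoetherian f
  have hcomp : CompactSpace X := (quasiCompact_iff_compactSpace f).mp inferInstance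
  have hN : IsNoetherian X := { }
  have hmem : ∀ (ε : Γ(X, ⊤)) (y : X), y ∈ X.basicOpen ε ↔
      ε ∉ (show PrimeSpectrum Γ(X, ⊤) from X.toSpecΓ y).asIdeal := by
    intro ε y
    rw [← X.toSpecΓ_preimage_basicOpen ε]
    rfl
  apply Set.Subset.antisymm
  · intro y hy
    have hy' : X.toSpecΓ y = X.toSpecΓ x₀ := hy
    have hclopen : IsClopen (connectedComponent x₀) :=
      ⟨isClosed_connectedComponent, isOpen_connectedComponent_of_noetherianSpace x₀⟩
    obtain ⟨ε, hε⟩ := exists_section_basicOpen_eq X _ hclopen
    have hx₀ : x₀ ∈ X.basicOpen ε := by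
      rw [← SetLike.mem_coe, hε]; exact mem_connectedComponent
    rw [hmem, ← hy', ← hmem] at hx₀
    rw [← hε]
    exact hx₀
  · intro y hy
    by_contra hne
    have hne' : (show PrimeSpectrum Γ(X, ⊤) from X.toSpecΓ y) ≠
        (show PrimeSpectrum Γ(X, ⊤) from X.toSpecΓ x₀) := hne
    obtain ⟨ε, hidem, hεy, hεx⟩ := exists_idempotent_separating (K := k) _ _ hne'
    have hclopen : IsClopen ((X.basicOpen ε : X.Opens) : Set X) := by
      rw [← X.toSpecΓ_preimage_basicOpen ε]
      exact (PrimeSpectrum.isClopen_iff.mpr ⟨ε, hidem, rfl⟩).preimage X.toSpecΓ.continuous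
    have hx₀ : x₀ ∈ X.basicOpen ε := (hmem ε x₀).mpr hεx
    have hyb : y ∈ X.basicOpen ε := hclopen.connectedComponent_subset hx₀ hy
    exact (hmem ε y).mp hyb hεy

end AffComp

end Groth.Agent.Lib.Helper70
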