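import Mathlib
import Groth.Agent.Lib.Helper70.AbsApproxP

/-!
# Affine morphisms and limits: an affine limit is affine at a finite stage (relative version)
-/

set_option autoImplicit false
set_option linter.style.haveILetI false
universe u

open CategoryTheory Limits AlgebraicGeometry Opposite TopologicalSpace

namespace Groth.Agent.Lib.Helper70.AffLim

open Groth.Agent.Lib.Helper70.AbsApproxP

section Stage

variable {I : Type u} [Preorder I] [IsDirected I (· ≤ ·)] [Nonempty I]

/-- If the limit of an inverse system of quasi-compact quasi-separated `X`-schemes with affine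
transition maps is affine over `X` (`X` quasi-compact quasi-separated), then so are the schemes of
the system from some stage on.  Version for a system of schemes with structure maps. -/
theorem exists_stage_isAffineHom' {X : Scheme.{u}} [CompactSpace X] [QuasiSeparatedSpace X]
    (DS : Iᵒᵖ ⥤ Scheme.{u}) (cS : Cone DS) (hcS : IsLimit cS)
    [∀ {i j : Iᵒᵖ} (φ : i ⟶ j), IsAffineHom (DS.map φ)]
    (h : ∀ i, DS.obj i ⟶ X) (hw : ∀ {i j : Iᵒᵖ} (a : i ⟶ j), DS.map a ≫ h j = h i)
    (hqc : ∀ i, QuasiCompact (h i)) (hqs : ∀ i, QuasiSeparated (h i))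
    (g : cS.pt ⟶ X) (hg : ∀ i, cS.π.app i ≫ h i = g) (hgaff : IsAffineHom g) :
    ∃ i₀ : I, ∀ i, i₀ ≤ i → IsAffineHom (h (op i)) := by
  classical
  haveI : IsCofiltered Iᵒᵖ := inferInstance
  haveI : ∀ i, QuasiSeparatedSpace (DS.obj i) := fun i => by
    haveI := hqs i
    exact quasiSeparatedSpace_of_quasiSeparated (h i)
  -- for each affine open of `X`, a stage from which on the preimage is affine
  have key : ∀ U : X.Opens, IsAffineOpen U →
      ∃ i : I, ∀ j, i ≤ j → IsAffineOpen (h (op j) ⁻¹ᵁ U) := by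
    intro U hU
    have hW : IsAffineOpen (g ⁻¹ᵁ U) := hU.preimage g
    obtain ⟨i, V, hV, hVW⟩ := exists_isAffineOpen_preimage_eq DS cS hcS (g ⁻¹ᵁ U) hW
    have hV'c : IsCompact ((h i ⁻¹ᵁ U : (DS.obj i).Opens) : Set (DS.obj i)) := by
      haveI := hqc i
      exact QuasiCompact.isCompact_preimage (f := h i) _ U.2 hU.isCompact
    have hVV' : cS.π.app i ⁻¹ᵁ V = cS.π.app i ⁻¹ᵁ (h i ⁻¹ᵁ U) := by
      rw [hVW, ← Scheme.Hom.comp_preimage, hg i]
    obtain ⟨j, fji, hj⟩ := exists_map_preimage_eq_map_preimage DS cS hcS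
      hV.isCompact hV'c hVV'
    refine ⟨j.unop, fun k hk => ?_⟩
    have h1 : h (op k) ⁻¹ᵁ U = DS.map ((homOfLE hk).op ≫ fji) ⁻¹ᵁ V := by
      rw [Functor.map_comp, Scheme.Hom.comp_preimage, hj]
      simp only [← Scheme.Hom.comp_preimage, hw]
    rw [h1]
    exact hV.preimage _
  -- a finite affine cover of `X`
  obtain ⟨s, hs, hcov⟩ := (isCompact_iff_finite_and_eq_biUnion_affineOpens (X := X)
    (U := ⊤)).mp (by simpa using isCompact_univ)
  choose iU hiU using fun U : X.affineOpens => key U.1 U.2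
  obtain ⟨i₀, hi₀⟩ := (hs.toFinset.image iU).exists_le
  refine ⟨i₀, fun i hi => ?_⟩
  apply isAffineHom_of_forall_exists_isAffineOpen
  intro x
  have hx : x ∈ (⊤ : X.Opens) := trivial
  rw [hcov] at hx
  obtain ⟨U, hU⟩ := Opens.mem_iSup.mp hx
  obtain ⟨hUs, hxU⟩ := Opens.mem_iSup.mp hU
  refine ⟨U.1, hxU, U.2, hiU U i ?_⟩
  exact (hi₀ (iU U) (Finset.mem_image_of_mem _ (hs.mem_toFinset.mpr hUs))).trans hi

/-- The same for a system in `Over X`. -/
theorem exists_stage_isAffineHom {X : Scheme.{u}} [CompactSpace X] [QuasiSeparatedSpace X]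
    (D : Iᵒᵖ ⥤ Over X) (c : Cone D) (hc : IsLimit c)
    (hqc : ∀ i, QuasiCompact (D.obj i).hom) (hqs : ∀ i, QuasiSeparated (D.obj i).hom)
    (haff : ∀ (i j : Iᵒᵖ) (a : i ⟶ j), IsAffineHom (D.map a).left)
    (hpt : IsAffineHom c.pt.hom) :
    ∃ i₀ : I, ∀ i, i₀ ≤ i → IsAffineHom (D.obj (op i)).hom := by
  haveI : IsCofiltered Iᵒᵖ := inferInstance
  haveI : IsConnected Iᵒᵖ := IsCofiltered.isConnected _
  have hcS : IsLimit ((Over.forget X).mapCone c) := isLimitOfPreserves (Over.forget X) hc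
  haveI : ∀ {i j : Iᵒᵖ} (φ : i ⟶ j), IsAffineHom ((D ⋙ Over.forget X).map φ) :=
    fun φ => haff _ _ φ
  exact exists_stage_isAffineHom' (D ⋙ Over.forget X) _ hcS (fun i => (D.obj i).hom)
    (fun a => Over.w (D.map a)) hqc hqs c.pt.hom (fun i => Over.w (c.π.app i)) hpt

end Stage

end Groth.Agent.Lib.Helper70.AffLim
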