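import Mathlib
import Groth.Agent.Lib.Helper70.AffComp
import Groth.Agent.Lib.Helper70.GrpIrrC

/-!
# Translations by rational points; finitely many closed points in an affine open (helper70)
-/

set_option autoImplicit false

namespace Groth.Agent.Lib.Helper70.AffPtsA

universe u

open AlgebraicGeometry CategoryTheory Limits TopologicalSpace MonoidalCategory
  CartesianMonoidalCategory MonObj GrpObj
open scoped Obj

/-- connected components of a locally Noetherian scheme are open. -/
theorem isOpen_connectedComponent (X : Scheme.{u}) [IsLocallyNoetherian X] (x : X) :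
    IsOpen (connectedComponent x) := by
  rw [isOpen_iff_mem_nhds]
  intro y hy
  obtain ⟨W, hW, hyW, -⟩ := exists_isAffineOpen_mem_and_subset (x := y) (U := ⊤) trivial
  have := IsLocallyNoetherian.component_noetherian ⟨W, hW⟩
  have hN : NoetherianSpace ↥W := noetherianSpace_of_isAffineOpen W hW
  let y' : W := ⟨y, hyW⟩
  have h1 : IsOpen (connectedComponent y') :=
    AffComp.isOpen_connectedComponent_of_noetherianSpace y'
  have h2 : IsOpen (Subtype.val '' connectedComponent y') :=
    W.isOpen.isOpenMap_subtype_val _ h1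
  have h3 : Subtype.val '' connectedComponent y' ⊆ connectedComponent x := by
    rw [connectedComponent_eq hy]
    apply IsPreconnected.subset_connectedComponent
    · exact (isPreconnected_connectedComponent).image _ continuous_subtype_val.continuousOn
    · exact ⟨y', mem_connectedComponent, rfl⟩
  exact Filter.mem_of_superset (h2.mem_nhds ⟨y', mem_connectedComponent, rfl⟩) h3

section Transl

variable {K : Type u} [Field K] (G : Over (Spec (CommRingCat.of K))) [GrpObj G]

/-- left translation by a rational point. -/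
noncomputable def ltr (a : 𝟙_ (Over (Spec (CommRingCat.of K))) ⟶ G) : G ⟶ G :=
  (toUnit G ≫ a) * 𝟙 G

theorem ltr_comp (a b : 𝟙_ (Over (Spec (CommRingCat.of K))) ⟶ G) :
    ltr G a ≫ ltr G b = ltr G (b * a) := by
  unfold ltr
  rw [MonObj.comp_mul, Category.comp_id, ← Category.assoc,
    toUnit_unique (((toUnit G ≫ a) * 𝟙 G) ≫ toUnit G) (toUnit G), MonObj.comp_mul, _root_.mul_assoc]

theorem ltr_one : ltr G (1 : 𝟙_ (Over (Spec (CommRingCat.of K))) ⟶ G) = 𝟙 G := by
  unfold ltr
  rw [MonObj.comp_one, _root_.one_mul]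

instance (a : 𝟙_ (Over (Spec (CommRingCat.of K))) ⟶ G) : IsIso (ltr G a) :=
  ⟨ltr G a⁻¹, by rw [ltr_comp, inv_mul_cancel, ltr_one], by rw [ltr_comp, mul_inv_cancel, ltr_one]⟩

theorem pt_ltr (a y : 𝟙_ (Over (Spec (CommRingCat.of K))) ⟶ G) : y ≫ ltr G a = a * y := by
  unfold ltr
  rw [MonObj.comp_mul, Category.comp_id, ← Category.assoc,
    toUnit_unique (y ≫ toUnit G) (𝟙 _), Category.id_comp]

theorem pt_transl (g h : 𝟙_ (Over (Spec (CommRingCat.of K))) ⟶ G) :
    h ≫ GrpIrrC.transl G g = h⁻¹ * g := by
  unfold GrpIrrC.transl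
  rw [leftUnitor_hom, GrpTrans.twist_hom_snd, MonObj.comp_mul, MonObj.comp_mul, GrpObj.comp_inv,
    GrpObj.comp_inv, leftUnitor_inv_snd, leftUnitor_inv_fst_assoc]
  have h1 : h ≫ toUnit G = 𝟙 _ := toUnit_unique _ _
  rw [reassoc_of% h1, Category.comp_id]

end Transl

end Groth.Agent.Lib.Helper70.AffPtsA
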