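import Mathlib
import Groth.Agent.Lib.Helper70.AffPtsA
import Groth.Agent.Lib.Helper70.GrpConnC

/-!
# Finitely many closed points of a group scheme locally of finite type over an algebraically
closed field lie in an affine open (helper70)
-/

set_option autoImplicit false

namespace Groth.Agent.Lib.Helper70.AffPtsB

universe u

open AlgebraicGeometry CategoryTheory Limits TopologicalSpace MonoidalCategory
  CartesianMonoidalCategory MonObj GrpObj
open Groth.Agent.Lib.Helper70.AffPtsA
open scoped Obj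

variable {K : Type u} [Field K] (G : Over (Spec (CommRingCat.of K))) [GrpObj G]

/-- the base point of the unit object. -/
noncomputable abbrev p0 : (𝟙_ (Over (Spec (CommRingCat.of K)))).left := IsLocalRing.closedPoint K

theorem unit_eq_one : (η[G] : 𝟙_ (Over (Spec (CommRingCat.of K))) ⟶ G) = 1 := by
  rw [Hom.one_def, toUnit_unique (toUnit (𝟙_ _)) (𝟙 _), Category.id_comp]

instance (a : 𝟙_ (Over (Spec (CommRingCat.of K))) ⟶ G) : IsIso (ltr G a).left :=
  (inferInstance : IsIso ((Over.forget _).map (ltr G a)))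

instance (a : 𝟙_ (Over (Spec (CommRingCat.of K))) ⟶ G) : IsIso (GrpIrrC.transl G a).left :=
  (inferInstance : IsIso ((Over.forget _).map (GrpIrrC.transl G a)))

theorem mem_image_ltr (U : G.left.Opens) (h g : 𝟙_ (Over (Spec (CommRingCat.of K))) ⟶ G)
    (hU : (h⁻¹ * g).left p0 ∈ U) : g.left p0 ∈ (ltr G h).left ''ᵁ U := by
  have e : (h⁻¹ * g) ≫ ltr G h = g := by rw [pt_ltr, mul_inv_cancel_left]
  refine ⟨(h⁻¹ * g).left p0, hU, ?_⟩
  change (ltr G h).left ((h⁻¹ * g).left p0) = g.left p0
  rw [← Scheme.Hom.comp_apply, ← Over.comp_left, e]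

theorem image_ltr_subset (U : G.left.Opens) (h : 𝟙_ (Over (Spec (CommRingCat.of K))) ⟶ G)
    (hU : (U : Set G.left) ⊆ connectedComponent (η[G].left p0)) :
    (((ltr G h).left ''ᵁ U : G.left.Opens) : Set G.left) ⊆ connectedComponent (h.left p0) := by
  rintro _ ⟨x, hx, rfl⟩
  have h1 := (ltr G h).left.continuous.image_connectedComponent_subset (η[G].left p0)
  have h2 : (ltr G h).left (η[G].left p0) = h.left p0 := by
    rw [← Scheme.Hom.comp_apply, ← Over.comp_left, unit_eq_one, pt_ltr, _root_.mul_one]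
  rw [h2] at h1
  exact h1 ⟨x, hU hx, rfl⟩

theorem mem_of_mem_preimage_transl (U : G.left.Opens)
    (h g : 𝟙_ (Over (Spec (CommRingCat.of K))) ⟶ G)
    (hU : h.left p0 ∈ (GrpIrrC.transl G g).left ⁻¹ᵁ U) : (h⁻¹ * g).left p0 ∈ U := by
  rw [← pt_transl, Over.comp_left, Scheme.Hom.comp_apply]
  exact hU

theorem self_mem_preimage_transl (U : G.left.Opens)
    (g : 𝟙_ (Over (Spec (CommRingCat.of K))) ⟶ G) (hU : η[G].left p0 ∈ U) :
    g.left p0 ∈ (GrpIrrC.transl G g).left ⁻¹ᵁ U := by
  change (GrpIrrC.transl G g).left (g.left p0) ∈ U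
  rw [← Scheme.Hom.comp_apply, ← Over.comp_left, pt_transl, inv_mul_cancel, ← unit_eq_one]
  exact hU

section Main

variable [IsAlgClosed K] [LocallyOfFiniteType G.hom]

/-- the rational point attached to a closed point. -/
noncomputable def ptOf (x : G.left) (hx : IsClosed ({x} : Set G.left)) :
    𝟙_ (Over (Spec (CommRingCat.of K))) ⟶ G :=
  Over.homMk (pointOfClosedPoint G.hom x hx) (by simp)

theorem ptOf_apply (x : G.left) (hx : IsClosed ({x} : Set G.left)) :
    (ptOf G x hx).left p0 = x :=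
  pointOfClosedPoint_apply G.hom x hx p0

theorem main (n : ℕ) (g : Fin n → G.left) (hg : ∀ i, IsClosed ({g i} : Set G.left)) :
    ∃ U : G.left.Opens, IsAffineOpen U ∧ ∀ i, g i ∈ U := by
  classical
  have hLN : IsLocallyNoetherian G.left := LocallyOfFiniteType.isLocallyNoetherian G.hom
  have hJ : JacobsonSpace G.left := LocallyOfFiniteType.jacobsonSpace G.hom
  obtain ⟨e0, he0⟩ : ∃ e0 : G.left, e0 = η[G].left p0 := ⟨_, rfl⟩
  have hG0 : IsOpen (connectedComponent e0) := isOpen_connectedComponent G.left e0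
  obtain ⟨U, hU, he0U, hUG0⟩ := exists_isAffineOpen_mem_and_subset (x := e0)
    (U := ⟨connectedComponent e0, hG0⟩) mem_connectedComponent
  have hUG0' : (U : Set G.left) ⊆ connectedComponent (η[G].left p0) := by
    rw [← he0]; exact hUG0
  obtain ⟨gp, hgp⟩ : ∃ gp : Fin n → (𝟙_ (Over (Spec (CommRingCat.of K))) ⟶ G),
      ∀ i, (gp i).left p0 = g i := ⟨fun i => ptOf G (g i) (hg i), fun i => ptOf_apply G _ _⟩
  obtain ⟨O, hO⟩ : ∃ O : Fin n → G.left.Opens,
      ∀ j, O j = (GrpIrrC.transl G (gp j)).left ⁻¹ᵁ U := ⟨_, fun _ => rfl⟩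
  obtain ⟨c, hc⟩ : ∃ c : Fin n → Set G.left, ∀ i, c i = connectedComponent (g i) :=
    ⟨_, fun _ => rfl⟩
  have hgO : ∀ j, g j ∈ O j := by
    intro j
    rw [hO, ← hgp j]
    exact self_mem_preimage_transl G U (gp j) (he0 ▸ he0U)
  -- a rational point in each class
  have key : ∀ i : Fin n, ∃ h : 𝟙_ (Over (Spec (CommRingCat.of K))) ⟶ G,
      h.left p0 ∈ c i ∧ ∀ j, c j = c i → h.left p0 ∈ O j := by
    intro i
    have hirr : IsIrreducible (c i) := by
      rw [hc, GrpConnC.connectedComponent_eq G (g i)]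
      exact isIrreducible_irreducibleComponent
    let Us : Finset (Set G.left) :=
      (Finset.univ.filter (fun j => c j = c i)).image (fun j => ((O j : G.left.Opens) : Set G.left))
    have h1 : ∀ u ∈ Us, IsOpen u := by
      intro u hu
      obtain ⟨j, -, rfl⟩ := Finset.mem_image.mp hu
      exact (O j).isOpen
    have h2 : ∀ u ∈ Us, (c i ∩ u).Nonempty := by
      intro u hu
      obtain ⟨j, hj, rfl⟩ := Finset.mem_image.mp hu
      have hj' : c j = c i := (Finset.mem_filter.mp hj).2
      refine ⟨g j, ?_, hgO j⟩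
      rw [← hj', hc]
      exact mem_connectedComponent
    have h3 := (isIrreducible_iff_sInter.mp hirr) Us h1 h2
    have hopen : IsOpen (c i ∩ ⋂₀ (↑Us : Set (Set G.left))) := by
      refine IsOpen.inter ?_ (Us.finite_toSet.isOpen_sInter h1)
      rw [hc]
      exact isOpen_connectedComponent G.left _
    obtain ⟨x, ⟨hxc, hxU⟩, hxcl⟩ := nonempty_inter_closedPoints h3 hopen.isLocallyClosed
    have hxcl' : IsClosed ({x} : Set G.left) := mem_closedPoints_iff.mp hxcl
    refine ⟨ptOf G x hxcl', ?_, ?_⟩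
    · rw [ptOf_apply]; exact hxc
    · intro j hj
      rw [ptOf_apply]
      have : ((O j : G.left.Opens) : Set G.left) ∈ (↑Us : Set (Set G.left)) := by
        rw [Finset.mem_coe]
        exact Finset.mem_image.mpr ⟨j, Finset.mem_filter.mpr ⟨Finset.mem_univ _, hj⟩, rfl⟩
      exact Set.mem_sInter.mp hxU _ this
  choose h hh1 hh2 using key
  obtain ⟨V, hV⟩ : ∃ V : Fin n → G.left.Opens, ∀ i, V i = (ltr G (h i)).left ''ᵁ U :=
    ⟨_, fun _ => rfl⟩
  have hVaff : ∀ i, IsAffineOpen (V i) := by
    intro i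
    rw [hV]
    exact hU.image_of_isOpenImmersion _
  have hVc : ∀ i, ((V i : G.left.Opens) : Set G.left) ⊆ c i := by
    intro i
    rw [hV]
    refine (image_ltr_subset G U (h i) hUG0').trans ?_
    rw [hc]
    have := hh1 i
    rw [hc] at this
    rw [connectedComponent_eq this]
  have hgV : ∀ i r, c i = c r → g i ∈ V r := by
    intro i r hir
    rw [hV, ← hgp i]
    apply mem_image_ltr
    apply mem_of_mem_preimage_transl
    rw [← hO]
    exact hh2 r i hir
  -- representatives
  let s : Set (Fin n) := {i | ∀ j, c j = c i → i ≤ j}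
  have hdisj : s.Pairwise (Function.onFun Disjoint V) := by
    intro i hi i' hi' hne
    have hcne : c i ≠ c i' := by
      intro heq
      exact hne (le_antisymm (hi i' heq.symm) (hi' i heq))
    change Disjoint (V i) (V i')
    rw [← TopologicalSpace.Opens.coe_disjoint]
    refine Set.disjoint_of_subset (hVc i) (hVc i') ?_
    rw [hc, hc] at hcne ⊢
    exact connectedComponent_disjoint hcne
  refine ⟨⨆ i ∈ s, V i, IsAffineOpen.biSup_of_disjoint (Set.toFinite s) (fun i _ => hVaff i) hdisj,
    ?_⟩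
  intro i
  have hne : (Finset.univ.filter (fun j => c j = c i)).Nonempty :=
    ⟨i, Finset.mem_filter.mpr ⟨Finset.mem_univ _, rfl⟩⟩
  let r := (Finset.univ.filter (fun j => c j = c i)).min' hne
  have hr : c r = c i := (Finset.mem_filter.mp (Finset.min'_mem _ hne)).2
  have hrs : r ∈ s := by
    intro j hj
    exact Finset.min'_le _ j (Finset.mem_filter.mpr ⟨Finset.mem_univ _, hj.trans hr⟩)
  exact TopologicalSpace.Opens.mem_iSup.mpr ⟨r, TopologicalSpace.Opens.mem_iSup.mpr
    ⟨hrs, hgV i r hr.symm⟩⟩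

end Main

end Groth.Agent.Lib.Helper70.AffPtsB
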