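import Mathlib
import Groth.Agent.Lib.Helper70.AffPtsB

/-!
# A rational point avoiding two translates of a proper closed subset (helper70)
-/

set_option autoImplicit false

namespace Groth.Agent.Lib.Helper70.AvoidA

universe u

open AlgebraicGeometry CategoryTheory Limits TopologicalSpace MonoidalCategory
  CartesianMonoidalCategory MonObj GrpObj
open Groth.Agent.Lib.Helper70.AffPtsA Groth.Agent.Lib.Helper70.AffPtsB
open scoped Obj

variable {K : Type u} [Field K] (G : Over (Spec (CommRingCat.of K))) [GrpObj G]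

/-- right translation by a rational point. -/
noncomputable def rtr (a : 𝟙_ (Over (Spec (CommRingCat.of K))) ⟶ G) : G ⟶ G :=
  𝟙 G * (toUnit G ≫ a)

theorem rtr_comp (a b : 𝟙_ (Over (Spec (CommRingCat.of K))) ⟶ G) :
    rtr G a ≫ rtr G b = rtr G (a * b) := by
  unfold rtr
  rw [MonObj.comp_mul, Category.comp_id, ← Category.assoc,
    toUnit_unique ((𝟙 G * (toUnit G ≫ a)) ≫ toUnit G) (toUnit G), MonObj.comp_mul,
    _root_.mul_assoc]

theorem rtr_one : rtr G (1 : 𝟙_ (Over (Spec (CommRingCat.of K))) ⟶ G) = 𝟙 G := by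
  unfold rtr
  rw [MonObj.comp_one, _root_.mul_one]

theorem pt_rtr (a y : 𝟙_ (Over (Spec (CommRingCat.of K))) ⟶ G) : y ≫ rtr G a = y * a := by
  unfold rtr
  rw [MonObj.comp_mul, Category.comp_id, ← Category.assoc,
    toUnit_unique (y ≫ toUnit G) (𝟙 _), Category.id_comp]

theorem rtr_inv_eq (a : 𝟙_ (Over (Spec (CommRingCat.of K))) ⟶ G) :
    𝟙 G * (toUnit G ≫ a)⁻¹ = rtr G a⁻¹ := by
  unfold rtr
  rw [GrpObj.comp_inv]

/-- if `g` lies in the right translate of `Z` by `x` then `g * x⁻¹` lies in `Z`. -/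
theorem mem_of_mem_image_rtr (Z : Set G.left) (x g : 𝟙_ (Over (Spec (CommRingCat.of K))) ⟶ G)
    (h : g.left p0 ∈ (rtr G x).left '' Z) : (g * x⁻¹).left p0 ∈ Z := by
  obtain ⟨w, hw, hwg⟩ := h
  have e : (rtr G x ≫ rtr G x⁻¹).left = 𝟙 _ := by
    rw [rtr_comp, mul_inv_cancel, rtr_one]; rfl
  have h1 : (rtr G x⁻¹).left ((rtr G x).left w) = w := by
    rw [← Scheme.Hom.comp_apply, ← Over.comp_left, e]; rfl
  rw [← pt_rtr, Over.comp_left, Scheme.Hom.comp_apply, ← hwg, h1]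
  exact hw

variable [IsAlgClosed K] [LocallyOfFiniteType G.hom] [IrreducibleSpace G.left]

theorem main (Z : Set G.left) (hZ : IsClosed Z) (hZne : Z ≠ Set.univ)
    (z : 𝟙_ (Over (Spec (CommRingCat.of K))) ⟶ G) :
    ∃ x : 𝟙_ (Over (Spec (CommRingCat.of K))) ⟶ G,
      Disjoint (Set.range z.left)
        ((𝟙 G * (toUnit G ≫ x)).left '' Z ∪ (𝟙 G * (toUnit G ≫ x)⁻¹).left '' Z) := by
  have hJ : JacobsonSpace G.left := LocallyOfFiniteType.jacobsonSpace G.hom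
  -- the two maps
  have hι : IsIso (ι[G] : G ⟶ G) := inferInstance
  have hιl : IsIso (ι[G] : G ⟶ G).left := (inferInstance : IsIso ((Over.forget _).map ι[G]))
  let φ₂ : G.left ⟶ G.left := (ltr G z).left
  let φ₁ : G.left ⟶ G.left := (ι[G] : G ⟶ G).left ≫ (ltr G z).left
  have hφ₁ : IsIso φ₁ := inferInstance
  have hφ₂ : IsIso φ₂ := inferInstance
  have hs₁ : Function.Surjective φ₁ := φ₁.surjective
  have hs₂ : Function.Surjective φ₂ := φ₂.surjective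
  obtain ⟨y, hy⟩ : ∃ y, y ∉ Z := by
    by_contra hcon
    exact hZne (Set.eq_univ_of_forall fun y => by_contra fun hy => hcon ⟨y, hy⟩)
  have ho₁ : IsOpen (φ₁ ⁻¹' Zᶜ) := hZ.isOpen_compl.preimage φ₁.continuous
  have ho₂ : IsOpen (φ₂ ⁻¹' Zᶜ) := hZ.isOpen_compl.preimage φ₂.continuous
  have hn₁ : (φ₁ ⁻¹' Zᶜ).Nonempty := by
    obtain ⟨w, hw⟩ := hs₁ y
    exact ⟨w, by change φ₁ w ∉ Z; rw [hw]; exact hy⟩
  have hn₂ : (φ₂ ⁻¹' Zᶜ).Nonempty := by
    obtain ⟨w, hw⟩ := hs₂ y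
    exact ⟨w, by change φ₂ w ∉ Z; rw [hw]; exact hy⟩
  have hne : (φ₁ ⁻¹' Zᶜ ∩ φ₂ ⁻¹' Zᶜ).Nonempty := nonempty_preirreducible_inter ho₁ ho₂ hn₁ hn₂
  obtain ⟨x₀, ⟨hx1, hx2⟩, hxcl⟩ :=
    nonempty_inter_closedPoints hne (ho₁.inter ho₂).isLocallyClosed
  have hxcl' : IsClosed ({x₀} : Set G.left) := mem_closedPoints_iff.mp hxcl
  refine ⟨ptOf G x₀ hxcl', ?_⟩
  have hx : (ptOf G x₀ hxcl').left p0 = x₀ := ptOf_apply G x₀ hxcl'
  rw [Set.disjoint_left]
  rintro _ ⟨q, rfl⟩ hq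
  have hq0 : q = p0 := @Subsingleton.elim (Spec (CommRingCat.of K)) inferInstance _ _
  subst hq0
  rcases hq with hq | hq
  · -- z ∈ Z·x ⇒ z x⁻¹ ∈ Z
    have h1 := mem_of_mem_image_rtr G Z (ptOf G x₀ hxcl') z hq
    apply hx1
    have e : (z * (ptOf G x₀ hxcl')⁻¹) = (ptOf G x₀ hxcl') ≫ ι[G] ≫ ltr G z := by
      rw [← Category.assoc, pt_ltr, Hom.inv_def]
    rw [e] at h1
    rw [← hx]
    exact h1
  · rw [rtr_inv_eq] at hq
    have h1 := mem_of_mem_image_rtr G Z (ptOf G x₀ hxcl')⁻¹ z hq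
    rw [_root_.inv_inv] at h1
    apply hx2
    rw [← pt_ltr] at h1
    rw [← hx]
    exact h1

end Groth.Agent.Lib.Helper70.AvoidA
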