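import Mathlib

set_option autoImplicit false
universe u
open Cardinal

namespace Groth.Agent.Lib.Helper70.BigFieldA

/-- the index set of the variables -/
abbrev Idx (κ : Type u) : Type u := κ × ℕ

/-- a big algebraically closed field containing `κ`. -/
abbrev Big (κ : Type u) [Field κ] : Type u :=
  AlgebraicClosure (FractionRing (MvPolynomial (Idx κ) κ))

theorem aleph0_le_idx (κ : Type u) [Field κ] : ℵ₀ ≤ #(Idx κ) := by
  have : #(Idx κ) = #κ * ℵ₀ := by simp [Cardinal.mk_prod]
  rw [this]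
  exact Cardinal.le_mul_left (by simp)

theorem le_idx (κ : Type u) [Field κ] : #κ ≤ #(Idx κ) := by
  have : #(Idx κ) = #κ * ℵ₀ := by simp [Cardinal.mk_prod]
  rw [this]
  exact Cardinal.le_mul_right Cardinal.aleph0_ne_zero

theorem trdeg_big (κ : Type u) [Field κ] : Algebra.trdeg κ (Big κ) = #(Idx κ) := by
  have h1 : Algebra.trdeg κ (MvPolynomial (Idx κ) κ) = #(Idx κ) := by
    rw [MvPolynomial.trdeg_of_isDomain, Cardinal.lift_id]
  have halg1 : Algebra.IsAlgebraic (MvPolynomial (Idx κ) κ)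
      (FractionRing (MvPolynomial (Idx κ) κ)) :=
    IsLocalization.isAlgebraic _ (nonZeroDivisors _)
  have halg : Algebra.IsAlgebraic (MvPolynomial (Idx κ) κ) (Big κ) :=
    Algebra.IsAlgebraic.trans _ (FractionRing (MvPolynomial (Idx κ) κ)) _
  have h2 : Algebra.trdeg (MvPolynomial (Idx κ) κ) (Big κ) = 0 := trdeg_eq_zero
  have hinj : Function.Injective (algebraMap (MvPolynomial (Idx κ) κ) (Big κ)) := by
    rw [IsScalarTower.algebraMap_eq _ (FractionRing (MvPolynomial (Idx κ) κ)) _]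
    exact (algebraMap (FractionRing (MvPolynomial (Idx κ) κ)) (Big κ)).injective.comp
      (IsFractionRing.injective _ _)
  have : FaithfulSMul (MvPolynomial (Idx κ) κ) (Big κ) :=
    (faithfulSMul_iff_algebraMap_injective _ _).mpr hinj
  have := trdeg_add_eq κ (MvPolynomial (Idx κ) κ) (A := Big κ)
  rw [h1, h2, add_zero] at this
  exact this.symm

theorem trdeg_le_mk (R A : Type u) [CommRing R] [CommRing A] [Algebra R A] :
    Algebra.trdeg R A ≤ #A := by
  unfold Algebra.trdeg
  exact ciSup_le' fun s => Cardinal.mk_set_le _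

/-- the `k`-algebra structure on `Big κ` induced by a ring homomorphism `k →+* κ`. -/
@[reducible] noncomputable def algOf {k κ : Type u} [Field k] [Field κ] (φ : k →+* κ) :
    Algebra k (Big κ) :=
  letI := φ.toAlgebra
  inferInstance

theorem algebraMap_algOf {k κ : Type u} [Field k] [Field κ] (φ : k →+* κ) (c : k) :
    @algebraMap k (Big κ) _ _ (algOf φ) c = algebraMap κ (Big κ) (φ c) := by
  letI := φ.toAlgebra
  exact IsScalarTower.algebraMap_apply k κ (Big κ) c

theorem trdeg_big_of_ringHom {k κ : Type u} [Field k] [Field κ] (φ : k →+* κ) :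
    @Algebra.trdeg k (Big κ) _ _ (algOf φ) = #(Idx κ) := by
  letI := φ.toAlgebra
  have h := trdeg_add_eq k κ (A := Big κ)
  rw [trdeg_big] at h
  change Algebra.trdeg k (Big κ) = _
  rw [← h]
  exact Cardinal.add_eq_right (aleph0_le_idx κ) ((trdeg_le_mk k κ).trans (le_idx κ))

theorem exists_algEquiv_of_trdeg_eq (R K L : Type u) [Field R] [Field K] [Field L]
    [Algebra R K] [Algebra R L] [IsAlgClosed K] [IsAlgClosed L]
    (h : Algebra.trdeg R K = Algebra.trdeg R L) :
    ∃ θ : K ≃+* L, ∀ r : R, θ (algebraMap R K r) = algebraMap R L r := by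
  obtain ⟨s, hs⟩ := exists_isTranscendenceBasis R K
  obtain ⟨t, ht⟩ := exists_isTranscendenceBasis R L
  have hst : #s = #t := by
    rw [hs.cardinalMk_eq_trdeg, ht.cardinalMk_eq_trdeg, h]
  obtain ⟨e⟩ := Cardinal.eq.mp hst
  let _ := IsAlgClosed.isAlgClosure_of_transcendence_basis _ hs
  let _ := IsAlgClosed.isAlgClosure_of_transcendence_basis _ ht
  let e' : Algebra.adjoin R (Set.range ((↑) : s → K)) ≃ₐ[R]
      Algebra.adjoin R (Set.range ((↑) : t → L)) :=
    hs.1.aevalEquiv.symm.trans ((MvPolynomial.renameEquiv R e).trans ht.1.aevalEquiv)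
  let θ : K ≃+* L := IsAlgClosure.equivOfEquiv K L e'.toRingEquiv
  refine ⟨θ, fun r => ?_⟩
  have h1 : algebraMap R K r = algebraMap (Algebra.adjoin R (Set.range ((↑) : s → K))) K
      (algebraMap R _ r) := rfl
  rw [h1, IsAlgClosure.equivOfEquiv_algebraMap]
  change algebraMap _ L (e' (algebraMap R _ r)) = _
  rw [e'.commutes]
  rfl

theorem exists_ringEquiv {k κ : Type u} [Field k] [Field κ] (σ τ : k →+* κ) :
    ∃ θ : Big κ ≃+* Big κ, ∀ c : k,
      θ (algebraMap κ (Big κ) (τ c)) = algebraMap κ (Big κ) (σ c) := by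
  obtain ⟨θ, hθ⟩ := @exists_algEquiv_of_trdeg_eq k (Big κ) (Big κ) _ _ _
    (algOf τ) (algOf σ) _ _
    ((trdeg_big_of_ringHom τ).trans (trdeg_big_of_ringHom σ).symm)
  refine ⟨θ, fun c => ?_⟩
  rw [← algebraMap_algOf τ, ← algebraMap_algOf σ]
  exact hθ c

end Groth.Agent.Lib.Helper70.BigFieldA
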