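import Mathlib
import Groth.Prelude.Def_CInt

/-!
# Morphisms that are isomorphisms over a schematically dense open (helper70)
-/

set_option autoImplicit false

open CategoryTheory AlgebraicGeometry Limits

namespace Groth.Agent.Lib.Helper70.BirSecA

universe u

section Bridge

variable {Z : Scheme.{u}} (U' : Z.Opens)

lemma image_preimage_ι_le (V : Z.Opens) : U'.ι ''ᵁ U'.ι ⁻¹ᵁ V ≤ V ⊓ U' := by
  rintro _ ⟨u, hu, rfl⟩
  exact ⟨hu, u.2⟩

lemma le_image_preimage_ι (V : Z.Opens) : V ⊓ U' ≤ U'.ι ''ᵁ U'.ι ⁻¹ᵁ V := by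
  rintro x ⟨hxV, hxU⟩
  exact ⟨⟨x, hxU⟩, hxV, rfl⟩

lemma ι_app_eq (V : Z.Opens) :
    U'.ι.app V = Z.presheaf.map (homOfLE (inf_le_left : V ⊓ U' ≤ V)).op ≫
      Z.presheaf.map (homOfLE (image_preimage_ι_le U' V)).op := by
  rw [Scheme.Opens.ι_app, ← Functor.map_comp]
  rfl

lemma injective_map_image_preimage_ι (V : Z.Opens) :
    Function.Injective (Z.presheaf.map (homOfLE (image_preimage_ι_le U' V)).op) := by
  have h4 : Z.presheaf.map (homOfLE (image_preimage_ι_le U' V)).op ≫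
      Z.presheaf.map (homOfLE (le_image_preimage_ι U' V)).op = 𝟙 _ := by
    rw [← Functor.map_comp, ← Z.presheaf.map_id]
    rfl
  intro a b hab
  have := congrArg (Z.presheaf.map (homOfLE (le_image_preimage_ι U' V)).op) hab
  rw [← CommRingCat.comp_apply, ← CommRingCat.comp_apply, h4] at this
  exact this

theorem isSchemeTheoreticallyDominant_of_isSchematicallyDense [QuasiCompact U'.ι]
    (h : CInt.IsSchematicallyDense U') : IsSchemeTheoreticallyDominant U'.ι := by
  rw [isSchemeTheoreticallyDominant_iff]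
  apply Scheme.IdealSheafData.ext
  funext V
  rw [Scheme.Hom.ker_apply, Scheme.IdealSheafData.ideal_bot, Pi.bot_apply,
    ← RingHom.injective_iff_ker_eq_bot, ι_app_eq]
  have h2 : Function.Injective
      ((Z.presheaf.map (homOfLE (image_preimage_ι_le U' V.1)).op).hom ∘
        (Z.presheaf.map (homOfLE (inf_le_left : V.1 ⊓ U' ≤ V.1)).op).hom) :=
    (injective_map_image_preimage_ι U' V.1).comp (h V.1)
  exact h2

end Bridge

/-- A closed immersion through which a scheme theoretically dominant morphism factors is an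
isomorphism. -/
theorem isIso_of_isClosedImmersion_of_dominant_comp {D Z P : Scheme.{u}} (k : D ⟶ Z) (c : Z ⟶ P)
    [IsClosedImmersion c] (h : IsSchemeTheoreticallyDominant (k ≫ c)) : IsIso c := by
  rw [IsClosedImmersion.isIso_iff_ker_eq_bot, ← le_bot_iff]
  exact (Scheme.Hom.le_ker_comp k c).trans_eq h.ker_eq_bot

/-- Two morphisms into `X` with the same composite to `S`, one of which lands in `f⁻¹ U`, agree
when `f` is a monomorphism over `U`. -/
theorem eq_of_comp_eq_of_range_subset {T X S : Scheme.{u}} (f : X ⟶ S) (U : S.Opens)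
    (hmono : Mono ((f ⁻¹ᵁ U).ι ≫ f)) (a b : T ⟶ X) (hab : a ≫ f = b ≫ f)
    (ha : Set.range a ⊆ (f ⁻¹ᵁ U : Set X)) : a = b := by
  have hb : Set.range b ⊆ (f ⁻¹ᵁ U : Set X) := by
    rintro _ ⟨t, rfl⟩
    have h1 : f (b t) = f (a t) := by
      have := congrArg (fun q : T ⟶ S => q t) hab
      exact this.symm
    show f (b t) ∈ U
    rw [h1]
    exact ha ⟨t, rfl⟩
  let a' := IsOpenImmersion.lift (f ⁻¹ᵁ U).ι a (by rw [Scheme.Opens.range_ι]; exact ha)
  let b' := IsOpenImmersion.lift (f ⁻¹ᵁ U).ι b (by rw [Scheme.Opens.range_ι]; exact hb)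
  have ha' : a' ≫ (f ⁻¹ᵁ U).ι = a := IsOpenImmersion.lift_fac _ _ _
  have hb' : b' ≫ (f ⁻¹ᵁ U).ι = b := IsOpenImmersion.lift_fac _ _ _
  have h2 : a' = b' := by
    rw [← cancel_mono ((f ⁻¹ᵁ U).ι ≫ f), ← Category.assoc, ← Category.assoc, ha', hb', hab]
  rw [← ha', ← hb', h2]

/-- A flat separated morphism which is a monomorphism over `U`, with `g⁻¹ U` scheme theoretically
dense, is a monomorphism. -/
theorem mono_of_flat_of_dense {W S : Scheme.{u}} (g : W ⟶ S) [Flat g] [IsSeparated g]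
    (U : S.Opens) (hmono : Mono ((g ⁻¹ᵁ U).ι ≫ g)) [QuasiCompact (g ⁻¹ᵁ U).ι]
    [IsSchemeTheoreticallyDominant (g ⁻¹ᵁ U).ι] : Mono g := by
  have hflat : Flat (pullback.fst g g) := inferInstance
  have hdom : IsSchemeTheoreticallyDominant (pullback.fst g g ⁻¹ᵁ (g ⁻¹ᵁ U)).ι :=
    IsSchemeTheoreticallyDominant.of_isPullback
      (isPullback_morphismRestrict (pullback.fst g g) (g ⁻¹ᵁ U))
  have hk : ((pullback.fst g g ⁻¹ᵁ (g ⁻¹ᵁ U)).ι ≫ pullback.fst g g) ≫ pullback.diagonal g =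
      (pullback.fst g g ⁻¹ᵁ (g ⁻¹ᵁ U)).ι := by
    apply pullback.hom_ext
    · simp
    · simp only [Category.assoc, pullback.diagonal_snd, Category.comp_id]
      refine eq_of_comp_eq_of_range_subset g U hmono _ _ ?_ ?_
      · simp only [Category.assoc, pullback.condition]
      · rintro _ ⟨t, rfl⟩
        exact t.2
  have h3 : IsSchemeTheoreticallyDominant
      (((pullback.fst g g ⁻¹ᵁ (g ⁻¹ᵁ U)).ι ≫ pullback.fst g g) ≫ pullback.diagonal g) := by
    rw [hk]; exact hdom
  have h4 : IsIso (pullback.diagonal g) := isIso_of_isClosedImmersion_of_dominant_comp _ _ h3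
  exact (pullback.isIso_diagonal_iff g).mp h4

end Groth.Agent.Lib.Helper70.BirSecA
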