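import Mathlib
import Groth.Prelude.Def_CInt
import Groth.Agent.Lib.Helper2.FlatLocusOpen
import Groth.Agent.Lib.Helper70.BirSecA

/-!
# Étale / flat / section criteria for morphisms that are isomorphisms over a dense open (helper70)
-/

set_option autoImplicit false

open CategoryTheory AlgebraicGeometry Limits

namespace Groth.Agent.Lib.Helper70.BirSecB

universe u

/-- Flat on an open neighbourhood implies flat at the point. -/
theorem flat_stalkMap_of_nhd {U V : Scheme.{u}} (h : U ⟶ V) (W : U.Opens) [Flat (W.ι ≫ h)]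
    (p : W) : (h.stalkMap (W.ι p)).hom.Flat := by
  have h1 : ((W.ι ≫ h).stalkMap p).hom.Flat := Flat.stalkMap _ _
  rw [Scheme.Hom.stalkMap_comp] at h1
  replace h1 : ((W.ι.stalkMap p).hom.comp (h.stalkMap (W.ι p)).hom).Flat := h1
  have h2 : (inv (W.ι.stalkMap p)).hom.Flat :=
    RingHom.Flat.of_bijective (ConcreteCategory.bijective_of_isIso _)
  have h3 := h1.comp h2
  have e : (inv (W.ι.stalkMap p)).hom.comp
      ((W.ι.stalkMap p).hom.comp (h.stalkMap (W.ι p)).hom) = (h.stalkMap (W.ι p)).hom := by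
    ext x
    have := congrArg (fun m => m.hom ((h.stalkMap (W.ι p)).hom x))
      (IsIso.hom_inv_id (W.ι.stalkMap p))
    exact this
  rw [e] at h3
  exact h3

/-- For `h` locally of finite presentation, flat at a point implies flat on an open
neighbourhood. -/
theorem exists_flat_nhd_of_flat_stalkMap {U V : Scheme.{u}} (h : U ⟶ V)
    [LocallyOfFinitePresentation h] (u : U)
    (hu : (h.stalkMap u).hom.Flat) : ∃ W : U.Opens, u ∈ W ∧ Flat (W.ι ≫ h) := by
  let W : U.Opens := ⟨{x | (h.stalkMap x).hom.Flat},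
    Groth.Agent.Lib.Helper2.isOpen_flat_stalkMap_locus h⟩
  refine ⟨W, hu, Flat.of_stalkMap _ (fun p => ?_)⟩
  rw [Scheme.Hom.stalkMap_comp]
  have h1 : (h.stalkMap (W.ι p)).hom.Flat := p.2
  have h2 : (W.ι.stalkMap p).hom.Flat := Flat.stalkMap W.ι p
  exact h1.comp h2

section Main

variable {X S : Scheme.{u}} [IsNoetherian S] (f : X ⟶ S) [LocallyOfFiniteType f]
  (U : S.Opens) (hiso : IsIso (f ∣_ U)) (hdense : CInt.IsSchematicallyDense (f ⁻¹ᵁ U))

include hiso in
theorem mono_restrict : Mono ((f ⁻¹ᵁ U).ι ≫ f) := by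
  rw [← morphismRestrict_ι]
  have h2 : Mono (f ∣_ U) := inferInstance
  exact mono_comp' h2 inferInstance

include hiso in
theorem mono_restrict_comp (W : X.Opens) : Mono (((W.ι ≫ f) ⁻¹ᵁ U).ι ≫ W.ι ≫ f) := by
  rw [← morphismRestrict_ι, morphismRestrict_comp]
  have h1 : Mono (W.ι ∣_ f ⁻¹ᵁ U) := inferInstance
  have h2 : Mono (f ∣_ U) := inferInstance
  exact mono_comp' (mono_comp' h1 h2) inferInstance

include hdense in
theorem dominant_restrict (W : X.Opens) :
    IsSchemeTheoreticallyDominant (W.ι ⁻¹ᵁ (f ⁻¹ᵁ U)).ι := by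
  have : IsLocallyNoetherian X := LocallyOfFiniteType.isLocallyNoetherian f
  have h1 : IsSchemeTheoreticallyDominant (f ⁻¹ᵁ U).ι :=
    BirSecA.isSchemeTheoreticallyDominant_of_isSchematicallyDense _ hdense
  exact IsSchemeTheoreticallyDominant.of_isPullback
    (isPullback_morphismRestrict W.ι (f ⁻¹ᵁ U))

include hiso hdense in
/-- Flat at `x` implies `f` is an open immersion near `x`. -/
theorem exists_isOpenImmersion_of_flat (x : X) (hx : (f.stalkMap x).hom.Flat) :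
    ∃ W : X.Opens, x ∈ W ∧ IsOpenImmersion (W.ι ≫ f) := by
  have hXn : IsLocallyNoetherian X := LocallyOfFiniteType.isLocallyNoetherian f
  obtain ⟨W₁, hxW₁, hW₁⟩ := exists_flat_nhd_of_flat_stalkMap f x hx
  obtain ⟨W₂, hW₂, hxW₂, hle⟩ := exists_isAffineOpen_mem_and_subset (x := x) (U := W₁) hxW₁
  replace hle : W₂ ≤ W₁ := hle
  refine ⟨W₂, hxW₂, ?_⟩
  have hflat : Flat (W₂.ι ≫ f) := by
    rw [← X.homOfLE_ι hle, Category.assoc]
    infer_instance
  have haff : IsAffine W₂.toScheme := hW₂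
  have hsep : IsSeparated (W₂.ι ≫ f) := inferInstance
  have hmono := mono_restrict_comp f U hiso W₂
  have hdom : IsSchemeTheoreticallyDominant ((W₂.ι ≫ f) ⁻¹ᵁ U).ι :=
    dominant_restrict f U hdense W₂
  have : Mono (W₂.ι ≫ f) := BirSecA.mono_of_flat_of_dense (W₂.ι ≫ f) U hmono
  exact IsOpenImmersion.of_flat_of_mono _

include hiso hdense in
/-- A local section through `x` implies `f` is an open immersion near `x`. -/
theorem exists_isOpenImmersion_of_section (x : X) (V : S.Opens) (hV : f x ∈ V)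
    (σ : (V : Scheme.{u}) ⟶ X) (hσ : σ ≫ f = V.ι) (hσx : σ ⟨f x, hV⟩ = x) :
    ∃ W : X.Opens, x ∈ W ∧ IsOpenImmersion (W.ι ≫ f) := by
  have hXn : IsLocallyNoetherian X := LocallyOfFiniteType.isLocallyNoetherian f
  obtain ⟨W₀, hW₀, hxW₀, -⟩ := exists_isAffineOpen_mem_and_subset (x := x) (U := ⊤) trivial
  -- the open of `V` mapping into `W₀`
  let V'' : (V : Scheme.{u}).Opens := σ ⁻¹ᵁ W₀
  let j : (V'' : Scheme.{u}) ⟶ S := V''.ι ≫ V.ι
  let X' : X.Opens := W₀ ⊓ f ⁻¹ᵁ j.opensRange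
  have hxX' : x ∈ X' := by
    refine ⟨hxW₀, ?_⟩
    have hmem : (⟨f x, hV⟩ : V) ∈ V'' := by
      show σ ⟨f x, hV⟩ ∈ W₀
      rw [hσx]; exact hxW₀
    exact ⟨⟨⟨f x, hV⟩, hmem⟩, rfl⟩
  refine ⟨X', hxX', ?_⟩
  -- the section restricted: c : V'' → X'
  have hc_range : Set.range (V''.ι ≫ σ) ⊆ Set.range X'.ι := by
    rw [Scheme.Opens.range_ι]
    rintro _ ⟨v, rfl⟩
    refine ⟨v.2, ?_⟩
    show f ((V''.ι ≫ σ) v) ∈ j.opensRange
    refine ⟨v, ?_⟩
    have := congrArg (fun q : (V : Scheme.{u}) ⟶ S => q (V''.ι v)) hσ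
    exact this.symm
  let c : (V'' : Scheme.{u}) ⟶ X' := IsOpenImmersion.lift X'.ι (V''.ι ≫ σ) hc_range
  have hc : c ≫ X'.ι = V''.ι ≫ σ := IsOpenImmersion.lift_fac _ _ _
  -- the retraction r : X' → V''
  have hr_range : Set.range (X'.ι ≫ f) ⊆ Set.range j := by
    rintro _ ⟨z, rfl⟩
    exact z.2.2
  let r : (X' : Scheme.{u}) ⟶ V'' := IsOpenImmersion.lift j (X'.ι ≫ f) hr_range
  have hr : r ≫ j = X'.ι ≫ f := IsOpenImmersion.lift_fac _ _ _
  have hcj : c ≫ X'.ι ≫ f = j := by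
    rw [reassoc_of% hc, hσ]
  have hcr : c ≫ r = 𝟙 _ := by
    rw [← cancel_mono j, Category.assoc, hr, hcj, Category.id_comp]
  -- separatedness of r
  have haff : IsAffine W₀.toScheme := hW₀
  have hsep₀ : IsSeparated (X'.ι ≫ f) := by
    rw [← X.homOfLE_ι (inf_le_left : X' ≤ W₀), Category.assoc]
    infer_instance
  have hsep : IsSeparated r := by
    have : IsSeparated (r ≫ j) := hr ▸ hsep₀
    exact IsSeparated.of_comp r j
  have hci : IsClosedImmersion c := by
    have : IsClosedImmersion (c ≫ r) := hcr ▸ inferInstance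
    exact IsClosedImmersion.of_comp c r
  -- density
  have hdom : IsSchemeTheoreticallyDominant (X'.ι ⁻¹ᵁ (f ⁻¹ᵁ U)).ι :=
    dominant_restrict f U hdense X'
  have hk : ((X'.ι ⁻¹ᵁ (f ⁻¹ᵁ U)).ι ≫ r) ≫ c = (X'.ι ⁻¹ᵁ (f ⁻¹ᵁ U)).ι := by
    rw [← cancel_mono X'.ι]
    symm
    refine BirSecA.eq_of_comp_eq_of_range_subset f U (mono_restrict f U hiso) _ _ ?_ ?_
    · simp only [Category.assoc]
      rw [hcj, hr]
    · rintro _ ⟨t, rfl⟩
      exact t.2
  have hiso_c : IsIso c :=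
    BirSecA.isIso_of_isClosedImmersion_of_dominant_comp _ c (hk ▸ hdom)
  have heq : X'.ι ≫ f = inv c ≫ j := by
    rw [IsIso.eq_inv_comp, hcj]
  rw [heq]
  infer_instance

end Main

end Groth.Agent.Lib.Helper70.BirSecB
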