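import Mathlib
import Groth.Agent.Lib.Helper70.DVRConnC
import Groth.Agent.Lib.Helper70.DVRConnD
import Groth.Agent.Lib.Helper70.DVRFlatA

/-!
# Flatness over a DVR from a nonzerodivisor uniformizer; scheme-level assembly
-/

set_option autoImplicit false

namespace Groth.Agent.Lib.Helper70.DVRFlatB

universe u

open AlgebraicGeometry CategoryTheory Limits Opposite TopologicalSpace
open Groth.Agent.Lib.Helper70.DVRConnC Groth.Agent.Lib.Helper70.DVRConnA
open Groth.Agent.Lib.Helper70.DVRConnD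

variable {R : Type u} [CommRing R] {X : Scheme.{u}} (f : X ⟶ Spec (CommRingCat.of R))

lemma flat_pb_of_nzd [IsDomain R] [IsDiscreteValuationRing R] {V : X.Opens} {ϖ : R}
    (hϖ : Irreducible ϖ) (h : ∀ a : Γ(X, V), pb f V ϖ * a = 0 → a = 0) : (pb f V).Flat := by
  let _ := (pb f V).toAlgebra
  show Module.Flat R Γ(X, V)
  rw [Module.Flat.flat_iff_torsion_eq_bot_of_isBezout, eq_bot_iff]
  rintro a ⟨⟨r, hr⟩, hra⟩
  rw [Submodule.mem_bot]
  obtain ⟨n, u, rfl⟩ := IsDiscreteValuationRing.eq_unit_mul_pow_irreducible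
    (nonZeroDivisors.ne_zero hr) hϖ
  have h1 : pb f V ((u : R) * ϖ ^ n) * a = 0 := by
    have : ((u : R) * ϖ ^ n) • a = 0 := hra
    rw [Algebra.smul_def, RingHom.algebraMap_toAlgebra] at this
    exact this
  rw [map_mul, map_pow, mul_assoc] at h1
  have hu : IsUnit (pb f V (u : R)) := u.isUnit.map _
  have h2 : pb f V ϖ ^ n * a = 0 := hu.mul_left_cancel (by rw [h1, mul_zero])
  clear h1 hra hr
  induction n with
  | zero => simpa using h2
  | succ n ih =>
    apply ih
    apply h
    rw [← mul_assoc, ← pow_succ']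
    exact h2

lemma flat_appLE_of_flat_pb {V : X.Opens} (h : (pb f V).Flat) :
    (f.appLE ⊤ V le_top).hom.Flat := by
  have h1 : (f.appLE ⊤ V le_top).hom =
      (pb f V).comp (Scheme.ΓSpecIso (CommRingCat.of R)).hom.hom := by
    ext x
    simp only [pb, RingHom.comp_apply]
    rw [← CommRingCat.comp_apply (Scheme.ΓSpecIso (CommRingCat.of R)).hom, Iso.hom_inv_id]
    rfl
  rw [h1]
  exact RingHom.Flat.comp
    (RingHom.Flat.of_bijective (ConcreteCategory.bijective_of_isIso _)) h

/-- Scheme-level statement: locally Noetherian `X` over a DVR with reduced special fibre and dense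
generic fibre is flat. -/
theorem flat_of_dense [IsDomain R] [IsDiscreteValuationRing R] [IsLocallyNoetherian X]
    (hred : IsReduced (f.fiber (IsLocalRing.closedPoint R))) {ϖ : R} (hϖ : Irreducible ϖ)
    (hdense : Dense (X.basicOpen (pb f ⊤ ϖ) : Set X)) : Flat f := by
  refine HasRingHomProperty.of_iSup_eq_top (P := @Flat) (fun V : X.affineOpens => V)
    (iSup_affineOpens_eq_top X) fun V => ?_
  apply flat_appLE_of_flat_pb
  apply flat_pb_of_nzd f hϖ
  have hN : IsNoetherianRing Γ(X, V.1) := IsLocallyNoetherian.component_noetherian V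
  have hd : Dense ((PrimeSpectrum.basicOpen (pb f V.1 ϖ) : Opens (PrimeSpectrum Γ(X, V.1))) :
      Set (PrimeSpectrum Γ(X, V.1))) := by
    have h1 := hdense.preimage (φ_isOpenMap V.2)
    rw [φ_preimage (pb f ⊤ ϖ) V.2] at h1
    have h2 : res (pb f ⊤ ϖ) V.1 = pb f V.1 ϖ := pb_res f le_top ϖ
    rw [h2] at h1
    exact h1
  exact Groth.Agent.Lib.Helper70.DVRFlatA.nzd_of_dense (pb_red f hred V.2 hϖ) hd

end Groth.Agent.Lib.Helper70.DVRFlatB
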