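import Mathlib
import Groth.Agent.Lib.Helper70.DVRFlatA

/-!
# Ring-level input for the pointwise flatness criterion over a DVR
-/

set_option autoImplicit false

namespace Groth.Agent.Lib.Helper70.DVRLocA

universe u

open PrimeSpectrum

variable {C : Type u} [CommRing C]

/-- A point in the closure of `D(t)` has a generization in `D(t)`. -/
lemma exists_le_of_mem_closure_basicOpen (t : C) (q : PrimeSpectrum C)
    (hq : q ∈ closure (basicOpen t : Set (PrimeSpectrum C))) :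
    ∃ p : PrimeSpectrum C, p ≤ q ∧ t ∉ p.asIdeal := by
  by_contra hcon
  push Not at hcon
  -- `t` is nilpotent in the localization at `q`
  have hnil : IsNilpotent (algebraMap C (Localization.AtPrime q.asIdeal) t) := by
    rw [nilpotent_iff_mem_prime]
    intro J hJ
    have hJ' : (J.comap (algebraMap C (Localization.AtPrime q.asIdeal))).IsPrime := hJ.comap _
    have hle : J.comap (algebraMap C (Localization.AtPrime q.asIdeal)) ≤ q.asIdeal := by
      intro c hc
      by_contra hcq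
      have hu : IsUnit (algebraMap C (Localization.AtPrime q.asIdeal) c) :=
        IsLocalization.map_units _ (⟨c, hcq⟩ : q.asIdeal.primeCompl)
      exact hJ.ne_top (Ideal.eq_top_of_isUnit_mem _ hc hu)
    exact hcon ⟨_, hJ'⟩ hle
  obtain ⟨n, hn⟩ := hnil
  rw [← map_pow, IsLocalization.map_eq_zero_iff q.asIdeal.primeCompl] at hn
  obtain ⟨s, hs⟩ := hn
  have hsq : q ∈ (basicOpen (s : C) : Set (PrimeSpectrum C)) := s.2
  obtain ⟨r, hr1, hr2⟩ := mem_closure_iff.mp hq _ (basicOpen (s : C)).2 hsq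
  have hr1' : (s : C) ∉ r.asIdeal := hr1
  have hr2' : t ∉ r.asIdeal := hr2
  have : (s : C) * t ^ n ∈ r.asIdeal := by rw [hs]; exact zero_mem _
  rcases r.2.mem_or_mem this with h | h
  · exact hr1' h
  · exact hr2' (r.2.mem_of_pow_mem n h)

theorem nzd_of_minimalPrimes [IsNoetherianRing C] (ϖ : C)
    (hred : ∀ a b : C, a * a = ϖ * b → ∃ c, a = ϖ * c)
    (hmin : ∀ q ∈ (Ideal.span {ϖ}).minimalPrimes, ∃ p : Ideal C, p.IsPrime ∧ p ≤ q ∧ ϖ ∉ p)
    (a : C) (ha : ϖ * a = 0) : a = 0 := by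
  refine Groth.Agent.Lib.Helper70.DVRFlatA.nzd_of_dense hred ?_ a ha
  intro P
  obtain ⟨p₀, hp₀, hp₀P⟩ := Ideal.exists_minimalPrimes_le (bot_le : (⊥ : Ideal C) ≤ P.asIdeal)
  have hp₀prime : p₀.IsPrime := hp₀.1.1
  have hϖ : ϖ ∉ p₀ := by
    intro hmem
    have hle : Ideal.span {ϖ} ≤ p₀ := (Ideal.span_singleton_le_iff_mem (I := p₀)).mpr hmem
    obtain ⟨q, hq, hqp₀⟩ := Ideal.exists_minimalPrimes_le hle
    obtain ⟨p, hp, hpq, hϖp⟩ := hmin q hq
    have h1 : p₀ ≤ p := hp₀.2 ⟨hp, bot_le⟩ (hpq.trans hqp₀)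
    exact hϖp (h1 hmem)
  have h1 : (⟨p₀, hp₀prime⟩ : PrimeSpectrum C) ∈ (basicOpen ϖ : Set (PrimeSpectrum C)) := hϖ
  have h2 : (⟨p₀, hp₀prime⟩ : PrimeSpectrum C) ⤳ P :=
    (PrimeSpectrum.le_iff_specializes _ _).mp hp₀P
  exact closure_mono (Set.singleton_subset_iff.mpr h1) (specializes_iff_mem_closure.mp h2)

end Groth.Agent.Lib.Helper70.DVRLocA
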