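import Mathlib
import Groth.Agent.Lib.Helper70.DVRConnC
import Groth.Agent.Lib.Helper70.DVRConnD
import Groth.Agent.Lib.Helper70.DVRFlatC
import Groth.Agent.Lib.Helper70.DVRLocA
import Groth.Prelude.Def_EGA43

/-!
# Scheme-level lemmas for the pointwise flatness criterion over a DVR
-/

set_option autoImplicit false

namespace Groth.Agent.Lib.Helper70.DVRLocB

universe u

open AlgebraicGeometry CategoryTheory Limits Opposite TopologicalSpace
open Groth.Agent.Lib.Helper70.DVRConnC Groth.Agent.Lib.Helper70.DVRConnA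
open Groth.Agent.Lib.Helper70.DVRConnD

/-- A point in the closure of `X.basicOpen t` has a generization in `X.basicOpen t`. -/
lemma exists_specializes_of_mem_closure_basicOpen {X : Scheme.{u}} (t : Γ(X, ⊤)) (w : X)
    (hw : w ∈ closure (X.basicOpen t : Set X)) :
    ∃ w' : X, w' ∈ X.basicOpen t ∧ w' ⤳ w := by
  obtain ⟨_, ⟨V, hV : IsAffineOpen V, rfl⟩, hwV, -⟩ :=
    X.isBasis_affineOpens.exists_subset_of_mem_open (Set.mem_univ w) isOpen_univ
  have hw' : w ∈ Set.range (φ hV) := by rw [range_φ]; exact hwV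
  obtain ⟨q, rfl⟩ := hw'
  have e1 := (φ_isOpenMap hV).preimage_closure_eq_closure_preimage (φ_continuous hV)
    (X.basicOpen t : Set X)
  have hq : q ∈ closure (φ hV ⁻¹' (X.basicOpen t : Set X)) := by rw [← e1]; exact hw
  rw [φ_preimage t hV] at hq
  obtain ⟨p, hpq, hp⟩ := Groth.Agent.Lib.Helper70.DVRLocA.exists_le_of_mem_closure_basicOpen _ q hq
  refine ⟨φ hV p, (φ_mem_basicOpen_iff t hV p).mpr hp, ?_⟩
  exact ((PrimeSpectrum.le_iff_specializes p q).mp hpq).map (φ_continuous hV)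

variable {R : Type u} [CommRing R] [IsDomain R] [IsDiscreteValuationRing R]
  {X : Scheme.{u}} (f : X ⟶ Spec (CommRingCat.of R))

/-- If `f` is open at `w` then `w` lies in the closure of the generic fibre. -/
lemma mem_closure_basicOpen_of_isOpenAt {ϖ : R} (hϖ : Irreducible ϖ) (w : X)
    (hw : EGA43.IsOpenAt f.base w) : w ∈ closure (X.basicOpen (pb f ⊤ ϖ) : Set X) := by
  rw [mem_closure_iff_nhds]
  intro U hU
  have h1 : f.base '' U ∈ nhds (f.base w) := hw U hU
  have h2 : (⟨⊥, Ideal.isPrime_bot⟩ : PrimeSpectrum R) ⤳ f.base w :=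
    (PrimeSpectrum.le_iff_specializes (R := R) ⟨⊥, Ideal.isPrime_bot⟩ (f.base w)).mp bot_le
  have h3 : f.base '' U ∈ nhds (⟨⊥, Ideal.isPrime_bot⟩ : PrimeSpectrum R) := h2 h1
  obtain ⟨u, huU, hu⟩ := mem_of_mem_nhds h3
  refine ⟨u, huU, ?_⟩
  rw [← Groth.Agent.Lib.Helper70.DVRFlatC.preimage_bot_eq_basicOpen f hϖ]
  exact hu

/-- Points of `Spec 𝒪_{X,x}` and basic opens of global sections. -/
lemma fromSpecStalk_mem_basicOpen_iff (x : X) (t : Γ(X, ⊤))
    (Q : PrimeSpectrum (X.presheaf.stalk x)) :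
    (X.fromSpecStalk x).base Q ∈ X.basicOpen t ↔ X.presheaf.germ ⊤ x trivial t ∉ Q.asIdeal := by
  have h1 : (X.fromSpecStalk x) ⁻¹ᵁ X.basicOpen t =
      PrimeSpectrum.basicOpen (X.presheaf.germ ⊤ x trivial t) := by
    rw [Scheme.preimage_basicOpen_top, Scheme.fromSpecStalk_appTop]
    simp only [CommRingCat.comp_apply]
    rw [Scheme.basicOpen_res, basicOpen_eq_of_affine]
    exact top_inf_eq _
  have h2 : Q ∈ (X.fromSpecStalk x) ⁻¹ᵁ X.basicOpen t ↔
      Q ∈ PrimeSpectrum.basicOpen (X.presheaf.germ ⊤ x trivial t) := by rw [h1]; exact Iff.rfl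
  exact h2

end Groth.Agent.Lib.Helper70.DVRLocB
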