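import Mathlib
import Groth.Agent.Lib.Helper70.DVRLocB

/-!
# Pointwise flatness over a DVR: open at the generic points of the fibre components through `x`
and fibre reduced at `x` ⇒ flat at `x`
-/

set_option autoImplicit false

namespace Groth.Agent.Lib.Helper70.DVRLocC

universe u

open AlgebraicGeometry CategoryTheory Limits Opposite TopologicalSpace
open Groth.Agent.Lib.Helper70.DVRConnC Groth.Agent.Lib.Helper70.DVRConnA
open Groth.Agent.Lib.Helper70.DVRConnD Groth.Agent.Lib.Helper70.DVRLocB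

variable {R : Type u} [CommRing R] [IsDomain R] [IsDiscreteValuationRing R]
  {X : Scheme.{u}} (f : X ⟶ Spec (CommRingCat.of R))

/-- `A/ϖ` reduced at the level of the stalk at a point of the closed fibre. -/
lemma red_stalk {ϖ : R} (hϖ : Irreducible ϖ) (y : Spec (CommRingCat.of R))
    (hy : ϖ ∈ y.asIdeal) (z₀ : f.fiber y)
    (hred : _root_.IsReduced ((f.fiber y).presheaf.stalk z₀))
    (a b : X.presheaf.stalk ((f.fiberι y).base z₀))
    (hab : a * a = X.presheaf.germ ⊤ ((f.fiberι y).base z₀) trivial (pb f ⊤ ϖ) * b) :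
    ∃ c, a = X.presheaf.germ ⊤ ((f.fiberι y).base z₀) trivial (pb f ⊤ ϖ) * c := by
  have hfx : f.base ((f.fiberι y).base z₀) = y := by
    have : (f.fiberι y).base z₀ ∈ Set.range (f.fiberι y).base := ⟨z₀, rfl⟩
    rw [f.range_fiberι] at this
    exact this
  have hϖx : ϖ ∈ (f.base ((f.fiberι y).base z₀)).asIdeal := by rw [hfx]; exact hy
  have hmax := maximalIdeal_stalk_closedPoint hϖ (f.base ((f.fiberι y).base z₀)) hϖx
  have hker := Groth.Agent.Lib.Helper49.ker_le_map f y z₀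
  have hker' := Groth.Agent.Lib.Helper49.map_le_ker f y z₀
  rw [hmax, Ideal.map_span, Set.image_singleton] at hker hker'
  have hg := germ_pb f ⊤ ((f.fiberι y).base z₀) trivial ϖ
  have h0 : ((f.fiberι y).stalkMap z₀).hom
      (X.presheaf.germ ⊤ ((f.fiberι y).base z₀) trivial (pb f ⊤ ϖ)) = 0 := by
    rw [← RingHom.mem_ker]
    apply hker'
    rw [hg]
    exact Ideal.subset_span rfl
  have h1 : ((f.fiberι y).stalkMap z₀).hom a * ((f.fiberι y).stalkMap z₀).hom a = 0 := by
    rw [← map_mul, hab, map_mul, h0, zero_mul]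
  have h2 : ((f.fiberι y).stalkMap z₀).hom a = 0 :=
    IsNilpotent.eq_zero ⟨2, by rw [pow_two]; exact h1⟩
  have h3 : a ∈ Ideal.span {(f.stalkMap ((f.fiberι y).base z₀)).hom
      ((Spec (CommRingCat.of R)).presheaf.germ ⊤ (f.base ((f.fiberι y).base z₀)) trivial
        ((Scheme.ΓSpecIso (CommRingCat.of R)).inv ϖ))} := hker h2
  rw [← hg] at h3
  obtain ⟨c, hc⟩ := Ideal.mem_span_singleton'.mp h3
  exact ⟨c, by rw [← hc, mul_comm]⟩

lemma hmin_stalk {ϖ : R} (hϖ : Irreducible ϖ) (x : X)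
    (h' : ∀ w : X, w ⤳ x → w ∉ X.basicOpen (pb f ⊤ ϖ) →
      (∀ w' : X, w' ⤳ w → w' ∉ X.basicOpen (pb f ⊤ ϖ) → w' = w) → EGA43.IsOpenAt f.base w)
    (q : Ideal (X.presheaf.stalk x))
    (hq : q ∈ (Ideal.span {X.presheaf.germ ⊤ x trivial (pb f ⊤ ϖ)}).minimalPrimes) :
    ∃ p : Ideal (X.presheaf.stalk x), p.IsPrime ∧ p ≤ q ∧
      X.presheaf.germ ⊤ x trivial (pb f ⊤ ϖ) ∉ p := by
  have hqp : q.IsPrime := hq.1.1
  have hrange := Scheme.range_fromSpecStalk (X := X) (x := x)
  have hind : Topology.IsInducing (X.fromSpecStalk x).base :=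
    (X.fromSpecStalk x).isEmbedding.isInducing
  have hwx : (X.fromSpecStalk x).base ⟨q, hqp⟩ ⤳ x := by
    have : (X.fromSpecStalk x).base ⟨q, hqp⟩ ∈ Set.range (X.fromSpecStalk x).base := ⟨_, rfl⟩
    rw [hrange] at this
    exact this
  have hwb : (X.fromSpecStalk x).base ⟨q, hqp⟩ ∉ X.basicOpen (pb f ⊤ ϖ) := by
    rw [fromSpecStalk_mem_basicOpen_iff, not_not]
    exact hq.1.2 (Ideal.subset_span rfl)
  have hmaxw : ∀ w' : X, w' ⤳ (X.fromSpecStalk x).base ⟨q, hqp⟩ →
      w' ∉ X.basicOpen (pb f ⊤ ϖ) → w' = (X.fromSpecStalk x).base ⟨q, hqp⟩ := by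
    intro w' hw' hw'b
    have hw'x : w' ∈ Set.range (X.fromSpecStalk x).base := by
      rw [hrange]; exact hw'.trans hwx
    obtain ⟨Q', rfl⟩ := hw'x
    have h1 : Q' ⤳ (⟨q, hqp⟩ : PrimeSpectrum (X.presheaf.stalk x)) := hind.specializes_iff.mp hw'
    have h2 : Q'.asIdeal ≤ q := (PrimeSpectrum.le_iff_specializes Q' ⟨q, hqp⟩).mpr h1
    rw [fromSpecStalk_mem_basicOpen_iff, not_not] at hw'b
    have h3 : Ideal.span {X.presheaf.germ ⊤ x trivial (pb f ⊤ ϖ)} ≤ Q'.asIdeal :=
      (Ideal.span_singleton_le_iff_mem (I := Q'.asIdeal)).mpr hw'b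
    have h4 : q ≤ Q'.asIdeal := hq.2 ⟨Q'.2, h3⟩ h2
    have : Q' = ⟨q, hqp⟩ := PrimeSpectrum.ext (le_antisymm h2 h4)
    rw [this]
  have hopen := h' _ hwx hwb hmaxw
  have hcl := mem_closure_basicOpen_of_isOpenAt f hϖ _ hopen
  obtain ⟨w'', hw''b, hw''⟩ := exists_specializes_of_mem_closure_basicOpen _ _ hcl
  have hw''x : w'' ∈ Set.range (X.fromSpecStalk x).base := by
    rw [hrange]; exact hw''.trans hwx
  obtain ⟨P, rfl⟩ := hw''x
  have h1 : P ⤳ (⟨q, hqp⟩ : PrimeSpectrum (X.presheaf.stalk x)) := hind.specializes_iff.mp hw''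
  have h2 : P.asIdeal ≤ q := (PrimeSpectrum.le_iff_specializes P ⟨q, hqp⟩).mpr h1
  rw [fromSpecStalk_mem_basicOpen_iff] at hw''b
  exact ⟨P.asIdeal, P.2, h2, hw''b⟩

lemma flat_stalkMap_of_nzd {ϖ : R} (hϖ : Irreducible ϖ) (x : X)
    (hnzd : ∀ a : X.presheaf.stalk x,
      X.presheaf.germ ⊤ x trivial (pb f ⊤ ϖ) * a = 0 → a = 0) :
    (f.stalkMap x).hom.Flat := by
  let S := (structurePresheafInCommRingCat R).stalk (f.base x)
  let φ : S →+* X.presheaf.stalk x := (f.stalkMap x).hom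
  let _ : Algebra S (X.presheaf.stalk x) := φ.toAlgebra
  let _ : Algebra R (X.presheaf.stalk x) := (φ.comp (algebraMap R S)).toAlgebra
  have : IsScalarTower R S (X.presheaf.stalk x) := IsScalarTower.of_algebraMap_eq fun r => rfl
  have hϖx : algebraMap R (X.presheaf.stalk x) ϖ =
      X.presheaf.germ ⊤ x trivial (pb f ⊤ ϖ) := (germ_pb f ⊤ x trivial ϖ).symm
  have hflatR : Module.Flat R (X.presheaf.stalk x) := by
    rw [Module.Flat.flat_iff_torsion_eq_bot_of_isBezout, eq_bot_iff]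
    rintro a ⟨⟨r, hr⟩, hra⟩
    rw [Submodule.mem_bot]
    obtain ⟨n, u, rfl⟩ := IsDiscreteValuationRing.eq_unit_mul_pow_irreducible
      (nonZeroDivisors.ne_zero hr) hϖ
    have h1 : algebraMap R (X.presheaf.stalk x) ((u : R) * ϖ ^ n) * a = 0 := by
      have : ((u : R) * ϖ ^ n) • a = 0 := hra
      rw [Algebra.smul_def] at this
      exact this
    rw [map_mul, map_pow, mul_assoc, hϖx] at h1
    have hu : IsUnit (algebraMap R (X.presheaf.stalk x) (u : R)) := u.isUnit.map _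
    have h2 : X.presheaf.germ ⊤ x trivial (pb f ⊤ ϖ) ^ n * a = 0 :=
      hu.mul_left_cancel (by rw [h1, mul_zero])
    clear h1 hra hr
    induction n with
    | zero => simpa using h2
    | succ n ih =>
      apply ih
      apply hnzd
      rw [← mul_assoc, ← pow_succ']
      exact h2
  exact (Module.flat_iff_of_isLocalization S (f.base x).asIdeal.primeCompl
    (X.presheaf.stalk x)).mpr hflatR

theorem flat_stalkMap_of_isOpenAt [LocallyOfFiniteType f] (y : Spec (CommRingCat.of R))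
    (hy : y = IsLocalRing.closedPoint R) (z₀ : f.fiber y)
    (h : ∀ z : f.fiber y, z₀ ∈ closure {z} → (∀ z' : f.fiber y, z ∈ closure {z'} → z' = z) →
      EGA43.IsOpenAt f.base ((f.fiberι y).base z))
    (hred : _root_.IsReduced ((f.fiber y).presheaf.stalk z₀)) :
    (f.stalkMap ((f.fiberι y).base z₀)).hom.Flat := by
  obtain ⟨ϖ, hϖ⟩ := IsDiscreteValuationRing.exists_irreducible R
  have hXN : IsLocallyNoetherian X := LocallyOfFiniteType.isLocallyNoetherian f
  have hϖy : ϖ ∈ y.asIdeal := by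
    rw [hy]
    show ϖ ∈ IsLocalRing.maximalIdeal R
    rw [hϖ.maximalIdeal_eq]
    exact Ideal.mem_span_singleton_self _
  have hind : Topology.IsInducing (f.fiberι y).base := (f.fiberι y).isEmbedding.isInducing
  have hinj : Function.Injective (f.fiberι y).base := (f.fiberι y).isEmbedding.injective
  -- points outside the generic fibre lie in the closed fibre
  have hfib : ∀ w : X, w ∉ X.basicOpen (pb f ⊤ ϖ) → w ∈ Set.range (f.fiberι y).base := by
    intro w hw
    rw [f.range_fiberι]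
    rw [mem_basicOpen_pb_iff] at hw
    have hw' : ϖ ∈ (f.base w).asIdeal := by
      by_contra hc
      exact hw ⟨trivial, hc⟩
    show f.base w = y
    rw [hy]
    apply PrimeSpectrum.ext
    have : IsLocalRing.maximalIdeal R ≤ (f.base w).asIdeal := by
      rw [hϖ.maximalIdeal_eq, Ideal.span_singleton_le_iff_mem]; exact hw'
    exact ((IsLocalRing.maximalIdeal.isMaximal R).eq_of_le (f.base w).2.ne_top this).symm
  have hfib' : ∀ z : f.fiber y, (f.fiberι y).base z ∉ X.basicOpen (pb f ⊤ ϖ) := by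
    intro z hz
    rw [mem_basicOpen_pb_iff] at hz
    have h1 : (f.fiberι y).base z ∈ Set.range (f.fiberι y).base := ⟨z, rfl⟩
    rw [f.range_fiberι] at h1
    have h2 : f.base ((f.fiberι y).base z) = y := h1
    rw [h2] at hz
    exact hz.2 hϖy
  apply flat_stalkMap_of_nzd f hϖ
  apply Groth.Agent.Lib.Helper70.DVRLocA.nzd_of_minimalPrimes
  · exact red_stalk f hϖ y hϖy z₀ hred
  · intro q hq
    refine hmin_stalk f hϖ _ ?_ q hq
    intro w hwx hwb hwmax
    obtain ⟨z, rfl⟩ := hfib w hwb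
    apply h z
    · exact specializes_iff_mem_closure.mp (hind.specializes_iff.mp hwx)
    · intro z' hz'
      have h1 : z' ⤳ z := specializes_iff_mem_closure.mpr hz'
      have h2 : (f.fiberι y).base z' ⤳ (f.fiberι y).base z := hind.specializes_iff.mpr h1
      exact hinj (hwmax _ h2 (hfib' z'))

end Groth.Agent.Lib.Helper70.DVRLocC
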