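import Mathlib
import Groth.Agent.Lib.Helper70.DedekindFlatA

/-!
# Flatness over a Dedekind scheme: reduced source all of whose components dominate
-/

set_option autoImplicit false

namespace Groth.Agent.Lib.Helper70.DedekindFlatB

universe u

open AlgebraicGeometry CategoryTheory Limits Opposite TopologicalSpace
open Groth.Agent.Lib.Helper70.DedekindFlatA

variable {X Y : Scheme.{u}}

theorem flat_stalkMap_of_dominant [IsIntegral Y] [IsReduced X] (f : X ⟶ Y) (x : X)
    (hreg : IsRegularLocalRing (Y.presheaf.stalk (f.base x)))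
    (hdim : ringKrullDim (Y.presheaf.stalk (f.base x)) ≤ 1)
    (h : ∀ Z ∈ irreducibleComponents (X : Type u), x ∈ Z → Dense (f.base '' Z)) :
    (f.stalkMap x).hom.Flat := by
  have hPID : IsPrincipalIdealRing (Y.presheaf.stalk (f.base x)) :=
    isPrincipalIdealRing_of_regular_dim_le_one _ hdim
  let _ : Algebra (Y.presheaf.stalk (f.base x)) (X.presheaf.stalk x) :=
    (f.stalkMap x).hom.toAlgebra
  show Module.Flat (Y.presheaf.stalk (f.base x)) (X.presheaf.stalk x)
  rw [Module.Flat.flat_iff_torsion_eq_bot_of_isBezout, eq_bot_iff]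
  rintro b ⟨⟨s, hs⟩, hsb⟩
  rw [Submodule.mem_bot]
  have hsb' : (f.stalkMap x).hom s * b = 0 := by
    have : s • b = 0 := hsb
    rw [Algebra.smul_def, RingHom.algebraMap_toAlgebra] at this
    exact this
  have hs0 : s ≠ 0 := nonZeroDivisors.ne_zero hs
  apply IsNilpotent.eq_zero
  rw [← mem_nilradical, nilradical, ← Ideal.sInf_minimalPrimes]
  rw [Ideal.mem_sInf]
  intro q hq
  have hq' : q ∈ minimalPrimes (X.presheaf.stalk x) := hq
  have hqp : q.IsPrime := hq'.1.1
  have hmem : (f.stalkMap x).hom s * b ∈ q := by rw [hsb']; exact zero_mem _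
  rcases hqp.mem_or_mem hmem with hsq | hbq
  · exfalso
    apply hs0
    have hcomp := closure_mem_irreducibleComponents_of_minimalPrimes x q hq'
    have hwx : (X.fromSpecStalk x).base ⟨q, hqp⟩ ⤳ x := by
      have : (X.fromSpecStalk x).base ⟨q, hqp⟩ ∈ Set.range (X.fromSpecStalk x).base := ⟨_, rfl⟩
      rw [Scheme.range_fromSpecStalk] at this
      exact this
    have hdense := h _ hcomp (specializes_iff_mem_closure.mp hwx)
    have hgen := eq_genericPoint_of_dense_image f _ hdense
    -- the prime `φ⁻¹ q` lies over the generic point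
    have hsq' : s ∈ (Ideal.comap (f.stalkMap x).hom q) := hsq
    have hP : (Y.fromSpecStalk (f.base x)).base
        (⟨Ideal.comap (f.stalkMap x).hom q, hqp.comap _⟩ :
          PrimeSpectrum (Y.presheaf.stalk (f.base x))) = genericPoint Y := by
      rw [← hgen]
      have h1 := Scheme.SpecMap_stalkMap_fromSpecStalk (f := f) (x := x)
      have h2 := congrArg (fun g : Spec (X.presheaf.stalk x) ⟶ Y => g.base ⟨q, hqp⟩) h1
      simp only [Scheme.Hom.comp_base, TopCat.comp_app] at h2
      exact h2
    have hbot := eq_bot_of_fromSpecStalk_eq_genericPoint (f.base x) _ hP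
    have : s ∈ (⊥ : Ideal (Y.presheaf.stalk (f.base x))) := by
      rw [← hbot]; exact hsq'
    exact (Ideal.mem_bot).mp this
  · exact hbq

theorem dense_image_of_flat [IsIntegral Y] (f : X ⟶ Y) [Flat f]
    (Z : Set X) (hZ : Z ∈ irreducibleComponents (X : Type u)) : Dense (f.base '' Z) := by
  -- generic point of `Z`
  have hZirr : IsIrreducible Z := hZ.1
  have hZcl : IsClosed Z := isClosed_of_mem_irreducibleComponents Z hZ
  obtain ⟨ξ, hξ⟩ := QuasiSober.sober hZirr hZcl
  -- `f ξ` is the generic point
  have h1 : genericPoint Y ⤳ f.base ξ := genericPoint_specializes _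
  obtain ⟨ξ', hξ', hfξ'⟩ := (Flat.generalizingMap f) h1
  have hξ'Z : ξ' = ξ := by
    -- `closure {ξ'}` is irreducible and contains `Z`
    have hsub : Z ⊆ closure {ξ'} := by
      rw [← hξ.def]
      exact (specializes_iff_closure_subset).mp hξ'
    have hle : closure {ξ'} ≤ Z := hZ.2 isIrreducible_singleton.closure hsub
    have hξ'mem : ξ' ∈ Z := hle (subset_closure rfl)
    have h2 : ξ ⤳ ξ' := by
      rw [specializes_iff_mem_closure, hξ.def]; exact hξ'mem
    exact (hξ'.antisymm h2).eq
  rw [hξ'Z] at hfξ'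
  have hmem : genericPoint Y ∈ f.base '' Z := ⟨ξ, hξ.mem, hfξ'⟩
  intro y
  have : y ∈ closure {genericPoint Y} := by
    rw [(genericPoint_spec Y).def]; trivial
  exact closure_mono (Set.singleton_subset_iff.mpr hmem) this

end Groth.Agent.Lib.Helper70.DedekindFlatB
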