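import Mathlib
import Groth.Agent.Lib.Helper70.DedekindFlatB

/-!
# Variants: flatness at a point from generic points; unions of irreducible components;
universally open descends along surjections
-/

set_option autoImplicit false

namespace Groth.Agent.Lib.Helper70.DedekindFlatC

universe u

open AlgebraicGeometry CategoryTheory Limits Opposite TopologicalSpace
open Groth.Agent.Lib.Helper70.DedekindFlatA

variable {X Y : Scheme.{u}}

theorem flat_stalkMap_of_genericPoints [IsIntegral Y] [IsReduced X] (f : X ⟶ Y) (x : X)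
    (hreg : IsRegularLocalRing (Y.presheaf.stalk (f.base x)))
    (hdim : ringKrullDim (Y.presheaf.stalk (f.base x)) ≤ 1)
    (h : ∀ w : X, closure {w} ∈ irreducibleComponents (X : Type u) → w ⤳ x →
      f.base w = genericPoint Y) :
    (f.stalkMap x).hom.Flat := by
  have hPID : IsPrincipalIdealRing (Y.presheaf.stalk (f.base x)) :=
    isPrincipalIdealRing_of_regular_dim_le_one _ hdim
  let _ : Algebra (Y.presheaf.stalk (f.base x)) (X.presheaf.stalk x) :=
    (f.stalkMap x).hom.toAlgebra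
  show Module.Flat (Y.presheaf.stalk (f.base x)) (X.presheaf.stalk x)
  rw [Module.Flat.flat_iff_torsion_eq_bot_of_isBezout, eq_bot_iff]
  rintro b ⟨⟨s, hs⟩, hsb⟩
  rw [Submodule.mem_bot]
  have hsb' : (f.stalkMap x).hom s * b = 0 := by
    have : s • b = 0 := hsb
    rw [Algebra.smul_def, RingHom.algebraMap_toAlgebra] at this
    exact this
  have hs0 : s ≠ 0 := nonZeroDivisors.ne_zero hs
  apply IsNilpotent.eq_zero
  rw [← mem_nilradical, nilradical, ← Ideal.sInf_minimalPrimes]
  rw [Ideal.mem_sInf]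
  intro q hq
  have hq' : q ∈ minimalPrimes (X.presheaf.stalk x) := hq
  have hqp : q.IsPrime := hq'.1.1
  have hmem : (f.stalkMap x).hom s * b ∈ q := by rw [hsb']; exact zero_mem _
  rcases hqp.mem_or_mem hmem with hsq | hbq
  · exfalso
    apply hs0
    have hcomp := closure_mem_irreducibleComponents_of_minimalPrimes x q hq'
    have hwx : (X.fromSpecStalk x).base ⟨q, hqp⟩ ⤳ x := by
      have : (X.fromSpecStalk x).base ⟨q, hqp⟩ ∈ Set.range (X.fromSpecStalk x).base := ⟨_, rfl⟩
      rw [Scheme.range_fromSpecStalk] at this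
      exact this
    have hgen := h _ hcomp hwx
    have hsq' : s ∈ (Ideal.comap (f.stalkMap x).hom q) := hsq
    have hP : (Y.fromSpecStalk (f.base x)).base
        (⟨Ideal.comap (f.stalkMap x).hom q, hqp.comap _⟩ :
          PrimeSpectrum (Y.presheaf.stalk (f.base x))) = genericPoint Y := by
      rw [← hgen]
      have h1 := Scheme.SpecMap_stalkMap_fromSpecStalk (f := f) (x := x)
      have h2 := congrArg (fun g : Spec (X.presheaf.stalk x) ⟶ Y => g.base ⟨q, hqp⟩) h1
      simp only [Scheme.Hom.comp_base, TopCat.comp_app] at h2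
      exact h2
    have hbot := eq_bot_of_fromSpecStalk_eq_genericPoint (f.base x) _ hP
    have : s ∈ (⊥ : Ideal (Y.presheaf.stalk (f.base x))) := by
      rw [← hbot]; exact hsq'
    exact (Ideal.mem_bot).mp this
  · exact hbq

/-- In a space which is locally a space with finitely many irreducible components, every union of
irreducible components is closed. -/
theorem isClosed_sUnion_irreducibleComponents {T : Type*} [TopologicalSpace T]
    (hloc : ∀ x : T, ∃ V : Set T, IsOpen V ∧ x ∈ V ∧ (irreducibleComponents V).Finite)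
    (𝒵 : Set (Set T)) (h𝒵 : 𝒵 ⊆ irreducibleComponents T) : IsClosed (⋃₀ 𝒵) := by
  rw [← closure_subset_iff_isClosed]
  intro x hx
  obtain ⟨V, hVo, hxV, hfin⟩ := hloc x
  -- members of `𝒵` meeting `V`
  let 𝒵V : Set (Set T) := {Z | Z ∈ 𝒵 ∧ (Z ∩ V).Nonempty}
  have hemb : Topology.IsOpenEmbedding (Subtype.val : V → T) := hVo.isOpenEmbedding_subtypeVal
  have hfinV : 𝒵V.Finite := by
    have hmaps : ∀ Z ∈ 𝒵V, (Subtype.val : V → T) ⁻¹' Z ∈ irreducibleComponents V := by
      intro Z hZ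
      refine preimage_mem_irreducibleComponents (h𝒵 hZ.1) hemb ?_
      rw [Subtype.range_coe]
      exact hZ.2
    have hinj : Set.InjOn (fun Z : Set T => (Subtype.val : V → T) ⁻¹' Z) 𝒵V := by
      intro Z₁ hZ₁ Z₂ hZ₂ he
      have e1 := closure_image_preimage_of_isPreirreducible (Subtype.val : V → T)
        hemb.isOpenMap Z₁ (by
          obtain ⟨z, hz, hzV⟩ := hZ₁.2
          exact ⟨⟨z, hzV⟩, hz⟩) (h𝒵 hZ₁.1).1.2 (isClosed_of_mem_irreducibleComponents _ (h𝒵 hZ₁.1))
      have e2 := closure_image_preimage_of_isPreirreducible (Subtype.val : V → T)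
        hemb.isOpenMap Z₂ (by
          obtain ⟨z, hz, hzV⟩ := hZ₂.2
          exact ⟨⟨z, hzV⟩, hz⟩) (h𝒵 hZ₂.1).1.2 (isClosed_of_mem_irreducibleComponents _ (h𝒵 hZ₂.1))
      have he' : (Subtype.val : V → T) ⁻¹' Z₁ = (Subtype.val : V → T) ⁻¹' Z₂ := he
      rw [← e1, ← e2, he']
    exact Set.Finite.of_finite_image (hfin.subset (Set.image_subset_iff.mpr hmaps)) hinj
  have hcl : IsClosed (⋃₀ 𝒵V) := by
    rw [Set.sUnion_eq_biUnion]
    exact Set.Finite.isClosed_biUnion hfinV
      fun Z hZ => isClosed_of_mem_irreducibleComponents _ (h𝒵 hZ.1)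
  have hx' : x ∈ closure ((⋃₀ 𝒵) ∩ V) := by
    rw [mem_closure_iff_nhds]
    intro N hN
    have hNV : N ∩ V ∈ nhds x := Filter.inter_mem hN (hVo.mem_nhds hxV)
    obtain ⟨z, ⟨hzN, hzV⟩, hz⟩ := (mem_closure_iff_nhds.mp hx) _ hNV
    exact ⟨z, hzN, hz, hzV⟩
  have hsub : (⋃₀ 𝒵) ∩ V ⊆ ⋃₀ 𝒵V := by
    rintro z ⟨⟨Z, hZ, hzZ⟩, hzV⟩
    exact ⟨Z, ⟨hZ, ⟨z, hzZ, hzV⟩⟩, hzZ⟩
  have hx'' : x ∈ ⋃₀ 𝒵V := (closure_minimal hsub hcl) hx'
  obtain ⟨Z, hZ, hxZ⟩ := hx''
  exact ⟨Z, hZ.1, hxZ⟩

theorem universallyOpen_of_comp_surjective {X Y Z : Scheme.{u}} (f : X ⟶ Y) (g : Y ⟶ Z)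
    [UniversallyOpen (f ≫ g)] [Surjective f] : UniversallyOpen g := by
  constructor
  intro X' Y' i₁ i₂ f' H
  have h1 := UniversallyOpen.universally_isOpenMap _ _ _
    ((IsPullback.of_hasPullback i₁ f).paste_horiz H)
  have hsurj : Function.Surjective (pullback.fst i₁ f).base :=
    (MorphismProperty.pullback_fst (P := @Surjective) _ _ ‹_›).1
  intro U hU
  have h2 : f'.base '' U = (pullback.fst i₁ f ≫ f').base '' ((pullback.fst i₁ f).base ⁻¹' U) := by
    rw [Scheme.Hom.comp_base, TopCat.coe_comp, Set.image_comp, Set.image_preimage_eq _ hsurj]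
  rw [h2]
  exact h1 _ (hU.preimage (pullback.fst i₁ f).continuous)

end Groth.Agent.Lib.Helper70.DedekindFlatC
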