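import Mathlib
import Groth.Agent.Lib.Helper70.DedekindFlatC
import Groth.Agent.Lib.Helper7.ReducedFibreScheme
import Groth.Agent.Lib.Helper85.RegularLocal

/-!
# Universally open neighbourhood of a fibre over a Dedekind-like base
-/

set_option autoImplicit false

namespace Groth.Agent.Lib.Helper70.DedekindFlatD

universe u

open AlgebraicGeometry CategoryTheory Limits Opposite TopologicalSpace
open Groth.Agent.Lib.Helper70.DedekindFlatA Groth.Agent.Lib.Helper70.DedekindFlatC
open Groth.Agent.Lib.Helper70.IrrComp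

lemma mem_maxPts_of_isOpenEmbedding {A B : Type*} [TopologicalSpace A] [TopologicalSpace B]
    {e : A → B} (he : Topology.IsOpenEmbedding e) {a : A} (ha : a ∈ maxPts A) :
    e a ∈ maxPts B := by
  intro y hy
  have hy' : y ∈ Set.range e := hy.mem_open he.isOpen_range ⟨a, rfl⟩
  obtain ⟨a', rfl⟩ := hy'
  have h1 : a' ⤳ a := he.isInducing.specializes_iff.mp hy
  exact (ha a' h1).map he.continuous

variable {X Y : Scheme.{u}}

theorem exists_universallyOpen_nhd [IsLocallyNoetherian Y] [IrreducibleSpace Y]
    (hY : ∀ y : Y, IsRegularLocalRing (Y.presheaf.stalk y) ∧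
      ringKrullDim (Y.presheaf.stalk y) ≤ 1)
    (f : X ⟶ Y) [LocallyOfFiniteType f] (y : Y)
    (h : ∀ Z ∈ irreducibleComponents (X : Type u), (Z ∩ f.base ⁻¹' {y}).Nonempty →
      Dense (f.base '' Z)) :
    ∃ U : X.Opens, f.base ⁻¹' {y} ⊆ (U : Set X) ∧ UniversallyOpen (U.ι ≫ f) := by
  have hXN : IsLocallyNoetherian X := LocallyOfFiniteType.isLocallyNoetherian f
  have hYred : IsReduced Y := by
    have : ∀ y : Y, _root_.IsReduced (Y.presheaf.stalk y) := fun y => by
      have := (hY y).1
      have := Groth.Agent.Lib.Helper85.isDomain_of_isRegularLocalRing (Y.presheaf.stalk y)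
      infer_instance
    exact isReduced_of_isReduced_stalk Y
  have hYint : IsIntegral Y := isIntegral_of_irreducibleSpace_of_isReduced Y
  let 𝒵 : Set (Set X) := {Z | Z ∈ irreducibleComponents (X : Type u) ∧ ¬ Dense (f.base '' Z)}
  have hloc : ∀ x : X, ∃ V : Set X, IsOpen V ∧ x ∈ V ∧ (irreducibleComponents V).Finite := by
    intro x
    obtain ⟨_, ⟨V, hV : IsAffineOpen V, rfl⟩, hxV, -⟩ :=
      X.isBasis_affineOpens.exists_subset_of_mem_open (Set.mem_univ x) isOpen_univ
    have : IsNoetherianRing Γ(X, V) := IsLocallyNoetherian.component_noetherian ⟨V, hV⟩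
    have : NoetherianSpace ((V : Set X)) := noetherianSpace_of_isAffineOpen V hV
    exact ⟨(V : Set X), V.2, hxV, NoetherianSpace.finite_irreducibleComponents⟩
  have hcl : IsClosed (⋃₀ 𝒵) :=
    isClosed_sUnion_irreducibleComponents hloc 𝒵 (fun Z hZ => hZ.1)
  let U : X.Opens := ⟨(⋃₀ 𝒵)ᶜ, hcl.isOpen_compl⟩
  refine ⟨U, ?_, ?_⟩
  · rintro x hx ⟨Z, hZ, hxZ⟩
    exact hZ.2 (h Z hZ.1 ⟨x, hxZ, hx⟩)
  · have hred : IsReduced (U : Scheme.{u}).nilradical.subscheme :=
      Groth.Agent.Lib.Helper7.isReduced_subscheme_nilradical _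
    have hsurj : Function.Surjective (U : Scheme.{u}).nilradical.subschemeι.base := by
      rw [← Set.range_eq_univ, Scheme.IdealSheafData.range_subschemeι,
        Scheme.support_nilradical]
      rfl
    have hSurj : Surjective (U : Scheme.{u}).nilradical.subschemeι := ⟨hsurj⟩
    have hhomeo : IsHomeomorph (U : Scheme.{u}).nilradical.subschemeι.base :=
      isHomeomorph_iff_isEmbedding_surjective.mpr
        ⟨(U : Scheme.{u}).nilradical.subschemeι.isClosedEmbedding.isEmbedding, hsurj⟩
    have hemb : Topology.IsOpenEmbedding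
        ((U : Scheme.{u}).nilradical.subschemeι ≫ U.ι).base := by
      rw [Scheme.Hom.comp_base, TopCat.coe_comp]
      exact U.ι.isOpenEmbedding.comp hhomeo.isOpenEmbedding
    have hflat : Flat ((U : Scheme.{u}).nilradical.subschemeι ≫ U.ι ≫ f) := by
      rw [Flat.iff_flat_stalkMap]
      intro x'
      refine flat_stalkMap_of_genericPoints _ x' (hY _).1 (hY _).2 ?_
      intro w' hw' _
      have hw'max : w' ∈ maxPts (U : Scheme.{u}).nilradical.subscheme := by
        rw [← genericPoints_eq_maxPts]; exact hw'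
      have hmax := mem_maxPts_of_isOpenEmbedding hemb hw'max
      rw [← genericPoints_eq_maxPts] at hmax
      have hcomp : closure {((U : Scheme.{u}).nilradical.subschemeι ≫ U.ι).base w'} ∈
          irreducibleComponents (X : Type u) := hmax
      have hU : ((U : Scheme.{u}).nilradical.subschemeι ≫ U.ι).base w' ∈ (U : Set X) := by
        have h0 : U.ι.base ((U : Scheme.{u}).nilradical.subschemeι.base w') ∈
            Set.range U.ι.base := ⟨_, rfl⟩
        rw [Scheme.Opens.range_ι] at h0
        exact h0
      have hdense : Dense (f.base '' closure {((U : Scheme.{u}).nilradical.subschemeι ≫ U.ι).base w'}) := by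
        by_contra hnd
        exact hU ⟨_, ⟨hcomp, hnd⟩, subset_closure rfl⟩
      have := eq_genericPoint_of_dense_image f _ hdense
      rw [← this]
      rfl
    have hUO : UniversallyOpen ((U : Scheme.{u}).nilradical.subschemeι ≫ U.ι ≫ f) :=
      inferInstance
    exact universallyOpen_of_comp_surjective (U : Scheme.{u}).nilradical.subschemeι (U.ι ≫ f)

end Groth.Agent.Lib.Helper70.DedekindFlatD
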