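import Mathlib
import Groth.Agent.Lib.Helper70.DescendSectionA

/-!
# Descent of sections along proper surjective morphisms to seminormal schemes: affine base

`DescSec.key_Spec`, `DescSec.key_affine`: let `X` be an affine scheme with seminormal coordinate
ring, `π : Y ⟶ X` proper surjective with `Y` reduced, and `s` a global section of `Y` which takes
the same value on any two ring-valued points of `Y` with the same image in `X`. Then `s` is the
pullback of a global section of `X`.
-/

universe u

namespace Groth.Agent.Lib.Helper70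

open CategoryTheory CategoryTheory.Limits AlgebraicGeometry TensorProduct

namespace DescSec
open SpecUH SNIso AWNRing

variable {Y : Scheme.{u}}

theorem key_Spec {R : CommRingCat.{u}} (hR : HTop.IsSeminormalRing R) (π : Y ⟶ Spec R)
    [IsProper π] [Surjective π] [IsReduced Y] (s : Γ(Y, ⊤))
    (H : ∀ (C : Type u) [CommRing C] (y1 y2 : Spec (CommRingCat.of C) ⟶ Y), y1 ≫ π = y2 ≫ π →
      ev y1 s = ev y2 s) :
    ∃ a : R, (phi π).hom a = s := by
  have hRred : IsReduced R := isReduced_of_isSeminormalRing hR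
  have hSred : IsReduced (Spec R) := inferInstance
  have hcpt : CompactSpace Y := (quasiCompact_iff_compactSpace π).mp inferInstance
  let φ : R →+* Γ(Y, ⊤) := (phi π).hom
  have hφinj : Function.Injective φ := by
    have : IsSchemeTheoreticallyDominant π := IsSchemeTheoreticallyDominant.of_isDominant π
    have h1 : Function.Injective π.appTop := π.app_injective ⊤
    intro a b hab
    exact (ConcreteCategory.bijective_of_isIso (Scheme.ΓSpecIso R).inv).1 (h1 hab)
  have hφint : φ.IsIntegral := by
    have h1 := isIntegral_appTop_of_universallyClosed π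
    exact RingHom.IsIntegral.trans _ _ (RingHom.isIntegral_of_surjective _
      (ConcreteCategory.bijective_of_isIso (Scheme.ΓSpecIso R).inv).2) h1
  let _ : Algebra R Γ(Y, ⊤) := φ.toAlgebra
  have H' : ∀ (C : Type u) [CommRing C] (y1 y2 : Spec (CommRingCat.of C) ⟶ Y),
      (ev y1).comp φ = (ev y2).comp φ → ev y1 s = ev y2 s := by
    intro C _ y1 y2 h
    apply H
    rw [comp_eq_SpecMap, comp_eq_SpecMap]
    exact congrArg (fun z => Spec.map (CommRingCat.ofHom z)) h
  set A' := Algebra.adjoin R {s} with hA'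
  have hs' : s ∈ A' := Algebra.subset_adjoin (Set.mem_singleton s)
  let incl : A' →+* Γ(Y, ⊤) := A'.val.toRingHom
  have hincl : Function.Injective incl := Subtype.val_injective
  have hcomp : incl.comp (algebraMap R A') = φ := rfl
  have hρ : UniversallyClosed (Y.toSpecΓ ≫ Spec.map (CommRingCat.ofHom incl)) := by
    have h1 : (Y.toSpecΓ ≫ Spec.map (CommRingCat.ofHom incl)) ≫
        Spec.map (CommRingCat.ofHom (algebraMap R A')) = π := by
      rw [Category.assoc, ← Spec.map_comp]
      exact toSpecΓ_phi π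
    have : UniversallyClosed ((Y.toSpecΓ ≫ Spec.map (CommRingCat.ofHom incl)) ≫
        Spec.map (CommRingCat.ofHom (algebraMap R A'))) := by rw [h1]; infer_instance
    exact UniversallyClosed.of_comp_of_isSeparated _
      (Spec.map (CommRingCat.ofHom (algebraMap R A')))
  have hmem : s ∈ Set.range (algebraMap R Γ(Y, ⊤)) := by
    refine ring_core hR hφinj s (hφint s) ?_ ?_
    · intro K _ g₁ g₂ h
      obtain ⟨L1, _, j1, y1, e1⟩ := exists_lift incl hincl hρ g₁
      obtain ⟨L, _, j, y2, e2⟩ := exists_lift incl hincl hρ (j1.comp g₂)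
      have e1' : (ev (Spec.map (CommRingCat.ofHom j) ≫ y1)).comp incl = (j.comp j1).comp g₁ := by
        rw [ev_comp, RingHom.comp_assoc, e1, RingHom.comp_assoc]
      have e2' : (ev y2).comp incl = (j.comp j1).comp g₂ := by
        rw [e2, RingHom.comp_assoc]
      have hφ12 : (ev (Spec.map (CommRingCat.ofHom j) ≫ y1)).comp φ = (ev y2).comp φ := by
        rw [← hcomp, ← RingHom.comp_assoc, ← RingHom.comp_assoc, e1', e2', RingHom.comp_assoc,
          RingHom.comp_assoc, h]
        rfl
      have h3 := H' L _ y2 hφ12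
      have a1 := congrFun (congrArg DFunLike.coe e1') ⟨s, hs'⟩
      have a2 := congrFun (congrArg DFunLike.coe e2') ⟨s, hs'⟩
      apply (j.comp j1).injective
      exact a1.symm.trans (h3.trans a2)
    · intro K _ g
      obtain ⟨L, _, j, y, e⟩ := exists_lift incl hincl hρ g
      set F := Subfield.closure (Set.range (g.comp (algebraMap R A'))) with hF
      let _ : Algebra F L := (j.comp F.subtype).toAlgebra
      let ι₁ : L →+* L ⊗[F] L := Algebra.TensorProduct.includeLeftRingHom
      let ι₂ : L →+* L ⊗[F] L :=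
        (Algebra.TensorProduct.includeRight : L →ₐ[F] L ⊗[F] L).toRingHom
      have hι : ι₁.comp (j.comp (g.comp (algebraMap R A'))) =
          ι₂.comp (j.comp (g.comp (algebraMap R A'))) := by
        ext r
        have hr : (g.comp (algebraMap R A')) r ∈ F := Subfield.subset_closure ⟨r, rfl⟩
        change (j (g (algebraMap R A' r))) ⊗ₜ[F] (1 : L) = (1 : L) ⊗ₜ[F] (j (g (algebraMap R A' r)))
        have h5 : j (g (algebraMap R A' r)) = algebraMap F L ⟨_, hr⟩ := rfl
        rw [h5, Algebra.algebraMap_eq_smul_one, TensorProduct.smul_tmul]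
      have hφ12 : (ev (Spec.map (CommRingCat.ofHom ι₁) ≫ y)).comp φ =
          (ev (Spec.map (CommRingCat.ofHom ι₂) ≫ y)).comp φ := by
        rw [ev_comp, ev_comp, ← hcomp, RingHom.comp_assoc, RingHom.comp_assoc,
          ← RingHom.comp_assoc (algebraMap R A'), e]
        exact hι
      have h3 := H' (L ⊗[F] L) _ _ hφ12
      rw [ev_comp, ev_comp] at h3
      have a := congrFun (congrArg DFunLike.coe e) ⟨s, hs'⟩
      have h4 : (j (g ⟨s, hs'⟩)) ⊗ₜ[F] (1 : L) = (1 : L) ⊗ₜ[F] (j (g ⟨s, hs'⟩)) := by
        have a' : ev y s = j (g ⟨s, hs'⟩) := a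
        rw [← a']; exact h3
      obtain ⟨f, hf⟩ := mem_range_of_tmul_eq _ h4
      have h6 : g ⟨s, hs'⟩ = f.1 := j.injective hf.symm
      rw [h6]; exact f.2
  obtain ⟨a, ha⟩ := hmem
  exact ⟨a, ha⟩

theorem key_affine {X : Scheme.{u}} [IsAffine X] (hX : HTop.IsSeminormalRing Γ(X, ⊤))
    (π : Y ⟶ X) [IsProper π] [Surjective π] [IsReduced Y] (s : Γ(Y, ⊤))
    (H : ∀ (C : Type u) [CommRing C] (y1 y2 : Spec (CommRingCat.of C) ⟶ Y), y1 ≫ π = y2 ≫ π →
      ev y1 s = ev y2 s) :
    ∃ t : Γ(X, ⊤), π.appTop t = s := by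
  have hphi : phi (π ≫ X.isoSpec.hom) = π.appTop := by
    unfold phi
    rw [Scheme.Hom.comp_appTop, Scheme.isoSpec_hom, Scheme.toSpecΓ_appTop, Iso.inv_hom_id_assoc]
  obtain ⟨a, ha⟩ := key_Spec hX (π ≫ X.isoSpec.hom) s (by
    intro C _ y1 y2 h
    apply H
    rw [← Category.assoc, ← Category.assoc] at h
    exact (cancel_mono X.isoSpec.hom).mp h)
  rw [hphi] at ha
  exact ⟨a, ha⟩

end DescSec

end Groth.Agent.Lib.Helper70
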