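import Mathlib
import Groth.Agent.Lib.Helper70.DescendSectionB
import Groth.Agent.S7421

/-!
# Descent of sections along proper surjective morphisms to seminormal schemes: global statement

`DescSec.existsUnique_section`: let `X` be a seminormal scheme, `π : Y ⟶ X` proper surjective with
`Y` reduced, and `s` a global section of `Y` which takes the same value on any two ring-valued
points of `Y` with the same image in `X`. Then `s` is the pullback of a unique global section of `X`.
-/

universe u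

namespace Groth.Agent.Lib.Helper70

open CategoryTheory CategoryTheory.Limits AlgebraicGeometry TensorProduct

namespace DescSec
open SpecUH SNIso AWNRing

theorem local_section {X Y : Scheme.{u}} (π : Y ⟶ X) [IsProper π] [Surjective π] [IsReduced Y]
    (s : Γ(Y, ⊤))
    (H : ∀ (C : Type u) [CommRing C] (y1 y2 : Spec (CommRingCat.of C) ⟶ Y), y1 ≫ π = y2 ≫ π →
      ev y1 s = ev y2 s)
    (U : X.Opens) (hU : IsAffineOpen U) (hSN : HTop.IsSeminormalRing Γ(X, U)) :
    ∃ t : Γ(X, U), π.app U t = Y.presheaf.map (homOfLE le_top).op s := by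
  have haff : IsAffine U.toScheme := hU
  have hSN' : HTop.IsSeminormalRing Γ(U.toScheme, ⊤) := isSeminormalRing_of_iso U.topIso hSN
  have hprop : IsProper (π ∣_ U) :=
    MorphismProperty.of_isPullback (isPullback_morphismRestrict π U).flip inferInstance
  have hsurj : Surjective (π ∣_ U) :=
    MorphismProperty.of_isPullback (isPullback_morphismRestrict π U).flip inferInstance
  have hred : IsReduced (π ⁻¹ᵁ U).toScheme := inferInstance
  obtain ⟨t', ht'⟩ := key_affine hSN' (π ∣_ U) ((π ⁻¹ᵁ U).ι.appTop s) (by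
    intro C _ y1 y2 h
    have h' : (y1 ≫ (π ⁻¹ᵁ U).ι) ≫ π = (y2 ≫ (π ⁻¹ᵁ U).ι) ≫ π := by
      rw [Category.assoc, Category.assoc, ← morphismRestrict_ι, ← Category.assoc,
        ← Category.assoc, h]
    exact H C _ _ h')
  refine ⟨U.topIso.hom t', ?_⟩
  have e3 : ∀ (V W Z : Y.Opens) (a : Opposite.op V ⟶ Opposite.op W)
      (b : Opposite.op W ⟶ Opposite.op Z) (c : Opposite.op V ⟶ Opposite.op Z) (x : Γ(Y, V)),
      (Y.presheaf.map b).hom ((Y.presheaf.map a).hom x) = (Y.presheaf.map c).hom x := by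
    intro V W Z a b c x
    rw [show c = a ≫ b from Subsingleton.elim _ _, Functor.map_comp]
    rfl
  have he1 : (π ⁻¹ᵁ U).ι ''ᵁ ((π ∣_ U) ⁻¹ᵁ ⊤) = π ⁻¹ᵁ (U.ι ''ᵁ ⊤) :=
    image_morphismRestrict_preimage π U ⊤
  have ht'' : (Y.presheaf.map (eqToHom he1).op).hom ((π.app (U.ι ''ᵁ ⊤)).hom t') =
      (Y.presheaf.map (homOfLE (x := (π ⁻¹ᵁ U).ι ''ᵁ ((π ∣_ U) ⁻¹ᵁ ⊤)) le_top).op).hom s := by
    have h0 := ht'
    rw [morphismRestrict_appTop, Scheme.Opens.ι_appTop] at h0
    exact h0
  rw [Scheme.Opens.topIso_hom]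
  have nat := congrArg (fun z => z.hom t')
    (π.naturality (eqToHom U.ι_image_top.symm).op)
  simp only [CommRingCat.hom_comp, RingHom.comp_apply] at nat
  refine nat.trans ?_
  have hle : π ⁻¹ᵁ U ≤ (π ⁻¹ᵁ U).ι ''ᵁ ((π ∣_ U) ⁻¹ᵁ ⊤) := by
    change π ⁻¹ᵁ U ≤ (π ⁻¹ᵁ U).ι ''ᵁ ⊤
    rw [Scheme.Opens.ι_image_top]
  have h2 := congrArg (Y.presheaf.map (homOfLE hle).op).hom ht''
  rw [e3 _ _ _ _ _ (homOfLE le_top).op, e3 _ _ _ _ _
    ((TopologicalSpace.Opens.map π.base).map (eqToHom U.ι_image_top.symm).op.unop).op] at h2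
  exact h2

theorem existsUnique_section {X Y : Scheme.{u}} (hX : HTop.IsSeminormal X) (π : Y ⟶ X)
    [IsProper π] [Surjective π] [IsReduced Y] (s : Γ(Y, ⊤))
    (H : ∀ (C : Type u) [CommRing C] (y1 y2 : Spec (CommRingCat.of C) ⟶ Y), y1 ≫ π = y2 ≫ π →
      ev y1 s = ev y2 s) :
    ∃! t : Γ(X, ⊤), π.appTop t = s := by
  have hXred : IsReduced X := (Groth.Agent.S7421.result.{u}).2 X hX
  have hdom : IsSchemeTheoreticallyDominant π := .of_isDominant π
  have hinj : ∀ U : X.Opens, Function.Injective (π.app U) := fun U => π.app_injective U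
  have e3 : ∀ (V W Z : Y.Opens) (a : Opposite.op V ⟶ Opposite.op W)
      (b : Opposite.op W ⟶ Opposite.op Z) (c : Opposite.op V ⟶ Opposite.op Z) (x : Γ(Y, V)),
      (Y.presheaf.map b).hom ((Y.presheaf.map a).hom x) = (Y.presheaf.map c).hom x := by
    intro V W Z a b c x
    rw [show c = a ≫ b from Subsingleton.elim _ _, Functor.map_comp]
    rfl
  have hnat : ∀ (V W : X.Opens) (i : Opposite.op V ⟶ Opposite.op W) (x : Γ(X, V)),
      (π.app W).hom ((X.presheaf.map i).hom x) =
        (Y.presheaf.map ((TopologicalSpace.Opens.map π.base).map i.unop).op).hom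
          ((π.app V).hom x) := by
    intro V W i x
    have := congrArg (fun z => z.hom x) (π.naturality i)
    simpa only [CommRingCat.hom_comp, RingHom.comp_apply] using this
  choose U hxU hSN using hX
  have hloc : ∀ x : X, ∃ t : Γ(X, (U x).1),
      (π.app (U x).1).hom t = (Y.presheaf.map (homOfLE le_top).op).hom s :=
    fun x => local_section π s H (U x).1 (U x).2 (hSN x)
  choose tx htx using hloc
  have hcompat : TopCat.Presheaf.IsCompatible X.presheaf (fun x => (U x).1) tx := by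
    intro x x'
    apply hinj
    change (π.app _).hom ((X.presheaf.map _).hom (tx x)) =
      (π.app _).hom ((X.presheaf.map _).hom (tx x'))
    rw [hnat, hnat, htx, htx, e3 _ _ _ _ _ (homOfLE le_top).op, e3 _ _ _ _ _ (homOfLE le_top).op]
  have hcov : (⊤ : X.Opens) ≤ ⨆ x, (U x).1 := by
    intro x _
    exact TopologicalSpace.Opens.mem_iSup.mpr ⟨x, hxU x⟩
  obtain ⟨t, ht, -⟩ := X.sheaf.existsUnique_gluing' (fun x => (U x).1) ⊤
    (fun x => homOfLE le_top) hcov tx hcompat
  have hts : π.appTop t = s := by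
    apply Y.sheaf.eq_of_locally_eq' (fun x => π ⁻¹ᵁ (U x).1) ⊤ (fun x => homOfLE le_top)
    · intro y _
      exact TopologicalSpace.Opens.mem_iSup.mpr ⟨π y, hxU (π y)⟩
    · intro x
      have h1 := hnat ⊤ (U x).1 (homOfLE le_top).op t
      have h2 : (X.presheaf.map (homOfLE le_top).op).hom t = tx x := ht x
      rw [h2, htx] at h1
      exact h1.symm.trans (by rfl)
  exact ⟨t, hts, fun t' ht' => hinj ⊤ (ht'.trans hts.symm)⟩

end DescSec

end Groth.Agent.Lib.Helper70
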