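import Mathlib

/-!
# Closed subsets of affine space stable under the elementary automorphisms `x_i ↦ x_i + x_j^d`:
lines through points with a non-torsion coordinate (helper70)
-/

set_option autoImplicit false

namespace Groth.Agent.Lib.Helper70.ElemAutA

universe u

open MvPolynomial

variable {k : Type u} [Field k] {n : ℕ}

/-- the elementary automorphism `x_i ↦ x_i + x_j ^ d`. -/
noncomputable def tau (i j : Fin n) (d : ℕ) : MvPolynomial (Fin n) k →ₐ[k] MvPolynomial (Fin n) k :=
  aeval (Function.update X i (X i + X j ^ d) : Fin n → MvPolynomial (Fin n) k)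

variable {K : Type u} [Field K] [Algebra k K]

/-- the point of affine space with coordinates `b`. -/
noncomputable def pt (b : Fin n → K) : PrimeSpectrum (MvPolynomial (Fin n) k) :=
  ⟨RingHom.ker (aeval b : MvPolynomial (Fin n) k →ₐ[k] K), RingHom.ker_isPrime _⟩

theorem mem_pt (b : Fin n → K) (f : MvPolynomial (Fin n) k) :
    f ∈ (pt b).asIdeal ↔ aeval b f = 0 := Iff.rfl

theorem aeval_tau (b : Fin n → K) (i j : Fin n) (d : ℕ) (f : MvPolynomial (Fin n) k) :
    aeval b (tau i j d f) = aeval (Function.update b i (b i + b j ^ d)) f := by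
  have : (aeval b : MvPolynomial (Fin n) k →ₐ[k] K).comp (tau i j d) =
      aeval (Function.update b i (b i + b j ^ d)) := by
    apply MvPolynomial.algHom_ext
    intro l
    rw [AlgHom.comp_apply, aeval_X]
    unfold tau
    rw [aeval_X]
    by_cases hl : l = i
    · subst hl
      rw [Function.update_self, Function.update_self, map_add, map_pow, aeval_X, aeval_X]
    · rw [Function.update_of_ne hl, Function.update_of_ne hl, aeval_X]
  exact congrArg (fun φ : MvPolynomial (Fin n) k →ₐ[k] K => φ f) this

theorem comap_pt (b : Fin n → K) (i j : Fin n) (d : ℕ) :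
    PrimeSpectrum.comap (tau (k := k) i j d).toRingHom (pt b) =
      pt (Function.update b i (b i + b j ^ d)) := by
  apply PrimeSpectrum.ext
  rw [PrimeSpectrum.comap_asIdeal]
  ext f
  rw [Ideal.mem_comap, mem_pt]
  have h1 : (tau (k := k) i j d).toRingHom f = tau i j d f := rfl
  rw [h1, mem_pt, aeval_tau]

theorem pt_mem_iff {Z : Set (PrimeSpectrum (MvPolynomial (Fin n) k))} (hZ : IsClosed Z)
    (b : Fin n → K) :
    pt b ∈ Z ↔ ∀ f ∈ PrimeSpectrum.vanishingIdeal Z, aeval b f = 0 := by
  have hZ' : Z = PrimeSpectrum.zeroLocus (PrimeSpectrum.vanishingIdeal Z : Set _) := by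
    rw [PrimeSpectrum.zeroLocus_vanishingIdeal_eq_closure, hZ.closure_eq]
  constructor
  · intro h f hf
    rw [← mem_pt]
    exact (PrimeSpectrum.mem_vanishingIdeal _ _).mp hf _ h
  · intro h
    rw [hZ', PrimeSpectrum.mem_zeroLocus]
    intro f hf
    exact (mem_pt b f).mpr (h f hf)

/-- the one-variable polynomial `f(b_1, …, T, …, b_n)`. -/
noncomputable def lineHom (b : Fin n → K) (i : Fin n) :
    MvPolynomial (Fin n) k →ₐ[k] Polynomial K :=
  aeval (Function.update (fun l => Polynomial.C (b l)) i Polynomial.X)

theorem eval_lineHom (b : Fin n → K) (i : Fin n) (s : K) (f : MvPolynomial (Fin n) k) :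
    Polynomial.eval s (lineHom b i f) = aeval (Function.update b i s) f := by
  have : ((Polynomial.aeval s : Polynomial K →ₐ[K] K).restrictScalars k).comp (lineHom b i) =
      aeval (Function.update b i s) := by
    apply MvPolynomial.algHom_ext
    intro l
    rw [AlgHom.comp_apply, aeval_X]
    unfold lineHom
    rw [aeval_X, AlgHom.restrictScalars_apply]
    by_cases hl : l = i
    · subst hl
      rw [Function.update_self, Function.update_self, Polynomial.aeval_X]
    · rw [Function.update_of_ne hl, Function.update_of_ne hl, Polynomial.aeval_C]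
      rfl
  have h2 := congrArg (fun φ : MvPolynomial (Fin n) k →ₐ[k] K => φ f) this
  simpa [Polynomial.aeval_def, Polynomial.eval₂_eq_eval_map] using h2

variable {Z : Set (PrimeSpectrum (MvPolynomial (Fin n) k))}

/-- **the line lemma.** -/
theorem line_mem (hZ : IsClosed Z)
    (hinv : ∀ i j : Fin n, i ≠ j → ∀ (d : ℕ) (Q : PrimeSpectrum (MvPolynomial (Fin n) k)),
      Q ∈ Z → PrimeSpectrum.comap (tau (k := k) i j d).toRingHom Q ∈ Z)
    (b : Fin n → K) (hb : pt (k := k) b ∈ Z) (i j : Fin n) (hij : i ≠ j)
    (hnt : CharZero K ∨ (b j ≠ 0 ∧ ∀ m : ℕ, 0 < m → b j ^ m ≠ 1)) (s : K) :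
    pt (k := k) (Function.update b i s) ∈ Z := by
  rw [pt_mem_iff hZ]
  intro f hf
  rw [← eval_lineHom]
  suffices h0 : lineHom b i f = 0 by rw [h0, Polynomial.eval_zero]
  apply Polynomial.eq_zero_of_infinite_isRoot
  have hroot : ∀ s' : K, pt (k := k) (Function.update b i s') ∈ Z → (lineHom b i f).IsRoot s' := by
    intro s' hs'
    change Polynomial.eval s' (lineHom b i f) = 0
    rw [eval_lineHom]
    exact (pt_mem_iff hZ _).mp hs' f hf
  rcases hnt with hchar | ⟨hb0, hbt⟩
  · -- translation by `1`
    have hN : ∀ N : ℕ, pt (k := k) (Function.update b i (b i + N)) ∈ Z := by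
      intro N
      induction N with
      | zero =>
        rw [Nat.cast_zero, add_zero, Function.update_eq_self]
        exact hb
      | succ N ih =>
        have h1 := hinv i j hij 0 _ ih
        rw [comap_pt, Function.update_self, Function.update_idem, pow_zero] at h1
        rwa [Nat.cast_succ, ← add_assoc]
    apply Set.infinite_of_injective_forall_mem (f := fun N : ℕ => b i + (N : K))
    · intro N M h
      exact Nat.cast_injective (add_left_cancel h)
    · intro N
      exact hroot _ (hN N)
  · have hd : ∀ d : ℕ, pt (k := k) (Function.update b i (b i + b j ^ d)) ∈ Z := by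
      intro d
      have h1 := hinv i j hij d _ hb
      rwa [comap_pt] at h1
    apply Set.infinite_of_injective_forall_mem (f := fun d : ℕ => b i + b j ^ d)
    · intro d e h
      have h1 : b j ^ d = b j ^ e := add_left_cancel h
      by_contra hde
      rcases Nat.lt_or_gt_of_ne hde with hlt | hlt
      · apply hbt (e - d) (Nat.sub_pos_of_lt hlt)
        have h2 : b j ^ d * b j ^ (e - d) = b j ^ d * 1 := by
          rw [← pow_add, Nat.add_sub_cancel' hlt.le, mul_one, h1]
        exact mul_left_cancel₀ (pow_ne_zero d hb0) h2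
      · apply hbt (d - e) (Nat.sub_pos_of_lt hlt)
        have h2 : b j ^ e * b j ^ (d - e) = b j ^ e * 1 := by
          rw [← pow_add, Nat.add_sub_cancel' hlt.le, mul_one, h1]
        exact mul_left_cancel₀ (pow_ne_zero e hb0) h2
    · intro d
      exact hroot _ (hd d)

end Groth.Agent.Lib.Helper70.ElemAutA
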