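import Mathlib
import Groth.Agent.Lib.Helper70.ElemAutA

/-!
# Closed subsets of affine space stable under elementary automorphisms: a point with a non-torsion
coordinate forces the whole space (helper70)
-/

set_option autoImplicit false

namespace Groth.Agent.Lib.Helper70.ElemAutB

universe u

open MvPolynomial Groth.Agent.Lib.Helper70.ElemAutA

variable {k : Type u} [Field k] {n : ℕ} {Z : Set (PrimeSpectrum (MvPolynomial (Fin n) k))}

theorem pt_comp {F : Type u} [Field F] [Algebra k F] {K : Type u} [Field K] [Algebra k K]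
    (ι : F →ₐ[k] K) (a : Fin n → F) : pt (k := k) (fun l => ι (a l)) = pt (k := k) a := by
  apply PrimeSpectrum.ext
  ext f
  rw [mem_pt, mem_pt, ← comp_aeval, AlgHom.comp_apply]
  exact map_eq_zero_iff ι ι.toRingHom.injective

theorem nontorsion_of_injective {K : Type u} [Field K] [Algebra k K] (c : Fin n → K)
    (hc : Function.Injective (aeval c : MvPolynomial (Fin n) k →ₐ[k] K)) (l : Fin n) :
    c l ≠ 0 ∧ ∀ m : ℕ, 0 < m → c l ^ m ≠ 1 := by
  constructor
  · intro h
    have h1 : aeval c (X l : MvPolynomial (Fin n) k) = aeval c (0 : MvPolynomial (Fin n) k) := by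
      rw [aeval_X, h, map_zero]
    exact X_ne_zero l (hc h1)
  · intro m hm h
    have h1 : aeval c ((X l : MvPolynomial (Fin n) k) ^ m) =
        aeval c (1 : MvPolynomial (Fin n) k) := by
      rw [map_pow, aeval_X, h, map_one]
    have h2 := congrArg MvPolynomial.totalDegree (hc h1)
    rw [totalDegree_X_pow, totalDegree_one] at h2
    omega

theorem eq_univ_of_pt_mem {K : Type u} [Field K] [Algebra k K] (hZ : IsClosed Z) (c : Fin n → K)
    (hc : Function.Injective (aeval c : MvPolynomial (Fin n) k →ₐ[k] K))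
    (h : pt (k := k) c ∈ Z) : Z = Set.univ := by
  have h0 : (pt (k := k) c).asIdeal = ⊥ := by
    ext f
    rw [mem_pt, Ideal.mem_bot]
    constructor
    · intro hf
      exact hc (by rw [hf, map_zero])
    · intro hf
      rw [hf, map_zero]
  have h1 : closure ({pt (k := k) c} : Set _) ⊆ Z :=
    hZ.closure_subset_iff.mpr (Set.singleton_subset_iff.mpr h)
  rw [PrimeSpectrum.closure_singleton, h0] at h1
  apply Set.eq_univ_of_forall
  intro Q
  apply h1
  rw [PrimeSpectrum.mem_zeroLocus]
  intro f hf
  rw [SetLike.mem_coe, Ideal.mem_bot] at hf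
  rw [hf]
  exact Q.asIdeal.zero_mem

/-- **a point with a non-torsion coordinate forces everything.** -/
theorem false_of_nontorsion (hn : 2 ≤ n) (hZ : IsClosed Z) (hZne : Z ≠ Set.univ)
    (hinv : ∀ i j : Fin n, i ≠ j → ∀ (d : ℕ) (Q : PrimeSpectrum (MvPolynomial (Fin n) k)),
      Q ∈ Z → PrimeSpectrum.comap (tau (k := k) i j d).toRingHom Q ∈ Z)
    {F : Type u} [Field F] [Algebra k F] (a : Fin n → F) (ha : pt (k := k) a ∈ Z)
    (hnt : CharZero F ∨ ∃ j, a j ≠ 0 ∧ ∀ m : ℕ, 0 < m → a j ^ m ≠ 1)
    {K : Type u} [Field K] [Algebra k K] (ι : F →ₐ[k] K) (c : Fin n → K)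
    (hc : Function.Injective (aeval c : MvPolynomial (Fin n) k →ₐ[k] K)) : False := by
  classical
  have hntv : Nontrivial (Fin n) := Fin.nontrivial_iff_two_le.mpr hn
  have hι : Function.Injective ι := ι.toRingHom.injective
  let b0 : Fin n → K := fun l => ι (a l)
  have hb0 : pt (k := k) b0 ∈ Z := by rw [pt_comp]; exact ha
  let bS : Finset (Fin n) → Fin n → K := fun S l => if l ∈ S then c l else b0 l
  have hins : ∀ (S : Finset (Fin n)) (i : Fin n), bS (insert i S) = Function.update (bS S) i (c i) := by
    intro S i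
    funext l
    by_cases hl : l = i
    · subst hl
      simp [bS]
    · rw [Function.update_of_ne hl]
      simp [bS, hl]
  have key : ∀ S : Finset (Fin n),
      (CharZero K ∨ ∃ j, j ∉ S ∧ b0 j ≠ 0 ∧ ∀ m : ℕ, 0 < m → b0 j ^ m ≠ 1) →
      pt (k := k) (bS S) ∈ Z := by
    intro S
    induction S using Finset.induction_on with
    | empty =>
      intro _
      have : bS ∅ = b0 := by funext l; simp [bS]
      rw [this]
      exact hb0
    | insert i S hi ih =>
      intro h
      rw [hins]
      rcases h with h | ⟨j, hj, hj0, hjt⟩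
      · obtain ⟨j, hj⟩ := exists_ne i
        exact line_mem hZ hinv _ (ih (Or.inl h)) i j hj.symm (Or.inl h) _
      · have hjS : j ∉ S := fun h' => hj (Finset.mem_insert_of_mem h')
        have hji : i ≠ j := fun h' => hj (h' ▸ Finset.mem_insert_self i S)
        have hbj : bS S j = b0 j := by simp [bS, hjS]
        refine line_mem hZ hinv _ (ih (Or.inr ⟨j, hjS, hj0, hjt⟩)) i j hji (Or.inr ?_) _
        rw [hbj]
        exact ⟨hj0, hjt⟩
  have hfinal : pt (k := k) c ∈ Z := by
    rcases hnt with h | ⟨j, hj0, hjt⟩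
    · have hK : CharZero K := charZero_of_injective_ringHom (f := ι.toRingHom) hι
      have h1 := key Finset.univ (Or.inl hK)
      have : bS Finset.univ = c := by funext l; simp [bS]
      rwa [this] at h1
    · have hb0j : b0 j ≠ 0 ∧ ∀ m : ℕ, 0 < m → b0 j ^ m ≠ 1 := by
        refine ⟨fun h => hj0 (hι ?_), fun m hm h => hjt m hm (hι ?_)⟩
        · rw [map_zero]
          exact h
        · rw [map_pow, map_one]
          exact h
      have h1 := key (Finset.univ.erase j) (Or.inr ⟨j, Finset.notMem_erase j _, hb0j.1, hb0j.2⟩)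
      obtain ⟨i₀, hi₀⟩ := exists_ne j
      have hbi : bS (Finset.univ.erase j) i₀ = c i₀ := by simp [bS, hi₀]
      have h2 := line_mem hZ hinv _ h1 j i₀ hi₀.symm (Or.inr (by
        rw [hbi]
        exact nontorsion_of_injective c hc i₀)) (c j)
      have : Function.update (bS (Finset.univ.erase j)) j (c j) = c := by
        funext l
        by_cases hl : l = j
        · subst hl
          rw [Function.update_self]
        · rw [Function.update_of_ne hl]
          simp [bS, hl]
      rwa [this] at h2
  exact hZne (eq_univ_of_pt_mem hZ c hc hfinal)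

end Groth.Agent.Lib.Helper70.ElemAutB
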