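import Mathlib
import Groth.Agent.Lib.Helper70.ElemAutB

/-!
# Auxiliary lemmas for closed subsets of affine space stable under elementary automorphisms
(helper70)
-/

set_option autoImplicit false

namespace Groth.Agent.Lib.Helper70.ElemAutC

universe u

open MvPolynomial Groth.Agent.Lib.Helper70.ElemAutA Groth.Agent.Lib.Helper70.ElemAutB

/-- in characteristic `p`, zero and roots of unity are fixed by a power of Frobenius. -/
theorem exists_pow_char_pow_eq {F : Type u} [Field F] (p : ℕ) [hp : Fact p.Prime] [CharP F p] (a : F)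
    (h : a = 0 ∨ ∃ m : ℕ, 0 < m ∧ a ^ m = 1) : ∃ r : ℕ, 0 < r ∧ a ^ (p ^ r) = a := by
  rcases h with rfl | ⟨m, hm, ham⟩
  · exact ⟨1, Nat.one_pos, zero_pow (pow_ne_zero _ hp.out.ne_zero)⟩
  · obtain ⟨e, m', hpm', rfl⟩ := Nat.exists_eq_pow_mul_and_not_dvd hm.ne' p hp.out.ne_one
    have hm'pos : 0 < m' := by
      rcases Nat.eq_zero_or_pos m' with h0 | h0
      · exact absurd (h0 ▸ dvd_zero p) hpm'
      · exact h0
    have h1 : a ^ m' = 1 := by
      apply iterateFrobenius_inj F p e
      rw [iterateFrobenius_def, iterateFrobenius_def, one_pow, ← pow_mul, mul_comm]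
      exact ham
    have hcop : Nat.Coprime p m' := (Nat.Prime.coprime_iff_not_dvd hp.out).mpr hpm'
    have h2 : p ^ m'.totient ≡ 1 [MOD m'] := Nat.ModEq.pow_totient hcop
    have h3 : 1 ≤ p ^ m'.totient := Nat.one_le_pow _ _ hp.out.pos
    obtain ⟨q, hq⟩ : ∃ q, p ^ m'.totient = 1 + m' * q := by
      have h4 := (Nat.modEq_iff_dvd' h3).mp h2.symm
      obtain ⟨q, hq⟩ := h4
      exact ⟨q, by omega⟩
    refine ⟨m'.totient, Nat.totient_pos.mpr hm'pos, ?_⟩
    rw [hq, pow_add, pow_one, pow_mul, h1, one_pow, mul_one]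

variable {k : Type u} [Field k] {n : ℕ}

/-- a field containing `F` and `n` elements algebraically independent over `k`. -/
theorem exists_big_field (F : Type u) [Field F] [Algebra k F] :
    ∃ (K : Type u) (_ : Field K) (_ : Algebra k K) (_ : F →ₐ[k] K) (c : Fin n → K),
      Function.Injective (aeval c : MvPolynomial (Fin n) k →ₐ[k] K) := by
  refine ⟨FractionRing (MvPolynomial (Fin n) F), inferInstance, inferInstance,
    (IsScalarTower.toAlgHom k (MvPolynomial (Fin n) F) (FractionRing (MvPolynomial (Fin n) F))).comp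
      (IsScalarTower.toAlgHom k F (MvPolynomial (Fin n) F)),
    fun l => algebraMap (MvPolynomial (Fin n) F) (FractionRing (MvPolynomial (Fin n) F)) (X l), ?_⟩
  have h1 : (aeval (fun l => algebraMap (MvPolynomial (Fin n) F)
      (FractionRing (MvPolynomial (Fin n) F)) (X l)) : MvPolynomial (Fin n) k →ₐ[k] _) =
      (IsScalarTower.toAlgHom k (MvPolynomial (Fin n) F)
        (FractionRing (MvPolynomial (Fin n) F))).comp (mapAlgHom (Algebra.ofId k F)) := by
    apply MvPolynomial.algHom_ext
    intro l
    rw [aeval_X, AlgHom.comp_apply, mapAlgHom_apply, map_X]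
    rfl
  rw [h1]
  intro f g hfg
  rw [AlgHom.comp_apply, AlgHom.comp_apply] at hfg
  have h2 := IsFractionRing.injective (MvPolynomial (Fin n) F)
    (FractionRing (MvPolynomial (Fin n) F)) hfg
  exact map_injective _ (algebraMap k F).injective h2

/-- a prime of the polynomial ring all of whose coordinates are algebraic over `k` is maximal. -/
theorem isMaximal_of_coordinates (P : Ideal (MvPolynomial (Fin n) k)) [P.IsPrime]
    (h : ∀ l : Fin n, IsIntegral k (Ideal.Quotient.mk P (X l))) : P.IsMaximal := by
  have hint : Algebra.IsIntegral k (MvPolynomial (Fin n) k ⧸ P) := by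
    constructor
    intro y
    obtain ⟨f, rfl⟩ := Ideal.Quotient.mk_surjective y
    have hf : f ∈ Algebra.adjoin k (Set.range (X : Fin n → MvPolynomial (Fin n) k)) := by
      rw [adjoin_range_X]; trivial
    induction hf using Algebra.adjoin_induction with
    | mem x hx =>
      obtain ⟨l, rfl⟩ := hx
      exact h l
    | algebraMap r =>
      exact isIntegral_algebraMap (R := k) (A := MvPolynomial (Fin n) k ⧸ P) (x := r)
    | add x y _ _ hx hy => rw [map_add]; exact hx.add hy
    | mul x y _ _ hx hy => rw [map_mul]; exact hx.mul hy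
  have hfield : IsField (MvPolynomial (Fin n) k ⧸ P) :=
    isField_of_isIntegral_of_isField' (Field.toIsField k)
  exact Ideal.Quotient.maximal_of_isField P hfield

/-- a closed subset of a Noetherian quasi-sober space all of whose points are closed is finite. -/
theorem finite_of_forall_isClosed_singleton {α : Type u} [TopologicalSpace α]
    [TopologicalSpace.NoetherianSpace α] [QuasiSober α] (Z : Set α) (hZ : IsClosed Z)
    (h : ∀ x ∈ Z, IsClosed ({x} : Set α)) : Z.Finite := by
  obtain ⟨S, hSfin, hSirr, hS⟩ :=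
    TopologicalSpace.NoetherianSpace.exists_finite_set_closeds_irreducible
      (⟨Z, hZ⟩ : TopologicalSpace.Closeds α)
  have hZS : Z = ⋃ t ∈ S, (t : Set α) := by
    have h0 := congrArg (fun c : TopologicalSpace.Closeds α => (c : Set α)) hS
    have h1 : IsClosed (⋃ t ∈ S, (t : Set α)) := hSfin.isClosed_biUnion fun t _ => t.isClosed
    have h2 : Z = closure (⋃ t ∈ S, (t : Set α)) := by
      simpa [TopologicalSpace.Closeds.coe_sSup] using h0
    rw [h2, h1.closure_eq]
  rw [hZS]
  apply Set.Finite.biUnion hSfin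
  intro t ht
  obtain ⟨g, hg⟩ := QuasiSober.sober (hSirr t ht) t.isClosed
  have hgt : g ∈ (t : Set α) := hg.def ▸ subset_closure (Set.mem_singleton g)
  have hgZ : g ∈ Z := by
    rw [hZS]
    exact Set.mem_biUnion ht hgt
  have h1 : (t : Set α) = {g} := by
    rw [← hg.def, (h g hgZ).closure_eq]
  rw [h1]
  exact Set.finite_singleton g

end Groth.Agent.Lib.Helper70.ElemAutC
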