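import Mathlib
import Groth.Agent.Lib.Helper70.ElemAutC

/-!
# Closed subsets of affine space stable under the elementary automorphisms (helper70)
-/

set_option autoImplicit false

namespace Groth.Agent.Lib.Helper70.ElemAutD

universe u

open MvPolynomial Groth.Agent.Lib.Helper70.ElemAutA Groth.Agent.Lib.Helper70.ElemAutB
  Groth.Agent.Lib.Helper70.ElemAutC

variable {k : Type u} [Field k] {n : ℕ}

theorem pt_residueField (x : PrimeSpectrum (MvPolynomial (Fin n) k)) :
    pt (k := k) (fun l => algebraMap (MvPolynomial (Fin n) k) x.asIdeal.ResidueField (X l)) = x := by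
  apply PrimeSpectrum.ext
  ext f
  rw [mem_pt]
  have h1 : (aeval (fun l => algebraMap (MvPolynomial (Fin n) k) x.asIdeal.ResidueField (X l)) :
      MvPolynomial (Fin n) k →ₐ[k] x.asIdeal.ResidueField) =
      IsScalarTower.toAlgHom k (MvPolynomial (Fin n) k) x.asIdeal.ResidueField := by
    apply MvPolynomial.algHom_ext
    intro l
    rw [aeval_X]
    rfl
  rw [h1]
  exact Ideal.algebraMap_residueField_eq_zero

theorem main (hn : 2 ≤ n) (Z : Set (PrimeSpectrum (MvPolynomial (Fin n) k))) (hZ : IsClosed Z)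
    (hZne : Z ≠ Set.univ)
    (hinv : ∀ i j : Fin n, i ≠ j → ∀ (d : ℕ) (Q : PrimeSpectrum (MvPolynomial (Fin n) k)),
      Q ∈ Z → PrimeSpectrum.comap (tau (k := k) i j d).toRingHom Q ∈ Z) :
    Z = ∅ ∨ ∃ p : ℕ, p.Prime ∧ CharP k p ∧ Z.Finite ∧
      ∀ x ∈ Z, IsClosed ({x} : Set (PrimeSpectrum (MvPolynomial (Fin n) k))) ∧
        ∀ i : Fin n, ∃ m : ℕ, 0 < m ∧
          (algebraMap (MvPolynomial (Fin n) k) x.asIdeal.ResidueField (X i)) ^ (p ^ m) =
            algebraMap (MvPolynomial (Fin n) k) x.asIdeal.ResidueField (X i) := by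
  by_cases hZe : Z = ∅
  · exact Or.inl hZe
  right
  obtain ⟨x₀, hx₀⟩ := Set.nonempty_iff_ne_empty.mpr hZe
  have key : ∀ x ∈ Z, ¬ CharZero x.asIdeal.ResidueField ∧ ∀ j : Fin n,
      (algebraMap (MvPolynomial (Fin n) k) x.asIdeal.ResidueField (X j) = 0 ∨
        ∃ m : ℕ, 0 < m ∧
          (algebraMap (MvPolynomial (Fin n) k) x.asIdeal.ResidueField (X j)) ^ m = 1) := by
    intro x hx
    have hpt := pt_residueField x
    obtain ⟨K, _, _, ι, c, hc⟩ := exists_big_field (k := k) (n := n) x.asIdeal.ResidueField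
    constructor
    · intro hch
      exact false_of_nontorsion hn hZ hZne hinv _ (hpt.symm ▸ hx) (Or.inl hch) ι c hc
    · intro j
      by_contra hcon
      push Not at hcon
      exact false_of_nontorsion hn hZ hZne hinv _ (hpt.symm ▸ hx)
        (Or.inr ⟨j, hcon.1, fun m hm => hcon.2 m hm⟩) ι c hc
  obtain ⟨p, hp⟩ := CharP.exists k
  have hp0 : p ≠ 0 := by
    rintro rfl
    have : CharZero k := CharP.charP_to_charZero k
    exact (key x₀ hx₀).1
      (charZero_of_injective_algebraMap (algebraMap k x₀.asIdeal.ResidueField).injective)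
  have hpp : p.Prime := (CharP.char_is_prime_or_zero k p).resolve_right hp0
  have hfact : Fact p.Prime := ⟨hpp⟩
  have hcoord : ∀ x ∈ Z, ∀ i : Fin n, ∃ m : ℕ, 0 < m ∧
      (algebraMap (MvPolynomial (Fin n) k) x.asIdeal.ResidueField (X i)) ^ (p ^ m) =
        algebraMap (MvPolynomial (Fin n) k) x.asIdeal.ResidueField (X i) := by
    intro x hx i
    have : CharP x.asIdeal.ResidueField p :=
      charP_of_injective_algebraMap (algebraMap k x.asIdeal.ResidueField).injective p
    exact exists_pow_char_pow_eq p _ ((key x hx).2 i)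
  have hclosed : ∀ x ∈ Z, IsClosed ({x} : Set (PrimeSpectrum (MvPolynomial (Fin n) k))) := by
    intro x hx
    rw [PrimeSpectrum.isClosed_singleton_iff_isMaximal]
    apply isMaximal_of_coordinates
    intro l
    obtain ⟨m, hm, hml⟩ := hcoord x hx l
    have hmem : (X l : MvPolynomial (Fin n) k) ^ (p ^ m) - X l ∈ x.asIdeal := by
      rw [← Ideal.algebraMap_residueField_eq_zero, map_sub, map_pow, hml, sub_self]
    have hdeg : (Polynomial.X : Polynomial k).degree < ((p ^ m : ℕ) : WithBot ℕ) := by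
      rw [Polynomial.degree_X]
      have : 1 < p ^ m := Nat.one_lt_pow hm.ne' hpp.one_lt
      exact_mod_cast this
    refine ⟨Polynomial.X ^ (p ^ m) - Polynomial.X, Polynomial.monic_X_pow_sub hdeg, ?_⟩
    rw [Polynomial.eval₂_sub, Polynomial.eval₂_pow, Polynomial.eval₂_X, ← map_pow, ← map_sub]
    exact Ideal.Quotient.eq_zero_iff_mem.mpr hmem
  exact ⟨p, hpp, hp, finite_of_forall_isClosed_singleton Z hZ hclosed,
    fun x hx => ⟨hclosed x hx, hcoord x hx⟩⟩

end Groth.Agent.Lib.Helper70.ElemAutD
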