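import Mathlib
import Groth.Agent.Lib.Helper70.EtFibA

/-!
# Fraction-surjective ring maps: localizations, residue fields, base change (helper70)
-/

set_option autoImplicit false

namespace Groth.Agent.Lib.Helper70.EtFibB

open Polynomial TensorProduct CategoryTheory Limits AlgebraicGeometry
open Groth.Agent.Lib.Helper70.EtFibA

universe u

section Alg

variable {A A₀ A₁ : Type*} [CommRing A] [CommRing A₀] [CommRing A₁]

theorem FracSurj.comp_surjective {π : A →+* A₀} (h : FracSurj π) (σ : A₀ →+* A₁)
    (hσ : Function.Surjective σ) : FracSurj (σ.comp π) := by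
  intro c
  obtain ⟨c, rfl⟩ := hσ c
  obtain ⟨a, r, hr, har⟩ := h c
  refine ⟨a, r, hr.map σ, ?_⟩
  rw [RingHom.comp_apply, RingHom.comp_apply, ← map_mul, har]

theorem fracSurj_of_isLocalization {R O : Type*} [CommRing R] [CommRing O] [Algebra R O]
    (M : Submonoid R) [IsLocalization M O] : FracSurj (algebraMap R O) := by
  intro c
  obtain ⟨⟨a, t⟩, h⟩ := IsLocalization.surj M c
  exact ⟨a, t, IsLocalization.map_units O t, h⟩

theorem fracSurj_tensor {R K B : Type*} [CommRing R] [CommRing K] [CommRing B] [Algebra R K]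
    [Algebra R B] (h : FracSurj (algebraMap R K)) :
    FracSurj (Algebra.TensorProduct.includeLeft (R := R) (S := R) (A := B) (B := K)).toRingHom := by
  intro c
  induction c using TensorProduct.induction_on with
  | zero => exact ⟨0, 1, by rw [map_one]; exact isUnit_one, by rw [map_zero, zero_mul]⟩
  | tmul b k =>
    obtain ⟨a, t, ht, hat⟩ := h k
    refine ⟨a • b, algebraMap R B t, ?_, ?_⟩
    · have : (Algebra.TensorProduct.includeLeft (R := R) (S := R) (A := B) (B := K)).toRingHom
          (algebraMap R B t) = Algebra.TensorProduct.includeRight (algebraMap R K t) := by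
        change (algebraMap R B t) ⊗ₜ[R] (1 : K) = (1 : B) ⊗ₜ[R] (algebraMap R K t)
        rw [Algebra.algebraMap_eq_smul_one, Algebra.algebraMap_eq_smul_one, smul_tmul]
      rw [this]
      exact ht.map _
    · change b ⊗ₜ[R] k * (algebraMap R B t) ⊗ₜ[R] (1 : K) = (a • b) ⊗ₜ[R] (1 : K)
      rw [Algebra.TensorProduct.tmul_mul_tmul, mul_one, Algebra.algebraMap_eq_smul_one,
        mul_smul_comm, mul_one, smul_tmul, smul_tmul, Algebra.smul_def, Algebra.smul_def,
        mul_one, ← hat, mul_comm]
  | add c₁ c₂ h₁ h₂ =>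
    obtain ⟨a₁, t₁, ht₁, e₁⟩ := h₁
    obtain ⟨a₂, t₂, ht₂, e₂⟩ := h₂
    refine ⟨a₁ * t₂ + a₂ * t₁, t₁ * t₂, by rw [map_mul]; exact ht₁.mul ht₂, ?_⟩
    rw [map_mul, map_add, map_mul, map_mul, ← e₁, ← e₂]
    ring

end Alg

/-- the evaluation map from the sections over an affine open to a residue field is
fraction-surjective. -/
theorem fracSurj_evaluation (S : Scheme.{u}) (W : S.Opens) (hW : IsAffineOpen W) (s : S)
    (hs : s ∈ W) : FracSurj (S.evaluation W s hs).hom := by
  have h1 := hW.isLocalization_stalk ⟨s, hs⟩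
  have h2 : FracSurj (S.presheaf.germ W s hs).hom :=
    @fracSurj_of_isLocalization _ _ _ _ (TopCat.Presheaf.algebra_section_stalk S.presheaf ⟨s, hs⟩)
      _ h1
  have h3 := FracSurj.comp_surjective h2 (S.residue s).hom (S.residue_surjective s)
  rw [← Scheme.germ_residue, CommRingCat.hom_comp]
  exact h3

end Groth.Agent.Lib.Helper70.EtFibB
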