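import Mathlib
import Groth.Prelude.Def_MoreMor
import Groth.Agent.Lib.Helper70.EtFibB

/-!
# Lifting étale neighbourhoods along fraction-surjective affine base changes (helper70)

(The local standard-étale argument follows helper7's `EtaleLift.Local`.)
-/

set_option autoImplicit false

namespace Groth.Agent.Lib.Helper70.EtFibC

open CategoryTheory Limits AlgebraicGeometry TopologicalSpace
open Groth.Agent.Lib.Helper70.EtFibA Groth.Agent.Lib.Helper70.EtFibB

universe u

/-- The fibre of a composite is the base change of the fibre. -/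
theorem isPullback_fiberMap {U X S : Scheme.{u}} (p : U ⟶ X) (f : X ⟶ S) (s : S) :
    IsPullback ((p ≫ f).fiberι s) (MoreMor.fiberMap p f s) p (f.fiberι s) := by
  have bot : IsPullback (f.fiberι s) (f.fiberToSpecResidueField s) f
      (S.fromSpecResidueField s) := IsPullback.of_hasPullback _ _
  have outer : IsPullback ((p ≫ f).fiberι s)
      (MoreMor.fiberMap p f s ≫ f.fiberToSpecResidueField s) (p ≫ f)
      (S.fromSpecResidueField s) := by
    have h : MoreMor.fiberMap p f s ≫ f.fiberToSpecResidueField s =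
        (p ≫ f).fiberToSpecResidueField s := pullback.lift_snd _ _ _
    rw [h]
    exact IsPullback.of_hasPullback _ _
  refine IsPullback.of_bot outer ?_ bot
  exact (pullback.lift_fst _ _ _).symm

set_option backward.isDefEq.respectTransparency.types false in
/-- Local lifting of étale neighbourhoods along `Spec π` for a fraction-surjective `π`. -/
theorem exists_local_lift {A A₀ : CommRingCat.{u}} (π : A ⟶ A₀) (hπ : FracSurj π.hom)
    {V' : Scheme.{u}} (g' : V' ⟶ Spec A₀) [Etale g'] (v' : V') :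
    ∃ (B : CommRingCat.{u}) (φ : A ⟶ B) (C : CommRingCat.{u}) (j : Spec C ⟶ V')
      (k : Spec C ⟶ Spec B),
      φ.hom.Etale ∧ IsOpenImmersion j ∧ v' ∈ Set.range j ∧
      IsPullback k (j ≫ g') (Spec.map φ) (Spec.map π) := by
  have hT : IsAffineOpen (⊤ : (Spec A₀).Opens) := isAffineOpen_top _
  obtain ⟨W₁, hW₁, hxW₁, -⟩ := Opens.isBasis_iff_nbhd.mp V'.isBasis_affineOpens
    (Opens.mem_top v')
  have hW₁ : IsAffineOpen W₁ := hW₁
  have e : W₁ ≤ g' ⁻¹ᵁ ⊤ := fun _ _ => trivial
  have hφ₁ : (g'.appLE ⊤ W₁ e).hom.Etale := g'.etale_appLE hT hW₁ e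
  let _ : Algebra Γ(Spec A₀, ⊤) Γ(V', W₁) := (g'.appLE ⊤ W₁ e).hom.toAlgebra
  have hEt : Algebra.Etale Γ(Spec A₀, ⊤) Γ(V', W₁) := hφ₁
  let q₀ : Ideal Γ(V', W₁) := (hW₁.primeIdealOf ⟨v', hxW₁⟩).asIdeal
  have hq₀ : q₀.IsPrime := (hW₁.primeIdealOf ⟨v', hxW₁⟩).isPrime
  have : Algebra.IsEtaleAt Γ(Spec A₀, ⊤) q₀ := by
    have : Algebra.FormallyEtale Γ(Spec A₀, ⊤) Γ(V', W₁) := hEt.formallyEtale
    infer_instance
  obtain ⟨h, hh, hstd⟩ := Algebra.IsEtaleAt.exists_isStandardEtale (R := Γ(Spec A₀, ⊤)) q₀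
  let γ : Γ(Spec A₀, ⊤) ⟶ CommRingCat.of (Localization.Away h) :=
    CommRingCat.ofHom (algebraMap Γ(Spec A₀, ⊤) (Localization.Away h))
  have hstd' : @Algebra.IsStandardEtale Γ(Spec A₀, ⊤) (CommRingCat.of (Localization.Away h)) _ _
      γ.hom.toAlgebra := by
    have : (γ.hom.toAlgebra : Algebra Γ(Spec A₀, ⊤) (Localization.Away h)) =
        (inferInstance : Algebra Γ(Spec A₀, ⊤) (Localization.Away h)) :=
      Algebra.algebra_ext _ _ (fun _ => rfl)
    rw [this]
    exact hstd
  let π' : A ⟶ Γ(Spec A₀, ⊤) := π ≫ (Scheme.ΓSpecIso A₀).inv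
  have hπ' : FracSurj π'.hom := by
    have : π'.hom = ((Scheme.ΓSpecIso A₀).inv).hom.comp π.hom := rfl
    rw [this]
    refine FracSurj.comp_surjective hπ _ ?_
    exact ((ConcreteCategory.isIso_iff_bijective (Scheme.ΓSpecIso A₀).inv).mp inferInstance).2
  obtain ⟨B, φ, ψ, hφ, hpo⟩ := exists_etale_lift_commRingCat π' hπ' γ hstd'
  let loc : Γ(V', W₁) ⟶ CommRingCat.of (Localization.Away h) :=
    CommRingCat.ofHom (algebraMap Γ(V', W₁) (Localization.Away h))
  have hγ : γ = g'.appLE ⊤ W₁ e ≫ loc := by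
    ext a
    exact IsScalarTower.algebraMap_apply Γ(Spec A₀, ⊤) Γ(V', W₁) (Localization.Away h) a
  have : IsOpenImmersion (Spec.map loc) := IsOpenImmersion.of_isLocalization h
  let j : Spec (CommRingCat.of (Localization.Away h)) ⟶ V' := Spec.map loc ≫ hW₁.fromSpec
  have hju : j ≫ g' = Spec.map γ ≫ hT.fromSpec := by
    rw [hγ, Spec.map_comp, Category.assoc, Category.assoc,
      IsAffineOpen.SpecMap_appLE_fromSpec g' hT hW₁ e]
  refine ⟨B, φ, CommRingCat.of (Localization.Away h), j, Spec.map ψ, hφ, inferInstance, ?_, ?_⟩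
  · have h1 : hW₁.primeIdealOf ⟨v', hxW₁⟩ ∈ Set.range (Spec.map loc) := by
      have := PrimeSpectrum.localization_away_comap_range (Localization.Away h) h
      change hW₁.primeIdealOf ⟨v', hxW₁⟩ ∈
        Set.range (PrimeSpectrum.comap (algebraMap Γ(V', W₁) (Localization.Away h)))
      rw [this]
      exact hh
    obtain ⟨z, hz⟩ := h1
    refine ⟨z, ?_⟩
    rw [Scheme.Hom.comp_apply, hz, hW₁.fromSpec_primeIdealOf]
  · rw [hju]
    have top := (isPullback_SpecMap_of_isPushout π' φ γ ψ hpo).flip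
    have hfs : hT.fromSpec = Spec.map (Scheme.ΓSpecIso A₀).inv := by
      rw [IsAffineOpen.fromSpec_top, Scheme.isoSpec_Spec_inv]
    have bot : IsPullback (Spec.map π') hT.fromSpec (𝟙 _) (Spec.map π) := by
      rw [hfs]
      have : IsIso (Spec.map (Scheme.ΓSpecIso A₀).inv) := inferInstance
      refine IsPullback.of_vert_isIso ⟨?_⟩
      rw [Category.comp_id, ← Spec.map_comp]
    have := top.paste_vert bot
    rwa [Category.comp_id] at this

end Groth.Agent.Lib.Helper70.EtFibC
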