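import Mathlib
import Groth.Prelude.Def_MoreMor
import Groth.Agent.Lib.Helper70.EtFibC

/-!
# An étale neighbourhood of a point in its fibre lifts to the total space (helper70)
-/

set_option autoImplicit false

namespace Groth.Agent.Lib.Helper70.EtFibD

open CategoryTheory Limits AlgebraicGeometry TopologicalSpace TensorProduct
open Groth.Agent.Lib.Helper70.EtFibA Groth.Agent.Lib.Helper70.EtFibB
  Groth.Agent.Lib.Helper70.EtFibC

universe u

theorem isPullback_comp_mono {C : Type*} [Category C] {P X Y Z W : C} {fst : P ⟶ X}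
    {snd : P ⟶ Y} {f : X ⟶ Z} {g : Y ⟶ Z} (h : IsPullback fst snd f g) (i : Z ⟶ W) [Mono i] :
    IsPullback fst snd (f ≫ i) (g ≫ i) := by
  have hw : fst ≫ f ≫ i = snd ≫ g ≫ i := by rw [← Category.assoc, h.w, Category.assoc]
  refine IsPullback.of_isLimit (c := PullbackCone.mk _ _ hw) ?_
  refine PullbackCone.IsLimit.mk hw
    (fun c => h.lift c.fst c.snd ((cancel_mono i).mp (by simpa using c.condition))) ?_ ?_ ?_
  · intro c
    exact h.lift_fst _ _ _
  · intro c
    exact h.lift_snd _ _ _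
  · intro c m h1 h2
    apply h.hom_ext
    · rw [h.lift_fst]; exact h1
    · rw [h.lift_snd]; exact h2

set_option backward.isDefEq.respectTransparency.types false in
/-- The affine chart of a fibre: for affine opens `W ∋ f x` and `X' ∋ x` with `X' ≤ f⁻¹ W`, the
fibre of `X'` is `Spec (Γ(X') ⊗ κ)`, an open of the fibre, and the map from sections of `X'` is
fraction-surjective. -/
theorem exists_affine_chart {X S : Scheme.{u}} (f : X ⟶ S) (x : X) :
    ∃ (A A₀ : CommRingCat.{u}) (π : A ⟶ A₀) (a : Spec A ⟶ X) (θ : Spec A₀ ⟶ f.fiber (f x)),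
      FracSurj π.hom ∧ IsOpenImmersion a ∧ IsOpenImmersion θ ∧ x ∈ Set.range a ∧
      IsPullback (Spec.map π) θ a (f.fiberι (f x)) := by
  obtain ⟨W, hW, hsW, -⟩ := Opens.isBasis_iff_nbhd.mp S.isBasis_affineOpens
    (Opens.mem_top (f x))
  have hW : IsAffineOpen W := hW
  obtain ⟨X', hX', hxX', hX'W⟩ := Opens.isBasis_iff_nbhd.mp X.isBasis_affineOpens
    (show x ∈ f ⁻¹ᵁ W from hsW)
  have hX' : IsAffineOpen X' := hX'
  let φRA : Γ(S, W) ⟶ Γ(X, X') := f.appLE W X' hX'W
  let ρ : Γ(S, W) ⟶ S.residueField (f x) := S.evaluation W (f x) hsW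
  let _ : Algebra Γ(S, W) Γ(X, X') := φRA.hom.toAlgebra
  let _ : Algebra Γ(S, W) (S.residueField (f x)) := ρ.hom.toAlgebra
  let A₀ : CommRingCat.{u} := CommRingCat.of (Γ(X, X') ⊗[Γ(S, W)] (S.residueField (f x)))
  let inclL : Γ(X, X') ⟶ A₀ := CommRingCat.ofHom
    (Algebra.TensorProduct.includeLeft (R := Γ(S, W)) (S := Γ(S, W)) (A := Γ(X, X'))
      (B := S.residueField (f x))).toRingHom
  let inclR : S.residueField (f x) ⟶ A₀ := CommRingCat.ofHom
    (Algebra.TensorProduct.includeRight (R := Γ(S, W)) (A := Γ(X, X'))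
      (B := S.residueField (f x))).toRingHom
  have hpo : IsPushout φRA ρ inclL inclR :=
    CommRingCat.isPushout_tensorProduct Γ(S, W) Γ(X, X') (S.residueField (f x))
  have P1 := isPullback_SpecMap_of_isPushout φRA ρ inclL inclR hpo
  have P3 := isPullback_comp_mono P1 hW.fromSpec
  have e1 : Spec.map φRA ≫ hW.fromSpec = hX'.fromSpec ≫ f :=
    IsAffineOpen.SpecMap_appLE_fromSpec f hW hX' hX'W
  have e2 : Spec.map ρ ≫ hW.fromSpec = S.fromSpecResidueField (f x) := by
    change Spec.map (S.presheaf.germ W (f x) hsW ≫ S.residue (f x)) ≫ hW.fromSpec = _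
    rw [Spec.map_comp, Category.assoc]
    change _ ≫ hW.fromSpecStalk hsW = _
    rw [hW.fromSpecStalk_eq_fromSpecStalk hsW]
    rfl
  rw [e1, e2] at P3
  have bot : IsPullback (f.fiberι (f x)) (f.fiberToSpecResidueField (f x)) f
      (S.fromSpecResidueField (f x)) := IsPullback.of_hasPullback _ _
  let θ : Spec A₀ ⟶ f.fiber (f x) :=
    bot.lift (Spec.map inclL ≫ hX'.fromSpec) (Spec.map inclR) (by rw [Category.assoc]; exact P3.w)
  have hθ1 : θ ≫ f.fiberι (f x) = Spec.map inclL ≫ hX'.fromSpec := bot.lift_fst _ _ _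
  have hθ2 : θ ≫ f.fiberToSpecResidueField (f x) = Spec.map inclR := bot.lift_snd _ _ _
  have Pleft : IsPullback (Spec.map inclL) θ hX'.fromSpec (f.fiberι (f x)) := by
    refine IsPullback.of_bot ?_ hθ1.symm bot
    rw [hθ2]
    exact P3
  have hFS : FracSurj inclL.hom :=
    fracSurj_tensor (R := Γ(S, W)) (K := S.residueField (f x)) (B := Γ(X, X'))
      (fracSurj_evaluation S W hW (f x) hsW)
  refine ⟨Γ(X, X'), A₀, inclL, hX'.fromSpec, θ, hFS, inferInstance, ?_, ?_, Pleft⟩
  · exact MorphismProperty.of_isPullback (P := @IsOpenImmersion) Pleft inferInstance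
  · rw [hX'.range_fromSpec]
    exact hxX'

end Groth.Agent.Lib.Helper70.EtFibD
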