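import Mathlib
import Groth.Prelude.Def_MoreMor
import Groth.Agent.Lib.Helper70.EtFibD

/-!
# An étale neighbourhood of a point in its fibre lifts to the total space: assembly (helper70)
-/

set_option autoImplicit false

namespace Groth.Agent.Lib.Helper70.EtFibE

open CategoryTheory Limits AlgebraicGeometry TopologicalSpace TensorProduct
open Groth.Agent.Lib.Helper70.EtFibA Groth.Agent.Lib.Helper70.EtFibB
  Groth.Agent.Lib.Helper70.EtFibC Groth.Agent.Lib.Helper70.EtFibD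

universe u

set_option backward.isDefEq.respectTransparency.types false in
theorem main {X S V : Scheme.{u}} (f : X ⟶ S) (x : X)
    (g : V ⟶ f.fiber (f x)) [Etale g] (v : V) (hv : g v = f.asFiber x) :
    ∃ (U : Scheme.{u}) (p : U ⟶ X) (u : U) (m : (p ≫ f).fiber (f x) ⟶ V)
      (u' : ↑((p ≫ f).fiber (f x))),
      Etale p ∧ p u = x ∧ IsOpenImmersion m ∧ m ≫ g = MoreMor.fiberMap p f (f x) ∧
      (p ≫ f).fiberι (f x) u' = u ∧ m u' = v := by
  obtain ⟨A, A₀, π, a, θ, hπ, ha, hθ, ⟨a0, ha0⟩, Pleft⟩ := exists_affine_chart f x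
  -- the point of the chart over `g v`
  have hfa : (f.fiberι (f x)) (g v) = a a0 := by
    rw [hv, Scheme.Hom.fiberι_asFiber, ha0]
  obtain ⟨z0, hz01, hz02⟩ := Scheme.exists_preimage_of_isPullback Pleft.flip (g v) a0 hfa
  -- pull `V` back to the chart
  obtain ⟨v', hv'1, hv'2⟩ := Scheme.Pullback.exists_preimage_pullback (f := g) (g := θ) v z0
    hz01.symm
  have hg'et : Etale (pullback.snd g θ) := inferInstance
  obtain ⟨B, φ, C, j, k, hφ, hj, ⟨c, hc⟩, Ptop⟩ :=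
    exists_local_lift π hπ (pullback.snd g θ) v'
  have hφet : Etale (Spec.map φ) := (HasRingHomProperty.Spec_iff (P := @Etale)).mpr hφ
  -- the big square
  obtain ⟨p, hp⟩ : ∃ p : Spec B ⟶ X, p = Spec.map φ ≫ a := ⟨_, rfl⟩
  have hpet : Etale p := by rw [hp]; infer_instance
  obtain ⟨m₀, hm₀⟩ : ∃ m₀ : Spec C ⟶ V, m₀ = j ≫ pullback.fst g θ := ⟨_, rfl⟩
  have hm₀o : IsOpenImmersion m₀ := by rw [hm₀]; infer_instance
  have hm₀c : m₀ c = v := by rw [hm₀, Scheme.Hom.comp_apply, hc, hv'1]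
  have QQ : IsPullback k (m₀ ≫ g) p (f.fiberι (f x)) := by
    have := Ptop.paste_vert Pleft
    have e : (j ≫ pullback.snd g θ) ≫ θ = m₀ ≫ g := by
      rw [hm₀, Category.assoc, Category.assoc, pullback.condition]
    rwa [e, ← hp] at this
  have Pfib := isPullback_fiberMap p f (f x)
  let e : (p ≫ f).fiber (f x) ≅ Spec C := Pfib.isoIsPullback _ _ QQ
  have he2 : e.hom ≫ (m₀ ≫ g) = MoreMor.fiberMap p f (f x) :=
    IsPullback.isoIsPullback_hom_snd _ _ Pfib QQ
  have hm : (e.hom ≫ m₀) (e.inv c) = v := by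
    rw [Scheme.Hom.comp_apply, ← Scheme.Hom.comp_apply e.inv e.hom, e.inv_hom_id]
    exact hm₀c
  have hmg : (e.hom ≫ m₀) ≫ g = MoreMor.fiberMap p f (f x) := by
    rw [← he2, Category.assoc]
  refine ⟨Spec B, p, (p ≫ f).fiberι (f x) (e.inv c), e.hom ≫ m₀, e.inv c, hpet, ?_, inferInstance,
    hmg, rfl, hm⟩
  -- `p u = x`
  calc p ((p ≫ f).fiberι (f x) (e.inv c))
      = ((p ≫ f).fiberι (f x) ≫ p) (e.inv c) := (Scheme.Hom.comp_apply _ _ _).symm
    _ = (MoreMor.fiberMap p f (f x) ≫ f.fiberι (f x)) (e.inv c) := by rw [Pfib.w]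
    _ = f.fiberι (f x) (MoreMor.fiberMap p f (f x) (e.inv c)) := Scheme.Hom.comp_apply _ _ _
    _ = f.fiberι (f x) (((e.hom ≫ m₀) ≫ g) (e.inv c)) := by rw [hmg]
    _ = f.fiberι (f x) (g ((e.hom ≫ m₀) (e.inv c))) := by rw [Scheme.Hom.comp_apply]
    _ = x := by rw [hm, hv, Scheme.Hom.fiberι_asFiber]

end Groth.Agent.Lib.Helper70.EtFibE
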