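import Mathlib

/-!
# A standard étale algebra realising a finite separable residue field extension (helper70)
-/

set_option autoImplicit false

open Polynomial IntermediateField

namespace Groth.Agent.Lib.Helper70.EtNbhdA

universe u

/-- Common denominators for finitely many elements of a field of fractions of the image. -/
theorem exists_common_denom {R K : Type*} [CommRing R] [Field K] (ev : R →+* K)
    (hev : ∀ z : K, ∃ a s : R, ev s ≠ 0 ∧ z * ev s = ev a) (c : ℕ → K) (n : ℕ) :
    ∃ d : R, ev d ≠ 0 ∧ ∀ i < n, c i * ev d ∈ Set.range ev := by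
  induction n with
  | zero => exact ⟨1, by simp, by simp⟩
  | succ n ih =>
    obtain ⟨d, hd, h⟩ := ih
    obtain ⟨a, s, hs, has⟩ := hev (c n)
    refine ⟨d * s, by simp [hd, hs], fun i hi => ?_⟩
    rcases Nat.lt_succ_iff_lt_or_eq.mp hi with hi | rfl
    · obtain ⟨b, hb⟩ := h i hi
      exact ⟨b * s, by rw [map_mul, map_mul, hb]; ring⟩
    · exact ⟨d * a, by rw [map_mul, map_mul, ← has]; ring⟩

/-- Given `ev : R → K` such that `K` consists of fractions of the image and a finite separable
extension `K'/K`, there is a standard étale `R`-algebra with a map to `K'` compatible with `ev`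
whose image generates `K'` as a field. -/
theorem exists_standardEtale {R K K' : Type u} [CommRing R] [Field K] [Field K'] [Algebra K K']
    [FiniteDimensional K K'] [Algebra.IsSeparable K K'] (ev : R →+* K)
    (hev : ∀ z : K, ∃ a s : R, ev s ≠ 0 ∧ z * ev s = ev a) :
    ∃ (P : StandardEtalePair R) (φ : P.Ring →+* K'),
      φ.comp (algebraMap R P.Ring) = (algebraMap K K').comp ev ∧
      ∀ L : Subfield K', (∀ y, φ y ∈ L) → L = ⊤ := by
  obtain ⟨α₀, hα₀⟩ := Field.exists_primitive_element K K'
  have hint : IsIntegral K α₀ := Algebra.IsIntegral.isIntegral α₀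
  set m := minpoly K α₀ with hm
  have hmmonic : m.Monic := minpoly.monic hint
  obtain ⟨d, hd, hdc⟩ := exists_common_denom ev hev m.coeff (m.natDegree + 1)
  set δ := ev d with hδ
  set mδ := scaleRoots m δ with hmδ
  have hmδmonic : mδ.Monic := (monic_scaleRoots_iff δ).mpr hmmonic
  have hlift : mδ ∈ lifts ev := by
    rw [lifts_iff_coeff_lifts]
    intro i
    rw [hmδ, coeff_scaleRoots]
    by_cases hi : i < m.natDegree
    · obtain ⟨b, hb⟩ := hdc i (by omega)
      refine ⟨b * d ^ (m.natDegree - i - 1), ?_⟩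
      rw [map_mul, map_pow, hb]
      have h1 : m.natDegree - i = (m.natDegree - i - 1) + 1 := by omega
      rw [h1, pow_succ]
      simp only [Nat.add_sub_cancel]
      ring
    · rcases eq_or_lt_of_le (not_lt.mp hi) with rfl | hi'
      · refine ⟨1, ?_⟩
        rw [map_one, Nat.sub_self, pow_zero, mul_one]
        exact hmmonic.coeff_natDegree.symm
      · rw [coeff_eq_zero_of_natDegree_lt hi']
        exact ⟨0, by simp⟩
  obtain ⟨F, hFmap, hFdeg, hFmonic⟩ := lifts_and_natDegree_eq_and_monic hlift hmδmonic
  set β : K' := algebraMap K K' δ * α₀ with hβ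
  have hδ' : algebraMap K K' δ ≠ 0 := (_root_.map_ne_zero _).mpr hd
  have hβtop : K⟮β⟯ = ⊤ := by
    rw [eq_top_iff, ← hα₀, adjoin_simple_le_iff]
    have h1 : α₀ = (algebraMap K K' δ)⁻¹ * β := by
      rw [hβ, ← mul_assoc, inv_mul_cancel₀ hδ', one_mul]
    rw [h1]
    exact mul_mem (inv_mem (IntermediateField.algebraMap_mem _ _)) (mem_adjoin_simple_self K β)
  have hβint : IsIntegral K β := Algebra.IsIntegral.isIntegral β
  have hdeg : (minpoly K β).natDegree = mδ.natDegree := by
    rw [hmδ, natDegree_scaleRoots, ← adjoin.finrank hβint, ← adjoin.finrank hint, hβtop, hα₀]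
  have hroot : aeval β mδ = 0 := scaleRoots_aeval_eq_zero (minpoly.aeval K α₀)
  have hmin : minpoly K β = mδ :=
    (eq_of_monic_of_dvd_of_natDegree_le (minpoly.monic hβint) hmδmonic (minpoly.dvd K β hroot)
      hdeg.ge).symm
  have hsep : mδ.Separable := hmin ▸ Algebra.IsSeparable.isSeparable K β
  have hder : aeval β (derivative mδ) ≠ 0 := hsep.aeval_derivative_ne_zero hroot
  let _ : Algebra R K' := ((algebraMap K K').comp ev).toAlgebra
  have halg : algebraMap R K' = (algebraMap K K').comp ev := rfl
  let P : StandardEtalePair R := ⟨F, hFmonic, derivative F, ⟨1, 0, 1, by simp⟩⟩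
  have hF0 : aeval β F = 0 := by
    rw [aeval_def, halg, ← eval₂_map, hFmap]
    exact hroot
  have hF1 : aeval β (derivative F) ≠ 0 := by
    rw [aeval_def, halg, ← eval₂_map, ← derivative_map, hFmap]
    exact hder
  have hmap : P.HasMap β := ⟨hF0, isUnit_iff_ne_zero.mpr hF1⟩
  refine ⟨P, (P.lift β hmap).toRingHom, ?_, ?_⟩
  · ext r
    exact (P.lift β hmap).commutes r
  · intro L hL
    have h1 : ∀ r : R, algebraMap K K' (ev r) ∈ L := fun r => by
      have := hL (algebraMap R P.Ring r)
      rwa [AlgHom.toRingHom_eq_coe, RingHom.coe_coe, AlgHom.commutes] at this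
    have h2 : ∀ z : K, algebraMap K K' z ∈ L := fun z => by
      obtain ⟨a, s, hs, h⟩ := hev z
      have hz : algebraMap K K' z = algebraMap K K' (ev a) / algebraMap K K' (ev s) := by
        rw [eq_div_iff ((_root_.map_ne_zero _).mpr hs), ← map_mul, h]
      rw [hz]
      exact div_mem (h1 a) (h1 s)
    have h3 : β ∈ L := by
      have := hL P.X
      rwa [AlgHom.toRingHom_eq_coe, RingHom.coe_coe, StandardEtalePair.lift_X] at this
    have h4 : K⟮β⟯ ≤ L.toIntermediateField h2 := adjoin_simple_le_iff.mpr h3
    rw [hβtop] at h4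
    exact eq_top_iff.mpr fun x _ => h4 (mem_top (x := x))

end Groth.Agent.Lib.Helper70.EtNbhdA
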