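import Mathlib
import Groth.Agent.Lib.Helper70.EtNbhdA
import Groth.Agent.Lib.Helper55.ResidueFieldTrdeg

/-!
# Étale neighbourhoods realising finite separable residue field extensions (helper70)
-/

set_option autoImplicit false

open CategoryTheory AlgebraicGeometry Limits

namespace Groth.Agent.Lib.Helper70.EtNbhdB

universe u

/-- For a point `s` of a scheme `S` and a finite separable extension `k'` of `κ(s)` there is an
étale `g : U ⟶ S` and a point `Spec k' ⟶ U` over `Spec k' ⟶ Spec κ(s) ⟶ S` inducing an isomorphism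
on residue fields. -/
theorem exists_etale_nbhd {S : Scheme.{u}} (s : S) (k' : Type u) [Field k']
    [Algebra (S.residueField s) k'] [FiniteDimensional (S.residueField s) k']
    [Algebra.IsSeparable (S.residueField s) k'] :
    ∃ (U : Scheme.{u}) (g : U ⟶ S) (t : Spec (CommRingCat.of k') ⟶ U), Etale g ∧
      t ≫ g = Spec.map (CommRingCat.ofHom (algebraMap (S.residueField s) k')) ≫
        S.fromSpecResidueField s ∧
      Function.Surjective (Scheme.descResidueField (Scheme.stalkClosedPointTo t)).hom := by
  obtain ⟨_, ⟨V, hV : IsAffineOpen V, rfl⟩, hsV, -⟩ :=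
    S.isBasis_affineOpens.exists_subset_of_mem_open (Set.mem_univ s) isOpen_univ
  obtain ⟨P, φ, hφ, hL⟩ := EtNbhdA.exists_standardEtale (K' := k') (Helper55.evalResidue S V s hsV)
    (Helper55.evalResidue_fraction S V hV s hsV)
  have hev : CommRingCat.ofHom (Helper55.evalResidue S V s hsV) =
      S.presheaf.germ V s hsV ≫ S.residue s := rfl
  refine ⟨Spec (.of P.Ring),
    Spec.map (CommRingCat.ofHom (algebraMap Γ(S, V) P.Ring)) ≫ hV.fromSpec,
    Spec.map (CommRingCat.ofHom φ), ?_, ?_, ?_⟩
  · have : Etale (Spec.map (CommRingCat.ofHom (algebraMap Γ(S, V) P.Ring))) := by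
      rw [HasRingHomProperty.Spec_iff (P := @Etale)]
      exact RingHom.etale_algebraMap.mpr inferInstance
    infer_instance
  · rw [← Category.assoc, ← Spec.map_comp, ← CommRingCat.ofHom_comp, hφ, CommRingCat.ofHom_comp,
      hev, Spec.map_comp, Spec.map_comp, Category.assoc, Category.assoc]
    congr 1
    rw [Scheme.fromSpecResidueField, ← hV.fromSpecStalk_eq_fromSpecStalk hsV,
      IsAffineOpen.fromSpecStalk]
  · set ε := Scheme.descResidueField (Scheme.stalkClosedPointTo
      (Spec.map (CommRingCat.ofHom φ))) with hε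
    have key : (Scheme.ΓSpecIso (.of P.Ring)).inv ≫ (Spec (.of P.Ring)).presheaf.germ ⊤ _ trivial ≫
        (Spec (.of P.Ring)).residue _ ≫ ε = CommRingCat.ofHom φ := by
      rw [hε, Scheme.residue_descResidueField, Scheme.germ_stalkClosedPointTo_Spec,
        Iso.inv_hom_id_assoc]
    have hmem : ∀ y, φ y ∈ ε.hom.fieldRange := fun y => by
      rw [RingHom.mem_fieldRange]
      have h := ConcreteCategory.congr_hom key y
      exact ⟨((Spec (.of P.Ring)).residue _).hom (((Spec (.of P.Ring)).presheaf.germ ⊤ _ trivial).hom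
        ((Scheme.ΓSpecIso (.of P.Ring)).inv.hom y)), h⟩
    have htop := hL _ hmem
    exact RingHom.fieldRange_eq_top_iff.mp htop

end Groth.Agent.Lib.Helper70.EtNbhdB
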