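import Mathlib
import Groth.Prelude.Def_W4c1chowmix47Eta

/-!
# Basic lemmas on the pointwise construction `EtaPt` (helper70)
-/

universe u

namespace Groth.Agent.Lib.Helper70

open EtaPt

namespace EtaPtLib

variable (η : EtaPt.FieldEndo.{u})

theorem Nmap_apply {A B : Type u} [CommRing A] [CommRing B] (f : A →+* B) (x : η.N A)
    (q : PrimeSpectrum B) :
    η.Nmap f x q = η.map (Ideal.ResidueField.map (PrimeSpectrum.comap f q).asIdeal q.asIdeal f rfl)
      (x (PrimeSpectrum.comap f q)) := rfl

theorem t_apply (A : Type u) [CommRing A] (a : A) (p : PrimeSpectrum A) :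
    η.t A a p = η.eta p.asIdeal.ResidueField (algebraMap A p.asIdeal.ResidueField a) := rfl

theorem resMap_comp {A B C : Type u} [CommRing A] [CommRing B] [CommRing C]
    (f : A →+* B) (g : B →+* C) (I : Ideal A) [I.IsPrime] (J : Ideal B) [J.IsPrime]
    (K : Ideal C) [K.IsPrime] (h1 : I = J.comap f) (h2 : J = K.comap g) (h3 : I = K.comap (g.comp f)) :
    Ideal.ResidueField.map I K (g.comp f) h3 =
      (Ideal.ResidueField.map J K g h2).comp (Ideal.ResidueField.map I J f h1) := by
  apply Ideal.ResidueField.ringHom_ext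
  ext a
  simp

theorem Nmap_comp {A B C : Type u} [CommRing A] [CommRing B] [CommRing C]
    (f : A →+* B) (g : B →+* C) : η.Nmap (g.comp f) = (η.Nmap g).comp (η.Nmap f) := by
  ext x r
  have h := resMap_comp f g (PrimeSpectrum.comap (g.comp f) r).asIdeal
    (PrimeSpectrum.comap g r).asIdeal r.asIdeal rfl rfl rfl
  have h2 : η.Nmap (g.comp f) x r = η.map (Ideal.ResidueField.map
      (PrimeSpectrum.comap (g.comp f) r).asIdeal r.asIdeal (g.comp f) rfl)
      (x (PrimeSpectrum.comap (g.comp f) r)) := rfl
  rw [h2, h, η.map_comp]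
  rfl

theorem Nmap_comp_apply {A B C : Type u} [CommRing A] [CommRing B] [CommRing C]
    (f : A →+* B) (g : B →+* C) (x : η.N A) : η.Nmap (g.comp f) x = η.Nmap g (η.Nmap f x) := by
  rw [Nmap_comp]; rfl

theorem Nmap_mem_M {A B : Type u} [CommRing A] [CommRing B] (f : A →+* B) {x : η.N A}
    (hx : x ∈ η.M A) : η.Nmap f x ∈ η.M B := by
  intro R _ _ _ hR g
  rw [← Nmap_comp_apply]
  exact hx R hR (g.comp f)

theorem map_injective {K L : Type u} [Field K] [Field L] (f : K →+* L) :
    Function.Injective (η.map f) := (η.map f).injective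

theorem map_bijective_of_ringEquiv {K L : Type u} [Field K] [Field L] (e : K ≃+* L) :
    Function.Bijective (η.map (e : K →+* L)) := by
  have h1 : (η.map (e.symm : L →+* K)).comp (η.map (e : K →+* L)) = RingHom.id _ := by
    rw [← η.map_comp, ← η.map_id]; congr 1; ext; simp
  have h2 : (η.map (e : K →+* L)).comp (η.map (e.symm : L →+* K)) = RingHom.id _ := by
    rw [← η.map_comp, ← η.map_id]; congr 1; ext; simp
  refine Function.bijective_iff_has_inverse.mpr ⟨η.map (e.symm : L →+* K), fun x => ?_, fun x => ?_⟩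
  · exact congrArg (fun h => h x) (congrArg DFunLike.coe h1)
  · exact congrArg (fun h => h x) (congrArg DFunLike.coe h2)

theorem eta_natural_apply {K L : Type u} [Field K] [Field L] (f : K →+* L) (a : K) :
    η.map f (η.eta K a) = η.eta L (f a) :=
  congrArg (fun h => h a) (congrArg DFunLike.coe (η.eta_natural f))

theorem bijective_eta_of_ringEquiv {K L : Type u} [Field K] [Field L] (e : K ≃+* L)
    (h : Function.Bijective (η.eta K)) : Function.Bijective (η.eta L) := by
  have h3 : (η.eta L : L → η.obj L) = (η.map (e : K →+* L)) ∘ (η.eta K) ∘ e.symm := by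
    funext a
    simp only [Function.comp_apply]
    rw [eta_natural_apply]
    simp
  rw [h3]
  exact (map_bijective_of_ringEquiv η e).comp (h.comp e.symm.bijective)

theorem pow_expChar_inj {K L : Type u} [Field K] [Field L] (f : K →+* L) (n : ℕ)
    {a b : η.obj L} (h : a ^ ringExpChar K ^ n = b ^ ringExpChar K ^ n) : a = b := by
  have : ExpChar L (ringExpChar K) := expChar_of_injective_ringHom f.injective _
  have : ExpChar (η.obj L) (ringExpChar K) := expChar_of_injective_ringHom (η.eta L).injective _
  exact iterateFrobenius_inj (η.obj L) (ringExpChar K) n h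

theorem key_aux {K R : Type u} [Field K] [CommRing R] (g : K →+* R) (x : η.N K) (p : PrimeSpectrum K)
    (m : ℕ) (z' : K)
    (hz : η.eta _ (algebraMap K p.asIdeal.ResidueField z') = x p ^ m)
    (p' : PrimeSpectrum K) (hp : p' = p) (J : Ideal R) [J.IsPrime] (h : p'.asIdeal = J.comap g) :
    (η.map (Ideal.ResidueField.map p'.asIdeal J g h) (x p')) ^ m =
      η.eta _ (algebraMap R J.ResidueField (g z')) := by
  subst hp
  rw [← map_pow, ← hz, eta_natural_apply, Ideal.ResidueField.map_algebraMap]

theorem M_field_eq_top (K : Type u) [Field K] : η.M K = ⊤ := by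
  rw [eq_top_iff]
  intro x _ R _ _ _ hR g
  -- generic point of R
  let p : PrimeSpectrum K := PrimeSpectrum.comap g ⟨⊥, Ideal.isPrime_bot⟩
  obtain ⟨n, z, hz⟩ := η.exists_pow_mem_range_eta p.asIdeal.ResidueField (x p)
  have hmax : ∀ p' : PrimeSpectrum K, p'.asIdeal.IsMaximal := fun p' =>
    (Ideal.eq_bot_of_prime p'.asIdeal).symm ▸ Ideal.bot_isMaximal
  have := hmax p
  obtain ⟨z', rfl⟩ := Ideal.algebraMap_residueField_surjective p.asIdeal z
  -- bijectivity at k(⊥)
  have hbij : Function.Bijective (η.eta (⊥ : Ideal R).ResidueField) :=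
    bijective_eta_of_ringEquiv η (FractionRing.algEquiv R (⊥ : Ideal R).ResidueField).toRingEquiv hR
  obtain ⟨y, hy⟩ := hbij.2 (η.Nmap g x ⟨⊥, Ideal.isPrime_bot⟩)
  -- key: for all q, (Nmap g x q)^(e^n) = η (algebraMap (g z'))
  have key : ∀ q : PrimeSpectrum R, (η.Nmap g x q) ^ ringExpChar p.asIdeal.ResidueField ^ n =
      η.eta q.asIdeal.ResidueField (algebraMap R q.asIdeal.ResidueField (g z')) := by
    intro q
    have hpq : PrimeSpectrum.comap g q = p := Subsingleton.elim _ _
    exact key_aux η g x p _ z' hz _ hpq q.asIdeal rfl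
  -- y is integral over R hence in R
  have hy2 : y ^ ringExpChar p.asIdeal.ResidueField ^ n =
      algebraMap R (⊥ : Ideal R).ResidueField (g z') := by
    apply (η.eta (⊥ : Ideal R).ResidueField).injective
    rw [map_pow, hy]
    exact key ⟨⊥, Ideal.isPrime_bot⟩
  have hpos : 0 < ringExpChar p.asIdeal.ResidueField ^ n := by
    apply pow_pos
    have := ringExpChar.expChar p.asIdeal.ResidueField
    exact expChar_pos p.asIdeal.ResidueField _
  have hint : IsIntegral R y := by
    refine ⟨Polynomial.X ^ (ringExpChar p.asIdeal.ResidueField ^ n) - Polynomial.C (g z'),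
      Polynomial.monic_X_pow_sub_C _ hpos.ne', ?_⟩
    simp [hy2]
  obtain ⟨r, hr⟩ := IsIntegrallyClosed.algebraMap_eq_of_integral hint
  have hr2 : r ^ ringExpChar p.asIdeal.ResidueField ^ n = g z' := by
    apply IsFractionRing.injective R (⊥ : Ideal R).ResidueField
    rw [map_pow, hr, hy2]
  refine ⟨r, ?_⟩
  funext q
  apply pow_expChar_inj η (Ideal.ResidueField.map p.asIdeal q.asIdeal g
    (congrArg PrimeSpectrum.asIdeal (Subsingleton.elim p (PrimeSpectrum.comap g q)))) n
  rw [key q, t_apply, ← map_pow, ← map_pow, hr2]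

end EtaPtLib

end Groth.Agent.Lib.Helper70
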