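import Mathlib
import Groth.Agent.Lib.Helper70.EtaPt

/-!
# More lemmas on `EtaPt` (helper70): generic point injectivity on `M` for domains
-/

universe u

namespace Groth.Agent.Lib.Helper70

open EtaPt

namespace EtaPtLib

variable (η : EtaPt.FieldEndo.{u})

theorem exists_val_dom (A : Type u) [CommRing A] [IsDomain A] (p : PrimeSpectrum A) :
    ∃ (V : ValuationSubring (FractionRing A)) (g : A →+* V),
      (∀ a, (g a : FractionRing A) = algebraMap A _ a) ∧
      (IsLocalRing.maximalIdeal V).comap g = p.asIdeal := by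
  have hu : ∀ y : p.asIdeal.primeCompl, IsUnit (algebraMap A (FractionRing A) y) := by
    intro y
    apply IsUnit.mk0
    intro h0
    have : (y : A) = 0 := (IsFractionRing.injective A (FractionRing A)) (by simpa using h0)
    exact y.2 (this ▸ p.asIdeal.zero_mem)
  let f : Localization.AtPrime p.asIdeal →+* FractionRing A := IsLocalization.lift hu
  obtain ⟨V, h, hloc⟩ := IsLocalRing.exists_factor_valuationRing f
  let f' : Localization.AtPrime p.asIdeal →+* V := f.codRestrict V.toSubring h
  have hloc' : IsLocalHom f' := hloc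
  refine ⟨V, f'.comp (algebraMap A (Localization.AtPrime p.asIdeal)), ?_, ?_⟩
  · intro a
    simp [f, f']
  · ext a
    rw [Ideal.mem_comap, RingHom.comp_apply]
    have := ((IsLocalRing.local_hom_TFAE f').out 0 4).mp hloc'
    rw [← Ideal.mem_comap, this]
    exact IsLocalization.AtPrime.to_map_mem_maximal_iff _ _ _

theorem inV_valuationSubring (A : Type u) [CommRing A] [IsDomain A] (hA : η.InV A)
    (V : ValuationSubring (FractionRing A)) : η.InV V :=
  bijective_eta_of_ringEquiv η (FractionRing.algEquiv V (FractionRing A)).symm.toRingEquiv hA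

theorem eq_zero_of_eq {A : Type u} [CommRing A] (d : η.N A) (p p' : PrimeSpectrum A) (h : p' = p)
    (hd : d p = 0) : d p' = 0 := by subst h; exact hd

theorem eval_generic_eq_zero {A : Type u} [CommRing A] [IsDomain A] (hA : η.InV A) (d : η.N A)
    (hd : d ∈ η.M A) (h0 : d ⟨⊥, Ideal.isPrime_bot⟩ = 0) : d = 0 := by
  funext p
  obtain ⟨V, g, hg, hgp⟩ := exists_val_dom A p
  have hginj : Function.Injective g := by
    intro a b hab
    apply IsFractionRing.injective A (FractionRing A)
    rw [← hg, ← hg, hab]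
  obtain ⟨r, hr⟩ := hd V (inV_valuationSubring η A hA V) g
  -- r = 0
  have h1 : η.Nmap g d ⟨⊥, Ideal.isPrime_bot⟩ = 0 := by
    rw [Nmap_apply]
    have : d (PrimeSpectrum.comap g ⟨⊥, Ideal.isPrime_bot⟩) = 0 := by
      apply eq_zero_of_eq η d _ _ _ h0
      ext a
      simp only [PrimeSpectrum.comap_asIdeal, Ideal.mem_comap, Ideal.mem_bot]
      exact ⟨fun h => hginj (by rw [h, map_zero]), fun h => by rw [h, map_zero]⟩
    rw [this, map_zero]
  have hr0 : r = 0 := by
    rw [← hr, t_apply] at h1
    have h2 : algebraMap V (⊥ : Ideal V).ResidueField r = 0 :=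
      (map_eq_zero_iff (η.eta (⊥ : Ideal V).ResidueField)
        (η.eta (⊥ : Ideal V).ResidueField).injective).mp h1
    exact (map_eq_zero_iff _ (IsFractionRing.injective V (⊥ : Ideal V).ResidueField)).mp h2
  subst hr0
  have h3 : η.Nmap g d ⟨IsLocalRing.maximalIdeal V, inferInstance⟩ = 0 := by
    rw [← hr, map_zero]; rfl
  rw [Nmap_apply] at h3
  have h4 := (map_eq_zero_iff (η.map _) (η.map _).injective).mp h3
  exact eq_zero_of_eq η d _ _ (PrimeSpectrum.ext hgp.symm) h4

theorem injOn_eval_generic {A : Type u} [CommRing A] [IsDomain A] (hA : η.InV A) :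
    Set.InjOn (fun x : η.N A => x ⟨⊥, Ideal.isPrime_bot⟩) (η.M A) := by
  intro x hx y hy hxy
  have := eval_generic_eq_zero η hA (x - y) (Subring.sub_mem _ hx hy) (by
    show x _ - y _ = 0
    rw [sub_eq_zero]; exact hxy)
  exact sub_eq_zero.mp this

end EtaPtLib

end Groth.Agent.Lib.Helper70
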