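import Mathlib
import Groth.Agent.Lib.Helper70.EtaPt
import Groth.Agent.Lib.Helper70.EtaPtB

/-!
# More lemmas on `EtaPt` (helper70): `q_A` bijective for integrally closed domains in `V_η`
-/

universe u

namespace Groth.Agent.Lib.Helper70

open EtaPt

namespace EtaPtLib

variable (η : EtaPt.FieldEndo.{u})

theorem Nmap_apply_of_eq {A B : Type u} [CommRing A] [CommRing B] (f : A →+* B) (x : η.N A)
    (q : PrimeSpectrum B) (p : PrimeSpectrum A) (h : p.asIdeal = q.asIdeal.comap f) :
    η.Nmap f x q = η.map (Ideal.ResidueField.map p.asIdeal q.asIdeal f h) (x p) := by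
  obtain rfl : p = PrimeSpectrum.comap f q := PrimeSpectrum.ext h
  rfl

theorem inV_of_isFractionRing (V K : Type u) [CommRing V] [IsDomain V] [Field K] [Algebra V K]
    [IsFractionRing V K] (hK : Function.Bijective (η.eta K)) : η.InV V :=
  bijective_eta_of_ringEquiv η (FractionRing.algEquiv V K).symm.toRingEquiv hK

theorem isIntegrallyClosedIn_range (A K : Type u) [CommRing A] [IsDomain A] [IsIntegrallyClosed A]
    [Field K] [Algebra A K] [IsFractionRing A K] :
    IsIntegrallyClosedIn (algebraMap A K).range K := by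
  rw [Subring.isIntegrallyClosedIn_iff]
  intro x hx
  let _ : Algebra A (algebraMap A K).range := ((algebraMap A K).rangeRestrict).toAlgebra
  have : IsScalarTower A (algebraMap A K).range K := .of_algebraMap_eq fun _ => rfl
  have : Algebra.IsIntegral A (algebraMap A K).range :=
    Algebra.isIntegral_of_surjective (algebraMap A K).rangeRestrict_surjective
  have hx' : IsIntegral A x := isIntegral_trans x hx
  obtain ⟨a, ha⟩ := (isIntegrallyClosed_iff K).mp ‹_› hx'
  exact ⟨a, ha⟩

theorem resMap_bot_eq {A K : Type u} [CommRing A] [IsDomain A] [Field K] [Algebra A K]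
    (V : ValuationSubring K) (g : A →+* V) (hg : ∀ a, (g a : K) = algebraMap A K a)
    (ι : K →+* (⊥ : Ideal V).ResidueField) (hι : ∀ v : V, ι (v : K) = algebraMap V _ v)
    (φ : (⊥ : Ideal A).ResidueField →+* K) (hφ : ∀ a, φ (algebraMap A _ a) = algebraMap A K a)
    (h : (⊥ : Ideal A) = (⊥ : Ideal V).comap g) :
    Ideal.ResidueField.map (⊥ : Ideal A) (⊥ : Ideal V) g h = ι.comp φ := by
  apply Ideal.ResidueField.ringHom_ext
  ext a
  simp only [RingHom.comp_apply, Ideal.ResidueField.map_algebraMap, hφ]
  rw [← hg, hι]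

theorem bijective_q_of_isIntegrallyClosed (A : Type u) [CommRing A] [IsDomain A]
    [IsIntegrallyClosed A] (hA : η.InV A) : Function.Bijective (η.q A) := by
  constructor
  · intro a b hab
    have h1 : η.t A a = η.t A b := congrArg Subtype.val hab
    have h2 := congrFun h1 ⟨⊥, Ideal.isPrime_bot⟩
    rw [t_apply, t_apply] at h2
    exact IsFractionRing.injective A (⊥ : Ideal A).ResidueField
      ((η.eta (⊥ : Ideal A).ResidueField).injective h2)
  · rintro ⟨x, hx⟩
    have hbij : Function.Bijective (η.eta (⊥ : Ideal A).ResidueField) :=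
      bijective_eta_of_ringEquiv η
        (FractionRing.algEquiv A (⊥ : Ideal A).ResidueField).toRingEquiv hA
    obtain ⟨y, hy⟩ := hbij.2 (x ⟨⊥, Ideal.isPrime_bot⟩)
    have hyA : y ∈ (algebraMap A (⊥ : Ideal A).ResidueField).range := by
      by_contra hyR
      have := isIntegrallyClosedIn_range A (⊥ : Ideal A).ResidueField
      obtain ⟨V, hV, hyV⟩ := Subring.exists_le_valuationSubring_of_isIntegrallyClosedIn hyR
      let g : A →+* V := (algebraMap A (⊥ : Ideal A).ResidueField).codRestrict V.toSubring
        (fun a => hV ⟨a, rfl⟩)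
      have hg : ∀ a, (g a : (⊥ : Ideal A).ResidueField) = algebraMap A _ a := fun a => rfl
      have hginj : Function.Injective g := by
        intro a b hab
        apply IsFractionRing.injective A (⊥ : Ideal A).ResidueField
        rw [← hg, ← hg, hab]
      have hbot : (⊥ : Ideal A) = (⊥ : Ideal V).comap g := by
        ext a
        simp only [Ideal.mem_comap, Ideal.mem_bot]
        exact ⟨fun h => by rw [h, map_zero], fun h => hginj (by rw [h, map_zero])⟩
      obtain ⟨r, hr⟩ := hx V (inV_of_isFractionRing η V _ hbij) g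
      have h1 := congrFun hr ⟨⊥, Ideal.isPrime_bot⟩
      rw [t_apply, Nmap_apply_of_eq η g x ⟨⊥, Ideal.isPrime_bot⟩ ⟨⊥, Ideal.isPrime_bot⟩ hbot,
        ← hy, eta_natural_apply] at h1
      have h2 := (η.eta (⊥ : Ideal V).ResidueField).injective h1
      let ι : (⊥ : Ideal A).ResidueField ≃ₐ[V] (⊥ : Ideal V).ResidueField :=
        IsLocalization.algEquiv (nonZeroDivisors V) _ _
      have hmap := resMap_bot_eq V g hg (ι : (⊥ : Ideal A).ResidueField →+* _)
        (fun v => by simpa using ι.commutes v) (RingHom.id _) (fun a => rfl) hbot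
      have h3 : Ideal.ResidueField.map (⊥ : Ideal A) (⊥ : Ideal V) g hbot y = ι y := by
        rw [hmap]; rfl
      have h4 : ι (r : (⊥ : Ideal A).ResidueField) = algebraMap V _ r := by
        simpa using ι.commutes r
      have h5 : y = (r : (⊥ : Ideal A).ResidueField) := by
        apply ι.injective
        rw [h4, ← h3]
        exact h2.symm
      exact hyV (h5 ▸ r.2)
    obtain ⟨a, ha⟩ := hyA
    refine ⟨a, Subtype.ext ?_⟩
    show η.t A a = x
    have hd : η.t A a - x ∈ η.M A := Subring.sub_mem _ (η.t_mem_M A a) hx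
    have := eval_generic_eq_zero η hA _ hd (by
      show η.t A a _ - x _ = 0
      rw [t_apply, ha, hy, sub_self])
    exact sub_eq_zero.mp this

end EtaPtLib

end Groth.Agent.Lib.Helper70
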