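import Mathlib
import Groth.Agent.Lib.Helper70.EtaPtC

/-!
# More lemmas on `EtaPt` (helper70): integral maps with `N_η(f)` bijective
-/

universe u

namespace Groth.Agent.Lib.Helper70

open EtaPt

namespace EtaPtLib

variable (η : EtaPt.FieldEndo.{u})

theorem comap_surjective_of_Nmap_injective {A B : Type u} [CommRing A] [CommRing B] (f : A →+* B)
    (hN : Function.Injective (η.Nmap f)) : Function.Surjective (PrimeSpectrum.comap f) := by
  classical
  intro p
  by_contra hp
  push Not at hp
  have h0 : η.Nmap f (Pi.single p 1) = η.Nmap f 0 := by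
    rw [map_zero]
    funext q
    rw [Nmap_apply, Pi.single_eq_of_ne (hp q), map_zero]
    rfl
  have h1 := congrFun (hN h0) p
  rw [Pi.single_eq_same] at h1
  exact one_ne_zero h1

theorem map_resMap_surjective_of_Nmap_surjective {A B : Type u} [CommRing A] [CommRing B]
    (f : A →+* B) (hN : Function.Surjective (η.Nmap f)) (q : PrimeSpectrum B) (I : Ideal A)
    [I.IsPrime] (h : I = q.asIdeal.comap f) :
    Function.Surjective (η.map (Ideal.ResidueField.map I q.asIdeal f h)) := by
  classical
  subst h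
  intro y₀
  obtain ⟨x, hx⟩ := hN (Pi.single q y₀)
  refine ⟨x (PrimeSpectrum.comap f q), ?_⟩
  have := congrFun hx q
  rw [Pi.single_eq_same] at this
  exact this

/-- extension of a field map along `φ` with `F(φ)` bijective, into a field where `η` is bijective -/
theorem exists_field_ext {k l K : Type u} [Field k] [Field l] [Field K] (φ : k →+* l) (ψ : k →+* K)
    (hφ : Function.Bijective (η.map φ)) (hK : Function.Bijective (η.eta K)) :
    ∃ θ : l →+* K, θ.comp φ = ψ := by
  let eφ : η.obj k ≃+* η.obj l := RingEquiv.ofBijective (η.map φ) hφ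
  let eK : K ≃+* η.obj K := RingEquiv.ofBijective (η.eta K) hK
  refine ⟨(eK.symm : η.obj K →+* K).comp ((η.map ψ).comp
    ((eφ.symm : η.obj l →+* η.obj k).comp (η.eta l))), ?_⟩
  ext a
  simp only [RingHom.comp_apply, RingHom.coe_coe]
  rw [← eta_natural_apply η φ a]
  have h1 : eφ.symm (η.map φ (η.eta k a)) = η.eta k a := eφ.symm_apply_apply _
  rw [h1, eta_natural_apply η ψ a]
  exact eK.symm_apply_apply _

theorem exists_factor_of_isIntegral_of_bijective_Nmap {A B : Type u} [CommRing A] [CommRing B]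
    (f : A →+* B) (hf : f.IsIntegral) (hN : Function.Bijective (η.Nmap f))
    (R : Type u) [CommRing R] [IsDomain R] [ValuationRing R] (hR : η.InV R) (g : A →+* R) :
    ∃ g' : B →+* R, g'.comp f = g := by
  have hbij : Function.Bijective (η.eta (⊥ : Ideal R).ResidueField) :=
    bijective_eta_of_ringEquiv η (FractionRing.algEquiv R (⊥ : Ideal R).ResidueField).toRingEquiv hR
  obtain ⟨q, hq⟩ := comap_surjective_of_Nmap_injective η f hN.1
    (PrimeSpectrum.comap g ⟨⊥, Ideal.isPrime_bot⟩)
  have hq' : (PrimeSpectrum.comap g ⟨⊥, Ideal.isPrime_bot⟩).asIdeal = q.asIdeal.comap f := by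
    rw [← hq]; rfl
  let φ := Ideal.ResidueField.map (PrimeSpectrum.comap g ⟨⊥, Ideal.isPrime_bot⟩).asIdeal
    q.asIdeal f hq'
  let ψ := Ideal.ResidueField.map (PrimeSpectrum.comap g ⟨⊥, Ideal.isPrime_bot⟩).asIdeal
    (⊥ : Ideal R) g rfl
  obtain ⟨θ, hθ⟩ := exists_field_ext η φ ψ
    ⟨(η.map φ).injective, map_resMap_surjective_of_Nmap_surjective η f hN.2 q _ hq'⟩ hbij
  let h : B →+* (⊥ : Ideal R).ResidueField := θ.comp (algebraMap B q.asIdeal.ResidueField)
  have hhf : h.comp f = (algebraMap R (⊥ : Ideal R).ResidueField).comp g := by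
    ext a
    simp only [h, RingHom.comp_apply]
    rw [← Ideal.ResidueField.map_algebraMap _ q.asIdeal f hq' a]
    have := congrArg (fun k => k (algebraMap A _ a)) (congrArg DFunLike.coe hθ)
    simp only [RingHom.comp_apply] at this
    rw [this]
    exact Ideal.ResidueField.map_algebraMap _ _ g rfl a
  have hmem : ∀ b, h b ∈ (algebraMap R (⊥ : Ideal R).ResidueField).range := by
    intro b
    obtain ⟨P, hPm, hP⟩ := hf b
    have hint : IsIntegral R (h b) := by
      refine ⟨P.map g, hPm.map g, ?_⟩
      rw [Polynomial.eval₂_map, ← hhf, ← Polynomial.hom_eval₂, hP, map_zero]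
    obtain ⟨r, hr⟩ := IsIntegrallyClosed.algebraMap_eq_of_integral hint
    exact ⟨r, hr⟩
  let e : R ≃+* (algebraMap R (⊥ : Ideal R).ResidueField).range :=
    RingEquiv.ofBijective (algebraMap R (⊥ : Ideal R).ResidueField).rangeRestrict
      ⟨fun a b hab => IsFractionRing.injective R (⊥ : Ideal R).ResidueField
        (congrArg Subtype.val hab),
        (algebraMap R (⊥ : Ideal R).ResidueField).rangeRestrict_surjective⟩
  refine ⟨(e.symm : _ →+* R).comp (h.codRestrict _ hmem), ?_⟩
  ext a
  apply IsFractionRing.injective R (⊥ : Ideal R).ResidueField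
  have h1 : ∀ z : (algebraMap R (⊥ : Ideal R).ResidueField).range,
      algebraMap R (⊥ : Ideal R).ResidueField (e.symm z) = z := by
    intro z
    have := e.apply_symm_apply z
    exact congrArg Subtype.val this
  simp only [RingHom.comp_apply, RingHom.coe_coe]
  rw [h1]
  exact congrArg (fun k => k a) (congrArg DFunLike.coe hhf)

theorem bijOn_Nmap_M {A B : Type u} [CommRing A] [CommRing B]
    (f : A →+* B) (hf : f.IsIntegral) (hN : Function.Bijective (η.Nmap f)) :
    Set.BijOn (η.Nmap f) (η.M A) (η.M B) := by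
  refine ⟨fun x hx => Nmap_mem_M η f hx, hN.1.injOn, ?_⟩
  intro y hy
  obtain ⟨x, rfl⟩ := hN.2 y
  refine ⟨x, ?_, rfl⟩
  intro R _ _ _ hR g
  obtain ⟨g', rfl⟩ := exists_factor_of_isIntegral_of_bijective_Nmap η f hf hN R hR g
  rw [Nmap_comp_apply]
  exact hy R hR g'

end EtaPtLib

end Groth.Agent.Lib.Helper70
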