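import Mathlib
import Groth.Agent.Lib.Helper70.EtaPtD

/-!
# More lemmas on `EtaPt` (helper70): test valuation rings in algebraic closures
-/

universe u

namespace Groth.Agent.Lib.Helper70

open EtaPt

namespace EtaPtLib

variable (η : EtaPt.FieldEndo.{u})

/-- Tool V: valuation subring of a field `L` containing the image of a domain `A` and centred at `p`. -/
theorem exists_val_dom' (A : Type u) [CommRing A] (L : Type u) [Field L] (i : A →+* L)
    (hi : Function.Injective i) (p : PrimeSpectrum A) :
    ∃ (V : ValuationSubring L) (g : A →+* V),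
      (∀ a, (g a : L) = i a) ∧
      (IsLocalRing.maximalIdeal V).comap g = p.asIdeal := by
  have hu : ∀ y : p.asIdeal.primeCompl, IsUnit (i y) := by
    intro y
    apply IsUnit.mk0
    intro h0
    have : (y : A) = 0 := hi (by simpa using h0)
    exact y.2 (this ▸ p.asIdeal.zero_mem)
  let f : Localization.AtPrime p.asIdeal →+* L := IsLocalization.lift hu
  obtain ⟨V, h, hloc⟩ := IsLocalRing.exists_factor_valuationRing f
  let f' : Localization.AtPrime p.asIdeal →+* V := f.codRestrict V.toSubring h
  have hloc' : IsLocalHom f' := hloc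
  refine ⟨V, f'.comp (algebraMap A (Localization.AtPrime p.asIdeal)), ?_, ?_⟩
  · intro a
    simp [f, f']
  · ext a
    rw [Ideal.mem_comap, RingHom.comp_apply]
    have := ((IsLocalRing.local_hom_TFAE f').out 0 4).mp hloc'
    rw [← Ideal.mem_comap, this]
    exact IsLocalization.AtPrime.to_map_mem_maximal_iff _ _ _

/-- Tool P: `η` is bijective at perfect fields. -/
theorem bijective_eta_of_perfectField (L : Type u) [Field L] [PerfectField L] :
    Function.Bijective (η.eta L) := by
  refine ⟨(η.eta L).injective, fun x => ?_⟩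
  obtain ⟨n, z, hz⟩ := η.exists_pow_mem_range_eta L x
  have := ringExpChar.expChar L
  have : PerfectRing L (ringExpChar L) := PerfectField.toPerfectRing _
  obtain ⟨w, hw⟩ := (bijective_iterateFrobenius (R := L) (p := ringExpChar L) (n := n)).2 z
  refine ⟨w, ?_⟩
  apply pow_expChar_inj η (RingHom.id L) n
  rw [← hz, ← map_pow, ← hw]
  rfl

/-- Tool I: a valuation subring of `L` dominating the valuation ring `R` of `K ⊆ L` meets `K` in `R`. -/
theorem mem_range_of_dominates {R K L : Type u} [CommRing R] [IsDomain R] [ValuationRing R]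
    [Field K] [Algebra R K] [IsFractionRing R K] [Field L] (j : K →+* L)
    (V : ValuationSubring L) (g : R →+* V) (hg : ∀ r, (g r : L) = j (algebraMap R K r))
    (hdom : (IsLocalRing.maximalIdeal V).comap g = IsLocalRing.maximalIdeal R)
    (y : K) (hy : j y ∈ V) : y ∈ (algebraMap R K).range := by
  rcases ValuationRing.isInteger_or_isInteger R y with ⟨r, hr⟩ | ⟨r, hr⟩
  · exact ⟨r, hr⟩
  · by_cases hy0 : y = 0
    · exact ⟨0, by rw [hy0, map_zero]⟩
    by_cases hru : IsUnit r
    · obtain ⟨u, rfl⟩ := hru
      refine ⟨((u⁻¹ : Rˣ) : R), ?_⟩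
      have h1 : algebraMap R K (u : R) * algebraMap R K ((u⁻¹ : Rˣ) : R) = 1 := by
        rw [← map_mul, Units.mul_inv, map_one]
      rw [hr] at h1
      field_simp at h1
      exact h1
    · exfalso
      have hrm : r ∈ IsLocalRing.maximalIdeal R := (IsLocalRing.mem_maximalIdeal r).mpr hru
      rw [← hdom, Ideal.mem_comap, IsLocalRing.mem_maximalIdeal] at hrm
      apply hrm
      refine isUnit_iff_exists_inv.mpr ⟨⟨j y, hy⟩, ?_⟩
      apply Subtype.ext
      show (g r : L) * j y = 1
      rw [hg, hr, ← map_mul, inv_mul_cancel₀ hy0, map_one]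

/-- general version of `eval_generic_eq_zero`, no hypothesis on the fraction field. -/
theorem eval_generic_eq_zero' {A : Type u} [CommRing A] [IsDomain A] (d : η.N A)
    (hd : d ∈ η.M A) (h0 : d ⟨⊥, Ideal.isPrime_bot⟩ = 0) : d = 0 := by
  funext p
  let L := AlgebraicClosure (FractionRing A)
  have hi : Function.Injective ((algebraMap (FractionRing A) L).comp (algebraMap A (FractionRing A))) :=
    (algebraMap (FractionRing A) L).injective.comp (IsFractionRing.injective A (FractionRing A))
  obtain ⟨V, g, hg, hgp⟩ := exists_val_dom' A L _ hi p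
  have hginj : Function.Injective g := by
    intro a b hab
    apply hi
    rw [← hg, ← hg, hab]
  obtain ⟨r, hr⟩ := hd V (inV_of_isFractionRing η V L (bijective_eta_of_perfectField η L)) g
  have h1 : η.Nmap g d ⟨⊥, Ideal.isPrime_bot⟩ = 0 := by
    rw [Nmap_apply]
    have : d (PrimeSpectrum.comap g ⟨⊥, Ideal.isPrime_bot⟩) = 0 := by
      apply eq_zero_of_eq η d _ _ _ h0
      ext a
      simp only [PrimeSpectrum.comap_asIdeal, Ideal.mem_comap, Ideal.mem_bot]
      exact ⟨fun h => hginj (by rw [h, map_zero]), fun h => by rw [h, map_zero]⟩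
    rw [this, map_zero]
  have hr0 : r = 0 := by
    rw [← hr, t_apply] at h1
    have h2 : algebraMap V (⊥ : Ideal V).ResidueField r = 0 :=
      (map_eq_zero_iff (η.eta (⊥ : Ideal V).ResidueField)
        (η.eta (⊥ : Ideal V).ResidueField).injective).mp h1
    exact (map_eq_zero_iff _ (IsFractionRing.injective V (⊥ : Ideal V).ResidueField)).mp h2
  subst hr0
  have h3 : η.Nmap g d ⟨IsLocalRing.maximalIdeal V, inferInstance⟩ = 0 := by
    rw [← hr, map_zero]; rfl
  rw [Nmap_apply] at h3
  have h4 := (map_eq_zero_iff (η.map _) (η.map _).injective).mp h3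
  exact eq_zero_of_eq η d _ _ (PrimeSpectrum.ext hgp.symm) h4

theorem injOn_eval_generic' {A : Type u} [CommRing A] [IsDomain A] :
    Set.InjOn (fun x : η.N A => x ⟨⊥, Ideal.isPrime_bot⟩) (η.M A) := by
  intro x hx y hy hxy
  have := eval_generic_eq_zero' η (x - y) (Subring.sub_mem _ hx hy) (by
    show x _ - y _ = 0
    rw [sub_eq_zero]; exact hxy)
  exact sub_eq_zero.mp this

end EtaPtLib

end Groth.Agent.Lib.Helper70
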