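import Mathlib
import Groth.Agent.Lib.Helper70.EtaPtE

/-!
# More lemmas on `EtaPt` (helper70)
-/

universe u

namespace Groth.Agent.Lib.Helper70

open EtaPt

namespace EtaPtLib

variable (η : EtaPt.FieldEndo.{u})

theorem pow_expChar_inj' {L : Type u} [Field L] (e : ℕ) [ExpChar L e] (n : ℕ)
    {a b : η.obj L} (h : a ^ e ^ n = b ^ e ^ n) : a = b := by
  have : ExpChar (η.obj L) e := expChar_of_injective_ringHom (η.eta L).injective _
  exact iterateFrobenius_inj (η.obj L) e n h

theorem eta_obj_eq (k : Type u) [Field k] : η.eta (η.obj k) = η.map (η.eta k) := by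
  ext x
  obtain ⟨n, z, hz⟩ := η.exists_pow_mem_range_eta k x
  apply pow_expChar_inj η (η.eta k) n
  rw [← map_pow, ← map_pow, ← hz, eta_natural_apply]

theorem bijective_eta_obj (k : Type u) [Field k] : Function.Bijective (η.eta (η.obj k)) := by
  rw [eta_obj_eq]; exact η.bijective_map_eta k

theorem charP_of_ringHom_of_prime {R S : Type*} [Ring R] [Ring S] [Nontrivial S] [NoZeroDivisors S]
    (f : R →+* S) (e : ℕ) (he : e.Prime) [CharP R e] : CharP S e := by
  obtain ⟨c, hc⟩ := CharP.exists S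
  have h0 : (e : S) = 0 := by rw [← map_natCast f, CharP.cast_eq_zero, map_zero]
  have hdvd : c ∣ e := (CharP.cast_eq_zero_iff S c e).mp h0
  rcases (Nat.dvd_prime he).mp hdvd with h1 | h1
  · exact absurd h1 (CharP.char_ne_one S c)
  · exact h1 ▸ hc

theorem isIntegral_of_isIntegralElem_eta {R K : Type u} [CommRing R] [Field K] [Algebra R K] (z : K)
    (h : ((η.eta K).comp (algebraMap R K)).IsIntegralElem (η.eta K z)) : IsIntegral R z := by
  obtain ⟨P, hPm, hP⟩ := h
  refine ⟨P, hPm, ?_⟩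
  rw [← Polynomial.hom_eval₂] at hP
  exact (map_eq_zero_iff (η.eta K) (η.eta K).injective).mp hP

theorem resMap_bot_eq' {A L : Type u} [CommRing A] [IsDomain A] [Field L] (i : A →+* L)
    (V : ValuationSubring L) (g : A →+* V) (hg : ∀ a, (g a : L) = i a)
    (ι : L →+* (⊥ : Ideal V).ResidueField) (hι : ∀ v : V, ι (v : L) = algebraMap V _ v)
    (φ : (⊥ : Ideal A).ResidueField →+* L) (hφ : ∀ a, φ (algebraMap A _ a) = i a)
    (h : (⊥ : Ideal A) = (⊥ : Ideal V).comap g) :
    Ideal.ResidueField.map (⊥ : Ideal A) (⊥ : Ideal V) g h = ι.comp φ := by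
  apply Ideal.ResidueField.ringHom_ext
  ext a
  simp only [RingHom.comp_apply, Ideal.ResidueField.map_algebraMap, hφ]
  rw [← hg, hι]

theorem bot_eq_comap_bot {A B : Type u} [CommRing A] [CommRing B] (g : A →+* B)
    (hg : Function.Injective g) : (⊥ : Ideal A) = (⊥ : Ideal B).comap g := by
  ext a
  simp only [Ideal.mem_comap, Ideal.mem_bot]
  exact ⟨fun h => by rw [h, map_zero], fun h => hg (by rw [h, map_zero])⟩

/-- For a valuation ring `R`, the generic component of an element of `M R` has a `e^n`-th power in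
the image of `R`. -/
theorem exists_pow_eq_of_mem_M {R : Type u} [CommRing R] [IsDomain R] [ValuationRing R]
    (x : η.N R) (hx : x ∈ η.M R) :
    ∃ (n : ℕ) (z₀ : R), x ⟨⊥, Ideal.isPrime_bot⟩ ^ ringExpChar (⊥ : Ideal R).ResidueField ^ n =
      η.eta (⊥ : Ideal R).ResidueField (algebraMap R (⊥ : Ideal R).ResidueField z₀) := by
  obtain ⟨n, z, hz⟩ := η.exists_pow_mem_range_eta (⊥ : Ideal R).ResidueField (x ⟨⊥, Ideal.isPrime_bot⟩)
  refine ⟨n, ?_⟩
  suffices hzR : z ∈ (algebraMap R (⊥ : Ideal R).ResidueField).range by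
    obtain ⟨z₀, rfl⟩ := hzR
    exact ⟨z₀, hz.symm⟩
  let L := AlgebraicClosure (⊥ : Ideal R).ResidueField
  let j : (⊥ : Ideal R).ResidueField →+* L := algebraMap _ L
  have hi : Function.Injective (j.comp (algebraMap R (⊥ : Ideal R).ResidueField)) :=
    j.injective.comp (IsFractionRing.injective R (⊥ : Ideal R).ResidueField)
  obtain ⟨V, g, hg, hgp⟩ := exists_val_dom' R L _ hi ⟨IsLocalRing.maximalIdeal R, inferInstance⟩
  have hginj : Function.Injective g := by
    intro a b hab
    apply hi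
    rw [← hg, ← hg, hab]
  have hbot := bot_eq_comap_bot g hginj
  apply mem_range_of_dominates j V g hg hgp z
  obtain ⟨r', hr'⟩ := hx V (inV_of_isFractionRing η V L (bijective_eta_of_perfectField η L)) g
  have h1 := congrFun hr' ⟨⊥, Ideal.isPrime_bot⟩
  rw [t_apply, Nmap_apply_of_eq η g x ⟨⊥, Ideal.isPrime_bot⟩ ⟨⊥, Ideal.isPrime_bot⟩ hbot] at h1
  have h2 := congrArg (fun w => w ^ ringExpChar (⊥ : Ideal R).ResidueField ^ n) h1
  simp only at h2
  rw [← map_pow, ← map_pow, ← map_pow, ← hz, eta_natural_apply] at h2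
  have h3 := (η.eta (⊥ : Ideal V).ResidueField).injective h2
  let ι : L ≃ₐ[V] (⊥ : Ideal V).ResidueField := IsLocalization.algEquiv (nonZeroDivisors V) _ _
  have hmap := resMap_bot_eq' _ V g hg (ι : L →+* _)
    (fun v => by simpa using ι.commutes v) j (fun a => rfl) hbot
  have h4 : ι (j z) = ι ((r' ^ ringExpChar (⊥ : Ideal R).ResidueField ^ n : V) : L) := by
    have : Ideal.ResidueField.map (⊥ : Ideal R) (⊥ : Ideal V) g hbot z = ι (j z) := by
      rw [hmap]; rfl
    rw [← this]
    have h5 : ι ((r' ^ ringExpChar (⊥ : Ideal R).ResidueField ^ n : V) : L) =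
        algebraMap V _ (r' ^ ringExpChar (⊥ : Ideal R).ResidueField ^ n) := by
      simpa using ι.commutes (r' ^ ringExpChar (⊥ : Ideal R).ResidueField ^ n)
    rw [h5]
    exact h3.symm
  have h6 := ι.injective h4
  rw [h6]
  exact (r' ^ ringExpChar (⊥ : Ideal R).ResidueField ^ n).2

theorem isIntegralElem_of_pow_eq {R S : Type u} [CommRing R] [CommRing S] (f : R →+* S) (y : S)
    (m : ℕ) (hm : 0 < m) (z₀ : R) (h : y ^ m = f z₀) : f.IsIntegralElem y := by
  refine ⟨Polynomial.X ^ m - Polynomial.C z₀, Polynomial.monic_X_pow_sub_C _ hm.ne', ?_⟩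
  simp [h]

theorem ringExpChar_pow_pos (K : Type u) [Field K] (n : ℕ) : 0 < ringExpChar K ^ n := by
  apply pow_pos
  have := ringExpChar.expChar K
  exact expChar_pos K _

theorem isIntegralElem_pow {R S : Type u} [CommRing R] [CommRing S] (f : R →+* S) {y : S}
    (hy : f.IsIntegralElem y) (m : ℕ) : f.IsIntegralElem (y ^ m) := by
  induction m with
  | zero => rw [pow_zero]; exact f.isIntegralElem_one
  | succ m ih => rw [pow_succ]; exact RingHom.IsIntegralElem.mul f ih hy

/-- (⊆) of S13813 -/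
theorem isIntegralElem_eval_generic_of_mem_M {R : Type u} [CommRing R] [IsDomain R] [ValuationRing R]
    (x : η.N R) (hx : x ∈ η.M R) :
    ((η.eta (⊥ : Ideal R).ResidueField).comp
      (algebraMap R (⊥ : Ideal R).ResidueField)).IsIntegralElem (x ⟨⊥, Ideal.isPrime_bot⟩) := by
  obtain ⟨n, z₀, h⟩ := exists_pow_eq_of_mem_M η x hx
  exact isIntegralElem_of_pow_eq _ _ _ (ringExpChar_pow_pos _ n) z₀ h

/-- integral elements of `F(K)` over `R` have an `e^n`-th power in the image of `R` -/
theorem exists_pow_eq_of_isIntegralElem {R : Type u} [CommRing R] [IsDomain R] [ValuationRing R]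
    (y : η.obj (⊥ : Ideal R).ResidueField)
    (hy : ((η.eta (⊥ : Ideal R).ResidueField).comp
      (algebraMap R (⊥ : Ideal R).ResidueField)).IsIntegralElem y) :
    ∃ (n : ℕ) (z₀ : R), y ^ ringExpChar (⊥ : Ideal R).ResidueField ^ n =
      η.eta (⊥ : Ideal R).ResidueField (algebraMap R (⊥ : Ideal R).ResidueField z₀) := by
  obtain ⟨n, z, hz⟩ := η.exists_pow_mem_range_eta (⊥ : Ideal R).ResidueField y
  have h1 : ((η.eta (⊥ : Ideal R).ResidueField).comp
      (algebraMap R (⊥ : Ideal R).ResidueField)).IsIntegralElem (η.eta _ z) := by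
    rw [hz]
    exact isIntegralElem_pow _ hy _
  have h2 := isIntegral_of_isIntegralElem_eta η z h1
  obtain ⟨z₀, rfl⟩ := IsIntegrallyClosed.algebraMap_eq_of_integral h2
  exact ⟨n, z₀, hz.symm⟩

end EtaPtLib

end Groth.Agent.Lib.Helper70
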