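import Mathlib
import Groth.Agent.Lib.Helper70.EtaPtF

/-!
# More lemmas on `EtaPt` (helper70)
-/

universe u

namespace Groth.Agent.Lib.Helper70

open EtaPt

namespace EtaPtLib

variable (η : EtaPt.FieldEndo.{u})

/-- (⊇) case InV -/
theorem exists_mem_M_of_isIntegralElem_of_inV {R : Type u} [CommRing R] [IsDomain R]
    [ValuationRing R] (hR : η.InV R) (y : η.obj (⊥ : Ideal R).ResidueField)
    (hy : ((η.eta (⊥ : Ideal R).ResidueField).comp
      (algebraMap R (⊥ : Ideal R).ResidueField)).IsIntegralElem y) :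
    ∃ x ∈ η.M R, x ⟨⊥, Ideal.isPrime_bot⟩ = y := by
  have hbij := bijective_eta_of_ringEquiv η
    (FractionRing.algEquiv R (⊥ : Ideal R).ResidueField).toRingEquiv hR
  obtain ⟨y', rfl⟩ := hbij.2 y
  have h2 := isIntegral_of_isIntegralElem_eta η y' hy
  obtain ⟨r, rfl⟩ := IsIntegrallyClosed.algebraMap_eq_of_integral h2
  exact ⟨η.t R r, η.t_mem_M R r, rfl⟩

theorem exists_root_of_charP {R : Type u} [CommRing R] (e : ℕ) (he : e.Prime) [CharP R e]
    (hH : ∀ (k : Type u) [Field k], ringChar k = ringChar R →
      Function.Bijective (η.eta k) → PerfectField k)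
    (k : Type u) [Field k] (f : R →+* k) (n : ℕ) (a : η.obj k) : ∃ b : η.obj k, b ^ e ^ n = a := by
  have : CharP k e := charP_of_ringHom_of_prime f e he
  have : CharP (η.obj k) e := charP_of_injective_ringHom (η.eta k).injective e
  have hpf : PerfectField (η.obj k) :=
    hH (η.obj k) (by rw [ringChar.eq (η.obj k) e, ringChar.eq R e]) (bijective_eta_obj η k)
  have : Fact e.Prime := ⟨he⟩
  have : ExpChar (η.obj k) e := .prime he
  have : PerfectRing (η.obj k) e := PerfectField.toPerfectRing e
  obtain ⟨b, hb⟩ := (bijective_iterateFrobenius (R := η.obj k) (p := e) (n := n)).2 a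
  exact ⟨b, hb⟩

theorem exists_mem_M_of_isIntegralElem_of_charP {R : Type u} [CommRing R] [IsDomain R]
    [ValuationRing R] (e : ℕ) (he : e.Prime) [CharP R e]
    (hH : ∀ (k : Type u) [Field k], ringChar k = ringChar R →
      Function.Bijective (η.eta k) → PerfectField k)
    (y : η.obj (⊥ : Ideal R).ResidueField)
    (hy : ((η.eta (⊥ : Ideal R).ResidueField).comp
      (algebraMap R (⊥ : Ideal R).ResidueField)).IsIntegralElem y) :
    ∃ x ∈ η.M R, x ⟨⊥, Ideal.isPrime_bot⟩ = y := by
  have hK : CharP (⊥ : Ideal R).ResidueField e :=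
    charP_of_ringHom_of_prime (algebraMap R (⊥ : Ideal R).ResidueField) e he
  have hKe : ExpChar (⊥ : Ideal R).ResidueField e := .prime he
  obtain ⟨n, z₀, hz⟩ := exists_pow_eq_of_isIntegralElem η y hy
  rw [ringExpChar.eq (⊥ : Ideal R).ResidueField e] at hz
  choose x hx using fun p : PrimeSpectrum R => exists_root_of_charP η e he hH p.asIdeal.ResidueField
    (algebraMap R p.asIdeal.ResidueField) n (η.eta _ (algebraMap R _ z₀))
  refine ⟨x, ?_, ?_⟩
  · intro R' _ _ _ hR' g
    have hbij' := bijective_eta_of_ringEquiv η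
      (FractionRing.algEquiv R' (⊥ : Ideal R').ResidueField).toRingEquiv hR'
    have hR'e : CharP R' e := charP_of_ringHom_of_prime g e he
    have hK'e : CharP (⊥ : Ideal R').ResidueField e :=
      charP_of_ringHom_of_prime (algebraMap R' (⊥ : Ideal R').ResidueField) e he
    have hpf : PerfectField (⊥ : Ideal R').ResidueField :=
      hH _ (by rw [ringChar.eq (⊥ : Ideal R').ResidueField e, ringChar.eq R e]) hbij'
    have : Fact e.Prime := ⟨he⟩
    have : ExpChar (⊥ : Ideal R').ResidueField e := .prime he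
    have : PerfectRing (⊥ : Ideal R').ResidueField e := PerfectField.toPerfectRing e
    obtain ⟨w, hw⟩ := (bijective_iterateFrobenius (R := (⊥ : Ideal R').ResidueField)
      (p := e) (n := n)).2 (algebraMap R' _ (g z₀))
    have hw' : w ^ e ^ n = algebraMap R' (⊥ : Ideal R').ResidueField (g z₀) := hw
    have hint : IsIntegral R' w := by
      refine ⟨Polynomial.X ^ (e ^ n) - Polynomial.C (g z₀),
        Polynomial.monic_X_pow_sub_C _ (pow_pos he.pos n).ne', ?_⟩
      simp [hw']
    obtain ⟨r', hr'⟩ := IsIntegrallyClosed.algebraMap_eq_of_integral hint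
    have hr2 : r' ^ e ^ n = g z₀ := by
      apply IsFractionRing.injective R' (⊥ : Ideal R').ResidueField
      rw [map_pow, hr', hw']
    refine ⟨r', ?_⟩
    funext q'
    have hq'e : CharP q'.asIdeal.ResidueField e :=
      charP_of_ringHom_of_prime (algebraMap R' q'.asIdeal.ResidueField) e he
    have : ExpChar q'.asIdeal.ResidueField e := .prime he
    apply pow_expChar_inj' η e n
    rw [t_apply, ← map_pow, ← map_pow, hr2, Nmap_apply, ← map_pow, hx, eta_natural_apply,
      Ideal.ResidueField.map_algebraMap]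
  · apply pow_expChar_inj' η e n
    rw [hx, hz]

theorem bijective_eta_of_ringExpChar_eq_one (K : Type u) [Field K] (h1 : ringExpChar K = 1) :
    Function.Bijective (η.eta K) := by
  refine ⟨(η.eta K).injective, fun x => ?_⟩
  obtain ⟨n, z, hz⟩ := η.exists_pow_mem_range_eta K x
  rw [h1, one_pow, pow_one] at hz
  exact ⟨z, hz⟩

/-- the hypothesis of S13813/S13814 gives: `InV R`, or prime characteristic with `(H)`. -/
theorem inV_or_charP {R : Type u} [CommRing R] [IsDomain R]
    (hη : η.InV R ∨ ∀ (k : Type u) [Field k], ringChar k = ringChar R →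
      Function.Bijective (η.eta k) → PerfectField k) :
    η.InV R ∨ ∃ e : ℕ, e.Prime ∧ CharP R e ∧ ∀ (k : Type u) [Field k], ringChar k = ringChar R →
      Function.Bijective (η.eta k) → PerfectField k := by
  rcases hη with hR | hH
  · exact Or.inl hR
  · by_cases h1 : ringExpChar (⊥ : Ideal R).ResidueField = 1
    · exact Or.inl (inV_of_isFractionRing η R _ (bijective_eta_of_ringExpChar_eq_one η _ h1))
    · right
      have hE := ringExpChar.expChar (⊥ : Ideal R).ResidueField
      generalize ringExpChar (⊥ : Ideal R).ResidueField = e at h1 hE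
      cases hE with
      | zero => exact absurd rfl h1
      | prime hp =>
        exact ⟨e, hp, RingHom.charP (algebraMap R (⊥ : Ideal R).ResidueField)
          (IsFractionRing.injective R _) e, hH⟩

theorem exists_mem_M_of_isIntegralElem {R : Type u} [CommRing R] [IsDomain R]
    [ValuationRing R] (hη : η.InV R ∨ ∀ (k : Type u) [Field k], ringChar k = ringChar R →
      Function.Bijective (η.eta k) → PerfectField k)
    (y : η.obj (⊥ : Ideal R).ResidueField)
    (hy : ((η.eta (⊥ : Ideal R).ResidueField).comp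
      (algebraMap R (⊥ : Ideal R).ResidueField)).IsIntegralElem y) :
    ∃ x ∈ η.M R, x ⟨⊥, Ideal.isPrime_bot⟩ = y := by
  rcases inV_or_charP η hη with hR | ⟨e, he, hc, hH⟩
  · exact exists_mem_M_of_isIntegralElem_of_inV η hR y hy
  · exact exists_mem_M_of_isIntegralElem_of_charP η e he hH y hy

theorem M_valuationRing_eq_integralClosure (R : Type u) [CommRing R] [IsDomain R] [ValuationRing R]
    (hη : η.InV R ∨ ∀ (k : Type u) [Field k], ringChar k = ringChar R →
      Function.Bijective (η.eta k) → PerfectField k) :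
    Set.InjOn (fun x : η.N R => x ⟨⊥, Ideal.isPrime_bot⟩) (η.M R) ∧
      (fun x : η.N R => x ⟨⊥, Ideal.isPrime_bot⟩) '' (η.M R : Set (η.N R)) =
        {y | ((η.eta (⊥ : Ideal R).ResidueField).comp
          (algebraMap R (⊥ : Ideal R).ResidueField)).IsIntegralElem y} := by
  refine ⟨injOn_eval_generic' η, ?_⟩
  ext y
  constructor
  · rintro ⟨x, hx, rfl⟩
    exact isIntegralElem_eval_generic_of_mem_M η x hx
  · intro hy
    obtain ⟨x, hx, rfl⟩ := exists_mem_M_of_isIntegralElem η hη y hy
    exact ⟨x, hx, rfl⟩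

end EtaPtLib

end Groth.Agent.Lib.Helper70
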