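import Mathlib
import Groth.Agent.Lib.Helper70.EtaPtG

/-!
# More lemmas on `EtaPt` (helper70)
-/

universe u

namespace Groth.Agent.Lib.Helper70

open EtaPt

namespace EtaPtLib

variable (η : EtaPt.FieldEndo.{u})

/-- evaluation at the generic point, as a ring hom on `M R` -/
noncomputable def evGen (R : Type u) [CommRing R] [IsDomain R] :
    η.M R →+* η.obj (⊥ : Ideal R).ResidueField :=
  (Pi.evalRingHom (fun p : PrimeSpectrum R => η.obj p.asIdeal.ResidueField)
    ⟨⊥, Ideal.isPrime_bot⟩).comp (η.M R).subtype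

theorem evGen_apply (R : Type u) [CommRing R] [IsDomain R] (x : η.M R) :
    evGen η R x = (x : η.N R) ⟨⊥, Ideal.isPrime_bot⟩ := rfl

theorem evGen_injective (R : Type u) [CommRing R] [IsDomain R] :
    Function.Injective (evGen η R) := by
  intro a b hab
  exact Subtype.ext (injOn_eval_generic' η a.2 b.2 hab)

theorem evGen_q (R : Type u) [CommRing R] [IsDomain R] (r : R) :
    evGen η R (η.q R r) = η.eta _ (algebraMap R (⊥ : Ideal R).ResidueField r) := rfl

section
variable {R : Type u} [CommRing R] [IsDomain R] [ValuationRing R]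
  (hη : η.InV R ∨ ∀ (k : Type u) [Field k], ringChar k = ringChar R →
      Function.Bijective (η.eta k) → PerfectField k)
include hη

theorem exists_evGen_eq_of_pow_eq (y : η.obj (⊥ : Ideal R).ResidueField) (n : ℕ) (z₀ : R)
    (h : y ^ ringExpChar (⊥ : Ideal R).ResidueField ^ n =
      η.eta _ (algebraMap R (⊥ : Ideal R).ResidueField z₀)) : ∃ c : η.M R, evGen η R c = y := by
  obtain ⟨x, hx, hxy⟩ := exists_mem_M_of_isIntegralElem η hη y
    (isIntegralElem_of_pow_eq _ _ _ (ringExpChar_pow_pos _ n) z₀ h)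
  exact ⟨⟨x, hx⟩, hxy⟩

theorem exists_mul_eq_of_mul_eq (a b : η.M R) (n : ℕ) (za zb c₀ : R)
    (ha : evGen η R a ^ ringExpChar (⊥ : Ideal R).ResidueField ^ n =
      η.eta _ (algebraMap R (⊥ : Ideal R).ResidueField za))
    (hb : evGen η R b ^ ringExpChar (⊥ : Ideal R).ResidueField ^ n =
      η.eta _ (algebraMap R (⊥ : Ideal R).ResidueField zb))
    (hc : za * c₀ = zb) : ∃ c : η.M R, a * c = b := by
  by_cases ha0 : evGen η R a = 0
  · refine ⟨0, ?_⟩
    rw [mul_zero]
    apply evGen_injective η R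
    rw [map_zero]
    rw [ha0, zero_pow (ringExpChar_pow_pos _ n).ne'] at ha
    have hza : za = 0 := by
      have h1 := (map_eq_zero_iff (η.eta (⊥ : Ideal R).ResidueField)
        (η.eta (⊥ : Ideal R).ResidueField).injective).mp ha.symm
      exact (map_eq_zero_iff _ (IsFractionRing.injective R (⊥ : Ideal R).ResidueField)).mp h1
    rw [hza, zero_mul] at hc
    rw [← hc, map_zero, map_zero] at hb
    exact (pow_eq_zero_iff (ringExpChar_pow_pos _ n).ne').mp hb |>.symm
  · obtain ⟨c, hc'⟩ := exists_evGen_eq_of_pow_eq η hη (evGen η R b / evGen η R a) n c₀ (by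
      rw [div_pow, ha, hb, ← hc, map_mul, map_mul]
      have hne : η.eta _ (algebraMap R (⊥ : Ideal R).ResidueField za) ≠ 0 := by
        rw [← ha]; exact pow_ne_zero _ ha0
      field_simp)
    refine ⟨c, ?_⟩
    apply evGen_injective η R
    rw [map_mul, hc']
    field_simp
end

theorem pow_pow_expChar (K : Type u) [Field K] {S : Type u} [CommRing S] (y : S) (n m : ℕ) :
    y ^ ringExpChar K ^ (n + m) = (y ^ ringExpChar K ^ n) ^ ringExpChar K ^ m := by
  rw [← pow_mul, ← pow_add]

theorem M_valuationRing_structure (R : Type u) [CommRing R] [IsDomain R] [ValuationRing R]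
    (hη : η.InV R ∨ ∀ (k : Type u) [Field k], ringChar k = ringChar R →
      Function.Bijective (η.eta k) → PerfectField k) :
    IsDomain (η.M R) ∧ PreValuationRing (η.M R) ∧
      (∀ y : η.obj (⊥ : Ideal R).ResidueField, ∃ a b : η.M R,
        (b : η.N R) ⟨⊥, Ideal.isPrime_bot⟩ ≠ 0 ∧
          y * (b : η.N R) ⟨⊥, Ideal.isPrime_bot⟩ = (a : η.N R) ⟨⊥, Ideal.isPrime_bot⟩) ∧
      (fun x : η.N R => x ⟨⊥, Ideal.isPrime_bot⟩) '' (η.M R : Set (η.N R)) ∩
          Set.range (η.eta (⊥ : Ideal R).ResidueField) =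
        Set.range ((η.eta (⊥ : Ideal R).ResidueField).comp
          (algebraMap R (⊥ : Ideal R).ResidueField)) := by
  refine ⟨Function.Injective.isDomain (evGen η R) (evGen_injective η R), ⟨?_⟩, ?_, ?_⟩
  · intro a b
    obtain ⟨n, za, ha⟩ := exists_pow_eq_of_mem_M η a.1 a.2
    obtain ⟨m, zb, hb⟩ := exists_pow_eq_of_mem_M η b.1 b.2
    have ha' : evGen η R a ^ ringExpChar (⊥ : Ideal R).ResidueField ^ (n + m) =
        η.eta _ (algebraMap R (⊥ : Ideal R).ResidueField
          (za ^ ringExpChar (⊥ : Ideal R).ResidueField ^ m)) := by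
      rw [pow_pow_expChar, evGen_apply, ha, map_pow, map_pow]
    have hb' : evGen η R b ^ ringExpChar (⊥ : Ideal R).ResidueField ^ (n + m) =
        η.eta _ (algebraMap R (⊥ : Ideal R).ResidueField
          (zb ^ ringExpChar (⊥ : Ideal R).ResidueField ^ n)) := by
      rw [add_comm, pow_pow_expChar, evGen_apply, hb, map_pow, map_pow]
    obtain ⟨c₀, hc | hc⟩ := ValuationRing.cond (za ^ ringExpChar (⊥ : Ideal R).ResidueField ^ m)
      (zb ^ ringExpChar (⊥ : Ideal R).ResidueField ^ n)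
    · obtain ⟨c, hc'⟩ := exists_mul_eq_of_mul_eq η hη a b _ _ _ c₀ ha' hb' hc
      exact ⟨c, Or.inl hc'⟩
    · obtain ⟨c, hc'⟩ := exists_mul_eq_of_mul_eq η hη b a _ _ _ c₀ hb' ha' hc
      exact ⟨c, Or.inr hc'⟩
  · intro y
    obtain ⟨n, z, hz⟩ := η.exists_pow_mem_range_eta (⊥ : Ideal R).ResidueField y
    obtain ⟨z1, z2, hz2, rfl⟩ := IsFractionRing.div_surjective (A := R) z
    have hz2' : z2 ≠ 0 := nonZeroDivisors.ne_zero hz2
    have hz2K : algebraMap R (⊥ : Ideal R).ResidueField z2 ≠ 0 := by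
      intro h
      exact hz2' ((map_eq_zero_iff _ (IsFractionRing.injective R (⊥ : Ideal R).ResidueField)).mp h)
    obtain ⟨a, ha⟩ := exists_evGen_eq_of_pow_eq η hη
      (y * η.eta _ (algebraMap R (⊥ : Ideal R).ResidueField z2)) n
      (z1 * z2 ^ (ringExpChar (⊥ : Ideal R).ResidueField ^ n - 1)) (by
        rw [mul_pow, ← hz, ← map_pow, ← map_mul, ← map_pow]
        congr 1
        rw [map_mul, map_pow]
        have hpos := ringExpChar_pow_pos (⊥ : Ideal R).ResidueField n
        obtain ⟨k, hk⟩ : ∃ k, ringExpChar (⊥ : Ideal R).ResidueField ^ n = k + 1 :=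
          ⟨_, (Nat.succ_pred_eq_of_pos hpos).symm⟩
        rw [hk, Nat.add_sub_cancel, pow_succ]
        simp only [map_pow]
        field_simp)
    refine ⟨a, η.q R z2, ?_, ?_⟩
    · show η.eta _ (algebraMap R (⊥ : Ideal R).ResidueField z2) ≠ 0
      intro h
      exact hz2K ((map_eq_zero_iff (η.eta (⊥ : Ideal R).ResidueField)
        (η.eta (⊥ : Ideal R).ResidueField).injective).mp h)
    · exact ha.symm
  · ext y
    constructor
    · rintro ⟨⟨x, hx, rfl⟩, ⟨z, hz⟩⟩
      have h1 := isIntegralElem_eval_generic_of_mem_M η x hx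
      simp only at hz
      rw [← hz] at h1
      have h2 := isIntegral_of_isIntegralElem_eta η z h1
      obtain ⟨r, rfl⟩ := IsIntegrallyClosed.algebraMap_eq_of_integral h2
      exact ⟨r, hz⟩
    · rintro ⟨r, rfl⟩
      exact ⟨⟨η.t R r, η.t_mem_M R r, rfl⟩, ⟨algebraMap R _ r, rfl⟩⟩

end EtaPtLib

end Groth.Agent.Lib.Helper70
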