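import Mathlib
import Groth.Agent.Lib.Helper70.EtaPtH

/-!
# More lemmas on `EtaPt` (helper70)
-/

universe u

namespace Groth.Agent.Lib.Helper70

open EtaPt

namespace EtaPtLib

variable (η : EtaPt.FieldEndo.{u})

/-- an element of `M A` vanishing at all minimal primes is zero -/
theorem eq_zero_of_forall_minimalPrimes {A : Type u} [CommRing A] (d : η.N A) (hd : d ∈ η.M A)
    (h : ∀ p : PrimeSpectrum A, p.asIdeal ∈ minimalPrimes A → d p = 0) : d = 0 := by
  funext P
  obtain ⟨p, hpmin, hple⟩ := Ideal.exists_minimalPrimes_le (bot_le : ⊥ ≤ P.asIdeal)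
  have : p.IsPrime := hpmin.1.1
  let π : A →+* A ⧸ p := Ideal.Quotient.mk p
  have hy : η.Nmap π d ∈ η.M (A ⧸ p) := Nmap_mem_M η π hd
  have hbot : (⟨p, inferInstance⟩ : PrimeSpectrum A).asIdeal = (⊥ : Ideal (A ⧸ p)).comap π := by
    rw [← RingHom.ker_eq_comap_bot, Ideal.mk_ker]
  have h0 : η.Nmap π d ⟨⊥, Ideal.isPrime_bot⟩ = 0 := by
    rw [Nmap_apply_of_eq η π d ⟨⊥, Ideal.isPrime_bot⟩ ⟨p, inferInstance⟩ hbot,
      h ⟨p, inferInstance⟩ hpmin, map_zero]
  have hy0 := eval_generic_eq_zero' η _ hy h0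
  have hker : RingHom.ker π ≤ P.asIdeal := by rw [Ideal.mk_ker]; exact hple
  have : (P.asIdeal.map π).IsPrime :=
    Ideal.map_isPrime_of_surjective Ideal.Quotient.mk_surjective hker
  have hP : P.asIdeal = (P.asIdeal.map π).comap π := by
    rw [Ideal.comap_map_of_surjective' π Ideal.Quotient.mk_surjective, Ideal.mk_ker]
    exact (sup_eq_left.mpr hple).symm
  have h1 := congrFun hy0 ⟨P.asIdeal.map π, inferInstance⟩
  rw [Nmap_apply_of_eq η π d ⟨P.asIdeal.map π, inferInstance⟩ P hP] at h1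
  exact (map_eq_zero_iff (η.map _) (η.map _).injective).mp h1

theorem map_mem_valuationSubring_of_mem_M {D L : Type u} [CommRing D] [IsDomain D] [Field L]
    (hL : Function.Bijective (η.eta L)) (j : (⊥ : Ideal D).ResidueField →+* L)
    (V : ValuationSubring L) (g : D →+* V)
    (hg : ∀ a, (g a : L) = j (algebraMap D (⊥ : Ideal D).ResidueField a))
    (y : η.N D) (hy : y ∈ η.M D) (m : ℕ) (z : (⊥ : Ideal D).ResidueField)
    (hz : η.eta _ z = y ⟨⊥, Ideal.isPrime_bot⟩ ^ m) : j z ∈ V := by
  have hi : Function.Injective (j.comp (algebraMap D (⊥ : Ideal D).ResidueField)) :=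
    j.injective.comp (IsFractionRing.injective D (⊥ : Ideal D).ResidueField)
  have hginj : Function.Injective g := by
    intro a b hab
    apply hi
    simp only [RingHom.comp_apply]
    rw [← hg, ← hg, hab]
  have hbot := bot_eq_comap_bot g hginj
  obtain ⟨r', hr'⟩ := hy V (inV_of_isFractionRing η V L hL) g
  have h1 := congrFun hr' ⟨⊥, Ideal.isPrime_bot⟩
  rw [t_apply, Nmap_apply_of_eq η g y ⟨⊥, Ideal.isPrime_bot⟩ ⟨⊥, Ideal.isPrime_bot⟩ hbot] at h1
  have h2 := congrArg (fun w => w ^ m) h1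
  simp only at h2
  rw [← map_pow, ← map_pow, ← map_pow, ← hz, eta_natural_apply] at h2
  have h3 := (η.eta (⊥ : Ideal V).ResidueField).injective h2
  let ι : L ≃ₐ[V] (⊥ : Ideal V).ResidueField := IsLocalization.algEquiv (nonZeroDivisors V) _ _
  have hmap := resMap_bot_eq' (j.comp (algebraMap D (⊥ : Ideal D).ResidueField)) V g hg (ι : L →+* _)
    (fun v => by simpa using ι.commutes v) j (fun a => rfl) hbot
  have h4 : ι (j z) = ι ((r' ^ m : V) : L) := by
    have : Ideal.ResidueField.map (⊥ : Ideal D) (⊥ : Ideal V) g hbot z = ι (j z) := by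
      rw [hmap]; rfl
    rw [← this]
    have h5 : ι ((r' ^ m : V) : L) = algebraMap V _ (r' ^ m) := by
      simpa using ι.commutes (r' ^ m)
    rw [h5]
    exact h3.symm
  have h6 := ι.injective h4
  rw [h6]
  exact (r' ^ m).2

theorem isIntegralElem_of_pow {R S : Type u} [CommRing R] [CommRing S] (f : R →+* S) {y : S}
    {m : ℕ} (hm : 0 < m) (hy : f.IsIntegralElem (y ^ m)) : f.IsIntegralElem y := by
  let _ := f.toAlgebra
  exact IsIntegral.of_pow (R := R) hm hy

/-- for a domain `D`, the generic component of an element of `M D` is integral over `D`. -/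
theorem isIntegralElem_eval_generic_of_mem_M' {D : Type u} [CommRing D] [IsDomain D]
    (y : η.N D) (hy : y ∈ η.M D) :
    ((η.eta (⊥ : Ideal D).ResidueField).comp
      (algebraMap D (⊥ : Ideal D).ResidueField)).IsIntegralElem (y ⟨⊥, Ideal.isPrime_bot⟩) := by
  obtain ⟨n, z, hz⟩ := η.exists_pow_mem_range_eta (⊥ : Ideal D).ResidueField (y ⟨⊥, Ideal.isPrime_bot⟩)
  apply isIntegralElem_of_pow _ (ringExpChar_pow_pos (⊥ : Ideal D).ResidueField n)
  rw [← hz]
  suffices hzD : IsIntegral D z from RingHom.IsIntegralElem.map hzD _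
  let L := AlgebraicClosure (⊥ : Ideal D).ResidueField
  let j : (⊥ : Ideal D).ResidueField →+* L := algebraMap _ L
  rw [← isIntegral_algebraMap_iff (B := L) j.injective]
  by_contra hzL
  have hzL' : j z ∉ (integralClosure D L).toSubring := hzL
  obtain ⟨V, hV, hzV⟩ := Subring.exists_le_valuationSubring_of_isIntegrallyClosedIn hzL'
  let g : D →+* V := (algebraMap D L).codRestrict V.toSubring
    (fun a => hV (algebraMap_mem (integralClosure D L) a))
  have hg : ∀ a, (g a : L) = j (algebraMap D (⊥ : Ideal D).ResidueField a) := by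
    intro a
    exact IsScalarTower.algebraMap_apply D (⊥ : Ideal D).ResidueField L a
  exact hzV (map_mem_valuationSubring_of_mem_M η (bijective_eta_of_perfectField η L) j V g hg y hy _ z hz)

theorem isIntegralElem_comp_of_surjective {A D S : Type u} [CommRing A] [CommRing D] [CommRing S]
    (π : A →+* D) (hπ : Function.Surjective π) (f : D →+* S) {y : S} (hy : f.IsIntegralElem y) :
    (f.comp π).IsIntegralElem y := by
  obtain ⟨Q, hQm, hQ⟩ := hy
  obtain ⟨P, hPQ, -, hPm⟩ := Polynomial.lifts_and_natDegree_eq_and_monic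
    ((Polynomial.mem_lifts Q).mpr (Polynomial.map_surjective π hπ Q)) hQm
  refine ⟨P, hPm, ?_⟩
  rw [← Polynomial.eval₂_map, hPQ, hQ]

/-- for any ring `A` and prime `p`, the `p`-component of an element of `M A` is integral over `A`. -/
theorem isIntegralElem_eval_of_mem_M {A : Type u} [CommRing A] (x : η.N A) (hx : x ∈ η.M A)
    (p : PrimeSpectrum A) :
    ((η.eta p.asIdeal.ResidueField).comp
      (algebraMap A p.asIdeal.ResidueField)).IsIntegralElem (x p) := by
  let π : A →+* A ⧸ p.asIdeal := Ideal.Quotient.mk p.asIdeal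
  have hy : η.Nmap π x ∈ η.M (A ⧸ p.asIdeal) := Nmap_mem_M η π hx
  have hbot : p.asIdeal = (⊥ : Ideal (A ⧸ p.asIdeal)).comap π := by
    rw [← RingHom.ker_eq_comap_bot, Ideal.mk_ker]
  have h1 := isIntegralElem_eval_generic_of_mem_M' η _ hy
  rw [Nmap_apply_of_eq η π x ⟨⊥, Ideal.isPrime_bot⟩ p hbot] at h1
  have h2 := isIntegralElem_comp_of_surjective π Ideal.Quotient.mk_surjective _ h1
  have heq : (η.map (Ideal.ResidueField.map p.asIdeal (⊥ : Ideal (A ⧸ p.asIdeal)) π hbot)).comp
      ((η.eta p.asIdeal.ResidueField).comp (algebraMap A p.asIdeal.ResidueField)) =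
      ((η.eta (⊥ : Ideal (A ⧸ p.asIdeal)).ResidueField).comp
        (algebraMap (A ⧸ p.asIdeal) (⊥ : Ideal (A ⧸ p.asIdeal)).ResidueField)).comp π := by
    ext a
    simp only [RingHom.comp_apply]
    rw [eta_natural_apply, Ideal.ResidueField.map_algebraMap]
  apply RingHom.IsIntegralElem.of_map
    (g := η.map (Ideal.ResidueField.map p.asIdeal (⊥ : Ideal (A ⧸ p.asIdeal)) π hbot))
    (η.map _).injective
  rw [heq]
  exact h2

/-- evaluation at a prime `p`, as a ring hom on `M A` -/
noncomputable def evAt (A : Type u) [CommRing A] (p : PrimeSpectrum A) :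
    η.M A →+* η.obj p.asIdeal.ResidueField :=
  (Pi.evalRingHom (fun p : PrimeSpectrum A => η.obj p.asIdeal.ResidueField) p).comp (η.M A).subtype

theorem evAt_apply (A : Type u) [CommRing A] (p : PrimeSpectrum A) (x : η.M A) :
    evAt η A p x = (x : η.N A) p := rfl

theorem evAt_comp_q (A : Type u) [CommRing A] (p : PrimeSpectrum A) :
    (evAt η A p).comp (η.q A) =
      (η.eta p.asIdeal.ResidueField).comp (algebraMap A p.asIdeal.ResidueField) := rfl

theorem isIntegral_q (A : Type u) [CommRing A] (hA : (minimalPrimes A).Finite) :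
    (η.q A).IsIntegral := by
  classical
  rintro ⟨x, hx⟩
  choose Pf hPm hP0 using fun p : PrimeSpectrum A => isIntegralElem_eval_of_mem_M η x hx p
  let P : Polynomial A := ∏ I ∈ hA.toFinset, (if h : I.IsPrime then Pf ⟨I, h⟩ else 1)
  have hPmonic : P.Monic := by
    apply Polynomial.monic_prod_of_monic
    intro I _
    split_ifs with h
    · exact hPm _
    · exact Polynomial.monic_one
  refine ⟨P, hPmonic, ?_⟩
  apply Subtype.ext
  apply eq_zero_of_forall_minimalPrimes η _ (Polynomial.eval₂ (η.q A) ⟨x, hx⟩ P).2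
  intro p hp
  have h1 : (Polynomial.eval₂ (η.q A) ⟨x, hx⟩ P : η.M A).1 p =
      evAt η A p (Polynomial.eval₂ (η.q A) ⟨x, hx⟩ P) := rfl
  rw [h1, Polynomial.hom_eval₂, evAt_comp_q, Polynomial.eval₂_finsetProd]
  apply Finset.prod_eq_zero (i := p.asIdeal) (hA.mem_toFinset.mpr hp)
  rw [dif_pos p.isPrime]
  exact hP0 p

end EtaPtLib

end Groth.Agent.Lib.Helper70
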