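import Mathlib
import Groth.Agent.Lib.Helper70.EtaPtI

/-!
# More lemmas on `EtaPt` (helper70)
-/

universe u

namespace Groth.Agent.Lib.Helper70

open EtaPt

namespace EtaPtLib

variable (η : EtaPt.FieldEndo.{u})

theorem comap_q_ker_evAt (A : Type u) [CommRing A] (P : PrimeSpectrum A) :
    (RingHom.ker (evAt η A P)).comap (η.q A) = P.asIdeal := by
  ext a
  rw [Ideal.mem_comap, RingHom.mem_ker]
  show η.eta _ (algebraMap A P.asIdeal.ResidueField a) = 0 ↔ _
  rw [map_eq_zero_iff _ (η.eta P.asIdeal.ResidueField).injective,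
    Ideal.algebraMap_residueField_eq_zero]

/-- the canonical extension of a test map to `M A` agrees with any extension through `evAt p`. -/
theorem Nmap_eq_t_of_hom {A : Type u} [CommRing A] (p : PrimeSpectrum A) {L : Type u} [Field L]
    (hL : Function.Bijective (η.eta L)) (lam : η.obj p.asIdeal.ResidueField →+* L)
    (W : ValuationSubring L) (h : η.M A →+* W) (hh : ∀ x, (h x : L) = lam (evAt η A p x))
    (x : η.M A) : η.Nmap (h.comp (η.q A)) x.1 = η.t W (h x) := by
  have hg : ∀ a, ((h.comp (η.q A)) a : L) =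
      lam (η.eta _ (algebraMap A p.asIdeal.ResidueField a)) := fun a => hh _
  have hp0 : p.asIdeal = (⊥ : Ideal W).comap (h.comp (η.q A)) := by
    ext a
    rw [Ideal.mem_comap, Ideal.mem_bot, ← Ideal.algebraMap_residueField_eq_zero (I := p.asIdeal)]
    constructor
    · intro ha
      apply Subtype.ext
      rw [hg, ha, map_zero, map_zero]; rfl
    · intro ha
      have h1 := congrArg Subtype.val ha
      rw [hg] at h1
      have h2 : lam (η.eta _ (algebraMap A p.asIdeal.ResidueField a)) = 0 := h1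
      rw [map_eq_zero_iff _ lam.injective,
        map_eq_zero_iff _ (η.eta p.asIdeal.ResidueField).injective] at h2
      exact h2
  obtain ⟨w, hw⟩ := x.2 W (inV_of_isFractionRing η W L hL) (h.comp (η.q A))
  rw [← hw]
  congr 1
  have h1 := congrFun hw ⟨⊥, Ideal.isPrime_bot⟩
  rw [t_apply, Nmap_apply_of_eq η _ x.1 ⟨⊥, Ideal.isPrime_bot⟩ p hp0] at h1
  let ι : L ≃ₐ[W] (⊥ : Ideal W).ResidueField := IsLocalization.algEquiv (nonZeroDivisors W) _ _
  have hι : ∀ v : W, ι (v : L) = algebraMap W _ v := fun v => by simpa using ι.commutes v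
  have hρ : Ideal.ResidueField.map p.asIdeal (⊥ : Ideal W) (h.comp (η.q A)) hp0 =
      ((ι : L →+* (⊥ : Ideal W).ResidueField).comp lam).comp (η.eta p.asIdeal.ResidueField) := by
    apply Ideal.ResidueField.ringHom_ext
    ext a
    simp only [RingHom.comp_apply, Ideal.ResidueField.map_algebraMap]
    rw [← hg]
    exact (hι _).symm
  rw [hρ, η.map_comp, RingHom.comp_apply, ← eta_obj_eq, eta_natural_apply] at h1
  have h2 := (η.eta (⊥ : Ideal W).ResidueField).injective h1
  apply IsFractionRing.injective W (⊥ : Ideal W).ResidueField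
  rw [h2, ← hι, hh]
  rfl

/-- a prime `Q` of `M A` containing the kernel of evaluation at `p` is the kernel of the evaluation
at its contraction. -/
theorem eq_ker_evAt_of_ker_evAt_le {A : Type u} [CommRing A] (p : PrimeSpectrum A)
    (Q : PrimeSpectrum (η.M A)) (hpQ : RingHom.ker (evAt η A p) ≤ Q.asIdeal) :
    Q.asIdeal = RingHom.ker (evAt η A (PrimeSpectrum.comap (η.q A) Q)) := by
  let FK := η.obj p.asIdeal.ResidueField
  let L := AlgebraicClosure FK
  let lam : FK →+* L := algebraMap FK L
  let S₀ : Subring FK := (evAt η A p).range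
  let e₀ : η.M A →+* S₀ := (evAt η A p).rangeRestrict
  have he₀ : Function.Surjective e₀ := (evAt η A p).rangeRestrict_surjective
  have hker : RingHom.ker e₀ ≤ Q.asIdeal := by
    intro x hx
    apply hpQ
    rw [RingHom.mem_ker] at hx ⊢
    exact congrArg Subtype.val hx
  have : (Q.asIdeal.map e₀).IsPrime := Ideal.map_isPrime_of_surjective he₀ hker
  have hQ : (Q.asIdeal.map e₀).comap e₀ = Q.asIdeal := by
    rw [Ideal.comap_map_of_surjective' e₀ he₀]
    exact sup_eq_left.mpr hker
  have hi : Function.Injective (lam.comp S₀.subtype) :=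
    lam.injective.comp Subtype.val_injective
  obtain ⟨W, gS, hgS, hgSm⟩ := exists_val_dom' S₀ L _ hi ⟨Q.asIdeal.map e₀, inferInstance⟩
  let h : η.M A →+* W := gS.comp e₀
  have hh : ∀ x, (h x : L) = lam (evAt η A p x) := fun x => hgS (e₀ x)
  have hhm : (IsLocalRing.maximalIdeal W).comap h = Q.asIdeal := by
    rw [← Ideal.comap_comap, hgSm, hQ]
  have hPm : (PrimeSpectrum.comap (η.q A) Q).asIdeal =
      (IsLocalRing.maximalIdeal W).comap (h.comp (η.q A)) := by
    rw [← Ideal.comap_comap, hhm]; rfl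
  ext x
  have key := Nmap_eq_t_of_hom η p (bijective_eta_of_perfectField η L) lam W h hh x
  have h2 := congrFun key ⟨IsLocalRing.maximalIdeal W, inferInstance⟩
  rw [Nmap_apply_of_eq η _ x.1 ⟨IsLocalRing.maximalIdeal W, inferInstance⟩
    (PrimeSpectrum.comap (η.q A) Q) hPm, t_apply] at h2
  rw [RingHom.mem_ker, evAt_apply, ← hhm, Ideal.mem_comap,
    ← Ideal.algebraMap_residueField_eq_zero (I := IsLocalRing.maximalIdeal W),
    ← map_eq_zero_iff _ (η.eta (IsLocalRing.maximalIdeal W).ResidueField).injective]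
  rw [← map_eq_zero_iff _ (η.map (Ideal.ResidueField.map
    (PrimeSpectrum.comap (η.q A) Q).asIdeal (IsLocalRing.maximalIdeal W) _ hPm)).injective, h2]

theorem exists_ker_evAt_le {A : Type u} [CommRing A] (hA : (minimalPrimes A).Finite)
    (Q : PrimeSpectrum (η.M A)) : ∃ p : PrimeSpectrum A, RingHom.ker (evAt η A p) ≤ Q.asIdeal := by
  classical
  let f : Ideal A → Ideal (η.M A) := fun I =>
    if h : I.IsPrime then RingHom.ker (evAt η A ⟨I, h⟩) else ⊤
  have hle : hA.toFinset.inf f ≤ Q.asIdeal := by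
    intro x hx
    have hx0 : x = 0 := by
      apply Subtype.ext
      apply eq_zero_of_forall_minimalPrimes η x.1 x.2
      intro p hp
      have h1 : x ∈ f p.asIdeal := by
        have := (Finset.inf_le (f := f) (hA.mem_toFinset.mpr hp)) hx
        exact this
      simp only [f, dif_pos p.isPrime] at h1
      exact h1
    rw [hx0]; exact Q.asIdeal.zero_mem
  obtain ⟨I, hI, hIQ⟩ := (Ideal.IsPrime.inf_le' Q.isPrime).mp hle
  have hIp : I.IsPrime := (hA.mem_toFinset.mp hI).1.1
  refine ⟨⟨I, hIp⟩, ?_⟩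
  simpa only [f, dif_pos hIp] using hIQ

theorem eq_ker_evAt {A : Type u} [CommRing A] (hA : (minimalPrimes A).Finite)
    (Q : PrimeSpectrum (η.M A)) :
    Q.asIdeal = RingHom.ker (evAt η A (PrimeSpectrum.comap (η.q A) Q)) := by
  obtain ⟨p, hp⟩ := exists_ker_evAt_le η hA Q
  exact eq_ker_evAt_of_ker_evAt_le η p Q hp

theorem comap_q_bijective_and_residue_factor (A : Type u) [CommRing A]
    (hA : (minimalPrimes A).Finite) :
    Function.Bijective (PrimeSpectrum.comap (η.q A)) ∧
      ∀ Q : PrimeSpectrum (η.M A),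
        ∃ φ : Q.asIdeal.ResidueField →+* η.obj (PrimeSpectrum.comap (η.q A) Q).asIdeal.ResidueField,
          φ.comp (Ideal.ResidueField.map (PrimeSpectrum.comap (η.q A) Q).asIdeal Q.asIdeal (η.q A) rfl) =
            η.eta (PrimeSpectrum.comap (η.q A) Q).asIdeal.ResidueField := by
  refine ⟨⟨?_, ?_⟩, ?_⟩
  · intro Q Q' hQQ'
    apply PrimeSpectrum.ext
    rw [eq_ker_evAt η hA Q, eq_ker_evAt η hA Q', hQQ']
  · intro P
    refine ⟨⟨RingHom.ker (evAt η A P), RingHom.ker_isPrime _⟩, ?_⟩
    apply PrimeSpectrum.ext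
    exact comap_q_ker_evAt η A P
  · intro Q
    have hQ := eq_ker_evAt η hA Q
    refine ⟨Ideal.ResidueField.lift Q.asIdeal (evAt η A (PrimeSpectrum.comap (η.q A) Q)) hQ.le ?_, ?_⟩
    · intro x hx
      simp only [Submonoid.mem_comap, IsUnit.mem_submonoid_iff]
      apply IsUnit.mk0
      intro h0
      apply hx
      show x ∈ Q.asIdeal
      rw [hQ]
      exact h0
    · apply Ideal.ResidueField.ringHom_ext
      ext a
      simp only [RingHom.comp_apply, Ideal.ResidueField.map_algebraMap,
        Ideal.ResidueField.lift_algebraMap]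
      rfl

end EtaPtLib

end Groth.Agent.Lib.Helper70
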