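import Mathlib
import Groth.Agent.Lib.Helper70.EtaPtJ

/-!
# More lemmas on `EtaPt` (helper70)
-/

universe u

namespace Groth.Agent.Lib.Helper70

open EtaPt

namespace EtaPtLib

variable (η : EtaPt.FieldEndo.{u})

theorem Nmap_injective_of_comap_surjective {A B : Type u} [CommRing A] [CommRing B] (f : A →+* B)
    (hs : Function.Surjective (PrimeSpectrum.comap f)) : Function.Injective (η.Nmap f) := by
  intro x x' hxx'
  funext p
  obtain ⟨q, rfl⟩ := hs p
  have h1 := congrFun hxx' q
  rw [Nmap_apply, Nmap_apply] at h1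
  exact (η.map _).injective h1

theorem Nmap_bijective_of_comap_bijective {A B : Type u} [CommRing A] [CommRing B] (f : A →+* B)
    (hb : Function.Bijective (PrimeSpectrum.comap f))
    (hF : ∀ (q : PrimeSpectrum B) (I : Ideal A) [I.IsPrime] (h : I = q.asIdeal.comap f),
      Function.Surjective (η.map (Ideal.ResidueField.map I q.asIdeal f h))) :
    Function.Bijective (η.Nmap f) := by
  refine ⟨Nmap_injective_of_comap_surjective η f hb.2, fun y => ?_⟩
  have : ∀ p : PrimeSpectrum A, ∃ xp : η.obj p.asIdeal.ResidueField,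
      ∀ (q : PrimeSpectrum B) (h : p.asIdeal = q.asIdeal.comap f),
        η.map (Ideal.ResidueField.map p.asIdeal q.asIdeal f h) xp = y q := by
    intro p
    obtain ⟨q₀, hq₀⟩ := hb.2 p
    have h₀ : p.asIdeal = q₀.asIdeal.comap f := by rw [← hq₀]; rfl
    obtain ⟨xp, hxp⟩ := hF q₀ p.asIdeal h₀ (y q₀)
    refine ⟨xp, fun q h => ?_⟩
    have hq : q = q₀ := hb.1 (PrimeSpectrum.ext (by
      show q.asIdeal.comap f = q₀.asIdeal.comap f
      rw [← h, h₀]))
    subst hq
    exact hxp
  choose x hx using this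
  exact ⟨x, funext fun q => hx (PrimeSpectrum.comap f q) q rfl⟩

theorem map_resMap_q_surjective (A : Type u) [CommRing A] (hA : (minimalPrimes A).Finite)
    (Q : PrimeSpectrum (η.M A)) :
    Function.Surjective (η.map (Ideal.ResidueField.map (PrimeSpectrum.comap (η.q A) Q).asIdeal
      Q.asIdeal (η.q A) rfl)) := by
  obtain ⟨φ, hφQ⟩ := (comap_q_bijective_and_residue_factor η A hA).2 Q
  intro y
  have h1 : (η.map φ).comp (η.map (Ideal.ResidueField.map (PrimeSpectrum.comap (η.q A) Q).asIdeal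
      Q.asIdeal (η.q A) rfl)) = η.map (η.eta _) := by
    rw [← η.map_comp]
    exact congrArg _ hφQ
  obtain ⟨x, hx⟩ := (η.bijective_map_eta _).2 (η.map φ y)
  refine ⟨x, (η.map φ).injective ?_⟩
  rw [← hx, ← h1]
  rfl

theorem bijective_Nmap_q (A : Type u) [CommRing A] (hA : (minimalPrimes A).Finite) :
    Function.Bijective (η.Nmap (η.q A)) := by
  apply Nmap_bijective_of_comap_bijective η _ (comap_q_bijective_and_residue_factor η A hA).1
  intro Q I _ h
  subst h
  exact map_resMap_q_surjective η A hA Q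

theorem t_injective_of_isReduced (B : Type u) [CommRing B] [IsReduced B] :
    Function.Injective (η.t B) := by
  rw [injective_iff_map_eq_zero]
  intro b hb
  apply IsReduced.eq_zero
  rw [nilpotent_iff_mem_prime]
  intro J hJ
  have h1 := congrFun hb ⟨J, hJ⟩
  rw [t_apply] at h1
  have h2 := (map_eq_zero_iff _ (η.eta J.ResidueField).injective).mp h1
  exact Ideal.algebraMap_residueField_eq_zero.mp h2

/-- the canonical map `k(Q) → F(k(P))` for a prime `Q` of `M A` over `P`. -/
noncomputable def resLift (A : Type u) [CommRing A] (hA : (minimalPrimes A).Finite)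
    (Q : PrimeSpectrum (η.M A)) :
    Q.asIdeal.ResidueField →+* η.obj (PrimeSpectrum.comap (η.q A) Q).asIdeal.ResidueField :=
  Ideal.ResidueField.lift Q.asIdeal (evAt η A (PrimeSpectrum.comap (η.q A) Q))
    (eq_ker_evAt η hA Q).le (by
      intro x hx
      simp only [Submonoid.mem_comap, IsUnit.mem_submonoid_iff]
      apply IsUnit.mk0
      intro h0
      apply hx
      show x ∈ Q.asIdeal
      rw [eq_ker_evAt η hA Q]
      exact h0)

theorem resLift_algebraMap (A : Type u) [CommRing A] (hA : (minimalPrimes A).Finite)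
    (Q : PrimeSpectrum (η.M A)) (x : η.M A) :
    resLift η A hA Q (algebraMap (η.M A) Q.asIdeal.ResidueField x) =
      (x : η.N A) (PrimeSpectrum.comap (η.q A) Q) :=
  Ideal.ResidueField.lift_algebraMap _ _ _ _ x

theorem resLift_comp (A : Type u) [CommRing A] (hA : (minimalPrimes A).Finite)
    (Q : PrimeSpectrum (η.M A)) :
    (resLift η A hA Q).comp (Ideal.ResidueField.map (PrimeSpectrum.comap (η.q A) Q).asIdeal Q.asIdeal
      (η.q A) rfl) = η.eta (PrimeSpectrum.comap (η.q A) Q).asIdeal.ResidueField := by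
  apply Ideal.ResidueField.ringHom_ext
  ext a
  simp only [RingHom.comp_apply, Ideal.ResidueField.map_algebraMap]
  rw [resLift_algebraMap]
  rfl

/-- S13815, first part -/
theorem Nmap_q_eq_t (A : Type u) [CommRing A] (hA : (minimalPrimes A).Finite) (x : η.M A) :
    η.Nmap (η.q A) (x : η.N A) = η.t (η.M A) x := by
  funext Q
  apply (η.map (resLift η A hA Q)).injective
  rw [Nmap_apply, t_apply, eta_natural_apply, resLift_algebraMap]
  have h1 : (η.map (resLift η A hA Q)).comp (η.map (Ideal.ResidueField.map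
      (PrimeSpectrum.comap (η.q A) Q).asIdeal Q.asIdeal (η.q A) rfl)) = η.map (η.eta _) := by
    rw [← η.map_comp]
    exact congrArg _ (resLift_comp η A hA Q)
  have h2 := congrFun (congrArg DFunLike.coe h1) ((x : η.N A) (PrimeSpectrum.comap (η.q A) Q))
  rw [RingHom.comp_apply] at h2
  rw [h2, ← eta_obj_eq]

/-- S13815 -/
theorem Nmap_q_eq_t_and_bijective_q_M (A : Type u) [CommRing A] (hA : (minimalPrimes A).Finite) :
    (∀ x : η.M A, η.Nmap (η.q A) (x : η.N A) = η.t (η.M A) x) ∧
      Function.Bijective (η.q (η.M A)) := by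
  refine ⟨Nmap_q_eq_t η A hA, ⟨?_, ?_⟩⟩
  · intro x y hxy
    have h1 : η.t (η.M A) x = η.t (η.M A) y := congrArg Subtype.val hxy
    rw [← Nmap_q_eq_t η A hA, ← Nmap_q_eq_t η A hA] at h1
    exact Subtype.ext ((bijective_Nmap_q η A hA).1 h1)
  · rintro ⟨z, hz⟩
    obtain ⟨x, hx, rfl⟩ := (bijOn_Nmap_M η (η.q A) (isIntegral_q η A hA)
      (bijective_Nmap_q η A hA)).2.2 hz
    refine ⟨⟨x, hx⟩, Subtype.ext ?_⟩
    exact (Nmap_q_eq_t η A hA ⟨x, hx⟩).symm

/-- S13805 -/
theorem bijective_of_isIntegral_of_reduced_of_bijective_Nmap (A : Type u) [CommRing A]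
    (hA : (minimalPrimes A).Finite) (B : Type u) [CommRing B] [IsReduced B] (f : η.M A →+* B)
    (hf : f.IsIntegral) (hN : Function.Bijective (η.Nmap f)) : Function.Bijective f := by
  have hqM := (Nmap_q_eq_t_and_bijective_q_M η A hA).2
  constructor
  · intro x y hxy
    have h1 : η.Nmap f (η.t (η.M A) x) = η.Nmap f (η.t (η.M A) y) := by
      rw [η.Nmap_t_apply, η.Nmap_t_apply, hxy]
    have h2 := hN.1 h1
    exact hqM.1 (Subtype.ext h2)
  · intro b
    obtain ⟨z, hz, hzb⟩ := (bijOn_Nmap_M η f hf hN).2.2 (η.t_mem_M B b)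
    obtain ⟨x, hx⟩ := hqM.2 ⟨z, hz⟩
    refine ⟨x, t_injective_of_isReduced η B ?_⟩
    rw [← η.Nmap_t_apply, ← hzb]
    congr 1
    exact congrArg Subtype.val hx

end EtaPtLib

end Groth.Agent.Lib.Helper70
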