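import Mathlib
import Groth.Agent.Lib.Helper70.EtaPtK

/-!
# More lemmas on `EtaPt` (helper70)
-/

universe u

namespace Groth.Agent.Lib.Helper70

open EtaPt

namespace EtaPtLib

variable (η : EtaPt.FieldEndo.{u})

/-- if `ψ ∘ ρ = η_k` then `F(ρ) ∘ ψ = η_l`. -/
theorem map_comp_eq_eta_of_comp_eq_eta {k l : Type u} [Field k] [Field l] (ρ : k →+* l)
    (ψ : l →+* η.obj k) (h : ψ.comp ρ = η.eta k) : (η.map ρ).comp ψ = η.eta l := by
  ext b
  apply (η.map ψ).injective
  simp only [RingHom.comp_apply]
  rw [eta_natural_apply]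
  have h1 : (η.map ψ).comp (η.map ρ) = η.eta (η.obj k) := by
    rw [← η.map_comp, h, eta_obj_eq]
  exact congrFun (congrArg DFunLike.coe h1) (ψ b)

theorem comap_injective_of_Nmap_surjective {A B : Type u} [CommRing A] [CommRing B] (f : A →+* B)
    (hN : Function.Surjective (η.Nmap f)) : Function.Injective (PrimeSpectrum.comap f) := by
  classical
  intro q1 q2 h12
  by_contra hne
  obtain ⟨x, hx⟩ := hN (Pi.single q1 1)
  have h1 := congrFun hx q1
  have h2 := congrFun hx q2
  rw [Pi.single_eq_same, Nmap_apply] at h1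
  rw [Pi.single_eq_of_ne (Ne.symm hne), Nmap_apply_of_eq η f x q2 (PrimeSpectrum.comap f q1)
    (by rw [h12]; rfl)] at h2
  have h3 := (map_eq_zero_iff (η.map _) (η.map _).injective).mp h2
  rw [h3, map_zero] at h1
  exact zero_ne_one h1

theorem Nmap_eq_t_of_comp_eq_q {A B : Type u} [CommRing A] [CommRing B] (g : A →+* B)
    (hinj : Function.Injective (PrimeSpectrum.comap g)) (g'' : B →+* η.M A)
    (h : g''.comp g = η.q A) (b : B) : η.Nmap g (g'' b).1 = η.t B b := by
  funext q
  let ψ : B →+* η.obj (PrimeSpectrum.comap g q).asIdeal.ResidueField :=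
    (evAt η A (PrimeSpectrum.comap g q)).comp g''
  have hψg : ∀ a, ψ (g a) = η.eta _ (algebraMap A (PrimeSpectrum.comap g q).asIdeal.ResidueField a) := by
    intro a
    show evAt η A _ (g'' (g a)) = _
    have : g'' (g a) = η.q A a := congrFun (congrArg DFunLike.coe h) a
    rw [this]; rfl
  have hq : q.asIdeal = RingHom.ker ψ := by
    have h1 : (⟨RingHom.ker ψ, RingHom.ker_isPrime ψ⟩ : PrimeSpectrum B) = q := by
      apply hinj
      apply PrimeSpectrum.ext
      ext a
      show g a ∈ RingHom.ker ψ ↔ a ∈ (PrimeSpectrum.comap g q).asIdeal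
      rw [RingHom.mem_ker, hψg, map_eq_zero_iff (η.eta (PrimeSpectrum.comap g q).asIdeal.ResidueField)
        (η.eta (PrimeSpectrum.comap g q).asIdeal.ResidueField).injective,
        Ideal.algebraMap_residueField_eq_zero]
    exact (congrArg PrimeSpectrum.asIdeal h1).symm
  let ψ' : q.asIdeal.ResidueField →+* η.obj (PrimeSpectrum.comap g q).asIdeal.ResidueField :=
    Ideal.ResidueField.lift q.asIdeal ψ hq.le (by
      intro x hx
      simp only [Submonoid.mem_comap, IsUnit.mem_submonoid_iff]
      apply IsUnit.mk0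
      intro h0
      apply hx
      show x ∈ q.asIdeal
      rw [hq]
      exact h0)
  have hψ' : ∀ b', ψ' (algebraMap B q.asIdeal.ResidueField b') = ψ b' := fun b' =>
    Ideal.ResidueField.lift_algebraMap _ _ _ _ b'
  have hψρ : ψ'.comp (Ideal.ResidueField.map (PrimeSpectrum.comap g q).asIdeal q.asIdeal g rfl) =
      η.eta _ := by
    apply Ideal.ResidueField.ringHom_ext
    ext a
    simp only [RingHom.comp_apply, Ideal.ResidueField.map_algebraMap]
    rw [hψ', hψg]
  have key := map_comp_eq_eta_of_comp_eq_eta η _ ψ' hψρ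
  have h2 := congrFun (congrArg DFunLike.coe key) (algebraMap B q.asIdeal.ResidueField b)
  rw [RingHom.comp_apply, hψ'] at h2
  rw [Nmap_apply, t_apply]
  exact h2

/-- S13806 -/
theorem existsUnique_lift_q (A : Type u) [CommRing A] (B : Type u) [CommRing B] (g : A →+* B)
    (hg : g.IsIntegral) (hN : Function.Bijective (η.Nmap g)) :
    ∃! g' : B →+* η.M A, g'.comp g = η.q A := by
  have hbij := bijOn_Nmap_M η g hg hN
  let r : η.M A →+* η.M B := (η.Nmap g).restrict (η.M A) (η.M B) (fun x hx => Nmap_mem_M η g hx)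
  have hr : Function.Bijective r := by
    constructor
    · intro x y hxy
      exact Subtype.ext (hN.1 (congrArg Subtype.val hxy))
    · rintro ⟨y, hy⟩
      obtain ⟨x, hx, rfl⟩ := hbij.2.2 hy
      exact ⟨⟨x, hx⟩, rfl⟩
  let E : η.M A ≃+* η.M B := RingEquiv.ofBijective r hr
  have hE : ∀ a, E (η.q A a) = η.q B (g a) := fun a => Subtype.ext (η.Nmap_t_apply g a)
  refine ⟨(E.symm : η.M B →+* η.M A).comp (η.q B), ?_, ?_⟩
  · ext a
    simp only [RingHom.comp_apply, RingHom.coe_coe]
    rw [← hE, E.symm_apply_apply]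
  · intro g'' hg''
    apply RingHom.ext
    intro b
    simp only [RingHom.comp_apply, RingHom.coe_coe]
    rw [E.eq_symm_apply]
    apply Subtype.ext
    exact Nmap_eq_t_of_comp_eq_q η g (comap_injective_of_Nmap_surjective η g hN.2) g'' hg'' b

end EtaPtLib

end Groth.Agent.Lib.Helper70
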