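import Mathlib
import Groth.Agent.Lib.Helper70.EtaPtL

/-!
# More lemmas on `EtaPt` (helper70): descent of membership in `M` along integral surjective maps
-/

universe u

namespace Groth.Agent.Lib.Helper70

open EtaPt
open scoped TensorProduct

namespace EtaPtLib

variable (η : EtaPt.FieldEndo.{u})

theorem exists_common_overfield {k E K : Type u} [Field k] [Field E] [Field K]
    (ρ : k →+* E) (ψ : k →+* K) :
    ∃ (Ω : Type u) (_ : Field Ω) (θ : E →+* Ω) (j : K →+* Ω), θ.comp ρ = j.comp ψ := by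
  let _ := ρ.toAlgebra
  let _ := ψ.toAlgebra
  have : Nontrivial (E ⊗[k] K) :=
    Algebra.TensorProduct.nontrivial_of_algebraMap_injective_of_isDomain k E K
      (algebraMap k E).injective (algebraMap k K).injective
  obtain ⟨m, hm⟩ := Ideal.exists_maximal (E ⊗[k] K)
  let _ := Ideal.Quotient.field m
  refine ⟨(E ⊗[k] K) ⧸ m, inferInstance,
    (Ideal.Quotient.mk m).comp Algebra.TensorProduct.includeLeftRingHom,
    (Ideal.Quotient.mk m).comp (Algebra.TensorProduct.includeRight : K →ₐ[k] E ⊗[k] K).toRingHom, ?_⟩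
  rw [RingHom.comp_assoc, RingHom.comp_assoc]
  congr 1
  exact Algebra.TensorProduct.includeLeftRingHom_comp_algebraMap

/-- an algebraically closed (perfect) common overfield -/
theorem exists_common_overfield_perfect {k E K : Type u} [Field k] [Field E] [Field K]
    (ρ : k →+* E) (ψ : k →+* K) :
    ∃ (L : Type u) (_ : Field L) (_ : PerfectField L) (θ : E →+* L) (j : K →+* L),
      θ.comp ρ = j.comp ψ := by
  obtain ⟨Ω, _, θ, j, h⟩ := exists_common_overfield ρ ψ
  refine ⟨AlgebraicClosure Ω, inferInstance, inferInstance,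
    (algebraMap Ω (AlgebraicClosure Ω)).comp θ, (algebraMap Ω (AlgebraicClosure Ω)).comp j, ?_⟩
  rw [RingHom.comp_assoc, RingHom.comp_assoc, h]

/-- descent along a valuation subring `W` of `L` centred at `P` on `R`. -/
theorem descend_at {A B R L : Type u} [CommRing A] [CommRing B] [CommRing R] [IsDomain R]
    [Field L] (hL : Function.Bijective (η.eta L))
    (f : A →+* B) (hf : f.IsIntegral) (x : η.N A) (hx : η.Nmap f x ∈ η.M B)
    (g : A →+* R) (j : (⊥ : Ideal R).ResidueField →+* L) (h : B →+* L)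
    (hhf : h.comp f = (j.comp (algebraMap R (⊥ : Ideal R).ResidueField)).comp g)
    (y₀ : (⊥ : Ideal R).ResidueField)
    (hy₀ : η.eta _ y₀ = η.Nmap g x ⟨⊥, Ideal.isPrime_bot⟩)
    (P : PrimeSpectrum R) (W : ValuationSubring L) (gW : R →+* W)
    (hgW : ∀ r, (gW r : L) = j (algebraMap R (⊥ : Ideal R).ResidueField r))
    (hgWm : (IsLocalRing.maximalIdeal W).comap gW = P.asIdeal) :
    j y₀ ∈ W ∧ ∀ r : R, algebraMap R (⊥ : Ideal R).ResidueField r = y₀ →
      η.Nmap g x P = η.eta _ (algebraMap R P.asIdeal.ResidueField r) := by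
  have hi : Function.Injective (j.comp (algebraMap R (⊥ : Ideal R).ResidueField)) :=
    j.injective.comp (IsFractionRing.injective R (⊥ : Ideal R).ResidueField)
  have hgWinj : Function.Injective gW := by
    intro a b hab
    apply hi
    simp only [RingHom.comp_apply]
    rw [← hgW, ← hgW, hab]
  have hbot := bot_eq_comap_bot gW hgWinj
  -- `h` lands in `W`
  have hW : ∀ b, h b ∈ W.toSubring := by
    intro b
    obtain ⟨Pb, hPm, hP⟩ := hf b
    have hint : IsIntegral W (h b) := by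
      refine ⟨Pb.map (gW.comp g), hPm.map _, ?_⟩
      rw [Polynomial.eval₂_map]
      have h1 : (algebraMap W L).comp (gW.comp g) = h.comp f := by
        rw [hhf]
        ext a
        exact hgW (g a)
      rw [h1, ← Polynomial.hom_eval₂, hP, map_zero]
    obtain ⟨w, hw⟩ := IsIntegrallyClosedIn.algebraMap_eq_of_integral hint
    rw [← hw]
    exact w.2
  let hB : B →+* W := h.codRestrict W.toSubring hW
  have hBf : hB.comp f = gW.comp g := by
    ext a
    show h (f a) = (gW (g a) : L)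
    rw [hgW]
    exact congrFun (congrArg DFunLike.coe hhf) a
  obtain ⟨w, hw⟩ := hx W (inV_of_isFractionRing η W L hL) hB
  rw [← Nmap_comp_apply, hBf, Nmap_comp_apply] at hw
  -- generic point
  have h1 := congrFun hw ⟨⊥, Ideal.isPrime_bot⟩
  rw [t_apply, Nmap_apply_of_eq η gW _ ⟨⊥, Ideal.isPrime_bot⟩ ⟨⊥, Ideal.isPrime_bot⟩ hbot,
    ← hy₀, eta_natural_apply] at h1
  have h2 := (η.eta (⊥ : Ideal W).ResidueField).injective h1
  let ι : L ≃ₐ[W] (⊥ : Ideal W).ResidueField := IsLocalization.algEquiv (nonZeroDivisors W) _ _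
  have hι : ∀ v : W, ι (v : L) = algebraMap W _ v := fun v => by simpa using ι.commutes v
  have hmap := resMap_bot_eq' (j.comp (algebraMap R (⊥ : Ideal R).ResidueField)) W gW hgW
    (ι : L →+* _) hι j (fun a => rfl) hbot
  have h3 : (w : L) = j y₀ := by
    apply ι.injective
    rw [hι, h2]
    show _ = ι (j y₀)
    rw [hmap]; rfl
  refine ⟨h3 ▸ w.2, ?_⟩
  intro r hr
  have hwr : w = gW r := by
    apply Subtype.ext
    rw [h3, hgW, hr]
  have h4 := congrFun hw ⟨IsLocalRing.maximalIdeal W, inferInstance⟩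
  rw [t_apply, Nmap_apply_of_eq η gW _ ⟨IsLocalRing.maximalIdeal W, inferInstance⟩ P hgWm.symm,
    hwr, ← Ideal.ResidueField.map_algebraMap P.asIdeal (IsLocalRing.maximalIdeal W) gW hgWm.symm,
    ← eta_natural_apply] at h4
  exact ((η.map _).injective h4).symm

theorem mem_M_of_Nmap_mem_M {A B : Type u} [CommRing A] [CommRing B] (f : A →+* B)
    (hf : f.IsIntegral) (hs : Function.Surjective (PrimeSpectrum.comap f)) (x : η.N A)
    (hx : η.Nmap f x ∈ η.M B) : x ∈ η.M A := by
  intro R _ _ _ hR g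
  obtain ⟨q₀, hq₀⟩ := hs (PrimeSpectrum.comap g ⟨⊥, Ideal.isPrime_bot⟩)
  have hq₀' : (PrimeSpectrum.comap g ⟨⊥, Ideal.isPrime_bot⟩).asIdeal = q₀.asIdeal.comap f := by
    rw [← hq₀]; rfl
  obtain ⟨L, _, _, θ, j, hθj⟩ := exists_common_overfield_perfect
    (Ideal.ResidueField.map _ q₀.asIdeal f hq₀')
    (Ideal.ResidueField.map (PrimeSpectrum.comap g ⟨⊥, Ideal.isPrime_bot⟩).asIdeal (⊥ : Ideal R) g rfl)
  let h : B →+* L := θ.comp (algebraMap B q₀.asIdeal.ResidueField)
  have hhf : h.comp f = (j.comp (algebraMap R (⊥ : Ideal R).ResidueField)).comp g := by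
    ext a
    simp only [h, RingHom.comp_apply]
    rw [← Ideal.ResidueField.map_algebraMap _ q₀.asIdeal f hq₀' a,
      ← Ideal.ResidueField.map_algebraMap
        (PrimeSpectrum.comap g ⟨⊥, Ideal.isPrime_bot⟩).asIdeal (⊥ : Ideal R) g rfl a]
    exact congrFun (congrArg DFunLike.coe hθj) _
  have hL := bijective_eta_of_perfectField η L
  have hbijK : Function.Bijective (η.eta (⊥ : Ideal R).ResidueField) :=
    bijective_eta_of_ringEquiv η (FractionRing.algEquiv R (⊥ : Ideal R).ResidueField).toRingEquiv hR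
  obtain ⟨y₀, hy₀⟩ := hbijK.2 (η.Nmap g x ⟨⊥, Ideal.isPrime_bot⟩)
  have hi : Function.Injective (j.comp (algebraMap R (⊥ : Ideal R).ResidueField)) :=
    j.injective.comp (IsFractionRing.injective R (⊥ : Ideal R).ResidueField)
  -- closed point: y₀ ∈ R
  obtain ⟨W₀, gW₀, hgW₀, hgWm₀⟩ := exists_val_dom' R L _ hi
    ⟨IsLocalRing.maximalIdeal R, inferInstance⟩
  have hd₀ := descend_at η hL f hf x hx g j h hhf y₀ hy₀ _ W₀ gW₀ hgW₀ hgWm₀
  obtain ⟨r, hr⟩ := mem_range_of_dominates j W₀ gW₀ hgW₀ hgWm₀ y₀ hd₀.1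
  refine ⟨r, ?_⟩
  funext P
  obtain ⟨W, gW, hgW, hgWm⟩ := exists_val_dom' R L _ hi P
  have hd := descend_at η hL f hf x hx g j h hhf y₀ hy₀ P W gW hgW hgWm
  rw [hd.2 r hr]
  rfl

/-- S13816 -/
theorem mem_M_iff_Nmap_mem_M {A B : Type u} [CommRing A] [CommRing B] (f : A →+* B)
    (hf : f.IsIntegral) (hs : Function.Surjective (PrimeSpectrum.comap f)) (x : η.N A) :
    x ∈ η.M A ↔ η.Nmap f x ∈ η.M B :=
  ⟨fun hx => Nmap_mem_M η f hx, mem_M_of_Nmap_mem_M η f hf hs x⟩

end EtaPtLib

end Groth.Agent.Lib.Helper70
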