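import Mathlib
import Groth.Agent.Lib.Helper70.EtaPtM

/-!
# More lemmas on `EtaPt` (helper70)
-/

universe u

namespace Groth.Agent.Lib.Helper70

open EtaPt

namespace EtaPtLib

variable (η : EtaPt.FieldEndo.{u})

theorem mem_rel_iff {A B : Type u} [CommRing A] [CommRing B] (f : A →+* B) (b : B) :
    b ∈ η.rel f ↔ ∃ x ∈ η.M A, η.Nmap f x = η.t B b := Iff.rfl

/-- S13819 -/
theorem range_le_rel_of_factor {A B' B : Type u} [CommRing A] [CommRing B'] [CommRing B]
    (f₁ : A →+* B') (f₂ : B' →+* B)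
    (h₁ : f₁.IsIntegral) (hN : Function.Bijective (η.Nmap f₁)) :
    f₂.range ≤ η.rel (f₂.comp f₁) := by
  rintro _ ⟨b', rfl⟩
  obtain ⟨x, hx, hxb⟩ := (bijOn_Nmap_M η f₁ h₁ hN).2.2 (η.t_mem_M B' b')
  refine ⟨x, hx, ?_⟩
  rw [Nmap_comp_apply, hxb, η.Nmap_t_apply]

theorem qRel_injective_iff {A B : Type u} [CommRing A] [CommRing B] (f : A →+* B) :
    Function.Injective (η.qRel f) ↔ Function.Injective f := by
  constructor
  · intro h a b hab
    exact h (Subtype.ext hab)
  · intro h a b hab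
    exact h (congrArg Subtype.val hab)

theorem qRel_surjective_iff {A B : Type u} [CommRing A] [CommRing B] (f : A →+* B) :
    Function.Surjective (η.qRel f) ↔ ∀ b ∈ η.rel f, ∃ a, f a = b := by
  constructor
  · intro h b hb
    obtain ⟨a, ha⟩ := h ⟨b, hb⟩
    exact ⟨a, congrArg Subtype.val ha⟩
  · rintro h ⟨b, hb⟩
    obtain ⟨a, ha⟩ := h b hb
    exact ⟨a, Subtype.ext ha⟩

/-- S13821 -/
theorem bijective_qRel_comp_and_of_injective {A B C : Type u} [CommRing A] [CommRing B] [CommRing C]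
    (f : A →+* B) (g : B →+* C)
    (hg : Function.Surjective (PrimeSpectrum.comap g)) :
    (Function.Bijective (η.qRel f) → Function.Bijective (η.qRel g) →
      Function.Bijective (η.qRel (g.comp f))) ∧
      (Function.Injective g → Function.Bijective (η.qRel (g.comp f)) →
        Function.Bijective (η.qRel f)) := by
  constructor
  · intro hf hg'
    refine ⟨(qRel_injective_iff η _).mpr ?_, (qRel_surjective_iff η _).mpr ?_⟩
    · exact ((qRel_injective_iff η g).mp hg'.1).comp ((qRel_injective_iff η f).mp hf.1)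
    · rintro c ⟨x, hx, hxc⟩
      rw [Nmap_comp_apply] at hxc
      obtain ⟨b, rfl⟩ := (qRel_surjective_iff η g).mp hg'.2 c ⟨_, Nmap_mem_M η f hx, hxc⟩
      rw [← η.Nmap_t_apply] at hxc
      have h2 := Nmap_injective_of_comap_surjective η g hg hxc
      obtain ⟨a, rfl⟩ := (qRel_surjective_iff η f).mp hf.2 b ⟨x, hx, h2⟩
      exact ⟨a, rfl⟩
  · intro hginj hgf
    refine ⟨(qRel_injective_iff η _).mpr ?_, (qRel_surjective_iff η _).mpr ?_⟩
    · exact Function.Injective.of_comp ((qRel_injective_iff η (g.comp f)).mp hgf.1)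
    · rintro b ⟨x, hx, hxb⟩
      obtain ⟨a, ha⟩ := (qRel_surjective_iff η (g.comp f)).mp hgf.2 (g b) ⟨x, hx, by
        rw [Nmap_comp_apply, hxb, η.Nmap_t_apply]⟩
      exact ⟨a, hginj ha⟩

end EtaPtLib

end Groth.Agent.Lib.Helper70
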