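import Mathlib
import Groth.Agent.Lib.Helper70.EtaPtN

/-!
# More lemmas on `EtaPt` (helper70)
-/

universe u

namespace Groth.Agent.Lib.Helper70

open EtaPt

namespace EtaPtLib

variable (η : EtaPt.FieldEndo.{u})

section relLift
variable {A B : Type u} [CommRing A] [CommRing B] (f : A →+* B)
  (hs : Function.Surjective (PrimeSpectrum.comap f))

/-- `θ : rel f → M A`, the unique lift with `N(f)(θ b) = t_B b`. -/
noncomputable def relLift : η.rel f →+* η.M A :=
  ((η.M A).equivMapOfInjective (η.Nmap f)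
    (Nmap_injective_of_comap_surjective η f hs)).symm.toRingHom.comp
    ((η.t B).restrict (η.rel f) ((η.M A).map (η.Nmap f)) (fun _ hb => hb))

theorem Nmap_relLift (b : η.rel f) : η.Nmap f (relLift η f hs b).1 = η.t B b := by
  have := ((η.M A).equivMapOfInjective (η.Nmap f)
    (Nmap_injective_of_comap_surjective η f hs)).apply_symm_apply
    ((η.t B).restrict (η.rel f) ((η.M A).map (η.Nmap f)) (fun _ hb => hb) b)
  exact congrArg Subtype.val this

theorem relLift_eq_iff (b : η.rel f) (x : η.M A) :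
    relLift η f hs b = x ↔ η.Nmap f x.1 = η.t B b := by
  constructor
  · rintro rfl; exact Nmap_relLift η f hs b
  · intro h
    apply Subtype.ext
    apply Nmap_injective_of_comap_surjective η f hs
    rw [Nmap_relLift, h]

theorem relLift_comp_qRel : (relLift η f hs).comp (η.qRel f) = η.q A := by
  ext1 a
  rw [RingHom.comp_apply, relLift_eq_iff]
  exact η.Nmap_t_apply f a

theorem isNilpotent_of_relLift_eq_zero (b : η.rel f) (hb : relLift η f hs b = 0) :
    IsNilpotent b := by
  have h1 := Nmap_relLift η f hs b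
  rw [hb] at h1
  have h2 : η.t B b = 0 := by rw [← h1]; exact map_zero _
  have h3 : IsNilpotent (b : B) := by
    rw [nilpotent_iff_mem_prime]
    intro J hJ
    have h4 := congrFun h2 ⟨J, hJ⟩
    rw [t_apply] at h4
    exact Ideal.algebraMap_residueField_eq_zero.mp
      ((map_eq_zero_iff _ (η.eta J.ResidueField).injective).mp h4)
  obtain ⟨n, hn⟩ := h3
  exact ⟨n, Subtype.ext (by simpa using hn)⟩

end relLift

section S13817
variable {A B : Type u} [CommRing A] [CommRing B] (hA : (minimalPrimes A).Finite) (f : A →+* B)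
  (hs : Function.Surjective (PrimeSpectrum.comap f))
include hA hs

theorem isIntegral_qRel : (η.qRel f).IsIntegral := by
  intro b
  obtain ⟨P, hPm, hP⟩ := isIntegral_q η A hA (relLift η f hs b)
  rw [← relLift_comp_qRel η f hs, ← Polynomial.hom_eval₂] at hP
  obtain ⟨m, hm⟩ := isNilpotent_of_relLift_eq_zero η f hs _ hP
  refine ⟨P ^ m, hPm.pow m, ?_⟩
  rw [Polynomial.eval₂_pow, hm]

theorem isIntegral_relLift : (relLift η f hs).IsIntegral := by
  apply RingHom.IsIntegral.tower_top (η.qRel f)
  rw [relLift_comp_qRel]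
  exact isIntegral_q η A hA

theorem comap_relLift_surjective :
    Function.Surjective (PrimeSpectrum.comap (relLift η f hs)) := by
  intro Q
  let _ := (relLift η f hs).toAlgebra
  have : Algebra.IsIntegral (η.rel f) (η.M A) := ⟨isIntegral_relLift η hA f hs⟩
  obtain ⟨Q', -, hQ'p, hQ'⟩ := Ideal.exists_ideal_over_prime_of_isIntegral Q.asIdeal
    (⊥ : Ideal (η.M A)) (by
      intro b hb
      rw [Ideal.mem_comap, Ideal.mem_bot] at hb
      have hnil := isNilpotent_of_relLift_eq_zero η f hs b hb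
      exact (nilpotent_iff_mem_prime.mp hnil) Q.asIdeal Q.isPrime)
  exact ⟨⟨Q', hQ'p⟩, PrimeSpectrum.ext hQ'⟩

theorem comap_qRel_bijective : Function.Bijective (PrimeSpectrum.comap (η.qRel f)) := by
  have hq := (comap_q_bijective_and_residue_factor η A hA).1
  have hcomp : ∀ Q', PrimeSpectrum.comap (η.qRel f) (PrimeSpectrum.comap (relLift η f hs) Q') =
      PrimeSpectrum.comap (η.q A) Q' := by
    intro Q'
    rw [← PrimeSpectrum.comap_comp_apply, relLift_comp_qRel]
  constructor
  · intro Q₁ Q₂ h12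
    obtain ⟨Q₁', rfl⟩ := comap_relLift_surjective η hA f hs Q₁
    obtain ⟨Q₂', rfl⟩ := comap_relLift_surjective η hA f hs Q₂
    rw [hcomp, hcomp] at h12
    rw [hq.1 h12]
  · intro P
    obtain ⟨Q', hQ'⟩ := hq.2 P
    exact ⟨PrimeSpectrum.comap (relLift η f hs) Q', by rw [hcomp, hQ']⟩

/-- S13817 -/
theorem isIntegral_qRel_and_comap_bijective :
    (η.qRel f).IsIntegral ∧ Function.Bijective (PrimeSpectrum.comap (η.qRel f)) :=
  ⟨isIntegral_qRel η hA f hs, comap_qRel_bijective η hA f hs⟩

end S13817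

theorem map_surjective_of_comp_eq_eta {k l : Type u} [Field k] [Field l] (ρ : k →+* l)
    (φ : l →+* η.obj k) (h : φ.comp ρ = η.eta k) : Function.Surjective (η.map ρ) := by
  intro y
  have h1 : (η.map φ).comp (η.map ρ) = η.map (η.eta k) := by
    rw [← η.map_comp, h]
  obtain ⟨x, hx⟩ := (η.bijective_map_eta k).2 (η.map φ y)
  refine ⟨x, (η.map φ).injective ?_⟩
  rw [← hx, ← h1]
  rfl

section S13818
variable {A B : Type u} [CommRing A] [CommRing B] (hA : (minimalPrimes A).Finite) (f : A →+* B)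
  (hs : Function.Surjective (PrimeSpectrum.comap f))
include hA hs

theorem eq_ker_evAt_comp_relLift (Q : PrimeSpectrum (η.rel f)) :
    Q.asIdeal = RingHom.ker ((evAt η A (PrimeSpectrum.comap (η.qRel f) Q)).comp
      (relLift η f hs)) := by
  obtain ⟨Q', rfl⟩ := comap_relLift_surjective η hA f hs Q
  have hP : PrimeSpectrum.comap (η.qRel f) (PrimeSpectrum.comap (relLift η f hs) Q') =
      PrimeSpectrum.comap (η.q A) Q' := by
    rw [← PrimeSpectrum.comap_comp_apply, relLift_comp_qRel]
  rw [hP, ← RingHom.comap_ker, ← eq_ker_evAt η hA Q']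
  rfl

theorem exists_residue_factor_qRel (Q : PrimeSpectrum (η.rel f)) :
    ∃ φ : Q.asIdeal.ResidueField →+* η.obj (PrimeSpectrum.comap (η.qRel f) Q).asIdeal.ResidueField,
      φ.comp (Ideal.ResidueField.map (PrimeSpectrum.comap (η.qRel f) Q).asIdeal Q.asIdeal
        (η.qRel f) rfl) = η.eta (PrimeSpectrum.comap (η.qRel f) Q).asIdeal.ResidueField := by
  have hQ := eq_ker_evAt_comp_relLift η hA f hs Q
  refine ⟨Ideal.ResidueField.lift Q.asIdeal
    ((evAt η A (PrimeSpectrum.comap (η.qRel f) Q)).comp (relLift η f hs)) hQ.le ?_, ?_⟩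
  · intro x hx
    simp only [Submonoid.mem_comap, IsUnit.mem_submonoid_iff]
    apply IsUnit.mk0
    intro h0
    apply hx
    show x ∈ Q.asIdeal
    rw [hQ]
    exact h0
  · apply Ideal.ResidueField.ringHom_ext
    ext a
    simp only [RingHom.comp_apply, Ideal.ResidueField.map_algebraMap,
      Ideal.ResidueField.lift_algebraMap]
    have : relLift η f hs (η.qRel f a) = η.q A a :=
      congrFun (congrArg DFunLike.coe (relLift_comp_qRel η f hs)) a
    rw [this]
    rfl

/-- S13818 -/
theorem qRel_residue_factor_and_bijective_Nmap :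
    (∀ Q : PrimeSpectrum (η.rel f),
        ∃ φ : Q.asIdeal.ResidueField →+* η.obj (PrimeSpectrum.comap (η.qRel f) Q).asIdeal.ResidueField,
          φ.comp (Ideal.ResidueField.map (PrimeSpectrum.comap (η.qRel f) Q).asIdeal Q.asIdeal
            (η.qRel f) rfl) = η.eta (PrimeSpectrum.comap (η.qRel f) Q).asIdeal.ResidueField) ∧
      Function.Bijective (η.Nmap (η.qRel f)) := by
  refine ⟨exists_residue_factor_qRel η hA f hs, ?_⟩
  apply Nmap_bijective_of_comap_bijective η _ (comap_qRel_bijective η hA f hs)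
  intro Q I _ h
  subst h
  obtain ⟨φ, hφ⟩ := exists_residue_factor_qRel η hA f hs Q
  exact map_surjective_of_comp_eq_eta η _ φ hφ

end S13818

/-- S13820 -/
theorem rel_integralClosure_map_eq_rel (A B : Type u) [CommRing A] [CommRing B] [Algebra A B]
    (hA : (minimalPrimes A).Finite)
    (hs : Function.Surjective (PrimeSpectrum.comap (algebraMap A B))) :
    (η.rel (algebraMap A (integralClosure A B))).map (integralClosure A B).val.toRingHom =
      η.rel (algebraMap A B) := by
  have hcomp : algebraMap A B =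
      ((integralClosure A B).val.toRingHom).comp (algebraMap A (integralClosure A B)) := rfl
  apply le_antisymm
  · rintro _ ⟨b', ⟨x, hx, hxb⟩, rfl⟩
    refine ⟨x, hx, ?_⟩
    rw [hcomp, Nmap_comp_apply, hxb, η.Nmap_t_apply]
  · rintro b ⟨x, hx, hxb⟩
    have hbint : IsIntegral A b := by
      obtain ⟨P, hPm, hP⟩ := isIntegral_qRel η hA (algebraMap A B) hs ⟨b, ⟨x, hx, hxb⟩⟩
      refine ⟨P, hPm, ?_⟩
      have h1 := congrArg ((η.rel (algebraMap A B)).subtype) hP
      rw [Polynomial.hom_eval₂, map_zero] at h1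
      exact h1
    refine ⟨⟨b, hbint⟩, ⟨x, hx, ?_⟩, rfl⟩
    rw [← sub_eq_zero]
    apply eq_zero_of_forall_minimalPrimes η _
      (Subring.sub_mem _ (Nmap_mem_M η _ hx) (η.t_mem_M _ _))
    intro 𝔮 h𝔮
    obtain ⟨𝔔, h𝔔p, h𝔔⟩ := Ideal.exists_comap_eq_of_mem_minimalPrimes_of_injective
      (f := (integralClosure A B).val.toRingHom) Subtype.val_injective 𝔮.asIdeal h𝔮
    have h2 : η.Nmap (integralClosure A B).val.toRingHom
        (η.Nmap (algebraMap A (integralClosure A B)) x - η.t (integralClosure A B) ⟨b, hbint⟩) = 0 := by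
      rw [map_sub, ← Nmap_comp_apply, ← hcomp, hxb, η.Nmap_t_apply, sub_eq_zero]
      rfl
    have h3 := congrFun h2 ⟨𝔔, h𝔔p⟩
    rw [Nmap_apply_of_eq η _ _ ⟨𝔔, h𝔔p⟩ 𝔮 h𝔔.symm] at h3
    exact (map_eq_zero_iff (η.map _) (η.map _).injective).mp h3

end EtaPtLib

end Groth.Agent.Lib.Helper70
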