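import Mathlib
import Groth.Agent.Lib.Helper70.EtaPtO

/-!
# More lemmas on `EtaPt` (helper70)
-/

universe u

namespace Groth.Agent.Lib.Helper70

open EtaPt

namespace EtaPtLib

variable (η : EtaPt.FieldEndo.{u})

theorem isNilpotent_of_q_eq_zero {B : Type u} [CommRing B] (c : B) (hc : η.q B c = 0) :
    IsNilpotent c := by
  have h2 : η.t B c = 0 := congrArg Subtype.val hc
  rw [nilpotent_iff_mem_prime]
  intro J hJ
  have h4 := congrFun h2 ⟨J, hJ⟩
  rw [t_apply] at h4
  exact Ideal.algebraMap_residueField_eq_zero.mp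
    ((map_eq_zero_iff _ (η.eta J.ResidueField).injective).mp h4)

section Mmap
variable {A B : Type u} [CommRing A] [CommRing B]
    (hA : (minimalPrimes A).Finite) (hB : (minimalPrimes B).Finite) (f : A →+* B)
    (g : η.M A →+* η.M B) (hg : ∀ x : η.M A, ((g x : η.M B) : η.N B) = η.Nmap f (x : η.N A))
include hg

theorem Mmap_comp_q : g.comp (η.q A) = (η.q B).comp f := by
  ext1 a
  apply Subtype.ext
  rw [RingHom.comp_apply, hg]
  exact η.Nmap_t_apply f a

include hA hB

/-- S19577 -/
theorem isIntegral_iff_and_comap_surjective_iff_of_Mmap :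
    (f.IsIntegral ↔ g.IsIntegral) ∧
      (Function.Surjective (PrimeSpectrum.comap f) ↔
        Function.Surjective (PrimeSpectrum.comap g)) := by
  have hcomp := Mmap_comp_q η f g hg
  have hqA := (comap_q_bijective_and_residue_factor η A hA).1
  have hqB := (comap_q_bijective_and_residue_factor η B hB).1
  have hsq : ∀ Q', PrimeSpectrum.comap f (PrimeSpectrum.comap (η.q B) Q') =
      PrimeSpectrum.comap (η.q A) (PrimeSpectrum.comap g Q') := by
    intro Q'
    rw [← PrimeSpectrum.comap_comp_apply, ← PrimeSpectrum.comap_comp_apply, hcomp]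
  refine ⟨⟨fun hf => ?_, fun hgi => ?_⟩, ⟨fun hf => ?_, fun hgs => ?_⟩⟩
  · apply RingHom.IsIntegral.tower_top (η.q A)
    rw [hcomp]
    exact RingHom.IsIntegral.trans _ _ hf (isIntegral_q η B hB)
  · intro b
    have h1 : (g.comp (η.q A)).IsIntegral :=
      RingHom.IsIntegral.trans _ _ (isIntegral_q η A hA) hgi
    rw [hcomp] at h1
    obtain ⟨P, hPm, hP⟩ := h1 (η.q B b)
    rw [← Polynomial.hom_eval₂] at hP
    obtain ⟨m, hm⟩ := isNilpotent_of_q_eq_zero η _ hP
    exact ⟨P ^ m, hPm.pow m, by rw [Polynomial.eval₂_pow, hm]⟩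
  · intro Q''
    obtain ⟨Q, hQ⟩ := hf (PrimeSpectrum.comap (η.q A) Q'')
    obtain ⟨Q', rfl⟩ := hqB.2 Q
    rw [hsq] at hQ
    exact ⟨Q', hqA.1 hQ⟩
  · intro P
    obtain ⟨Q'', rfl⟩ := hqA.2 P
    obtain ⟨Q', rfl⟩ := hgs Q''
    exact ⟨PrimeSpectrum.comap (η.q B) Q', hsq Q'⟩

/-- S19578 -/
theorem comap_bijective_and_residue_factor_of_Mmap_bijective (hbij : Function.Bijective g) :
    Function.Bijective (PrimeSpectrum.comap f) ∧
      ∀ Q : PrimeSpectrum B,
        ∃ φ : Q.asIdeal.ResidueField →+* η.obj (PrimeSpectrum.comap f Q).asIdeal.ResidueField,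
          φ.comp (Ideal.ResidueField.map (PrimeSpectrum.comap f Q).asIdeal Q.asIdeal f rfl) =
            η.eta (PrimeSpectrum.comap f Q).asIdeal.ResidueField := by
  have hcomp := Mmap_comp_q η f g hg
  have hqA := (comap_q_bijective_and_residue_factor η A hA).1
  have hqB := (comap_q_bijective_and_residue_factor η B hB).1
  have hsq : ∀ Q', PrimeSpectrum.comap f (PrimeSpectrum.comap (η.q B) Q') =
      PrimeSpectrum.comap (η.q A) (PrimeSpectrum.comap g Q') := by
    intro Q'
    rw [← PrimeSpectrum.comap_comp_apply, ← PrimeSpectrum.comap_comp_apply, hcomp]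
  let E : η.M A ≃+* η.M B := RingEquiv.ofBijective g hbij
  have hgb : Function.Bijective (PrimeSpectrum.comap g) := by
    have h1 : g.comp (E.symm : η.M B →+* η.M A) = RingHom.id _ := by
      ext1 x; exact E.apply_symm_apply x
    have h2 : (E.symm : η.M B →+* η.M A).comp g = RingHom.id _ := by
      ext1 x; exact E.symm_apply_apply x
    refine Function.bijective_iff_has_inverse.mpr
      ⟨PrimeSpectrum.comap (E.symm : η.M B →+* η.M A), fun Q' => ?_, fun Q' => ?_⟩
    · rw [← PrimeSpectrum.comap_comp_apply, h1]; rfl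
    · rw [← PrimeSpectrum.comap_comp_apply, h2]; rfl
  have hfinj : Function.Injective (PrimeSpectrum.comap f) := by
    intro Q₁ Q₂ h12
    obtain ⟨Q₁', rfl⟩ := hqB.2 Q₁
    obtain ⟨Q₂', rfl⟩ := hqB.2 Q₂
    rw [hsq, hsq] at h12
    rw [hgb.1 (hqA.1 h12)]
  refine ⟨⟨hfinj, ?_⟩, ?_⟩
  · intro P
    obtain ⟨Q'', rfl⟩ := hqA.2 P
    obtain ⟨Q', rfl⟩ := hgb.2 Q''
    exact ⟨PrimeSpectrum.comap (η.q B) Q', hsq Q'⟩
  · intro Q
    let ψ : B →+* η.obj (PrimeSpectrum.comap f Q).asIdeal.ResidueField :=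
      ((evAt η A (PrimeSpectrum.comap f Q)).comp (E.symm : η.M B →+* η.M A)).comp (η.q B)
    have hψf : ∀ a, ψ (f a) =
        η.eta _ (algebraMap A (PrimeSpectrum.comap f Q).asIdeal.ResidueField a) := by
      intro a
      show evAt η A _ (E.symm (η.q B (f a))) = _
      have h1 : η.q B (f a) = E (η.q A a) :=
        (congrFun (congrArg DFunLike.coe hcomp) a).symm
      rw [h1, E.symm_apply_apply]
      rfl
    have hQ : Q.asIdeal = RingHom.ker ψ := by
      have h1 : (⟨RingHom.ker ψ, RingHom.ker_isPrime ψ⟩ : PrimeSpectrum B) = Q := by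
        apply hfinj
        apply PrimeSpectrum.ext
        ext a
        show f a ∈ RingHom.ker ψ ↔ a ∈ (PrimeSpectrum.comap f Q).asIdeal
        rw [RingHom.mem_ker, hψf,
          map_eq_zero_iff (η.eta (PrimeSpectrum.comap f Q).asIdeal.ResidueField)
            (η.eta (PrimeSpectrum.comap f Q).asIdeal.ResidueField).injective,
          Ideal.algebraMap_residueField_eq_zero]
      exact (congrArg PrimeSpectrum.asIdeal h1).symm
    refine ⟨Ideal.ResidueField.lift Q.asIdeal ψ hQ.le ?_, ?_⟩
    · intro x hx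
      simp only [Submonoid.mem_comap, IsUnit.mem_submonoid_iff]
      apply IsUnit.mk0
      intro h0
      apply hx
      show x ∈ Q.asIdeal
      rw [hQ]
      exact h0
    · apply Ideal.ResidueField.ringHom_ext
      ext a
      simp only [RingHom.comp_apply, Ideal.ResidueField.map_algebraMap,
        Ideal.ResidueField.lift_algebraMap]
      exact hψf a

end Mmap

end EtaPtLib

end Groth.Agent.Lib.Helper70
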