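import Mathlib
import Groth.Agent.Lib.Helper70.EtaPtP

/-!
# More lemmas on `EtaPt` (helper70)
-/

universe u

namespace Groth.Agent.Lib.Helper70

open EtaPt

namespace EtaPtLib

variable (η : EtaPt.FieldEndo.{u})

theorem map_resMap_bijective_of_stalks {A B : Type u} [CommRing A] [CommRing B] (f : A →+* B)
    (hf : f.SurjectiveOnStalks) (q : PrimeSpectrum B) (I : Ideal A) [I.IsPrime]
    (h : I = q.asIdeal.comap f) :
    Function.Bijective (η.map (Ideal.ResidueField.map I q.asIdeal f h)) :=
  map_bijective_of_ringEquiv η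
    (RingEquiv.ofBijective _ (hf.residueFieldMap_bijective I q.asIdeal h))

theorem exists_factor_prod_of_isDomain {A B R : Type u} [CommRing A] [CommRing B] [CommRing R]
    [IsDomain R] (g : A × B →+* R) :
    (∃ g₁ : A →+* R, g = g₁.comp (RingHom.fst A B)) ∨
      (∃ g₂ : B →+* R, g = g₂.comp (RingHom.snd A B)) := by
  have he : g (1, 0) * g (0, 1) = 0 := by
    rw [← map_mul]
    have : ((1, 0) : A × B) * (0, 1) = 0 := by ext <;> simp
    rw [this, map_zero]
  have hsum : g (1, 0) + g (0, 1) = 1 := by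
    rw [← map_add]
    have : ((1, 0) : A × B) + (0, 1) = 1 := by ext <;> simp
    rw [this, map_one]
  rcases mul_eq_zero.mp he with h0 | h0
  · right
    have hker : RingHom.ker (RingHom.snd A B) ≤ RingHom.ker g := by
      rintro ⟨a, b⟩ hab
      rw [RingHom.mem_ker] at hab ⊢
      have hb : b = 0 := hab
      subst hb
      have : ((a, 0) : A × B) = (1, 0) * (a, 0) := by simp
      rw [this, map_mul, h0, zero_mul]
    refine ⟨(RingHom.snd A B).liftOfRightInverse (fun b => (0, b)) (fun b => rfl) ⟨g, hker⟩, ?_⟩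
    exact (RingHom.liftOfRightInverse_comp _ _ _ ⟨g, hker⟩).symm
  · left
    have hker : RingHom.ker (RingHom.fst A B) ≤ RingHom.ker g := by
      rintro ⟨a, b⟩ hab
      rw [RingHom.mem_ker] at hab ⊢
      have ha : a = 0 := hab
      subst ha
      have : ((0, b) : A × B) = (0, 1) * (0, b) := by simp
      rw [this, map_mul, h0, zero_mul]
    refine ⟨(RingHom.fst A B).liftOfRightInverse (fun a => (a, 0)) (fun a => rfl) ⟨g, hker⟩, ?_⟩
    exact (RingHom.liftOfRightInverse_comp _ _ _ ⟨g, hker⟩).symm

theorem prime_prod_cases {A B : Type u} [CommRing A] [CommRing B] (P : PrimeSpectrum (A × B)) :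
    (∃ p : PrimeSpectrum A, P.asIdeal = p.asIdeal.comap (RingHom.fst A B)) ∨
      (∃ q : PrimeSpectrum B, P.asIdeal = q.asIdeal.comap (RingHom.snd A B)) := by
  rcases (Ideal.ideal_prod_prime P.asIdeal).mp P.isPrime with ⟨p, hp, h⟩ | ⟨q, hq, h⟩
  · left
    refine ⟨⟨p, hp⟩, ?_⟩
    rw [h]
    ext ⟨a, b⟩
    simp
  · right
    refine ⟨⟨q, hq⟩, ?_⟩
    rw [h]
    ext ⟨a, b⟩
    simp

theorem not_fst_and_snd {A B : Type u} [CommRing A] [CommRing B] (P : PrimeSpectrum (A × B))
    (p : PrimeSpectrum A) (q : PrimeSpectrum B)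
    (h1 : P.asIdeal = p.asIdeal.comap (RingHom.fst A B))
    (h2 : P.asIdeal = q.asIdeal.comap (RingHom.snd A B)) : False := by
  have h3 : ((0, 1) : A × B) ∈ P.asIdeal := by
    rw [h1, Ideal.mem_comap]; exact p.asIdeal.zero_mem
  rw [h2, Ideal.mem_comap] at h3
  exact q.isPrime.ne_top ((Ideal.eq_top_iff_one _).mpr h3)

/-- S13810 -/
theorem bijOn_M_prod (A B : Type u) [CommRing A] [CommRing B] :
    Set.BijOn (fun x : η.N (A × B) => (η.Nmap (RingHom.fst A B) x, η.Nmap (RingHom.snd A B) x))
      (η.M (A × B)) ((η.M A : Set (η.N A)) ×ˢ (η.M B : Set (η.N B))) := by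
  have hfst := RingHom.surjectiveOnStalks_of_surjective (f := RingHom.fst A B) Prod.fst_surjective
  have hsnd := RingHom.surjectiveOnStalks_of_surjective (f := RingHom.snd A B) Prod.snd_surjective
  refine ⟨fun x hx => ⟨Nmap_mem_M η _ hx, Nmap_mem_M η _ hx⟩, ?_, ?_⟩
  · intro x _ x' _ hxx'
    simp only [Prod.mk.injEq] at hxx'
    funext P
    rcases prime_prod_cases P with ⟨p, hp⟩ | ⟨q, hq⟩
    · have h1 := congrFun hxx'.1 p
      rw [Nmap_apply_of_eq η _ x p P hp, Nmap_apply_of_eq η _ x' p P hp] at h1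
      exact (η.map _).injective h1
    · have h1 := congrFun hxx'.2 q
      rw [Nmap_apply_of_eq η _ x q P hq, Nmap_apply_of_eq η _ x' q P hq] at h1
      exact (η.map _).injective h1
  · rintro ⟨a, b⟩ ⟨ha, hb⟩
    have hex : ∀ P : PrimeSpectrum (A × B), ∃ xP : η.obj P.asIdeal.ResidueField,
        (∀ (p : PrimeSpectrum A) (h : P.asIdeal = p.asIdeal.comap (RingHom.fst A B)),
          η.map (Ideal.ResidueField.map P.asIdeal p.asIdeal _ h) xP = a p) ∧
        (∀ (q : PrimeSpectrum B) (h : P.asIdeal = q.asIdeal.comap (RingHom.snd A B)),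
          η.map (Ideal.ResidueField.map P.asIdeal q.asIdeal _ h) xP = b q) := by
      intro P
      rcases prime_prod_cases P with ⟨p, hp⟩ | ⟨q, hq⟩
      · obtain ⟨xP, hxP⟩ := (map_resMap_bijective_of_stalks η _ hfst p P.asIdeal hp).2 (a p)
        refine ⟨xP, fun p' h' => ?_, fun q' h' => (not_fst_and_snd P p q' hp h').elim⟩
        have : p' = p := PrimeSpectrum.comap_injective_of_surjective _ Prod.fst_surjective
          (PrimeSpectrum.ext (by
            show p'.asIdeal.comap (RingHom.fst A B) = p.asIdeal.comap (RingHom.fst A B)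
            rw [← h', hp]))
        subst this
        exact hxP
      · obtain ⟨xP, hxP⟩ := (map_resMap_bijective_of_stalks η _ hsnd q P.asIdeal hq).2 (b q)
        refine ⟨xP, fun p' h' => (not_fst_and_snd P p' q h' hq).elim, fun q' h' => ?_⟩
        have : q' = q := PrimeSpectrum.comap_injective_of_surjective _ Prod.snd_surjective
          (PrimeSpectrum.ext (by
            show q'.asIdeal.comap (RingHom.snd A B) = q.asIdeal.comap (RingHom.snd A B)
            rw [← h', hq]))
        subst this
        exact hxP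
    choose x hx1 hx2 using hex
    have hxa : η.Nmap (RingHom.fst A B) x = a :=
      funext fun p => hx1 (PrimeSpectrum.comap (RingHom.fst A B) p) p rfl
    have hxb : η.Nmap (RingHom.snd A B) x = b :=
      funext fun q => hx2 (PrimeSpectrum.comap (RingHom.snd A B) q) q rfl
    refine ⟨x, ?_, by simp only [hxa, hxb]⟩
    intro R _ _ _ hR g
    rcases exists_factor_prod_of_isDomain g with ⟨g₁, rfl⟩ | ⟨g₂, rfl⟩
    · rw [Nmap_comp_apply, hxa]
      exact ha R hR g₁
    · rw [Nmap_comp_apply, hxb]
      exact hb R hR g₂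

theorem Nmap_surjective_of_comap_injective {A B : Type u} [CommRing A] [CommRing B] (f : A →+* B)
    (hinj : Function.Injective (PrimeSpectrum.comap f))
    (hF : ∀ (q : PrimeSpectrum B) (I : Ideal A) [I.IsPrime] (h : I = q.asIdeal.comap f),
      Function.Surjective (η.map (Ideal.ResidueField.map I q.asIdeal f h))) :
    Function.Surjective (η.Nmap f) := by
  intro y
  have : ∀ p : PrimeSpectrum A, ∃ xp : η.obj p.asIdeal.ResidueField,
      ∀ (q : PrimeSpectrum B) (h : p.asIdeal = q.asIdeal.comap f),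
        η.map (Ideal.ResidueField.map p.asIdeal q.asIdeal f h) xp = y q := by
    intro p
    by_cases hp : ∃ q₀ : PrimeSpectrum B, p.asIdeal = q₀.asIdeal.comap f
    · obtain ⟨q₀, h₀⟩ := hp
      obtain ⟨xp, hxp⟩ := hF q₀ p.asIdeal h₀ (y q₀)
      refine ⟨xp, fun q h => ?_⟩
      have hq : q = q₀ := hinj (PrimeSpectrum.ext (by
        show q.asIdeal.comap f = q₀.asIdeal.comap f
        rw [← h, h₀]))
      subst hq
      exact hxp
    · exact ⟨0, fun q h => (hp ⟨q, h⟩).elim⟩
  choose x hx using this
  exact ⟨x, funext fun q => hx (PrimeSpectrum.comap f q) q rfl⟩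

/-- S13824 -/
theorem Nmap_away_isLocalization (A : Type u) [CommRing A] (f : A) :
    (∀ y : η.N (Localization.Away f), ∃ (x : η.N A) (n : ℕ),
        y * η.t (Localization.Away f) (algebraMap A (Localization.Away f) f) ^ n =
          η.Nmap (algebraMap A (Localization.Away f)) x) ∧
      ∀ x : η.N A, η.Nmap (algebraMap A (Localization.Away f)) x = 0 →
        ∃ n : ℕ, η.t A f ^ n * x = 0 := by
  have hst : (algebraMap A (Localization.Away f)).SurjectiveOnStalks :=
    RingHom.surjectiveOnStalks_of_isLocalization (Submonoid.powers f) _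
  constructor
  · intro y
    obtain ⟨x, hx⟩ := Nmap_surjective_of_comap_injective η (algebraMap A (Localization.Away f))
      (PrimeSpectrum.localization_comap_injective _ (Submonoid.powers f))
      (fun q I _ h => (map_resMap_bijective_of_stalks η _ hst q I h).2) y
    exact ⟨x, 0, by rw [pow_zero, mul_one, hx]⟩
  · intro x hx
    refine ⟨1, ?_⟩
    funext p
    rw [pow_one]
    show η.t A f p * x p = 0
    by_cases hfp : f ∈ p.asIdeal
    · rw [t_apply, Ideal.algebraMap_residueField_eq_zero.mpr hfp, map_zero, zero_mul]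
    · have hp : p ∈ Set.range (PrimeSpectrum.comap (algebraMap A (Localization.Away f))) := by
        rw [PrimeSpectrum.localization_away_comap_range (Localization.Away f) f]
        exact hfp
      obtain ⟨q, hq⟩ := hp
      have h1 := congrFun hx q
      rw [Nmap_apply] at h1
      have h2 := (map_eq_zero_iff (η.map _) (η.map _).injective).mp h1
      rw [eq_zero_of_eq η x _ p hq.symm h2, mul_zero]

end EtaPtLib

end Groth.Agent.Lib.Helper70
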