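import Mathlib
import Groth.Agent.Lib.Helper70.EtaPtQ

/-!
# More lemmas on `EtaPt` (helper70)
-/

universe u

namespace Groth.Agent.Lib.Helper70

open EtaPt

namespace EtaPtLib

variable (η : EtaPt.FieldEndo.{u})

/-- S13828 -/
theorem bijective_qRel_of_pullback_square {A A' B B' : Type u} [CommRing A] [CommRing A']
    [CommRing B] [CommRing B']
    (j : A →+* B) (f : A →+* A') (g : B →+* B') (j' : A' →+* B') (hcomm : j'.comp f = g.comp j)
    (hcart : ∀ (a' : A') (b : B), j' a' = g b → ∃! a : A, f a = a' ∧ j a = b)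
    (h : Function.Bijective (η.qRel j')) : Function.Bijective (η.qRel j) := by
  have hj'inj : Function.Injective j' := (qRel_injective_iff η j').mp h.1
  refine ⟨(qRel_injective_iff η j).mpr ?_, (qRel_surjective_iff η j).mpr ?_⟩
  · rw [injective_iff_map_eq_zero]
    intro a ha
    have h1 : j' (f a) = 0 := by
      have := congrFun (congrArg DFunLike.coe hcomm) a
      simp only [RingHom.comp_apply] at this
      rw [this, ha, map_zero]
    have h2 : f a = 0 := by
      apply hj'inj; rw [h1, map_zero]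
    obtain ⟨a₀, -, huniq⟩ := hcart 0 0 (by rw [map_zero, map_zero])
    rw [huniq a ⟨h2, ha⟩, huniq 0 ⟨map_zero f, map_zero j⟩]
  · rintro b ⟨x, hx, hxb⟩
    have h1 : g b ∈ η.rel j' := by
      refine ⟨η.Nmap f x, Nmap_mem_M η f hx, ?_⟩
      rw [← Nmap_comp_apply, hcomm, Nmap_comp_apply, hxb, η.Nmap_t_apply]
    obtain ⟨a', ha'⟩ := (qRel_surjective_iff η j').mp h.2 (g b) h1
    obtain ⟨a, ⟨-, ha⟩, -⟩ := hcart a' b ha'
    exact ⟨a, ha⟩

open scoped TensorProduct in
/-- S13822 -/
theorem bijective_qRel_of_faithfullyFlat_baseChange (A A' B : Type u) [CommRing A] [CommRing A']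
    [CommRing B] [Algebra A A'] [Algebra A B] [Module.FaithfullyFlat A A']
    (h : Function.Bijective
      (η.qRel (Algebra.TensorProduct.includeLeftRingHom : A' →+* A' ⊗[A] B))) :
    Function.Bijective (η.qRel (algebraMap A B)) := by
  have hinj' : Function.Injective
      (Algebra.TensorProduct.includeLeftRingHom : A' →+* A' ⊗[A] B) :=
    (qRel_injective_iff η _).mp h.1
  have hcomp : (Algebra.TensorProduct.includeLeftRingHom : A' →+* A' ⊗[A] B).comp
      (algebraMap A A') = (Algebra.TensorProduct.includeRight : B →ₐ[A] A' ⊗[A] B).toRingHom.comp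
      (algebraMap A B) := Algebra.TensorProduct.includeLeftRingHom_comp_algebraMap
  refine ⟨(qRel_injective_iff η _).mpr ?_, (qRel_surjective_iff η _).mpr ?_⟩
  · rw [injective_iff_map_eq_zero]
    intro a ha
    apply FaithfulSMul.algebraMap_injective A A'
    apply hinj'
    have h1 := congrFun (congrArg DFunLike.coe hcomp) a
    simp only [RingHom.comp_apply] at h1
    rw [h1, ha, map_zero, map_zero, map_zero]
  · rintro b ⟨x, hx, hxb⟩
    have h1 : (1 : A') ⊗ₜ[A] b ∈
        η.rel (Algebra.TensorProduct.includeLeftRingHom : A' →+* A' ⊗[A] B) := by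
      refine ⟨η.Nmap (algebraMap A A') x, Nmap_mem_M η _ hx, ?_⟩
      rw [← Nmap_comp_apply, hcomp, Nmap_comp_apply, hxb, η.Nmap_t_apply]
      rfl
    obtain ⟨a', ha'⟩ := (qRel_surjective_iff η _).mp h.2 _ h1
    have ha'' : a' ⊗ₜ[A] (1 : B) = (1 : A') ⊗ₜ[A] b := ha'
    -- descent
    let π := (LinearMap.range (Algebra.linearMap A B)).mkQ
    have h2 : (1 : A') ⊗ₜ[A] (π b) = 0 := by
      have h3 := congrArg (LinearMap.lTensor A' π) ha''
      simp only [LinearMap.lTensor_tmul] at h3
      rw [← h3]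
      have : π (1 : B) = 0 := by
        rw [Submodule.mkQ_apply, Submodule.Quotient.mk_eq_zero]
        exact ⟨1, by simp⟩
      rw [this, TensorProduct.tmul_zero]
    have h4 := (Module.FaithfullyFlat.one_tmul_eq_zero_iff A _ (A := A') (π b)).mp h2
    rw [Submodule.mkQ_apply, Submodule.Quotient.mk_eq_zero] at h4
    obtain ⟨a, ha⟩ := h4
    exact ⟨a, ha⟩

end EtaPtLib

end Groth.Agent.Lib.Helper70
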