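import Mathlib
import Groth.Agent.Lib.Helper70.EtaPtR

/-!
# More lemmas on `EtaPt` (helper70)
-/

universe u

namespace Groth.Agent.Lib.Helper70

open EtaPt

namespace EtaPtLib

variable (η : EtaPt.FieldEndo.{u})

theorem finite_minimalPrimes_away {A : Type u} [CommRing A] (hA : (minimalPrimes A).Finite) (f : A) :
    (minimalPrimes (Localization.Away f)).Finite := by
  have h1 := IsLocalization.minimalPrimes_map (Submonoid.powers f) (Localization.Away f)
    (⊥ : Ideal A)
  rw [Ideal.map_bot] at h1
  show ((⊥ : Ideal (Localization.Away f)).minimalPrimes).Finite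
  rw [h1]
  apply Set.Finite.preimage _ hA
  intro I _ J _ hIJ
  rw [← IsLocalization.map_under (Submonoid.powers f) (Localization.Away f) I,
    ← IsLocalization.map_under (Submonoid.powers f) (Localization.Away f) J]
  exact congrArg _ hIJ

/-- an element of `M(A_f)` times a power of `f` is integral over `A` (inside `N(A_f)`). -/
theorem exists_pow_mul_isIntegralElem {A : Type u} [CommRing A] (hA : (minimalPrimes A).Finite)
    (f : A) (y : η.N (Localization.Away f)) (hy : y ∈ η.M (Localization.Away f)) :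
    ∃ n : ℕ, ((η.t (Localization.Away f)).comp (algebraMap A (Localization.Away f))).IsIntegralElem
      (η.t (Localization.Away f) (algebraMap A (Localization.Away f) f) ^ n * y) := by
  obtain ⟨Q, hQm, hQ⟩ := isIntegral_q η _ (finite_minimalPrimes_away hA f) ⟨y, hy⟩
  have hQ' : Polynomial.eval₂ (η.t (Localization.Away f)) y Q = 0 := by
    have h1 := congrArg (η.M (Localization.Away f)).subtype hQ
    rw [Polynomial.hom_eval₂, map_zero] at h1
    exact h1
  let _ : Algebra (Localization.Away f) (η.N (Localization.Away f)) :=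
    (η.t (Localization.Away f)).toAlgebra
  let _ : Algebra A (η.N (Localization.Away f)) :=
    ((η.t (Localization.Away f)).comp (algebraMap A (Localization.Away f))).toAlgebra
  have : IsScalarTower A (Localization.Away f) (η.N (Localization.Away f)) :=
    .of_algebraMap_eq fun _ => rfl
  have hyint : IsIntegral (Localization.Away f) y := ⟨Q, hQm, hQ'⟩
  obtain ⟨⟨m, n, rfl⟩, hm⟩ :=
    IsIntegral.exists_multiple_integral_of_isLocalization (Submonoid.powers f) y hyint
  refine ⟨n, ?_⟩
  have : (⟨(fun x => f ^ x) n, ⟨n, rfl⟩⟩ : Submonoid.powers f) • y =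
      η.t (Localization.Away f) (algebraMap A (Localization.Away f) f) ^ n * y := by
    rw [Submonoid.smul_def, Algebra.smul_def]
    show η.t _ (algebraMap A _ (f ^ n)) * y = _
    rw [map_pow, map_pow]
  rw [this] at hm
  exact hm

/-- generic point comparison for a valuation subring `W` of `L ⊇ Frac R` containing `R`. -/
theorem generic_eq_of_t_eq_Nmap {R L : Type u} [CommRing R] [IsDomain R] [Field L]
    (j : (⊥ : Ideal R).ResidueField →+* L) (W : ValuationSubring L) (gW : R →+* W)
    (hgW : ∀ r, (gW r : L) = j (algebraMap R (⊥ : Ideal R).ResidueField r))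
    (Y : η.N R) (w : W) (hw : η.t W w = η.Nmap gW Y)
    (u : (⊥ : Ideal R).ResidueField) (hu : η.eta _ u = Y ⟨⊥, Ideal.isPrime_bot⟩) :
    (w : L) = j u := by
  have hi : Function.Injective (j.comp (algebraMap R (⊥ : Ideal R).ResidueField)) :=
    j.injective.comp (IsFractionRing.injective R (⊥ : Ideal R).ResidueField)
  have hgWinj : Function.Injective gW := by
    intro a b hab
    apply hi
    simp only [RingHom.comp_apply]
    rw [← hgW, ← hgW, hab]
  have hbot := bot_eq_comap_bot gW hgWinj
  have h1 := congrFun hw ⟨⊥, Ideal.isPrime_bot⟩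
  rw [t_apply, Nmap_apply_of_eq η gW _ ⟨⊥, Ideal.isPrime_bot⟩ ⟨⊥, Ideal.isPrime_bot⟩ hbot,
    ← hu, eta_natural_apply] at h1
  have h2 := (η.eta (⊥ : Ideal W).ResidueField).injective h1
  let ι : L ≃ₐ[W] (⊥ : Ideal W).ResidueField := IsLocalization.algEquiv (nonZeroDivisors W) _ _
  have hι : ∀ v : W, ι (v : L) = algebraMap W _ v := fun v => by simpa using ι.commutes v
  have hmap := resMap_bot_eq' (j.comp (algebraMap R (⊥ : Ideal R).ResidueField)) W gW hgW
    (ι : L →+* _) hι j (fun a => rfl) hbot
  apply ι.injective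
  rw [hι, h2]
  show _ = ι (j u)
  rw [hmap]; rfl

theorem closed_eq_of_t_eq_Nmap {R L : Type u} [CommRing R] [Field L]
    (W : ValuationSubring L) (gW : R →+* W) (P : PrimeSpectrum R)
    (hgWm : (IsLocalRing.maximalIdeal W).comap gW = P.asIdeal)
    (Y : η.N R) (w : W) (hw : η.t W w = η.Nmap gW Y) :
    η.map (Ideal.ResidueField.map P.asIdeal (IsLocalRing.maximalIdeal W) gW hgWm.symm) (Y P) =
      η.eta _ (algebraMap W (IsLocalRing.maximalIdeal W).ResidueField w) := by
  have h4 := congrFun hw ⟨IsLocalRing.maximalIdeal W, inferInstance⟩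
  rw [t_apply, Nmap_apply_of_eq η gW _ ⟨IsLocalRing.maximalIdeal W, inferInstance⟩ P hgWm.symm] at h4
  exact h4.symm

theorem away_test {A R : Type u} [CommRing A] [CommRing R] [IsDomain R] (f : A)
    (x₀ : η.N A)
    (hy : η.Nmap (algebraMap A (Localization.Away f)) x₀ ∈ η.M (Localization.Away f))
    (g : A →+* R) (hK : Function.Bijective (η.eta (⊥ : Ideal R).ResidueField))
    (u : (⊥ : Ideal R).ResidueField) (hu : η.eta _ u = η.Nmap g x₀ ⟨⊥, Ideal.isPrime_bot⟩)
    (P : PrimeSpectrum R) (hgf : g f ∉ P.asIdeal) :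
    ∃ (W : ValuationSubring (⊥ : Ideal R).ResidueField) (gW : R →+* W)
      (gAf : Localization.Away f →+* W) (w : W),
      (∀ r, (gW r : (⊥ : Ideal R).ResidueField) = algebraMap R _ r) ∧
      (IsLocalRing.maximalIdeal W).comap gW = P.asIdeal ∧
      gAf.comp (algebraMap A (Localization.Away f)) = gW.comp g ∧
      η.t W w = η.Nmap gAf (η.Nmap (algebraMap A (Localization.Away f)) x₀) ∧
      η.t W w = η.Nmap gW (η.Nmap g x₀) ∧
      (w : (⊥ : Ideal R).ResidueField) = u := by
  obtain ⟨W, gW, hgW, hgWm⟩ := exists_val_dom' R (⊥ : Ideal R).ResidueField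
    (algebraMap R (⊥ : Ideal R).ResidueField) (IsFractionRing.injective R _) P
  have hunit : IsUnit ((gW.comp g) f) := by
    rw [← IsLocalRing.notMem_maximalIdeal]
    intro hmem
    apply hgf
    rw [← hgWm]
    exact hmem
  let gAf : Localization.Away f →+* W := IsLocalization.Away.lift f hunit
  have hgAf : gAf.comp (algebraMap A (Localization.Away f)) = gW.comp g :=
    IsLocalization.Away.lift_comp f hunit
  obtain ⟨w, hw⟩ := hy W (inV_of_isFractionRing η W _ hK) gAf
  have hw' : η.t W w = η.Nmap gW (η.Nmap g x₀) := by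
    rw [hw, ← Nmap_comp_apply, hgAf, Nmap_comp_apply]
  refine ⟨W, gW, gAf, w, hgW, hgWm, hgAf, hw, hw', ?_⟩
  exact generic_eq_of_t_eq_Nmap η (RingHom.id _) W gW hgW _ w hw' u hu

theorem mem_M_of_Nmap_away_mem_M {A : Type u} [CommRing A] (hA : (minimalPrimes A).Finite) (f : A)
    (x₀ : η.N A)
    (hy : η.Nmap (algebraMap A (Localization.Away f)) x₀ ∈ η.M (Localization.Away f)) :
    ∃ n : ℕ, η.t A f ^ n * x₀ ∈ η.M A := by
  obtain ⟨n, P', hPm, hP⟩ := exists_pow_mul_isIntegralElem η hA f _ hy
  refine ⟨n + 1, ?_⟩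
  intro R _ _ _ hR g
  have hK : Function.Bijective (η.eta (⊥ : Ideal R).ResidueField) :=
    bijective_eta_of_ringEquiv η (FractionRing.algEquiv R (⊥ : Ideal R).ResidueField).toRingEquiv hR
  obtain ⟨u, hu⟩ := hK.2 (η.Nmap g x₀ ⟨⊥, Ideal.isPrime_bot⟩)
  by_cases hgf0 : g f = 0
  · refine ⟨0, ?_⟩
    rw [map_mul, map_pow, η.Nmap_t_apply, hgf0, map_zero, zero_pow (Nat.succ_ne_zero n), zero_mul]
  · -- integrality of `(g f)^n * u`
    have hv : IsIntegral R (algebraMap R (⊥ : Ideal R).ResidueField (g f) ^ n * u) := by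
      obtain ⟨W, gW, gAf, w, hgW, hgWm, hgAf, hw, hw', hwu⟩ :=
        away_test η f x₀ hy g hK u hu ⟨⊥, Ideal.isPrime_bot⟩ hgf0
      have h1 := congrArg (η.Nmap gAf) hP
      rw [Polynomial.hom_eval₂, map_zero] at h1
      have hcomp : (η.Nmap gAf).comp ((η.t (Localization.Away f)).comp
          (algebraMap A (Localization.Away f))) = (η.t W).comp (gW.comp g) := by
        ext1 a
        simp only [RingHom.comp_apply]
        rw [η.Nmap_t_apply]
        congr 1
        exact congrFun (congrArg DFunLike.coe hgAf) a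
      have hval : η.Nmap gAf (η.t (Localization.Away f) (algebraMap A (Localization.Away f) f) ^ n *
          η.Nmap (algebraMap A (Localization.Away f)) x₀) = η.t W (gW (g f) ^ n * w) := by
        rw [map_mul, map_pow, η.Nmap_t_apply, ← hw, map_mul, map_pow]
        congr 3
        exact congrFun (congrArg DFunLike.coe hgAf) f
      rw [hcomp, hval, ← Polynomial.hom_eval₂] at h1
      have h2 := t_injective_of_isReduced η W (h1.trans (map_zero _).symm)
      have h3 := congrArg W.subtype h2
      rw [Polynomial.hom_eval₂, map_zero] at h3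
      refine ⟨P'.map g, hPm.map g, ?_⟩
      rw [Polynomial.eval₂_map]
      have h4 : W.subtype.comp (gW.comp g) =
          (algebraMap R (⊥ : Ideal R).ResidueField).comp g := by
        ext1 a
        exact hgW (g a)
      have h5 : W.subtype (gW (g f) ^ n * w) =
          algebraMap R (⊥ : Ideal R).ResidueField (g f) ^ n * u := by
        rw [map_mul, map_pow]
        show (gW (g f) : (⊥ : Ideal R).ResidueField) ^ n * (w : (⊥ : Ideal R).ResidueField) = _
        rw [hgW, hwu]
      rw [h4, h5] at h3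
      exact h3
    obtain ⟨v₀, hv₀⟩ := IsIntegrallyClosed.algebraMap_eq_of_integral hv
    refine ⟨g f * v₀, ?_⟩
    have hN : η.Nmap g (η.t A f ^ (n + 1) * x₀) = η.t R (g f) ^ (n + 1) * η.Nmap g x₀ := by
      rw [map_mul, map_pow, η.Nmap_t_apply]
    rw [hN]
    funext P
    show η.t R (g f * v₀) P = (η.t R (g f) P) ^ (n + 1) * η.Nmap g x₀ P
    by_cases hP' : g f ∈ P.asIdeal
    · have h0 : algebraMap R P.asIdeal.ResidueField (g f) = 0 :=
        Ideal.algebraMap_residueField_eq_zero.mpr hP'
      rw [t_apply, t_apply, map_mul, h0, zero_mul, map_zero, zero_pow (Nat.succ_ne_zero n), zero_mul]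
    · obtain ⟨W, gW, gAf, w, hgW, hgWm, hgAf, hw, hw', hwu⟩ :=
        away_test η f x₀ hy g hK u hu P hP'
      have hc := closed_eq_of_t_eq_Nmap η W gW P hgWm _ w hw'
      apply (η.map (Ideal.ResidueField.map P.asIdeal (IsLocalRing.maximalIdeal W) gW
        hgWm.symm)).injective
      have hT : ∀ r : R, η.map (Ideal.ResidueField.map P.asIdeal (IsLocalRing.maximalIdeal W) gW
          hgWm.symm) (η.t R r P) =
          η.eta _ (algebraMap W (IsLocalRing.maximalIdeal W).ResidueField (gW r)) := by
        intro r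
        rw [t_apply, eta_natural_apply, Ideal.ResidueField.map_algebraMap]
      rw [hT, map_mul (η.map _) (η.t R (g f) P ^ (n + 1)), map_pow (η.map _) (η.t R (g f) P), hT, hc,
        ← map_pow, ← map_mul, ← map_pow, ← map_mul]
      congr 2
      apply Subtype.ext
      show (gW (g f * v₀) : (⊥ : Ideal R).ResidueField) =
        (gW (g f) : (⊥ : Ideal R).ResidueField) ^ (n + 1) * (w : (⊥ : Ideal R).ResidueField)
      rw [hgW, hgW, hwu, map_mul, hv₀]
      ring

/-- S13825 -/
theorem M_away_isLocalization (A : Type u) [CommRing A] (hA : (minimalPrimes A).Finite) (f : A) :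
    (∀ y ∈ η.M (Localization.Away f), ∃ x ∈ η.M A, ∃ n : ℕ,
        y * η.t (Localization.Away f) (algebraMap A (Localization.Away f) f) ^ n =
          η.Nmap (algebraMap A (Localization.Away f)) x) ∧
      ∀ x ∈ η.M A, η.Nmap (algebraMap A (Localization.Away f)) x = 0 →
        ∃ n : ℕ, η.t A f ^ n * x = 0 := by
  refine ⟨fun y hy => ?_, fun x _ hx => (Nmap_away_isLocalization η A f).2 x hx⟩
  obtain ⟨x₀, n₀, hx₀⟩ := (Nmap_away_isLocalization η A f).1 y
  -- absorb `n₀`
  have hy' : η.Nmap (algebraMap A (Localization.Away f)) x₀ ∈ η.M (Localization.Away f) := by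
    rw [← hx₀]
    exact Subring.mul_mem _ hy (Subring.pow_mem _ (η.t_mem_M _ _) _)
  obtain ⟨n, hn⟩ := mem_M_of_Nmap_away_mem_M η hA f x₀ hy'
  refine ⟨_, hn, n₀ + n, ?_⟩
  rw [map_mul, map_pow, η.Nmap_t_apply, ← hx₀, pow_add]
  ring

end EtaPtLib

end Groth.Agent.Lib.Helper70
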