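import Mathlib
import Groth.Agent.Lib.Helper70.EtaPtS

/-!
# More lemmas on `EtaPt` (helper70)
-/

universe u

namespace Groth.Agent.Lib.Helper70

open EtaPt

namespace EtaPtLib

variable (η : EtaPt.FieldEndo.{u})

theorem awayMap_comp_algebraMap {A B : Type u} [CommRing A] [CommRing B] (φ : A →+* B) (f : A) :
    (Localization.awayMap φ f).comp (algebraMap A (Localization.Away f)) =
      (algebraMap B (Localization.Away (φ f))).comp φ :=
  IsLocalization.map_comp _

/-- S13829 -/
theorem rel_away_isLocalization {A B : Type u} [CommRing A] [CommRing B]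
    (hA : (minimalPrimes A).Finite) (φ : A →+* B) (f : A) :
    (η.rel φ).map (algebraMap B (Localization.Away (φ f))) ≤ η.rel (Localization.awayMap φ f) ∧
      ∀ y ∈ η.rel (Localization.awayMap φ f), ∃ x ∈ η.rel φ, ∃ n : ℕ,
        y * algebraMap B (Localization.Away (φ f)) (φ f) ^ n =
          algebraMap B (Localization.Away (φ f)) x := by
  have hcomp := awayMap_comp_algebraMap φ f
  constructor
  · rintro _ ⟨b, ⟨x, hx, hxb⟩, rfl⟩
    refine ⟨η.Nmap (algebraMap A (Localization.Away f)) x, Nmap_mem_M η _ hx, ?_⟩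
    rw [← Nmap_comp_apply, hcomp, Nmap_comp_apply, hxb, η.Nmap_t_apply]
  · rintro y ⟨z, hz, hzy⟩
    obtain ⟨x, hx, n, hxz⟩ := (M_away_isLocalization η A hA f).1 z hz
    obtain ⟨⟨b, ⟨_, m, rfl⟩⟩, hb⟩ := IsLocalization.surj (Submonoid.powers (φ f)) y
    simp only at hb
    -- hb : y * algebraMap (φ f ^ m) = algebraMap b
    have hD : η.Nmap (algebraMap B (Localization.Away (φ f)))
        (η.t B (b * φ f ^ n) - η.Nmap φ (x * η.t A f ^ m)) = 0 := by
      rw [map_sub, η.Nmap_t_apply, ← Nmap_comp_apply, ← hcomp, Nmap_comp_apply, map_mul (η.Nmap _) x,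
        ← hxz, map_pow, η.Nmap_t_apply, map_mul (η.Nmap _), map_mul (η.Nmap _), hzy, map_pow, map_pow,
        η.Nmap_t_apply]
      have : Localization.awayMap φ f (algebraMap A _ f) = algebraMap B _ (φ f) :=
        congrFun (congrArg DFunLike.coe hcomp) f
      rw [this, map_mul (algebraMap B _) b, ← hb, map_pow (algebraMap B _), map_pow (algebraMap B _),
        map_mul (η.t _), map_mul (η.t _), map_pow (η.t _), map_pow (η.t _)]
      ring
    obtain ⟨k, hk⟩ := (Nmap_away_isLocalization η B (φ f)).2 _ hD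
    refine ⟨b * φ f ^ n * φ f ^ k, ⟨x * η.t A f ^ m * η.t A f ^ k,
      Subring.mul_mem _ (Subring.mul_mem _ hx (Subring.pow_mem _ (η.t_mem_M A f) _))
        (Subring.pow_mem _ (η.t_mem_M A f) _), ?_⟩, m + n + k, ?_⟩
    · rw [mul_sub, sub_eq_zero] at hk
      rw [map_mul (η.Nmap φ), map_pow, η.Nmap_t_apply, map_mul (η.t B) _ (φ f ^ k), map_pow (η.t B) (φ f) k,
        mul_comm _ (η.t B (φ f) ^ k), ← hk]
      ring
    · rw [map_mul, map_mul, ← hb, map_pow, map_pow, map_pow]
      ring

/-- S19575 -/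
theorem bijective_qRel_awayMap_of_bijective_qRel {A B : Type u} [CommRing A] [CommRing B]
    (hA : (minimalPrimes A).Finite) (φ : A →+* B)
    (h : Function.Bijective (η.qRel φ)) (f : A) :
    Function.Bijective (η.qRel (Localization.awayMap φ f)) := by
  have hφinj : Function.Injective φ := (qRel_injective_iff η φ).mp h.1
  have hcomp := awayMap_comp_algebraMap φ f
  refine ⟨(qRel_injective_iff η _).mpr ?_, (qRel_surjective_iff η _).mpr ?_⟩
  · rw [Localization.awayMap_injective_iff]
    intro a ha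
    exact ⟨0, by rw [pow_zero, one_mul]; exact hφinj (by rw [ha, map_zero])⟩
  · intro y hy
    obtain ⟨x, hx, n, hxy⟩ := (rel_away_isLocalization η hA φ f).2 y hy
    obtain ⟨a, rfl⟩ := (qRel_surjective_iff η φ).mp h.2 x hx
    have hu : IsUnit (algebraMap A (Localization.Away f) f) :=
      IsLocalization.Away.algebraMap_isUnit f
    obtain ⟨c, hc⟩ := hu.pow n |>.exists_right_inv
    refine ⟨algebraMap A _ a * c, ?_⟩
    have h1 : Localization.awayMap φ f (algebraMap A _ a) = algebraMap B _ (φ a) :=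
      congrFun (congrArg DFunLike.coe hcomp) a
    have h2 : Localization.awayMap φ f (algebraMap A _ f) = algebraMap B _ (φ f) :=
      congrFun (congrArg DFunLike.coe hcomp) f
    have h3 : algebraMap B (Localization.Away (φ f)) (φ f) ^ n * Localization.awayMap φ f c = 1 := by
      rw [← h2, ← map_pow, ← map_mul, hc, map_one]
    rw [map_mul, h1, ← hxy, mul_assoc, h3, mul_one]

end EtaPtLib

end Groth.Agent.Lib.Helper70
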