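import Mathlib
import Groth.Agent.Lib.Helper70.EtaPtT

/-!
# More lemmas on `EtaPt` (helper70)
-/

universe u

namespace Groth.Agent.Lib.Helper70

open EtaPt

namespace EtaPtLib

variable (η : EtaPt.FieldEndo.{u})

/-- S19576 -/
theorem bijective_qRel_of_bijective_qRel_awayMap {A B : Type u} [CommRing A] [CommRing B]
    (hA : (minimalPrimes A).Finite) (φ : A →+* B)
    (s : Finset A) (hspan : Ideal.span (s : Set A) = ⊤)
    (h : ∀ f ∈ s, Function.Bijective (η.qRel (Localization.awayMap φ f))) :
    Function.Bijective (η.qRel φ) := by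
  let _ := φ.toAlgebra
  refine ⟨(qRel_injective_iff η _).mpr ?_, (qRel_surjective_iff η _).mpr ?_⟩
  · rw [injective_iff_map_eq_zero]
    intro a ha
    have hmem : a ∈ (⊥ : Submodule A A) := by
      apply Submodule.mem_of_span_eq_top_of_smul_pow_mem _ (s : Set A) hspan
      rintro ⟨f, hf⟩
      have hinj := (qRel_injective_iff η _).mp (h f hf).1
      rw [Localization.awayMap_injective_iff] at hinj
      obtain ⟨n, hn⟩ := hinj a ha
      exact ⟨n, by simpa using hn⟩
    simpa using hmem
  · intro b hb
    have hmem : b ∈ LinearMap.range (Algebra.linearMap A B) := by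
      apply Submodule.mem_of_span_eq_top_of_smul_pow_mem _ (s : Set A) hspan
      rintro ⟨f, hf⟩
      have h1 := (rel_away_isLocalization η hA φ f).1 ⟨b, hb, rfl⟩
      obtain ⟨c, hc⟩ := (qRel_surjective_iff η _).mp (h f hf).2 _ h1
      obtain ⟨⟨a, ⟨_, n, rfl⟩⟩, ha⟩ := IsLocalization.surj (Submonoid.powers f) c
      simp only at ha
      -- ha : c * algebraMap (f^n) = algebraMap a
      have h2 := congrArg (Localization.awayMap φ f) ha
      have hcompa : ∀ a', Localization.awayMap φ f (algebraMap A _ a') = algebraMap B _ (φ a') :=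
        fun a' => congrFun (congrArg DFunLike.coe (awayMap_comp_algebraMap φ f)) a'
      rw [map_mul, hc, hcompa, hcompa, ← map_mul] at h2
      obtain ⟨⟨_, k, rfl⟩, hk⟩ := (IsLocalization.eq_iff_exists (Submonoid.powers (φ f)) _).mp h2
      simp only at hk
      refine ⟨k + n, f ^ k * a, ?_⟩
      show φ (f ^ k * a) = (f ^ (k + n)) • b
      rw [Algebra.smul_def]
      show φ (f ^ k * a) = φ (f ^ (k + n)) * b
      rw [map_mul, map_pow, map_pow, ← hk, pow_add, map_pow]
      ring
    obtain ⟨a, ha⟩ := hmem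
    exact ⟨a, ha⟩

end EtaPtLib

end Groth.Agent.Lib.Helper70
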