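import Mathlib
import Groth.Agent.Lib.Helper70.EtaPtU
import Groth.Agent.Lib.Helper70.SpecUnivHomeo

/-!
# More lemmas on `EtaPt` (helper70): the identity endomorphism and seminormalisation
-/

universe u

namespace Groth.Agent.Lib.Helper70

open EtaPt Groth.Agent.Lib.Helper70.SpecUH
open CategoryTheory AlgebraicGeometry

namespace EtaPtLib

theorem bijective_of_comp_eq_id {k l : Type u} [Field k] [Field l] (ρ : k →+* l) (φ : l →+* k)
    (h : φ.comp ρ = RingHom.id k) : Function.Bijective ρ := by
  refine ⟨ρ.injective, fun y => ⟨φ y, φ.injective ?_⟩⟩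
  exact congrFun (congrArg DFunLike.coe h) (φ y)

theorem ident_Nmap_bijective_of {A B : Type u} [CommRing A] [CommRing B] (ψ : A →+* B)
    (hb : Function.Bijective (PrimeSpectrum.comap ψ))
    (hres : ∀ q : PrimeSpectrum B, Function.Bijective
      (Ideal.ResidueField.map (PrimeSpectrum.comap ψ q).asIdeal q.asIdeal ψ rfl)) :
    Function.Bijective (FieldEndo.ident.{u}.Nmap ψ) := by
  apply Nmap_bijective_of_comap_bijective _ _ hb
  intro q I _ h
  subst h
  exact (hres q).2

/-- S13826 -/
theorem isRingSN_q_ident (A : Type u) [CommRing A] (hA : (minimalPrimes A).Finite) :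
    HTop.IsRingSN (FieldEndo.ident.{u}.q A) := by
  have hres : ∀ Q : PrimeSpectrum (FieldEndo.ident.{u}.M A), Function.Bijective
      (Ideal.ResidueField.map (PrimeSpectrum.comap (FieldEndo.ident.{u}.q A) Q).asIdeal Q.asIdeal
        (FieldEndo.ident.{u}.q A) rfl) := by
    intro Q
    exact bijective_of_comp_eq_id _ (resLift FieldEndo.ident.{u} A hA Q)
      (resLift_comp FieldEndo.ident.{u} A hA Q)
  have hb := (comap_q_bijective_and_residue_factor FieldEndo.ident.{u} A hA).1
  refine ⟨⟨isUnivHomeo_SpecMap_of _ (isIntegral_q _ A hA) hb hres,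
    (residueFieldsIso_SpecMap_iff _).mpr hres⟩, ?_⟩
  intro C _ ψ hψ hψres
  obtain ⟨hint, hbψ⟩ := isIntegral_and_bijective_of_isUnivHomeo ψ hψ
  exact existsUnique_lift_q FieldEndo.ident.{u} A C ψ hint
    (ident_Nmap_bijective_of ψ hbψ ((residueFieldsIso_SpecMap_iff ψ).mp hψres))

end EtaPtLib

end Groth.Agent.Lib.Helper70
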