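import Mathlib
import Groth.Agent.Lib.Helper70.EtaPtV

/-!
# More lemmas on `EtaPt` (helper70): relative seminormalisation for the identity endomorphism
-/

universe u

namespace Groth.Agent.Lib.Helper70

open EtaPt Groth.Agent.Lib.Helper70.SpecUH
open CategoryTheory AlgebraicGeometry

namespace EtaPtLib

/-- S13830 -/
theorem isSeminormalization_rel_ident (A B : Type u) [CommRing A] [CommRing B] [Algebra A B]
    (hA : (minimalPrimes A).Finite)
    (hs : Function.Surjective (PrimeSpectrum.comap (algebraMap A B))) :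
    (FlatMor.IsUnivHomeo (Spec.map (CommRingCat.ofHom (EtaPt.FieldEndo.ident.{u}.qRel (algebraMap A B)))) ∧
      HTop.ResidueFieldsIso (Spec.map (CommRingCat.ofHom (EtaPt.FieldEndo.ident.{u}.qRel (algebraMap A B))))) ∧
    ∀ C : Subalgebra A B,
      FlatMor.IsUnivHomeo (Spec.map (CommRingCat.ofHom (algebraMap A C))) →
      HTop.ResidueFieldsIso (Spec.map (CommRingCat.ofHom (algebraMap A C))) →
      C.toSubring ≤ EtaPt.FieldEndo.ident.{u}.rel (algebraMap A B) := by
  have hres : ∀ Q : PrimeSpectrum (FieldEndo.ident.{u}.rel (algebraMap A B)), Function.Bijective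
      (Ideal.ResidueField.map
        (PrimeSpectrum.comap (FieldEndo.ident.{u}.qRel (algebraMap A B)) Q).asIdeal Q.asIdeal
        (FieldEndo.ident.{u}.qRel (algebraMap A B)) rfl) := by
    intro Q
    obtain ⟨φ, hφ⟩ := exists_residue_factor_qRel FieldEndo.ident.{u} hA (algebraMap A B) hs Q
    exact bijective_of_comp_eq_id _ φ hφ
  have hb := comap_qRel_bijective FieldEndo.ident.{u} hA (algebraMap A B) hs
  refine ⟨⟨isUnivHomeo_SpecMap_of _ (isIntegral_qRel _ hA _ hs) hb hres,
    (residueFieldsIso_SpecMap_iff _).mpr hres⟩, ?_⟩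
  intro C hC hCres
  obtain ⟨hint, hbψ⟩ := isIntegral_and_bijective_of_isUnivHomeo (algebraMap A C) hC
  have hN := ident_Nmap_bijective_of (algebraMap A C) hbψ
    ((residueFieldsIso_SpecMap_iff (algebraMap A C)).mp hCres)
  have key := range_le_rel_of_factor FieldEndo.ident.{u} (algebraMap A C) C.val.toRingHom hint hN
  have hcomp : C.val.toRingHom.comp (algebraMap A C) = algebraMap A B := by
    ext a; rfl
  rw [hcomp] at key
  intro b hb
  exact key ⟨⟨b, hb⟩, rfl⟩

end EtaPtLib

end Groth.Agent.Lib.Helper70
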