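import Mathlib
import Groth.Agent.Lib.Helper70.EtaPtW
import Groth.Prelude.Def_EGA4b

/-!
# More lemmas on `EtaPt` (helper70): normal rings
-/

universe u

namespace Groth.Agent.Lib.Helper70

open EtaPt

namespace EtaPtLib

variable (η : EtaPt.FieldEndo.{u})

/-- the ideal of denominators of `x ∈ N(A)` with respect to `t`. -/
noncomputable def denomIdeal (A : Type u) [CommRing A] (x : η.N A) : Ideal A where
  carrier := {s | ∃ a, η.t A s * x = η.t A a}
  zero_mem' := ⟨0, by rw [map_zero, zero_mul]⟩
  add_mem' := by
    rintro s₁ s₂ ⟨a₁, h₁⟩ ⟨a₂, h₂⟩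
    exact ⟨a₁ + a₂, by rw [map_add, add_mul, h₁, h₂, map_add]⟩
  smul_mem' := by
    rintro c s ⟨a, h⟩
    exact ⟨c * a, by rw [smul_eq_mul, map_mul, mul_assoc, h, map_mul]⟩

theorem mem_denomIdeal {A : Type u} [CommRing A] (x : η.N A) (s : A) :
    s ∈ denomIdeal η A x ↔ ∃ a, η.t A s * x = η.t A a := Iff.rfl

/-- the localisation of a ring at a prime: `InV` follows from bijectivity of `η` at the
residue field of the minimal prime below. -/
theorem inV_localization_atPrime {A : Type u} [CommRing A] (P : Ideal A) [P.IsPrime]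
    [IsDomain (Localization.AtPrime P)]
    (hη : ∀ p : PrimeSpectrum A, p.asIdeal ∈ minimalPrimes A →
      Function.Bijective (η.eta p.asIdeal.ResidueField)) :
    η.InV (Localization.AtPrime P) := by
  let f : A →+* Localization.AtPrime P := algebraMap A _
  have hbot : (⊥ : Ideal (Localization.AtPrime P)) ∈ minimalPrimes (Localization.AtPrime P) := by
    rw [IsDomain.minimalPrimes_eq_singleton_bot]; rfl
  have hmin : (⊥ : Ideal (Localization.AtPrime P)).comap f ∈ minimalPrimes A := by
    have h1 := IsLocalization.minimalPrimes_map P.primeCompl (Localization.AtPrime P)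
      (⊥ : Ideal A)
    rw [Ideal.map_bot] at h1
    have h2 : (⊥ : Ideal (Localization.AtPrime P)) ∈
        Ideal.under A ⁻¹' (⊥ : Ideal A).minimalPrimes := h1 ▸ hbot
    exact h2
  have hprime : ((⊥ : Ideal (Localization.AtPrime P)).comap f).IsPrime := hmin.1.1
  have hbij := hη ⟨_, hprime⟩ hmin
  have hres : Function.Bijective (Ideal.ResidueField.map
      ((⊥ : Ideal (Localization.AtPrime P)).comap f) (⊥ : Ideal (Localization.AtPrime P)) f rfl) :=
    (RingHom.surjectiveOnStalks_of_isLocalization (M := P.primeCompl)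
      (Localization.AtPrime P)).residueFieldMap_bijective _ _ rfl
  have hK : Function.Bijective (η.eta (⊥ : Ideal (Localization.AtPrime P)).ResidueField) :=
    bijective_eta_of_ringEquiv η (RingEquiv.ofBijective _ hres) hbij
  exact inV_of_isFractionRing η (Localization.AtPrime P)
    (⊥ : Ideal (Localization.AtPrime P)).ResidueField hK

theorem isReduced_of_isNormalRing (A : Type u) [CommRing A] (hn : EGA4.IsNormalRing A) :
    IsReduced A := by
  apply isReduced_ofLocalizationMaximal
  intro J hJ
  have := (hn J).1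
  infer_instance

/-- an element of `M(A)` that dies in `N(A_P)` is killed by some `t(s')`, `s' ∉ P`. -/
theorem exists_smul_eq_zero_of_Nmap_localization_eq_zero {A : Type u} [CommRing A]
    (hA : (minimalPrimes A).Finite) (P : Ideal A) [P.IsPrime] (d : η.N A) (hd : d ∈ η.M A)
    (h0 : η.Nmap (algebraMap A (Localization.AtPrime P)) d = 0) :
    ∃ s' : A, s' ∉ P ∧ η.t A s' * d = 0 := by
  -- components at primes below `P` vanish
  have hbelow : ∀ p : PrimeSpectrum A, p.asIdeal ≤ P → d p = 0 := by
    intro p hp
    have hdisj : Disjoint (P.primeCompl : Set A) (p.asIdeal : Set A) := by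
      rw [Set.disjoint_left]
      intro a ha hap
      exact ha (hp hap)
    have hQ : (p.asIdeal.map (algebraMap A (Localization.AtPrime P))).IsPrime :=
      IsLocalization.isPrime_of_isPrime_disjoint P.primeCompl _ _ p.isPrime hdisj
    have hcomap : (p.asIdeal.map (algebraMap A (Localization.AtPrime P))).comap
        (algebraMap A (Localization.AtPrime P)) = p.asIdeal :=
      IsLocalization.under_map_of_isPrime_disjoint P.primeCompl _ p.isPrime hdisj
    have h1 := congrFun h0 ⟨_, hQ⟩
    rw [Nmap_apply_of_eq η _ d ⟨_, hQ⟩ p hcomap.symm] at h1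
    exact (η.map _).injective (h1.trans (map_zero _).symm)
  classical
  let T : Finset (Ideal A) := hA.toFinset.filter (fun p => ¬ p ≤ P)
  have hnot : ¬ T.inf id ≤ P := by
    intro hle
    obtain ⟨p, hpT, hpP⟩ := (Ideal.IsPrime.inf_le' inferInstance).mp hle
    exact (Finset.mem_filter.mp hpT).2 hpP
  obtain ⟨s', hs'T, hs'P⟩ := SetLike.not_le_iff_exists.mp hnot
  refine ⟨s', hs'P, ?_⟩
  apply eq_zero_of_forall_minimalPrimes η _ (Subring.mul_mem _ (η.t_mem_M A s') hd)
  intro p hp
  by_cases hpP : p.asIdeal ≤ P
  · rw [Pi.mul_apply, hbelow p hpP, mul_zero]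
  · have hmem : p.asIdeal ∈ T := Finset.mem_filter.mpr ⟨hA.mem_toFinset.mpr hp, hpP⟩
    have hs'p : s' ∈ p.asIdeal := (Submodule.mem_finsetInf.mp hs'T) _ hmem
    have : η.t A s' p = 0 := by
      rw [t_apply, (Ideal.algebraMap_residueField_eq_zero).mpr hs'p, map_zero]
    rw [Pi.mul_apply, this, zero_mul]

/-- S13827 -/
theorem bijective_q_of_isNormalRing (A : Type u) [CommRing A] (hn : EGA4.IsNormalRing A)
    (hA : (minimalPrimes A).Finite)
    (hη : ∀ p : PrimeSpectrum A, p.asIdeal ∈ minimalPrimes A →
      Function.Bijective (η.eta p.asIdeal.ResidueField)) :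
    Function.Bijective (η.q A) := by
  have hred : IsReduced A := isReduced_of_isNormalRing A hn
  constructor
  · intro a b hab
    exact t_injective_of_isReduced η A (congrArg Subtype.val hab)
  · intro x
    have htop : denomIdeal η A x.1 = ⊤ := by
      by_contra hne
      obtain ⟨P, hPmax, hIP⟩ := Ideal.exists_le_maximal _ hne
      have hPprime : P.IsPrime := hPmax.isPrime
      obtain ⟨hdom, hic⟩ := hn P
      have hV : η.InV (Localization.AtPrime P) := inV_localization_atPrime η P hη
      have hq := bijective_q_of_isIntegrallyClosed η (Localization.AtPrime P) hV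
      let f : A →+* Localization.AtPrime P := algebraMap A _
      have hy : η.Nmap f x.1 ∈ η.M (Localization.AtPrime P) := Nmap_mem_M η f x.2
      obtain ⟨z, hz⟩ := hq.2 ⟨_, hy⟩
      have hz' : η.t (Localization.AtPrime P) z = η.Nmap f x.1 := congrArg Subtype.val hz
      obtain ⟨a, s, rfl⟩ := IsLocalization.exists_mk'_eq P.primeCompl z
      have hspec : IsLocalization.mk' (Localization.AtPrime P) a s * f s = f a :=
        IsLocalization.mk'_spec _ a s
      have hd : η.t A s * x.1 - η.t A a ∈ η.M A :=
        Subring.sub_mem _ (Subring.mul_mem _ (η.t_mem_M A s) x.2) (η.t_mem_M A a)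
      have h0 : η.Nmap f (η.t A s * x.1 - η.t A a) = 0 := by
        rw [map_sub, map_mul, η.Nmap_t_apply, η.Nmap_t_apply, ← hz', ← map_mul, mul_comm, hspec,
          sub_self]
      obtain ⟨s', hs'P, hs'⟩ :=
        exists_smul_eq_zero_of_Nmap_localization_eq_zero η hA P _ hd h0
      have hmem : s' * s ∈ denomIdeal η A x.1 := by
        refine ⟨s' * a, ?_⟩
        rw [mul_sub, sub_eq_zero] at hs'
        rw [map_mul, map_mul, mul_assoc, hs']
      have := hIP hmem
      rcases hPprime.mem_or_mem this with h | h
      · exact hs'P h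
      · exact s.2 h
    have h1 : (1 : A) ∈ denomIdeal η A x.1 := htop ▸ Submodule.mem_top
    obtain ⟨a, ha⟩ := h1
    refine ⟨a, Subtype.ext ?_⟩
    rw [map_one, one_mul] at ha
    exact ha.symm

end EtaPtLib

end Groth.Agent.Lib.Helper70
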