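import Mathlib
import Groth.Agent.Lib.Helper70.EtaPtX

/-!
# More lemmas on `EtaPt` (helper70)
-/

universe u

namespace Groth.Agent.Lib.Helper70

open EtaPt

namespace EtaPtLib

variable (η : EtaPt.FieldEndo.{u})

theorem map_mem_nonZeroDivisors_of_flat {A A' : Type*} [CommRing A] [CommRing A'] [Algebra A A']
    [Module.Flat A A'] {s : A} (hs : s ∈ nonZeroDivisors A) :
    algebraMap A A' s ∈ nonZeroDivisors A' := by
  have h := Module.Flat.isSMulRegular_of_nonZeroDivisors (M := A') hs
  rw [mem_nonZeroDivisors_iff_right]
  intro x hx
  apply h
  change s • x = s • (0 : A')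
  rw [smul_zero, Algebra.smul_def, mul_comm]
  exact hx

/-- functoriality of `rel` -/
theorem map_mem_rel_of_comm {A B A' B' : Type u} [CommRing A] [CommRing B] [CommRing A']
    [CommRing B'] (f : A →+* B) (f' : A' →+* B') (φ : A →+* A') (g : B →+* B')
    (hcomm : g.comp f = f'.comp φ) (b : B) (hb : b ∈ η.rel f) : g b ∈ η.rel f' := by
  obtain ⟨m, hm, hmb⟩ := (mem_rel_iff η f b).mp hb
  refine (mem_rel_iff η f' (g b)).mpr ⟨η.Nmap φ m, Nmap_mem_M η φ hm, ?_⟩
  rw [← Nmap_comp_apply, ← hcomm, Nmap_comp_apply, hmb, η.Nmap_t_apply]

/-- S13823 -/
theorem bijective_qRel_integralClosure_of_faithfullyFlat (A A' : Type u) [CommRing A] [CommRing A']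
    [Algebra A A'] [Module.FaithfullyFlat A A']
    (h : Function.Bijective (η.qRel (algebraMap A' (integralClosure A' (FractionRing A'))))) :
    Function.Bijective (η.qRel (algebraMap A (integralClosure A (FractionRing A)))) := by
  have hle : nonZeroDivisors A ≤ (nonZeroDivisors A').comap (algebraMap A A') := by
    intro s hs
    exact map_mem_nonZeroDivisors_of_flat hs
  -- the map on total fraction rings
  let g₀ : FractionRing A →+* FractionRing A' := IsLocalization.map (FractionRing A') (algebraMap A A') hle
  have hg₀ : ∀ a : A, g₀ (algebraMap A (FractionRing A) a) =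
      algebraMap A' (FractionRing A') (algebraMap A A' a) := fun a => IsLocalization.map_eq hle a
  have hint : ∀ x : integralClosure A (FractionRing A),
      g₀ (x : FractionRing A) ∈ integralClosure A' (FractionRing A') := by
    intro x
    have hx : IsIntegral A (x : FractionRing A) := x.2
    refine IsIntegral.map_of_comp_eq (algebraMap A A') g₀ ?_ hx
    ext a
    exact (hg₀ a).symm
  let g : integralClosure A (FractionRing A) →+* integralClosure A' (FractionRing A') :=
    (g₀.comp (integralClosure A (FractionRing A)).val.toRingHom).codRestrict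
      (integralClosure A' (FractionRing A')) hint
  have hcomm : g.comp (algebraMap A (integralClosure A (FractionRing A))) =
      (algebraMap A' (integralClosure A' (FractionRing A'))).comp (algebraMap A A') := by
    ext a
    exact hg₀ a
  constructor
  · rw [qRel_injective_iff]
    intro a b hab
    have : algebraMap A (FractionRing A) a = algebraMap A (FractionRing A) b :=
      congrArg Subtype.val hab
    exact IsFractionRing.injective A (FractionRing A) this
  · rw [qRel_surjective_iff]
    intro b hb
    have hgb := map_mem_rel_of_comm η _ _ (algebraMap A A') g hcomm b hb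
    obtain ⟨a', ha'⟩ := (qRel_surjective_iff η _).mp h.2 _ hgb
    have ha'' : algebraMap A' (FractionRing A') a' = g₀ (b : FractionRing A) :=
      congrArg Subtype.val ha'
    obtain ⟨a, s, hbs⟩ := IsLocalization.exists_mk'_eq (nonZeroDivisors A) (b : FractionRing A)
    have hspec : (b : FractionRing A) * algebraMap A (FractionRing A) s =
        algebraMap A (FractionRing A) a := by
      rw [← hbs]; exact IsLocalization.mk'_spec _ a s
    have h1 : a' * algebraMap A A' s = algebraMap A A' a := by
      apply IsFractionRing.injective A' (FractionRing A')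
      rw [map_mul, ha'', ← hg₀, ← hg₀, ← map_mul, hspec]
    have h2 : a ∈ Ideal.span {(s : A)} := by
      rw [← Ideal.comap_map_eq_self_of_faithfullyFlat (B := A') (Ideal.span {(s : A)}),
        Ideal.mem_comap, Ideal.map_span, Set.image_singleton, Ideal.mem_span_singleton']
      exact ⟨a', h1⟩
    obtain ⟨c, hc⟩ := Ideal.mem_span_singleton'.mp h2
    refine ⟨c, Subtype.ext ?_⟩
    change algebraMap A (FractionRing A) c = (b : FractionRing A)
    have hunit : IsUnit (algebraMap A (FractionRing A) s) :=
      IsLocalization.map_units (FractionRing A) s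
    apply hunit.mul_right_cancel
    rw [hspec, ← map_mul, hc]

end EtaPtLib

end Groth.Agent.Lib.Helper70
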