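import Mathlib
import Groth.Agent.Lib.Helper70.AWNRing

universe u

namespace Groth.Agent.Lib.Helper70

open CategoryTheory AlgebraicGeometry

namespace FPColim
open SpecUH SqCube AWNRing

section StepB
variable {A : Type*} [CommRing A]

/-- `true`: square-cube steps only; `false`: also `p`-th root steps. -/
def StepB (sc : Bool) {B : Type*} [CommRing B] [Algebra A B] : Subalgebra A B → B → Prop :=
  match sc with
  | true => StepSC
  | false => StepP

theorem image_list_set {B C : Type*} (q : B → C) (l : List B) :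
    q '' {x : B | x ∈ l} = {y : C | y ∈ l.map q} := by
  ext y
  constructor
  · rintro ⟨x, hx, rfl⟩
    exact List.mem_map.mpr ⟨x, hx, rfl⟩
  · intro hy
    obtain ⟨x, hx, rfl⟩ := List.mem_map.mp hy
    exact ⟨x, hx, rfl⟩

variable {B : Type*} [CommRing B] [Algebra A B]

theorem stepB_mono (sc : Bool) (S S' : Subalgebra A B) (b : B) (h : S ≤ S')
    (hb : StepB sc S b) : StepB sc S' b := by
  cases sc
  · exact stepP_mono S S' b h hb
  · exact stepSC_mono S S' b h hb

theorem stepB_stepP (sc : Bool) (S : Subalgebra A B) (b : B) (hb : StepB sc S b) : StepP S b := by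
  cases sc
  · exact hb
  · exact Or.inl hb

theorem stepB_of_mem (sc : Bool) (S : Subalgebra A B) (b : B) (hb : b ∈ S) : StepB sc S b := by
  cases sc
  · exact Or.inl ⟨pow_mem hb 2, pow_mem hb 3⟩
  · exact ⟨pow_mem hb 2, pow_mem hb 3⟩

theorem stepB_map {C : Type*} [CommRing C] [Algebra A C] (q : B →ₐ[A] C) (sc : Bool)
    (S : Subalgebra A B) (b : B) (hb : StepB sc S b) : StepB sc (S.map q) (q b) := by
  cases sc
  · rcases hb with ⟨h2, h3⟩ | ⟨p, hp, h1, h2⟩
    · exact Or.inl ⟨⟨b ^ 2, h2, map_pow q b 2⟩, ⟨b ^ 3, h3, map_pow q b 3⟩⟩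
    · exact Or.inr ⟨p, hp, ⟨(p : B) * b, h1, by simp⟩, ⟨b ^ p, h2, map_pow q b p⟩⟩
  · exact ⟨⟨b ^ 2, hb.1, map_pow q b 2⟩, ⟨b ^ 3, hb.2, map_pow q b 3⟩⟩

theorem rtower_map {C : Type*} [CommRing C] [Algebra A C] (q : B →ₐ[A] C) (sc : Bool)
    {l : List B} (hl : RTower (A := A) (StepB sc) l) : RTower (A := A) (StepB sc) (l.map q) := by
  induction l with
  | nil => trivial
  | cons b l ih =>
    obtain ⟨h1, h2⟩ := hl
    refine ⟨ih h1, ?_⟩
    have := stepB_map q sc _ b h2
    rwa [AlgHom.map_adjoin, image_list_set] at this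

theorem adjoin_map_list {C : Type*} [CommRing C] [Algebra A C] (q : B →ₐ[A] C) (l : List B) :
    (Algebra.adjoin A {x : B | x ∈ l}).map q = Algebra.adjoin A {y : C | y ∈ l.map q} := by
  rw [AlgHom.map_adjoin, image_list_set]

theorem exists_lift_mem {P : Type*} [CommRing P] [Algebra A P] (π : P →ₐ[A] B) (s : Set P) (y : B)
    (hy : y ∈ Algebra.adjoin A (π '' s)) : ∃ p ∈ Algebra.adjoin A s, π p = y := by
  rw [← AlgHom.map_adjoin] at hy
  exact hy

theorem map_mem_adjoin_image {P : Type*} [CommRing P] [Algebra A P] (π : P →ₐ[A] B) (s : Set P)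
    (p : P) (hp : p ∈ Algebra.adjoin A s) : π p ∈ Algebra.adjoin A (π '' s) := by
  rw [← AlgHom.map_adjoin]
  exact ⟨p, hp, rfl⟩

theorem stepB_lift {P : Type*} [CommRing P] [Algebra A P] (π : P →ₐ[A] B) (sc : Bool) (s : Set P)
    (x : P) (h : StepB sc (Algebra.adjoin A (π '' s)) (π x)) :
    ∃ T : Finset P, (∀ t ∈ T, π t = 0) ∧ ∀ I : Ideal P, (↑T : Set P) ⊆ I →
      StepB sc (Algebra.adjoin A ((Ideal.Quotient.mkₐ A I) '' s)) (Ideal.Quotient.mkₐ A I x) := by
  classical
  have key2 : ∀ (n : ℕ), (π x) ^ n ∈ Algebra.adjoin A (π '' s) →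
      ∃ t : P, π t = 0 ∧ ∀ I : Ideal P, t ∈ I →
        (Ideal.Quotient.mkₐ A I x) ^ n ∈ Algebra.adjoin A ((Ideal.Quotient.mkₐ A I) '' s) := by
    intro n hn
    obtain ⟨p₂, hp₂, e₂⟩ := exists_lift_mem π s _ hn
    refine ⟨x ^ n - p₂, by rw [map_sub, map_pow, e₂, sub_self], ?_⟩
    intro I hI
    have : (Ideal.Quotient.mkₐ A I x) ^ n = Ideal.Quotient.mkₐ A I p₂ := by
      rw [← map_pow]
      exact (Ideal.Quotient.mk_eq_mk_iff_sub_mem _ _).mpr hI
    rw [this]
    exact map_mem_adjoin_image _ s p₂ hp₂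
  have keySC : StepSC (Algebra.adjoin A (π '' s)) (π x) →
      ∃ T : Finset P, (∀ t ∈ T, π t = 0) ∧ ∀ I : Ideal P, (↑T : Set P) ⊆ I →
      StepSC (Algebra.adjoin A ((Ideal.Quotient.mkₐ A I) '' s)) (Ideal.Quotient.mkₐ A I x) := by
    rintro ⟨h2, h3⟩
    obtain ⟨t₂, ht₂, k₂⟩ := key2 2 h2
    obtain ⟨t₃, ht₃, k₃⟩ := key2 3 h3
    refine ⟨{t₂, t₃}, ?_, ?_⟩
    · intro t ht
      simp only [Finset.mem_insert, Finset.mem_singleton] at ht
      rcases ht with rfl | rfl
      exacts [ht₂, ht₃]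
    · intro I hI
      exact ⟨k₂ I (hI (by simp)), k₃ I (hI (by simp))⟩
  cases sc
  · rcases h with h | ⟨p, hp, h1, h2⟩
    · obtain ⟨T, hT, hT'⟩ := keySC h
      exact ⟨T, hT, fun I hI => Or.inl (hT' I hI)⟩
    · obtain ⟨t₂, ht₂, k₂⟩ := key2 p h2
      obtain ⟨p₁, hp₁, e₁⟩ := exists_lift_mem π s _ h1
      refine ⟨{(p : P) * x - p₁, t₂}, ?_, ?_⟩
      · intro t ht
        simp only [Finset.mem_insert, Finset.mem_singleton] at ht
        rcases ht with rfl | rfl
        · rw [map_sub, map_mul, map_natCast, e₁, sub_self]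
        · exact ht₂
      · intro I hI
        refine Or.inr ⟨p, hp, ?_, k₂ I (hI (by simp))⟩
        have : (p : P ⧸ I) * (Ideal.Quotient.mkₐ A I x) = Ideal.Quotient.mkₐ A I p₁ := by
          have h0 : (p : P ⧸ I) = Ideal.Quotient.mkₐ A I (p : P) := by simp
          rw [h0, ← map_mul]
          exact (Ideal.Quotient.mk_eq_mk_iff_sub_mem _ _).mpr (hI (by simp))
        rw [this]
        exact map_mem_adjoin_image _ s p₁ hp₁
  · exact keySC h

theorem rtower_lift {P : Type*} [CommRing P] [Algebra A P] (π : P →ₐ[A] B) (sc : Bool) (L : List P)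
    (h : RTower (A := A) (StepB sc) (L.map π)) :
    ∃ T : Finset P, (∀ t ∈ T, π t = 0) ∧ ∀ I : Ideal P, (↑T : Set P) ⊆ I →
      RTower (A := A) (StepB sc) (L.map (Ideal.Quotient.mkₐ A I)) := by
  classical
  induction L with
  | nil => exact ⟨∅, by simp, fun _ _ => trivial⟩
  | cons x L ih =>
    obtain ⟨h1, h2⟩ := h
    obtain ⟨T₁, hT₁, k₁⟩ := ih h1
    rw [← image_list_set] at h2
    obtain ⟨T₂, hT₂, k₂⟩ := stepB_lift π sc _ x h2
    refine ⟨T₁ ∪ T₂, ?_, ?_⟩
    · intro t ht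
      rcases Finset.mem_union.mp ht with ht | ht
      exacts [hT₁ t ht, hT₂ t ht]
    · intro I hI
      refine ⟨k₁ I (fun t ht => hI (by simp [ht])), ?_⟩
      have := k₂ I (fun t ht => hI (by simp [ht]))
      rwa [image_list_set] at this

end StepB

section Good
variable {A C : Type u} [CommRing A] [CommRing C] [Algebra A C]

theorem isTower_of_rtowers (sc : Bool)
    (h : ∀ c : C, ∃ l : List C, c ∈ Algebra.adjoin A {x : C | x ∈ l} ∧
      RTower (A := A) (StepB sc) l) :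
    ∀ c : C, ∃ l : List C, c ∈ Algebra.adjoin A {x : C | x ∈ l} ∧
      IsTower (A := A) (StepB sc) l := by
  intro c
  obtain ⟨l, hc, hl⟩ := h c
  refine ⟨l.reverse, ?_, isTower_reverse_of_rtower (stepB_mono sc) hl⟩
  have : {x : C | x ∈ l.reverse} = {x : C | x ∈ l} := by ext x; simp
  rw [this]; exact hc

theorem good_of_rtowers (sc : Bool)
    (h : ∀ c : C, ∃ l : List C, c ∈ Algebra.adjoin A {x : C | x ∈ l} ∧
      RTower (A := A) (StepB sc) l)
    (hker : RingHom.ker (algebraMap A C) ≤ nilradical A) :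
    FlatMor.IsUnivHomeo (Spec.map (CommRingCat.ofHom (algebraMap A C))) ∧
      (sc = true → TRf (algebraMap A C)) := by
  have h' := isTower_of_rtowers sc h
  have hP : ∀ c : C, ∃ l : List C, c ∈ Algebra.adjoin A {x : C | x ∈ l} ∧
      IsTower (A := A) StepP l := by
    intro c
    obtain ⟨l, hc, hl⟩ := h' c
    exact ⟨l, hc, fun i => stepB_stepP sc _ _ (hl i)⟩
  constructor
  · rw [isUnivHomeo_SpecMap_iff]
    exact ⟨isIntegral_of_towers hP, hker, fun K _ g₁ g₂ hg => fieldPoint_of_towers hP K g₁ g₂ hg⟩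
  · rintro rfl
    exact TRf_of_towers h'

theorem reachB_eq_top (sc : Bool)
    (hU : FlatMor.IsUnivHomeo (Spec.map (CommRingCat.ofHom (algebraMap A C))))
    (hT : sc = true → TRf (algebraMap A C)) :
    reach (A := A) (B := C) (StepB sc) (stepB_mono sc) = ⊤ := by
  cases sc
  · exact reachP_eq_top hU
  · exact reachSC_eq_top hU (hT rfl)

theorem exists_rtower_covering (sc : Bool)
    (h : reach (A := A) (B := C) (StepB sc) (stepB_mono sc) = ⊤) (S : Finset C) :
    ∃ l : List C, RTower (A := A) (StepB sc) l ∧ ∀ s ∈ S, s ∈ l := by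
  obtain ⟨l₀, hl₀, hS⟩ := exists_finset (StepB sc) (stepB_mono sc) h S
  have key : ∀ S₁ : List C, (∀ s ∈ S₁, s ∈ Algebra.adjoin A {x : C | x ∈ l₀}) →
      RTower (A := A) (StepB sc) (S₁ ++ l₀) := by
    intro S₁
    induction S₁ with
    | nil => intro _; simpa using hl₀
    | cons s S₁ ih =>
      intro hs
      refine ⟨ih (fun t ht => hs t (List.mem_cons_of_mem _ ht)), ?_⟩
      apply stepB_of_mem
      exact adjoin_le_append_right l₀ S₁ (hs s List.mem_cons_self)
  refine ⟨S.toList ++ l₀, key S.toList (fun s hs => hS (Finset.mem_toList.mp hs)), ?_⟩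
  intro s hs
  exact List.mem_append_left _ (Finset.mem_toList.mpr hs)

end Good

end FPColim

end Groth.Agent.Lib.Helper70
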