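import Mathlib
import Groth.Agent.Lib.Helper70.FPColimA

universe u

set_option linter.unusedSectionVars false

namespace Groth.Agent.Lib.Helper70

open CategoryTheory AlgebraicGeometry

namespace FPColim
open SpecUH SqCube AWNRing

section Poly
variable {A B : Type u} [CommRing A] [CommRing B] [Algebra A B]

/-- evaluation of the polynomial ring on the finite set `S ⊆ B`. -/
noncomputable def piS (S : Finset B) : MvPolynomial S A →ₐ[A] B :=
  MvPolynomial.aeval (fun s => (s : B))

@[simp] theorem piS_X (S : Finset B) (s : S) : piS (A := A) S (MvPolynomial.X s) = s := by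
  simp [piS]

/-- an index is good when the quotient is generated by a tower. -/
structure GoodIdx (sc : Bool) (S : Finset B) (I : Ideal (MvPolynomial S A)) : Prop where
  fg : I.FG
  le_ker : I ≤ RingHom.ker (piS (A := A) S)
  tower : ∀ c : MvPolynomial S A ⧸ I, ∃ l : List (MvPolynomial S A ⧸ I),
    c ∈ Algebra.adjoin A {x | x ∈ l} ∧ RTower (A := A) (StepB sc) l

theorem GoodIdx.mono {sc : Bool} {S : Finset B} {I I' : Ideal (MvPolynomial S A)}
    (h : GoodIdx sc S I) (hII' : I ≤ I') (hfg : I'.FG) (hker : I' ≤ RingHom.ker (piS (A := A) S)) :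
    GoodIdx sc S I' where
  fg := hfg
  le_ker := hker
  tower := by
    intro c'
    obtain ⟨c, rfl⟩ := Ideal.Quotient.factor_surjective hII' c'
    obtain ⟨l, hc, hl⟩ := h.tower c
    refine ⟨l.map (Ideal.Quotient.factorₐ A hII'), ?_, rtower_map _ sc hl⟩
    rw [← adjoin_map_list]
    exact ⟨c, hc, rfl⟩

theorem exists_good (sc : Bool)
    (hreach : reach (A := A) (B := B) (StepB sc) (stepB_mono sc) = ⊤) (S₀ : Finset B) :
    ∃ (S : Finset B) (T : Finset (MvPolynomial S A)), S₀ ⊆ S ∧ (∀ t ∈ T, piS S t = 0) ∧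
      ∀ I : Ideal (MvPolynomial S A), (↑T : Set (MvPolynomial S A)) ⊆ I →
        ∀ c : MvPolynomial S A ⧸ I, ∃ l : List (MvPolynomial S A ⧸ I),
          c ∈ Algebra.adjoin A {x | x ∈ l} ∧ RTower (A := A) (StepB sc) l := by
  classical
  obtain ⟨l, hl, hS₀⟩ := exists_rtower_covering sc hreach S₀
  let S : Finset B := l.toFinset
  let L : List (MvPolynomial S A) :=
    l.attach.map (fun x => MvPolynomial.X ⟨x.1, List.mem_toFinset.mpr x.2⟩)
  have hLmap : L.map (piS (A := A) S) = l := by
    simp only [L, List.map_map]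
    have : (⇑(piS (A := A) S) ∘ fun x : {x // x ∈ l} =>
        (MvPolynomial.X ⟨x.1, List.mem_toFinset.mpr x.2⟩ : MvPolynomial S A)) = Subtype.val := by
      funext x
      simp
    rw [this, List.attach_map_subtype_val]
  have hX : ∀ s : S, (MvPolynomial.X s : MvPolynomial S A) ∈ L := by
    intro s
    have hs : s.1 ∈ l := List.mem_toFinset.mp s.2
    exact List.mem_map.mpr ⟨⟨s.1, hs⟩, List.mem_attach _ _, rfl⟩
  obtain ⟨T, hT, hT'⟩ := rtower_lift (piS (A := A) S) sc L (by rw [hLmap]; exact hl)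
  refine ⟨S, T, fun s hs => List.mem_toFinset.mpr (hS₀ s hs), hT, ?_⟩
  intro I hI c
  refine ⟨L.map (Ideal.Quotient.mkₐ A I), ?_, hT' I hI⟩
  have htop : Algebra.adjoin A {x | x ∈ L.map (Ideal.Quotient.mkₐ A I)} = ⊤ := by
    rw [← adjoin_map_list, eq_top_iff]
    have h1 : Algebra.adjoin A (Set.range (MvPolynomial.X : S → MvPolynomial S A)) ≤
        Algebra.adjoin A {x | x ∈ L} := by
      apply Algebra.adjoin_mono
      rintro _ ⟨s, rfl⟩
      exact hX s
    rw [MvPolynomial.adjoin_range_X] at h1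
    rw [top_le_iff.mp h1, Algebra.map_top]
    exact ((AlgHom.range_eq_top _).mpr (Ideal.Quotient.mkₐ_surjective A I)).ge
  rw [htop]
  exact Algebra.mem_top

end Poly

section Idx
variable (A B : Type u) [CommRing A] [CommRing B] [Algebra A B] (sc : Bool)

/-- indices: finitely presented quotients generated by a tower. -/
structure Idx where
  S : Finset B
  I : Ideal (MvPolynomial S A)
  good : GoodIdx sc S I

variable {A B sc}

open Classical in
/-- proof-free inclusion of polynomial rings. -/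
noncomputable def incl (S S' : Finset B) : MvPolynomial S A →ₐ[A] MvPolynomial S' A :=
  MvPolynomial.aeval (fun s => if h : s.1 ∈ S' then MvPolynomial.X ⟨s.1, h⟩ else 0)

theorem incl_X (S S' : Finset B) (s : S) (h : s.1 ∈ S') :
    incl (A := A) S S' (MvPolynomial.X s) = MvPolynomial.X ⟨s.1, h⟩ := by
  simp [incl, h]

theorem piS_incl {S S' : Finset B} (h : S ⊆ S') :
    (piS (A := A) S').comp (incl S S') = piS S := by
  apply MvPolynomial.algHom_ext
  intro s
  simp [incl_X S S' s (h s.2)]

theorem incl_self (S : Finset B) : incl (A := A) S S = AlgHom.id A _ := by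
  apply MvPolynomial.algHom_ext
  intro s
  simp [incl_X S S s s.2]

theorem incl_comp {S S' S'' : Finset B} (h : S ⊆ S') (h' : S' ⊆ S'') :
    (incl (A := A) S' S'').comp (incl S S') = incl S S'' := by
  apply MvPolynomial.algHom_ext
  intro s
  simp [incl_X S S' s (h s.2), incl_X S' S'' ⟨s.1, h s.2⟩ (h' (h s.2)), incl_X S S'' s (h' (h s.2))]

instance : Preorder (Idx A B sc) where
  le i j := i.S ⊆ j.S ∧ i.I ≤ j.I.comap (incl i.S j.S)
  le_refl i := ⟨subset_rfl, by rw [incl_self]; exact le_of_eq (Ideal.comap_id _).symm⟩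
  le_trans i j k hij hjk := ⟨hij.1.trans hjk.1, fun p hp => by
    have := hjk.2 (hij.2 hp)
    rw [Ideal.mem_comap] at this ⊢
    rw [← incl_comp hij.1 hjk.1]
    exact this⟩

theorem Idx.le_def {i j : Idx A B sc} :
    i ≤ j ↔ i.S ⊆ j.S ∧ i.I ≤ j.I.comap (incl i.S j.S) := Iff.rfl

/-- transition maps. -/
noncomputable def trans {i j : Idx A B sc} (h : i ≤ j) :
    (MvPolynomial i.S A ⧸ i.I) →ₐ[A] (MvPolynomial j.S A ⧸ j.I) :=
  Ideal.Quotient.liftₐ i.I ((Ideal.Quotient.mkₐ A j.I).comp (incl i.S j.S)) (fun p hp => by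
    have := h.2 hp
    rw [Ideal.mem_comap] at this
    simpa using Ideal.Quotient.eq_zero_iff_mem.mpr this)

theorem trans_mk {i j : Idx A B sc} (h : i ≤ j) (p : MvPolynomial i.S A) :
    trans h (Ideal.Quotient.mk i.I p) = Ideal.Quotient.mk j.I (incl i.S j.S p) := rfl

/-- the maps to `B`. -/
noncomputable def toB (i : Idx A B sc) : (MvPolynomial i.S A ⧸ i.I) →ₐ[A] B :=
  Ideal.Quotient.liftₐ i.I (piS i.S) (fun _ hp => i.good.le_ker hp)

theorem toB_mk (i : Idx A B sc) (p : MvPolynomial i.S A) :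
    toB i (Ideal.Quotient.mk i.I p) = piS i.S p := rfl

theorem toB_trans {i j : Idx A B sc} (h : i ≤ j) (x : MvPolynomial i.S A ⧸ i.I) :
    toB j (trans h x) = toB i x := by
  obtain ⟨p, rfl⟩ := Ideal.Quotient.mk_surjective x
  rw [trans_mk, toB_mk, toB_mk]
  exact congrFun (congrArg DFunLike.coe (piS_incl (A := A) h.1)) p

theorem trans_refl (i : Idx A B sc) (x : MvPolynomial i.S A ⧸ i.I) : trans (le_refl i) x = x := by
  obtain ⟨p, rfl⟩ := Ideal.Quotient.mk_surjective x
  rw [trans_mk, incl_self]; rfl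

theorem trans_trans {i j k : Idx A B sc} (h : i ≤ j) (h' : j ≤ k)
    (x : MvPolynomial i.S A ⧸ i.I) : trans h' (trans h x) = trans (h.trans h') x := by
  obtain ⟨p, rfl⟩ := Ideal.Quotient.mk_surjective x
  rw [trans_mk, trans_mk, trans_mk]
  congr 1
  exact congrFun (congrArg DFunLike.coe (incl_comp (A := A) h.1 h'.1)) p

variable (A B sc)

/-- the diagram of finitely presented quotients. -/
noncomputable def diagram : Idx A B sc ⥤ Under (CommRingCat.of A) where
  obj i := Under.mk (Y := CommRingCat.of (MvPolynomial i.S A ⧸ i.I))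
    (CommRingCat.ofHom (algebraMap A (MvPolynomial i.S A ⧸ i.I)))
  map {i j} f := Under.homMk (CommRingCat.ofHom (trans f.le).toRingHom) (by
    ext a
    exact (trans f.le).commutes a)
  map_id i := by
    ext x
    exact trans_refl i x
  map_comp {i j k} f g := by
    ext x
    exact (trans_trans f.le g.le x).symm

/-- the cocone with point `B`. -/
noncomputable def cocone : Limits.Cocone (diagram A B sc) where
  pt := Under.mk (Y := CommRingCat.of B) (CommRingCat.ofHom (algebraMap A B))
  ι :=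
    { app := fun i => Under.homMk (CommRingCat.ofHom (toB i).toRingHom) (by
        ext a
        exact (toB i).commutes a)
      naturality := fun i j f => by
        ext x
        exact toB_trans f.le x }

end Idx

section Colim
variable {A B : Type u} [CommRing A] [CommRing B] [Algebra A B] {sc : Bool}
  (hreach : reach (A := A) (B := B) (StepB sc) (stepB_mono sc) = ⊤)
include hreach

theorem exists_idx_ge (S₀ : Finset B) (ideals : Finset (Idx A B sc)) :
    ∃ k : Idx A B sc, S₀ ⊆ k.S ∧ ∀ i ∈ ideals, i ≤ k := by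
  classical
  obtain ⟨S, T, hS, hT, hgood⟩ := exists_good sc hreach (S₀ ∪ ideals.biUnion (fun i => i.S))
  have hSi : ∀ i ∈ ideals, i.S ⊆ S := fun i hi =>
    (Finset.subset_biUnion_of_mem (fun i : Idx A B sc => i.S) hi).trans
      (Finset.subset_union_right.trans hS)
  let I : Ideal (MvPolynomial S A) :=
    (ideals.sup fun i => Ideal.map (incl i.S S) i.I) ⊔ Ideal.span (T : Set (MvPolynomial S A))
  have hfg0 : ∀ J : Finset (Idx A B sc),
      (J.sup fun i => Ideal.map (incl (A := A) i.S S) i.I).FG := by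
    intro J
    induction J using Finset.induction_on with
    | empty => rw [Finset.sup_empty]; exact Submodule.fg_bot
    | insert a s _ ih =>
      rw [Finset.sup_insert]
      exact Submodule.FG.sup (Ideal.FG.map a.good.fg _) ih
  have hfg : I.FG := Submodule.FG.sup (hfg0 ideals) ⟨T, rfl⟩
  have hker : I ≤ RingHom.ker (piS (A := A) S) := by
    refine sup_le (Finset.sup_le fun i hi => ?_) (Ideal.span_le.mpr fun t ht => hT t ht)
    rw [Ideal.map_le_iff_le_comap]
    intro p hp
    rw [Ideal.mem_comap, RingHom.mem_ker]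
    have := congrFun (congrArg DFunLike.coe (piS_incl (A := A) (hSi i hi))) p
    simp only [AlgHom.coe_comp, Function.comp_apply] at this
    change piS S (incl i.S S p) = 0
    rw [this]
    exact i.good.le_ker hp
  have hgoodI : GoodIdx sc S I :=
    ⟨hfg, hker, hgood I (fun t ht => (le_sup_right : Ideal.span _ ≤ I) (Ideal.subset_span ht))⟩
  refine ⟨⟨S, I, hgoodI⟩, Finset.subset_union_left.trans hS, fun i hi => ⟨hSi i hi, ?_⟩⟩
  rw [← Ideal.map_le_iff_le_comap]
  exact (Finset.le_sup (f := fun i : Idx A B sc => Ideal.map (incl i.S S) i.I) hi).trans le_sup_left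

theorem idx_nonempty : Nonempty (Idx A B sc) :=
  let ⟨k, _, _⟩ := exists_idx_ge hreach ∅ ∅
  ⟨k⟩

theorem idx_directed : IsDirected (Idx A B sc) (· ≤ ·) where
  directed i j := by
    classical
    obtain ⟨k, -, hk⟩ := exists_idx_ge hreach ∅ {i, j}
    exact ⟨k, hk i (by simp), hk j (by simp)⟩

theorem exists_rep (b : B) : ∃ (i : Idx A B sc) (x : MvPolynomial i.S A ⧸ i.I), toB i x = b := by
  obtain ⟨k, hk, -⟩ := exists_idx_ge hreach {b} ∅
  have hb : b ∈ k.S := hk (Finset.mem_singleton_self b)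
  exact ⟨k, Ideal.Quotient.mk _ (MvPolynomial.X ⟨b, hb⟩), by rw [toB_mk, piS_X]⟩

omit hreach in
theorem exists_eq (i : Idx A B sc) (x y : MvPolynomial i.S A ⧸ i.I) (h : toB i x = toB i y) :
    ∃ (k : Idx A B sc) (hk : i ≤ k), trans hk x = trans hk y := by
  obtain ⟨p, rfl⟩ := Ideal.Quotient.mk_surjective x
  obtain ⟨p', rfl⟩ := Ideal.Quotient.mk_surjective y
  rw [toB_mk, toB_mk] at h
  let I' : Ideal (MvPolynomial i.S A) := i.I ⊔ Ideal.span {p - p'}
  have hker : I' ≤ RingHom.ker (piS (A := A) i.S) := by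
    refine sup_le i.good.le_ker (Ideal.span_le.mpr ?_)
    rintro _ rfl
    change piS i.S (p - p') = 0
    rw [map_sub, h, sub_self]
  have hgood : GoodIdx sc i.S I' :=
    i.good.mono le_sup_left (Submodule.FG.sup i.good.fg ⟨{p - p'}, by simp⟩) hker
  have hle : i ≤ (⟨i.S, I', hgood⟩ : Idx A B sc) := by
    refine ⟨subset_rfl, ?_⟩
    change i.I ≤ Ideal.comap (incl i.S i.S) I'
    rw [incl_self]
    exact le_sup_left.trans (le_of_eq (Ideal.comap_id _).symm)
  refine ⟨⟨i.S, I', hgood⟩, hle, ?_⟩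
  rw [trans_mk, trans_mk]
  change Ideal.Quotient.mk I' (incl i.S i.S p) = Ideal.Quotient.mk I' (incl i.S i.S p')
  rw [incl_self]
  exact (Ideal.Quotient.mk_eq_mk_iff_sub_mem _ _).mpr
    ((le_sup_right : Ideal.span {p - p'} ≤ I') (Ideal.subset_span rfl))

end Colim

end FPColim

end Groth.Agent.Lib.Helper70
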