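import Mathlib
import Groth.Agent.Lib.Helper70.FPColimB

universe u

namespace Groth.Agent.Lib.Helper70

open CategoryTheory AlgebraicGeometry

namespace FPColim
open SpecUH SqCube AWNRing

section Final
variable {A B : Type u} [CommRing A] [CommRing B] [Algebra A B]

theorem exists_colimit_presentation (sc : Bool)
    (hU : FlatMor.IsUnivHomeo (Spec.map (CommRingCat.ofHom (algebraMap A B))))
    (hT : sc = true → TRf (algebraMap A B)) :
    ∃ (J : Type u) (_ : SmallCategory J) (_ : IsFiltered J) (F : J ⥤ Under (CommRingCat.of A))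
      (c : Limits.Cocone F) (_ : Limits.IsColimit c),
      (∀ j, (F.obj j).hom.hom.FinitePresentation ∧
        FlatMor.IsUnivHomeo (Spec.map (F.obj j).hom) ∧ (sc = true → TRf (F.obj j).hom.hom)) ∧
      c.pt = Under.mk (CommRingCat.ofHom (algebraMap A B)) := by
  have hreach := reachB_eq_top sc hU hT
  have := idx_nonempty hreach
  have := idx_directed hreach
  have hker : RingHom.ker (algebraMap A B) ≤ nilradical A :=
    ((isUnivHomeo_SpecMap_iff _).mp hU).2.1
  refine ⟨Idx A B sc, inferInstance, inferInstance, diagram A B sc, cocone A B sc, ?_, ?_, rfl⟩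
  · haveI : IsConnected (Idx A B sc) := IsFiltered.isConnected _
    haveI : Limits.ReflectsColimitsOfShape (Idx A B sc) (forget CommRingCat.{u}) :=
      Limits.reflectsColimitsOfShape_of_reflectsIsomorphisms
    apply Limits.isColimitOfReflects (Under.forget (CommRingCat.of A))
    apply Limits.isColimitOfReflects (forget CommRingCat.{u})
    refine Limits.Types.FilteredColimit.isColimitOf' _ _ ?_ ?_
    · intro (b : B)
      obtain ⟨i, x, hx⟩ := exists_rep hreach b
      exact ⟨i, x, hx.symm⟩
    · intro i x y hxy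
      obtain ⟨k, hk, h⟩ := exists_eq i x y hxy
      exact ⟨k, homOfLE hk, h⟩
  · intro j
    have hj := good_of_rtowers sc j.good.tower (by
      intro a ha
      apply hker
      rw [RingHom.mem_ker] at ha ⊢
      have := congrArg (toB j) ha
      rwa [AlgHom.commutes, map_zero] at this)
    refine ⟨?_, hj.1, hj.2⟩
    change (algebraMap A (MvPolynomial j.S A ⧸ j.I)).FinitePresentation
    rw [RingHom.finitePresentation_algebraMap]
    exact Algebra.FinitePresentation.quotient j.good.fg

end Final

/-- S7443 -/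
theorem isFilteredColimit_finitePresentation_univHomeo {A B : Type u} [CommRing A] [CommRing B]
    (φ : A →+* B) (hφ : FlatMor.IsUnivHomeo (Spec.map (CommRingCat.ofHom φ))) :
    ∃ (J : Type u) (_ : SmallCategory J) (_ : IsFiltered J) (F : J ⥤ Under (CommRingCat.of A))
      (c : Limits.Cocone F) (_ : Limits.IsColimit c),
      (∀ j, (F.obj j).hom.hom.FinitePresentation ∧ FlatMor.IsUnivHomeo (Spec.map (F.obj j).hom)) ∧
      Nonempty (c.pt ≅ Under.mk (CommRingCat.ofHom φ)) := by
  let _ := φ.toAlgebra
  obtain ⟨J, i1, i2, F, c, hc, hF, hpt⟩ :=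
    exists_colimit_presentation (A := A) (B := B) false hφ (by simp)
  exact ⟨J, i1, i2, F, c, hc, fun j => ⟨(hF j).1, (hF j).2.1⟩, ⟨eqToIso hpt⟩⟩

/-- S7444 -/
theorem isFilteredColimit_finitePresentation_univHomeo_residueFields {A B : Type u} [CommRing A]
    [CommRing B] (φ : A →+* B) (hφ : FlatMor.IsUnivHomeo (Spec.map (CommRingCat.ofHom φ)))
    (hres : ∀ x : Spec (CommRingCat.of B),
      Function.Surjective ((Spec.map (CommRingCat.ofHom φ)).residueFieldMap x)) :
    ∃ (J : Type u) (_ : SmallCategory J) (_ : IsFiltered J) (F : J ⥤ Under (CommRingCat.of A))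
      (c : Limits.Cocone F) (_ : Limits.IsColimit c),
      (∀ j, (F.obj j).hom.hom.FinitePresentation ∧ FlatMor.IsUnivHomeo (Spec.map (F.obj j).hom) ∧
        ∀ x : Spec (F.obj j).right,
          Function.Surjective ((Spec.map (F.obj j).hom).residueFieldMap x)) ∧
      Nonempty (c.pt ≅ Under.mk (CommRingCat.ofHom φ)) := by
  let _ := φ.toAlgebra
  obtain ⟨J, i1, i2, F, c, hc, hF, hpt⟩ :=
    exists_colimit_presentation (A := A) (B := B) true hφ
      (fun _ => (TRf_iff_SpecMap φ).mpr hres)
  refine ⟨J, i1, i2, F, c, hc, fun j => ⟨(hF j).1, (hF j).2.1, ?_⟩, ⟨eqToIso hpt⟩⟩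
  exact (TRf_iff_SpecMap (F.obj j).hom.hom).mp ((hF j).2.2 rfl)

end FPColim

end Groth.Agent.Lib.Helper70
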