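import Mathlib

/-!
# Counting the points of a fibre of a finite flat unramified algebra over an algebraically
closed residue field (ring level).
-/

set_option autoImplicit false
universe u

namespace Groth.Agent.Lib.Helper70.FibCardA

open TensorProduct

/-- A finite formally unramified algebra over an algebraically closed field has exactly
`finrank` many primes. -/
theorem card_primeSpectrum_eq_finrank (K F : Type*) [Field K] [IsAlgClosed K] [CommRing F]
    [Algebra K F] [Module.Finite K F] [Algebra.FormallyUnramified K F] :
    Nat.card (PrimeSpectrum F) = Module.finrank K F := by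
  haveI : IsArtinianRing F := isArtinian_of_tower K inferInstance
  haveI : Finite (PrimeSpectrum F) := inferInstance
  letI : Fintype (PrimeSpectrum F) := Fintype.ofFinite _
  rw [IsArtinianRing.finrank_eq_sum_primeSpectrum F K]
  have h1 : ∀ p : PrimeSpectrum F, Module.finrank K (Localization.AtPrime p.asIdeal) = 1 := by
    intro p
    have hb := Algebra.FormallyUnramified.bijective_of_isAlgClosed_of_isLocalRing K
      (Localization.AtPrime p.asIdeal)
    have e : K ≃ₗ[K] Localization.AtPrime p.asIdeal :=
      LinearEquiv.ofBijective (Algebra.linearMap K _) hb
    rw [← e.finrank_eq, Module.finrank_self]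
  simp [h1, Nat.card_eq_fintype_card]

/-- For a finite flat formally unramified algebra `B` over a domain `A`, the fibre over a prime
with algebraically closed residue field has exactly `finrank A B` points. -/
theorem card_fiber_eq_finrank {A B : Type*} [CommRing A] [CommRing B] [IsDomain A] [Algebra A B]
    [Module.Finite A B] [Module.Flat A B] [Algebra.FormallyUnramified A B]
    (m : PrimeSpectrum A) [IsAlgClosed m.asIdeal.ResidueField] :
    Nat.card (PrimeSpectrum.comap (algebraMap A B) ⁻¹' {m}) = Module.finrank A B := by
  rw [Nat.card_congr (PrimeSpectrum.preimageEquivFiber A B m),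
    card_primeSpectrum_eq_finrank m.asIdeal.ResidueField, Ideal.finrank_fiber_eq_finrank]

end Groth.Agent.Lib.Helper70.FibCardA
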