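import Mathlib
import Groth.Prelude.Def_ModelsG
import Groth.Agent.S10881
import Groth.Agent.Lib.Helper70.FibCardA

/-!
# Fibre cardinality of a finite flat unramified morphism of integral schemes over an
algebraically closed field equals the degree of the function field extension.
-/

set_option autoImplicit false
universe u

open CategoryTheory AlgebraicGeometry

namespace Groth.Agent.Lib.Helper70.FibCardB

/-- The residue field of the prime of an affine chart at a closed point of a scheme locally of
finite type over an algebraically closed field is algebraically closed. -/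
theorem isAlgClosed_residueField {k : Type u} [Field k] [IsAlgClosed k] {X : Scheme.{u}}
    (f : X ⟶ Spec (.of k)) [LocallyOfFiniteType f] {U : X.Opens} (hU : IsAffineOpen U)
    (p : X) (hp : p ∈ U) (hcl : IsClosed ({p} : Set X)) :
    IsAlgClosed (hU.primeIdealOf ⟨p, hp⟩).asIdeal.ResidueField := by
  letI : Algebra Γ(X, U) (X.presheaf.stalk p) :=
    TopCat.Presheaf.algebra_section_stalk X.presheaf (U := U) ⟨p, hp⟩
  have : IsLocalization.AtPrime (X.presheaf.stalk p) (hU.primeIdealOf ⟨p, hp⟩).asIdeal :=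
    hU.isLocalization_stalk ⟨p, hp⟩
  let e1 : Localization.AtPrime (hU.primeIdealOf ⟨p, hp⟩).asIdeal ≃+* X.presheaf.stalk p :=
    (IsLocalization.algEquiv (hU.primeIdealOf ⟨p, hp⟩).asIdeal.primeCompl _ _).toRingEquiv
  let e2 : (hU.primeIdealOf ⟨p, hp⟩).asIdeal.ResidueField ≃+* X.residueField p :=
    IsLocalRing.ResidueField.mapEquiv e1
  let e3 : X.residueField p ≃+* k := (residueFieldIsoBase f p hcl).commRingCatIsoToRingEquiv
  exact IsAlgClosed.of_ringEquiv _ _ (e2.trans e3).symm

/-- The points of `Y` over `p` correspond to the primes of `Γ(Y, π⁻¹U)` over the prime of `p`. -/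
theorem card_fibre_eq {X Y : Scheme.{u}} (π : Y ⟶ X) {U : X.Opens} (hU : IsAffineOpen U)
    (hV : IsAffineOpen (π ⁻¹ᵁ U)) (p : X) (hp : p ∈ U) :
    Nat.card {q : Y // π.base q = p} =
      Nat.card (PrimeSpectrum.comap (π.app U).hom ⁻¹' {hU.primeIdealOf ⟨p, hp⟩}) := by
  symm
  have key : ∀ q' : PrimeSpectrum Γ(Y, π ⁻¹ᵁ U),
      π.base (hV.fromSpec q') = hU.fromSpec (PrimeSpectrum.comap (π.app U).hom q') := by
    intro q'
    have h := IsAffineOpen.SpecMap_appLE_fromSpec π hU hV le_rfl
    have h2 := congrArg (fun g => g.base q') h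
    simp only [Scheme.Hom.comp_base, TopCat.comp_app] at h2
    rw [← Scheme.Hom.app_eq_appLE] at h2
    exact h2.symm
  refine Nat.card_congr (Equiv.ofBijective
    (fun q' => ⟨hV.fromSpec q'.1, ?_⟩) ⟨?_, ?_⟩)
  · rw [key, q'.2, hU.fromSpec_primeIdealOf]
  · intro a b hab
    have h1 : hV.fromSpec a.1 = hV.fromSpec b.1 := by
      simpa only [Subtype.mk.injEq] using hab
    exact Subtype.ext (hV.fromSpec.isOpenEmbedding.injective h1)
  · rintro ⟨q, hq⟩
    have hqV : q ∈ π ⁻¹ᵁ U := by
      change π.base q ∈ U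
      rw [hq]; exact hp
    refine ⟨⟨hV.primeIdealOf ⟨q, hqV⟩, ?_⟩, ?_⟩
    · change PrimeSpectrum.comap (π.app U).hom (hV.primeIdealOf ⟨q, hqV⟩) = _
      apply hU.fromSpec.isOpenEmbedding.injective
      rw [← key, hV.fromSpec_primeIdealOf, hU.fromSpec_primeIdealOf]
      exact hq
    · apply Subtype.ext
      exact hV.fromSpec_primeIdealOf ⟨q, hqV⟩

end Groth.Agent.Lib.Helper70.FibCardB
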