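import Mathlib
import Groth.Prelude.Def_ModelsG
import Groth.Agent.Lib.Helper70.FibCardB

/-!
# Fibre cardinality equals the degree (main statement).
-/

set_option autoImplicit false
universe u

open CategoryTheory AlgebraicGeometry

namespace Groth.Agent.Lib.Helper70.FibCardC

open Groth.Agent.Lib.Helper70

theorem main_flat (k : Type u) [Field k] [IsAlgClosed k]
    (X Y : Scheme.{u}) (fX : X ⟶ Spec (CommRingCat.of k)) [LocallyOfFiniteType fX]
    [IsIntegral X] [IsIntegral Y]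
    (π : Y ⟶ X) [IsFinite π] [Flat π] [AlgebraicGeometry.FormallyUnramified π]
    (e : π.base (genericPoint Y) = genericPoint X) (p : X) (hp : IsClosed ({p} : Set X)) :
    Nat.card {q : Y // π.base q = p} =
      Models.homDegree (X.presheaf.stalkSpecializes (specializes_of_eq e) ≫
        π.stalkMap (genericPoint Y)).hom := by
  obtain ⟨U, hU, hpU⟩ : ∃ U : X.Opens, IsAffineOpen U ∧ p ∈ U := by
    obtain ⟨_, ⟨U, hU, rfl⟩, hpU, -⟩ :=
      X.isBasis_affineOpens.exists_subset_of_mem_open (Set.mem_univ p) isOpen_univ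
    exact ⟨U, hU, hpU⟩
  have hV : IsAffineOpen (π ⁻¹ᵁ U) := hU.preimage π
  rw [FibCardB.card_fibre_eq π hU hV p hpU]
  letI : Algebra Γ(X, U) Γ(Y, π ⁻¹ᵁ U) := (π.app U).hom.toAlgebra
  haveI : Nonempty U := ⟨⟨p, hpU⟩⟩
  have hηU : genericPoint X ∈ U :=
    ((genericPoint_spec X).mem_open_set_iff U.isOpen).mpr ⟨p, trivial, hpU⟩
  have hηV : genericPoint Y ∈ π ⁻¹ᵁ U := by
    change π.base (genericPoint Y) ∈ U
    rw [e]; exact hηU
  haveI : Nonempty (π ⁻¹ᵁ U) := ⟨⟨_, hηV⟩⟩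
  haveI : Module.Finite Γ(X, U) Γ(Y, π ⁻¹ᵁ U) := IsFinite.finite_app π U hU
  haveI : Module.Flat Γ(X, U) Γ(Y, π ⁻¹ᵁ U) := by
    have h := HasRingHomProperty.appLE (P := @Flat) π inferInstance ⟨U, hU⟩ ⟨_, hV⟩ le_rfl
    rw [← Scheme.Hom.app_eq_appLE] at h
    exact h
  haveI : Algebra.FormallyUnramified Γ(X, U) Γ(Y, π ⁻¹ᵁ U) := by
    have h := HasRingHomProperty.appLE (P := @AlgebraicGeometry.FormallyUnramified) π inferInstance
      ⟨U, hU⟩ ⟨_, hV⟩ le_rfl
    rw [← Scheme.Hom.app_eq_appLE] at h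
    exact h
  haveI := FibCardB.isAlgClosed_residueField fX hU p hpU hp
  have h1 := FibCardA.card_fiber_eq_finrank (A := Γ(X, U)) (B := Γ(Y, π ⁻¹ᵁ U))
    (hU.primeIdealOf ⟨p, hpU⟩)
  refine h1.trans ?_
  unfold Models.homDegree
  letI : Algebra X.functionField Y.functionField :=
    (X.presheaf.stalkSpecializes (specializes_of_eq e) ≫ π.stalkMap (genericPoint Y)).hom.toAlgebra
  have hfX : IsFractionRing Γ(X, U) X.functionField :=
    functionField_isFractionRing_of_isAffineOpen X U hU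
  have hfY : IsFractionRing Γ(Y, π ⁻¹ᵁ U) Y.functionField :=
    functionField_isFractionRing_of_isAffineOpen Y _ hV
  letI : Algebra Γ(X, U) Y.functionField :=
    ((algebraMap Γ(Y, π ⁻¹ᵁ U) Y.functionField).comp
      (algebraMap Γ(X, U) Γ(Y, π ⁻¹ᵁ U))).toAlgebra
  haveI : IsScalarTower Γ(X, U) Γ(Y, π ⁻¹ᵁ U) Y.functionField :=
    .of_algebraMap_eq fun _ => rfl
  haveI : IsScalarTower Γ(X, U) X.functionField Y.functionField := by
    refine .of_algebraMap_eq fun a => ?_
    have h2 : X.presheaf.germ U (genericPoint X) hηU ≫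
        (X.presheaf.stalkSpecializes (specializes_of_eq e) ≫ π.stalkMap (genericPoint Y)) =
        π.app U ≫ Y.presheaf.germ (π ⁻¹ᵁ U) (genericPoint Y) hηV := by
      rw [← Category.assoc, TopCat.Presheaf.germ_stalkSpecializes, Scheme.Hom.germ_stalkMap]
    exact (congrArg (fun g => g.hom a) h2).symm
  exact (IsFractionRing.finrank_eq Γ(X, U) X.functionField Γ(Y, π ⁻¹ᵁ U) Y.functionField).symm

end Groth.Agent.Lib.Helper70.FibCardC
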