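import Mathlib
import Groth.Agent.Lib.Helper70.FibRkE
import Groth.Agent.Lib.Helper70.FibRkH

/-!
# Additivity of the rank of functions over a clopen decomposition (helper70)
-/

set_option autoImplicit false

namespace Groth.Agent.Lib.Helper70.FibRkM

universe u

open AlgebraicGeometry CategoryTheory Limits TopologicalSpace
open Groth.Agent.Lib.Helper70.FibRkA Groth.Agent.Lib.Helper70.FibRkB
open Groth.Agent.Lib.Helper70.FibRkC Groth.Agent.Lib.Helper70.FibRkD
open Groth.Agent.Lib.Helper70.FibRkE

section Alg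

variable {K : Type u} [Field K] {R R₁ R₂ : Type u} [CommRing R] [CommRing R₁] [CommRing R₂]

theorem rkOf_prod (ψ : K →+* R) (ρ₁ : R →+* R₁) (ρ₂ : R →+* R₂)
    (hbij : Function.Bijective fun x : R => (ρ₁ x, ρ₂ x)) :
    rkOf ψ = rkOf (ρ₁.comp ψ) + rkOf (ρ₂.comp ψ) := by
  unfold rkOf
  letI := ψ.toAlgebra
  letI := (ρ₁.comp ψ).toAlgebra
  letI := (ρ₂.comp ψ).toAlgebra
  let l : R →ₗ[K] R₁ × R₂ :=
    { toFun := fun x => (ρ₁ x, ρ₂ x)
      map_add' := by
        intro x y
        simp only [map_add, Prod.mk_add_mk]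
      map_smul' := by
        intro c x
        simp only [Algebra.smul_def, RingHom.algebraMap_toAlgebra, map_mul, RingHom.id_apply]
        rfl }
  have e : R ≃ₗ[K] R₁ × R₂ := LinearEquiv.ofBijective l hbij
  rw [e.rank_eq, rank_prod']

end Alg

section Sheaf

variable {Y : Scheme.{u}}

/-- sections over a clopen decomposition. -/
theorem res_prod_bijective (V : Y.Opens) (hcl : IsClosed (V : Set Y)) :
    Function.Bijective fun t : Γ(Y, ⊤) =>
      (res V t, res ⟨(V : Set Y)ᶜ, hcl.isOpen_compl⟩ t) := by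
  let W : Bool → Y.Opens := fun b => if b then V else ⟨(V : Set Y)ᶜ, hcl.isOpen_compl⟩
  have hcov : (⊤ : Y.Opens) ≤ ⨆ b, W b := by
    intro x _
    by_cases hx1 : x ∈ V
    · exact TopologicalSpace.Opens.mem_iSup.mpr ⟨true, hx1⟩
    · exact TopologicalSpace.Opens.mem_iSup.mpr ⟨false, hx1⟩
  constructor
  · intro t t' htt'
    simp only [Prod.mk.injEq] at htt'
    apply Y.sheaf.eq_of_locally_eq' W ⊤ (fun b => homOfLE le_top) hcov
    intro b
    rcases b with _ | _
    · exact htt'.2
    · exact htt'.1
  · rintro ⟨t₁, t₂⟩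
    have hdisj : ∀ i j, i ≠ j → W i ⊓ W j = ⊥ := by
      intro i j hij
      apply TopologicalSpace.Opens.ext
      rcases i with _ | _ <;> rcases j with _ | _
      · exact absurd rfl hij
      · ext y
        constructor
        · rintro ⟨hy1, hy2⟩
          exact hy1 hy2
        · intro hy
          exact absurd hy (Set.notMem_empty y)
      · ext y
        constructor
        · rintro ⟨hy2, hy1⟩
          exact hy1 hy2
        · intro hy
          exact absurd hy (Set.notMem_empty y)
      · exact absurd rfl hij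
    let sf : ∀ b : Bool, Γ(Y, W b) := fun b =>
      match b with
      | true => t₁
      | false => t₂
    have hcompat : TopCat.Presheaf.IsCompatible Y.presheaf W sf := by
      intro i j
      by_cases hij : i = j
      · subst hij
        rfl
      · have : Subsingleton Γ(Y, W i ⊓ W j) := by
          rw [hdisj i j hij]; infer_instance
        exact Subsingleton.elim _ _
    obtain ⟨e0, he, -⟩ :=
      Y.sheaf.existsUnique_gluing' W ⊤ (fun b => homOfLE le_top) hcov sf hcompat
    exact ⟨e0, Prod.ext (he true) (he false)⟩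

end Sheaf

variable {K : Type u} [Field K] {Y : Scheme.{u}}

/-- the open complement of a clopen. -/
def compl (V : Y.Opens) (hV : IsClosed (V : Set Y)) : Y.Opens := ⟨(V : Set Y)ᶜ, hV.isOpen_compl⟩

theorem mem_compl (V : Y.Opens) (hV : IsClosed (V : Set Y)) (y : Y) :
    y ∈ compl V hV ↔ y ∉ V := Iff.rfl

/-- additivity of the rank of functions over a clopen decomposition. -/
theorem rkΓ_add (h : Y ⟶ Spec (CommRingCat.of K)) (V : Y.Opens) (hV : IsClosed (V : Set Y)) :
    rkΓ h = rkΓ (V.ι ≫ h) + rkΓ ((compl V hV).ι ≫ h) := by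
  rw [rkΓ_ι_eq, rkΓ_ι_eq]
  exact rkOf_prod _ _ _ (res_prod_bijective V hV)

end Groth.Agent.Lib.Helper70.FibRkM
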