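import Mathlib
import Groth.Agent.Lib.Helper70.FibRkM
import Groth.Agent.Lib.Helper70.FibRkK
import Groth.Agent.Lib.Helper70.FibRkL

/-!
# The fibre degree function of a quasi-compact flat separated locally quasi-finite morphism
(helper70)
-/

set_option autoImplicit false

namespace Groth.Agent.Lib.Helper70.FibRkN

universe u

open AlgebraicGeometry CategoryTheory Limits TopologicalSpace
open Groth.Agent.Lib.Helper70.FibRkC Groth.Agent.Lib.Helper70.FibRkD
open Groth.Agent.Lib.Helper70.FibRkE Groth.Agent.Lib.Helper70.FibRkF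
open Groth.Agent.Lib.Helper70.FibRkM

/-- additivity of the fibre rank for a clopen finite locally free piece. -/
theorem rkΓ_snd_eq_add {Y U : Scheme.{u}} (p : Y ⟶ U) (V : Y.Opens) [IsFinite (V.ι ≫ p)]
    [Flat (V.ι ≫ p)] (hV : IsClosed (V : Set Y)) {L : Type u} [Field L]
    (g'' : Spec (CommRingCat.of L) ⟶ U) :
    rkΓ (pullback.snd p g'') =
      ((V.ι ≫ p).finrank (g'' (IsLocalRing.closedPoint L)) : Cardinal.{u}) +
        rkΓ (pullback.snd ((compl V hV).ι ≫ p) g'') := by
  have hq : IsClosed ((pullback.fst p g'' ⁻¹ᵁ V : (pullback p g'').Opens) :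
      Set ↥(pullback p g'' : Scheme.{u})) := hV.preimage (pullback.fst p g'').continuous
  rw [rkΓ_add (pullback.snd p g'') (pullback.fst p g'' ⁻¹ᵁ V) hq]
  obtain ⟨hf1, hd1⟩ := piece_bc (pullback.fst p g'') (pullback.snd p g'') p g''
    (IsPullback.of_hasPullback p g'') V
  congr 1
  · rw [rkΓ_eq_finrank _ (IsLocalRing.closedPoint L), hd1]
  · have heq : compl (pullback.fst p g'' ⁻¹ᵁ V) hq = pullback.fst p g'' ⁻¹ᵁ (compl V hV) := rfl
    rw [heq]
    have sq' : IsPullback (pullback.fst p g'' ∣_ (compl V hV))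
        ((pullback.fst p g'' ⁻¹ᵁ (compl V hV)).ι ≫ pullback.snd p g'')
        ((compl V hV).ι ≫ p) g'' :=
      (isPullback_morphismRestrict (pullback.fst p g'') (compl V hV)).paste_vert
        (IsPullback.of_hasPullback p g'')
    rw [← sq'.isoPullback_hom_snd, rkΓ_comp_iso]

variable {X S : Scheme.{u}} (f : X ⟶ S) [Flat f] [LocallyOfFinitePresentation f] [IsSeparated f]
  [LocallyQuasiFinite f] [QuasiCompact f]

omit [Flat f] [LocallyOfFinitePresentation f] [IsSeparated f] in
theorem isFinite_snd {K : Type u} [Field K] (g : Spec (CommRingCat.of K) ⟶ S) :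
    IsFinite (pullback.snd f g) := IsFinite.of_locallyQuasiFinite _

/-- the canonical field point at `s`. -/
noncomputable def fieldPt (s : S) : Spec (CommRingCat.of (S.residueField s)) ⟶ S :=
  S.fromSpecResidueField s

omit [Flat f] [LocallyOfFinitePresentation f] [IsSeparated f] [LocallyQuasiFinite f]
  [QuasiCompact f] in
theorem fieldPt_apply (s : S) : fieldPt s (IsLocalRing.closedPoint (S.residueField s)) = s :=
  Scheme.fromSpecResidueField_apply _ _

/-- the fibre degree. -/
noncomputable def fdeg (s : S) : ℕ :=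
  Cardinal.toNat (rkΓ (pullback.snd f (fieldPt s)))

omit [Flat f] [LocallyOfFinitePresentation f] [IsSeparated f] in
theorem exists_rkΓ_eq {K : Type u} [Field K] (g : Spec (CommRingCat.of K) ⟶ S) :
    ∃ m : ℕ, rkΓ (pullback.snd f g) = (m : Cardinal.{u}) := by
  have := isFinite_snd f g
  exact ⟨_, rkΓ_eq_finrank _ (IsLocalRing.closedPoint K)⟩

/-- the fibre degree is computed by any field point. -/
theorem rkΓ_eq_fdeg {K : Type u} [Field K] (g : Spec (CommRingCat.of K) ⟶ S) :
    rkΓ (pullback.snd f g) = (fdeg f (g (IsLocalRing.closedPoint K)) : Cardinal.{u}) := by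
  obtain ⟨U, -, -, hU⟩ := FibRkG.main f
  have hmem : ∀ (K : Type u) [Field K] (g : Spec (CommRingCat.of K) ⟶ S) (d : ℕ),
      g (IsLocalRing.closedPoint K) ∈ U d ↔ (d : Cardinal.{u}) ≤ rkΓ (pullback.snd f g) := by
    intro K _ g d
    rw [← hU K g d]
    constructor
    · rintro h _ ⟨w, rfl⟩
      rw [eq_closedPoint w]
      exact h
    · intro h
      exact h ⟨_, rfl⟩
  obtain ⟨m, hm⟩ := exists_rkΓ_eq f g
  set s := g (IsLocalRing.closedPoint K) with hs
  have h0 := fieldPt_apply s
  obtain ⟨m', hm'⟩ := exists_rkΓ_eq f (fieldPt s)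
  have key : ∀ d : ℕ, d ≤ m ↔ d ≤ m' := by
    intro d
    have h1 := hmem K g d
    have h2 := hmem (S.residueField s) (fieldPt s) d
    rw [hm, Nat.cast_le] at h1
    rw [hm', Nat.cast_le, h0] at h2
    rw [← h1, ← h2]
  have hmm' : m = m' := le_antisymm ((key m).mp le_rfl) ((key m').mpr le_rfl)
  rw [hm]
  unfold fdeg
  rw [hm', Cardinal.toNat_natCast, hmm']

/-- the open filtration in terms of the fibre degree. -/
theorem exists_opens_fdeg : ∃ U : ℕ → S.Opens, ∀ s d, s ∈ U d ↔ d ≤ fdeg f s := by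
  obtain ⟨U, -, -, hU⟩ := FibRkG.main f
  refine ⟨U, fun s d => ?_⟩
  have h1 := hU (S.residueField s) (fieldPt s) d
  rw [rkΓ_eq_fdeg, fieldPt_apply, Nat.cast_le] at h1
  rw [← h1]
  constructor
  · rintro h _ ⟨w, rfl⟩
    rw [eq_closedPoint w, fieldPt_apply]
    exact h
  · intro h
    have := h ⟨IsLocalRing.closedPoint (S.residueField s), rfl⟩
    rwa [fieldPt_apply] at this

omit [Flat f] [LocallyOfFinitePresentation f] [IsSeparated f] [LocallyQuasiFinite f]
  [QuasiCompact f] in
theorem rkΓ_eq_zero_of_isEmpty {K : Type u} [Field K] {Y : Scheme.{u}}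
    (h : Y ⟶ Spec (CommRingCat.of K)) [IsEmpty Y] : rkΓ h = 0 := by
  have htop : (⊤ : Y.Opens) = ⊥ := by
    apply Opens.ext
    ext y
    exact (IsEmpty.false y).elim
  have : Subsingleton Γ(Y, ⊤) := by rw [htop]; infer_instance
  unfold rkΓ FibRkA.rkOf
  letI := (strHom h).toAlgebra
  exact rank_subsingleton' _ _

/-- the fibre degree is positive exactly on the image. -/
theorem one_le_fdeg_iff (s : S) : 1 ≤ fdeg f s ↔ s ∈ Set.range f := by
  have hspec := rkΓ_eq_fdeg f (fieldPt s)
  rw [fieldPt_apply] at hspec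
  constructor
  · intro h1
    by_contra hs
    have hempty : IsEmpty ↥(pullback f (fieldPt s) : Scheme.{u}) := by
      refine ⟨fun y => hs ⟨pullback.fst f (fieldPt s) y, ?_⟩⟩
      have h2 := congrArg (fun m : pullback f (fieldPt s) ⟶ S => m y)
        (pullback.condition (f := f) (g := fieldPt s))
      have h3 : f (pullback.fst f (fieldPt s) y) =
          fieldPt s (pullback.snd f (fieldPt s) y) := h2
      rw [h3, eq_closedPoint (pullback.snd f (fieldPt s) y), fieldPt_apply]
    rw [rkΓ_eq_zero_of_isEmpty] at hspec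
    have : fdeg f s = 0 := by exact_mod_cast hspec.symm
    omega
  · rintro ⟨x, hx⟩
    obtain ⟨y, -, -⟩ := Scheme.Pullback.exists_preimage_pullback (f := f) (g := fieldPt s) x
      (IsLocalRing.closedPoint (S.residueField s)) (hx.trans (fieldPt_apply s).symm)
    have hbot : IsFinite ((⊥ : (pullback f (fieldPt s)).Opens).ι ≫ pullback.snd f (fieldPt s)) :=
      isFinite_ι_comp _ ⊥ (by simp)
    obtain ⟨V', hV'f, -, -, hlt⟩ :=
      FibRkI.exists_bigger_piece (pullback.snd f (fieldPt s)) ⊥ y (fun h => h)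
    have h1 : ((1 : ℕ) : Cardinal.{u}) ≤ rkΓ (pullback.snd f (fieldPt s)) :=
      (le_rkΓ_iff _ 1).mpr ⟨V', hV'f, by omega⟩
    rw [hspec] at h1
    exact_mod_cast h1

omit [QuasiCompact f] in
/-- étale-local splitting off of a finite locally free part containing the whole fibre. -/
theorem exists_split {K : Type u} [Field K] (g : Spec (CommRingCat.of K) ⟶ S)
    [IsFinite (pullback.snd f g)] :
    ∃ (U : Scheme.{u}) (gU : U ⟶ S) (u : U),
      Hens2.IsEtaleNbhd gU u (g (IsLocalRing.closedPoint K)) ∧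
      ∃ V : (pullback f gU).Opens, IsFinite (V.ι ≫ pullback.snd f gU) ∧
        rkΓ (pullback.snd f g) ≤ ((V.ι ≫ pullback.snd f gU).finrank u : Cardinal.{u}) := by
  have hfinite : Finite ↥(pullback f g : Scheme.{u}) := by
    have h1 := Scheme.Hom.finite_preimage_singleton (pullback.snd f g)
      (IsLocalRing.closedPoint K)
    have h3 : (Set.univ : Set ↥(pullback f g : Scheme.{u})).Finite :=
      h1.subset fun y _ => eq_closedPoint _
    exact Set.finite_univ_iff.mp h3
  obtain ⟨n, ⟨e⟩⟩ : ∃ n : ℕ, Nonempty (Fin n ≃ ↥(pullback f g : Scheme.{u})) :=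
    ⟨_, ⟨(Finite.equivFin _).symm⟩⟩
  have hs : ∀ i : Fin n, f (pullback.fst f g (e i)) = g (IsLocalRing.closedPoint K) := by
    intro i
    have h1 := congrArg (fun m : pullback f g ⟶ S => m (e i)) (pullback.condition (f := f) (g := g))
    have h2 : f (pullback.fst f g (e i)) = g (pullback.snd f g (e i)) := h1
    rw [h2, eq_closedPoint (pullback.snd f g (e i))]
  have hx : ∀ i : Fin n, f.QuasiFiniteAt (pullback.fst f g (e i)) := fun i => f.quasiFiniteAt _
  obtain ⟨U, gU, u, hnb, V, v, hVv⟩ :=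
    Groth.Agent.S1354.result f _ (fun i : Fin n => pullback.fst f g (e i)) hs hx
  have hfinV : IsFinite ((⨆ i, V i).ι ≫ pullback.snd f gU) :=
    FinPartA.isFinite_iSup_ι_comp _ V fun i => (hVv i).2.1
  refine ⟨U, gU, u, hnb, ⨆ i, V i, hfinV, ?_⟩
  have htopiso : IsIso (⊤ : (pullback f g).Opens).ι :=
    inferInstanceAs (IsIso (pullback f g).topIso.hom)
  have htopfin : IsFinite ((⊤ : (pullback f g).Opens).ι ≫ pullback.snd f g) := inferInstance
  have h1 := deg_le_finrank f gU g u hnb.base_eq hnb.residue_bijective ⊤ (⨆ i, V i) (by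
    intro y _
    obtain ⟨i, hi⟩ := e.surjective y
    obtain ⟨hvi, -, hpv, -, hfv, -⟩ := hVv i
    refine ⟨v i, Opens.mem_iSup.mpr ⟨i, hvi⟩, hpv, ?_⟩
    rw [hfv, hi])
  have h2 : rkΓ ((⊤ : (pullback f g).Opens).ι ≫ pullback.snd f g) = rkΓ (pullback.snd f g) :=
    rkΓ_comp_iso _ _
  rw [← h2, rkΓ_ι_eq_deg]
  exact_mod_cast h1

end Groth.Agent.Lib.Helper70.FibRkN
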