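import Mathlib
import Groth.Agent.Lib.Helper70.FibRkN

/-!
# Retrocompactness of the strata of the fibre degree (helper70)
-/

set_option autoImplicit false

namespace Groth.Agent.Lib.Helper70.FibRkO

universe u

open AlgebraicGeometry CategoryTheory Limits TopologicalSpace
open Groth.Agent.Lib.Helper70.FibRkC Groth.Agent.Lib.Helper70.FibRkD
open Groth.Agent.Lib.Helper70.FibRkE Groth.Agent.Lib.Helper70.FibRkF
open Groth.Agent.Lib.Helper70.FibRkM Groth.Agent.Lib.Helper70.FibRkN

theorem quasiCompact_ι_of_isClosed {Y : Scheme.{u}} (W : Y.Opens) (hW : IsClosed (W : Set Y)) :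
    QuasiCompact W.ι := by
  have : IsClosedImmersion W.ι :=
    IsClosedImmersion.of_isPreimmersion _ (by rw [Scheme.Opens.range_ι]; exact hW)
  infer_instance

theorem isClosed_compl {Y : Scheme.{u}} (V : Y.Opens) (hV : IsClosed (V : Set Y)) :
    IsClosed ((compl V hV : Y.Opens) : Set Y) := V.2.isClosed_compl

variable {X S : Scheme.{u}} (f : X ⟶ S) [Flat f] [LocallyOfFinitePresentation f] [IsSeparated f]
  [LocallyQuasiFinite f] [QuasiCompact f]

/-- additivity of the fibre degree over a splitting. -/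
theorem fdeg_eq_add {U : Scheme.{u}} (gU : U ⟶ S) (V : (pullback f gU).Opens)
    [IsFinite (V.ι ≫ pullback.snd f gU)] (hV : IsClosed (V : Set ↥(pullback f gU : Scheme.{u})))
    [QuasiCompact ((compl V hV).ι ≫ pullback.snd f gU)] (u' : U) :
    fdeg f (gU u') = (V.ι ≫ pullback.snd f gU).finrank u' +
      fdeg ((compl V hV).ι ≫ pullback.snd f gU) u' := by
  have h1 := rkΓ_eq_fdeg f (fieldPt u' ≫ gU)
  have h2 := FibRkL.rkΓ_baseChange f gU (fieldPt u')
  have h3 := rkΓ_snd_eq_add (pullback.snd f gU) V hV (fieldPt u')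
  have h4 := rkΓ_eq_fdeg ((compl V hV).ι ≫ pullback.snd f gU) (fieldPt u')
  rw [fieldPt_apply] at h3 h4
  have h5 : (fieldPt u' ≫ gU) (IsLocalRing.closedPoint (U.residueField u')) = gU u' := by
    change gU (fieldPt u' _) = _
    rw [fieldPt_apply]
  rw [h5] at h1
  rw [h2, h1, h4] at h3
  exact_mod_cast h3

theorem isRetrocompact_fdeg (r : ℕ) : ∀ {X S : Scheme.{u}} (f : X ⟶ S) [Flat f]
    [LocallyOfFinitePresentation f] [IsSeparated f] [LocallyQuasiFinite f] [QuasiCompact f],
    IsRetrocompact {s : S | fdeg f s = r} := by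
  induction r using Nat.strong_induction_on with
  | _ r ih =>
  intro X S f _ _ _ _ _ A hAc hAo
  obtain ⟨Ud, hUd⟩ := exists_opens_fdeg f
  rcases Nat.eq_zero_or_pos r with rfl | hrpos
  · have hset : {s : S | fdeg f s = 0} = ((Ud 1 : Set S))ᶜ := by
      ext s
      simp only [Set.mem_ofPred_eq, Set.mem_compl_iff, SetLike.mem_coe, hUd]
      omega
    rw [hset]
    exact hAc.inter_left (Ud 1).2.isClosed_compl
  · have hA₁c : IsCompact (A ∩ Set.range f) := by
      rw [← Set.image_preimage_eq_inter_range]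
      exact (QuasiCompact.isCompact_preimage (f := f) A hAo hAc).image f.continuous
    have hEsub : {s : S | fdeg f s = r} ∩ A ⊆ A ∩ Set.range f := by
      rintro s ⟨hs, hsA⟩
      have hs' : fdeg f s = r := hs
      exact ⟨hsA, (one_le_fdeg_iff f s).mp (by omega)⟩
    have hloc : ∀ s ∈ A ∩ Set.range f, ∃ O : Set S, IsOpen O ∧ s ∈ O ∧
        IsCompact (({s : S | fdeg f s = r} ∩ A) ∩ O) := by
      rintro s ⟨hsA, hsr⟩
      have hfin := isFinite_snd f (fieldPt s)
      obtain ⟨U, gU, u, hnb, V, hVfin, hle⟩ := exists_split f (fieldPt s)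
      have hbase : gU u = s := hnb.base_eq.trans (fieldPt_apply s)
      have hV : IsClosed (V : Set ↥(pullback f gU : Scheme.{u})) :=
        FinPartA.isClosed_of_isFinite_ι_comp _ V hVfin
      have hd1 : 1 ≤ (V.ι ≫ pullback.snd f gU).finrank u := by
        have h1 := (one_le_fdeg_iff f s).mpr hsr
        have h2 := rkΓ_eq_fdeg f (fieldPt s)
        rw [fieldPt_apply] at h2
        rw [h2] at hle
        have : fdeg f s ≤ (V.ι ≫ pullback.snd f gU).finrank u := by exact_mod_cast hle
        omega
      have hlc := Scheme.Hom.isLocallyConstant_finrank (V.ι ≫ pullback.snd f gU)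
      let U' : U.Opens := ⟨(V.ι ≫ pullback.snd f gU).finrank ⁻¹'
        {(V.ι ≫ pullback.snd f gU).finrank u}, hlc.isOpen_fiber _⟩
      have hetale := hnb.etale
      have hu_mem : u ∈ U' ⊓ gU ⁻¹ᵁ ⟨A, hAo⟩ :=
        ⟨rfl, by change gU u ∈ A; rw [hbase]; exact hsA⟩
      obtain ⟨B, hBaff, huB, hBle⟩ := exists_isAffineOpen_mem_and_subset hu_mem
      refine ⟨gU '' (B : Set U), gU.isOpenMap _ B.2, ⟨u, huB, hbase⟩, ?_⟩
      have hqc : QuasiCompact ((compl V hV).ι ≫ pullback.snd f gU) := by
        have := quasiCompact_ι_of_isClosed (compl V hV) (isClosed_compl V hV)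
        infer_instance
      have hEq : ({s : S | fdeg f s = r} ∩ A) ∩ gU '' (B : Set U) =
          gU '' ({u' : U | fdeg ((compl V hV).ι ≫ pullback.snd f gU) u' +
            (V.ι ≫ pullback.snd f gU).finrank u = r} ∩ B) := by
        ext s'
        constructor
        · rintro ⟨⟨hs'r, hs'A⟩, u', hu'B, rfl⟩
          refine ⟨u', ⟨?_, hu'B⟩, rfl⟩
          have h1 := fdeg_eq_add f gU V hV u'
          have h2 : (V.ι ≫ pullback.snd f gU).finrank u' =
            (V.ι ≫ pullback.snd f gU).finrank u := (hBle hu'B).1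
          have h3 : fdeg f (gU u') = r := hs'r
          change _ + _ = r
          omega
        · rintro ⟨u', ⟨hu', hu'B⟩, rfl⟩
          refine ⟨⟨?_, (hBle hu'B).2⟩, u', hu'B, rfl⟩
          have h1 := fdeg_eq_add f gU V hV u'
          have h2 : (V.ι ≫ pullback.snd f gU).finrank u' =
            (V.ι ≫ pullback.snd f gU).finrank u := (hBle hu'B).1
          have h3 : fdeg ((compl V hV).ι ≫ pullback.snd f gU) u' +
            (V.ι ≫ pullback.snd f gU).finrank u = r := hu'
          change fdeg f (gU u') = r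
          omega
      rw [hEq]
      refine IsCompact.image ?_ gU.continuous
      by_cases hdr : (V.ι ≫ pullback.snd f gU).finrank u ≤ r
      · have hset : {u' : U | fdeg ((compl V hV).ι ≫ pullback.snd f gU) u' +
            (V.ι ≫ pullback.snd f gU).finrank u = r} =
            {u' : U | fdeg ((compl V hV).ι ≫ pullback.snd f gU) u' =
              r - (V.ι ≫ pullback.snd f gU).finrank u} := by
          ext u'
          simp only [Set.mem_ofPred_eq]
          omega
        rw [hset]
        exact ih (r - (V.ι ≫ pullback.snd f gU).finrank u) (by omega)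
          ((compl V hV).ι ≫ pullback.snd f gU) hBaff.isCompact B.2
      · have hset : {u' : U | fdeg ((compl V hV).ι ≫ pullback.snd f gU) u' +
            (V.ι ≫ pullback.snd f gU).finrank u = r} = ∅ := by
          ext u'
          simp only [Set.mem_ofPred_eq, Set.mem_empty_iff_false, iff_false]
          omega
        rw [hset, Set.empty_inter]
        exact isCompact_empty
    choose! O hOo hsO hOc using hloc
    obtain ⟨t, htsub, htfin, htcov⟩ := hA₁c.elim_finite_subcover_image (b := A ∩ Set.range f)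
      (c := O) (fun s hs => hOo s hs) (fun s hs => Set.mem_biUnion hs (hsO s hs))
    have hunion : {s : S | fdeg f s = r} ∩ A =
        ⋃ s ∈ t, (({s : S | fdeg f s = r} ∩ A) ∩ O s) := by
      ext s'
      constructor
      · intro hs'
        obtain ⟨s₀, hs₀t, hs₀⟩ := Set.mem_iUnion₂.mp (htcov (hEsub hs'))
        exact Set.mem_iUnion₂.mpr ⟨s₀, hs₀t, hs', hs₀⟩
      · intro hs'
        obtain ⟨s₀, -, hs₀⟩ := Set.mem_iUnion₂.mp hs'
        exact hs₀.1
    rw [hunion]
    exact htfin.isCompact_biUnion fun s hs => hOc s (htsub hs)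

end Groth.Agent.Lib.Helper70.FibRkO
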