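import Mathlib
import Groth.Agent.Lib.Helper70.FibRkO

/-!
# The stratification by fibre degree of a quasi-compact flat separated locally quasi-finite
morphism (helper70)
-/

set_option autoImplicit false

namespace Groth.Agent.Lib.Helper70.FibRkP

universe u

open AlgebraicGeometry CategoryTheory Limits TopologicalSpace
open Groth.Agent.Lib.Helper70.FibRkC Groth.Agent.Lib.Helper70.FibRkD
open Groth.Agent.Lib.Helper70.FibRkE Groth.Agent.Lib.Helper70.FibRkK
open Groth.Agent.Lib.Helper70.FibRkN Groth.Agent.Lib.Helper70.FibRkO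

variable {X S : Scheme.{u}} (f : X ⟶ S) [Flat f] [LocallyOfFinitePresentation f] [IsSeparated f]
  [LocallyQuasiFinite f] [QuasiCompact f]

theorem main :
    ∃ deg : ↑S → ℕ, (∀ r : ℕ, IsClosed {s : ↑S | deg s ≤ r}) ∧
      (∀ r : ℕ, IsRetrocompact {s : ↑S | deg s = r}) ∧
      ∀ (T : Scheme.{u}) (g : T ⟶ S) (r : ℕ),
        Mor2.IsFinLocFreeOfDeg r (pullback.snd f g) ↔ ∀ t : T, deg (g t) = r := by
  obtain ⟨Ud, hUd⟩ := exists_opens_fdeg f
  refine ⟨fdeg f, fun r => ?_, fun r => isRetrocompact_fdeg r f, fun T g r => ?_⟩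
  · have : {s : ↑S | fdeg f s ≤ r} = ((Ud (r + 1) : Set ↑S))ᶜ := by
      ext s
      simp only [Set.mem_ofPred_eq, Set.mem_compl_iff, SetLike.mem_coe, hUd]
      omega
    rw [this]
    exact (Ud (r + 1)).2.isClosed_compl
  · have hT : ∀ (K : Type u) [Field K] (τ : Spec (CommRingCat.of K) ⟶ T),
        rkΓ (pullback.snd (pullback.snd f g) τ) =
          (fdeg f (g (τ (IsLocalRing.closedPoint K))) : Cardinal.{u}) := by
      intro K _ τ
      rw [FibRkL.rkΓ_baseChange, rkΓ_eq_fdeg]
      rfl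
    constructor
    · rintro ⟨⟨hfin, hflat, hlfp⟩, hrank⟩ t
      obtain ⟨K, _, τ, hτ⟩ := FibRkL.exists_fieldPt t
      have h1 := hT K τ
      rw [hτ, rkΓ_eq_finrank _ (IsLocalRing.closedPoint K),
        Scheme.Hom.finrank_pullback_snd, hrank] at h1
      exact_mod_cast h1.symm
    · intro hconst
      have hconst' : ∀ (K : Type u) [Field K] (τ : Spec (CommRingCat.of K) ⟶ T),
          rkΓ (pullback.snd (pullback.snd f g) τ) = (r : Cardinal.{u}) := by
        intro K _ τ
        rw [hT, hconst]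
      have hfin : IsFinite (pullback.snd f g) := isFinite_of_const (pullback.snd f g) r hconst'
      refine ⟨⟨hfin, inferInstance, inferInstance⟩, fun t => ?_⟩
      obtain ⟨K, _, τ, hτ⟩ := FibRkL.exists_fieldPt t
      have h1 := hconst' K τ
      rw [rkΓ_eq_finrank _ (IsLocalRing.closedPoint K),
        Scheme.Hom.finrank_pullback_snd, hτ] at h1
      exact_mod_cast h1

end Groth.Agent.Lib.Helper70.FibRkP
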