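import Mathlib

/-!
# Coefficient ideals for projective modules (helper70)

`A` an `R`-algebra which is projective as an `R`-module, `σ : R →+* A` a second ring map.  The ring
maps `ψ : R → R'` after which `σ` and the structure map agree in `A ⊗[R] R'` are exactly those
killing an ideal of `R`.
-/

set_option autoImplicit false
universe u
open TensorProduct

namespace Groth.Agent.Lib.Helper70.FinFixA

section Module

variable {R : Type u} [CommRing R] {A : Type u} [AddCommGroup A] [Module R A]
  [Module.Projective R A] {R' : Type u} [CommRing R'] [Algebra R R']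

theorem tmul_one_eq_zero_iff (z : A) :
    z ⊗ₜ[R] (1 : R') = 0 ↔ ∀ φ : A →ₗ[R] R, algebraMap R R' (φ z) = 0 := by
  constructor
  · intro h φ
    have h1 := congrArg (fun w => TensorProduct.lid R R' (φ.rTensor R' w)) h
    simpa [Algebra.smul_def] using h1
  · intro h
    obtain ⟨s, hs⟩ := Module.projective_def'.mp (inferInstance : Module.Projective R A)
    have hz : z = (s z).sum fun a r => r • a := by
      have := LinearMap.congr_fun hs z
      simpa [Finsupp.linearCombination_apply] using this.symm
    rw [hz, Finsupp.sum, TensorProduct.sum_tmul]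
    apply Finset.sum_eq_zero
    intro a _
    have h2 := h (Finsupp.lapply a ∘ₗ s)
    simp only [LinearMap.coe_comp, Function.comp_apply, Finsupp.lapply_apply] at h2
    rw [TensorProduct.smul_tmul, Algebra.smul_def, mul_one, h2, TensorProduct.tmul_zero]

end Module

section Algebra

variable {R : Type u} [CommRing R] {A : Type u} [CommRing A] [Algebra R A]
  [Module.Projective R A] (σ : R →+* A)

/-- the ideal generated by the coefficients of `σ r - r`. -/
def fixIdeal : Ideal R :=
  Ideal.span {x | ∃ (φ : A →ₗ[R] R) (r : R), x = φ (σ r - algebraMap R A r)}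

theorem fixIdeal_le_ker_iff {R' : Type u} [CommRing R'] [Algebra R R'] :
    fixIdeal σ ≤ RingHom.ker (algebraMap R R') ↔
      ∀ r : R, (σ r) ⊗ₜ[R] (1 : R') = (algebraMap R A r) ⊗ₜ[R] (1 : R') := by
  constructor
  · intro h r
    rw [← sub_eq_zero, ← TensorProduct.sub_tmul, tmul_one_eq_zero_iff]
    intro φ
    have : φ (σ r - algebraMap R A r) ∈ fixIdeal σ := Ideal.subset_span ⟨φ, r, rfl⟩
    exact (RingHom.mem_ker).mp (h this)
  · intro h
    rw [fixIdeal, Ideal.span_le]
    rintro _ ⟨φ, r, rfl⟩
    rw [SetLike.mem_coe, RingHom.mem_ker]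
    have h1 := h r
    rw [← sub_eq_zero, ← TensorProduct.sub_tmul, tmul_one_eq_zero_iff] at h1
    exact h1 φ

end Algebra

end Groth.Agent.Lib.Helper70.FinFixA
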