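import Mathlib
import Groth.Agent.Lib.Helper70.FinFixA

/-!
# The locus where two algebra maps into a finite projective algebra agree (helper70)
-/

set_option autoImplicit false
universe u
open TensorProduct

namespace Groth.Agent.Lib.Helper70.FinEqA

variable {R : Type u} [CommRing R] {A : Type u} [CommRing A] [Algebra R A]
  [Module.Finite R A] [Module.Projective R A]
  {C : Type u} [CommRing C] [Algebra R C] [Algebra.FiniteType R C]

/-- two `R`-algebra maps `C → A` (`C` of finite type, `A` finite projective) agree after a base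
change `R → R'` iff a finitely generated ideal of `R` dies in `R'`. -/
theorem exists_ideal (α β : C →ₐ[R] A) :
    ∃ c : Ideal R, c.FG ∧ ∀ (R' : Type u) [CommRing R'] [Algebra R R'],
      c ≤ RingHom.ker (algebraMap R R') ↔
        ∀ x : C, (α x) ⊗ₜ[R] (1 : R') = (β x) ⊗ₜ[R] (1 : R') := by
  classical
  obtain ⟨n, f, g, -, -, hfg⟩ := Module.Finite.exists_comp_eq_id_of_projective R A
  obtain ⟨s, hs⟩ := (Algebra.FiniteType.out : (⊤ : Subalgebra R C).FG)
  refine ⟨Ideal.span (((s ×ˢ (Finset.univ : Finset (Fin n))).image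
    (fun q => g (α q.1 - β q.1) q.2) : Finset R) : Set R), ⟨_, rfl⟩, fun R' _ _ => ?_⟩
  constructor
  · intro h
    have key : ∀ x ∈ s, (α x) ⊗ₜ[R] (1 : R') = (β x) ⊗ₜ[R] (1 : R') := by
      intro x hx
      rw [← sub_eq_zero, ← TensorProduct.sub_tmul]
      have hz : α x - β x = f (g (α x - β x)) := by
        have := LinearMap.congr_fun hfg (α x - β x)
        simpa using this.symm
      rw [hz, LinearMap.pi_apply_eq_sum_univ, TensorProduct.sum_tmul]
      apply Finset.sum_eq_zero
      intro j _
      have hmem : g (α x - β x) j ∈ RingHom.ker (algebraMap R R') := by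
        apply h
        apply Ideal.subset_span
        rw [Finset.mem_coe]
        exact Finset.mem_image.mpr ⟨(x, j), Finset.mem_product.mpr ⟨hx, Finset.mem_univ _⟩, rfl⟩
      rw [RingHom.mem_ker] at hmem
      rw [TensorProduct.smul_tmul, Algebra.smul_def, mul_one, hmem, TensorProduct.tmul_zero]
    let α' : C →ₐ[R] A ⊗[R] R' := (Algebra.TensorProduct.includeLeft).comp α
    let β' : C →ₐ[R] A ⊗[R] R' := (Algebra.TensorProduct.includeLeft).comp β
    have hab : α' = β' := AlgHom.ext_of_adjoin_eq_top hs (fun x hx => key x hx)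
    intro x
    exact congrArg (fun φ : C →ₐ[R] A ⊗[R] R' => φ x) hab
  · intro h
    rw [Ideal.span_le]
    intro r hr
    rw [Finset.mem_coe] at hr
    obtain ⟨⟨x, j⟩, -, rfl⟩ := Finset.mem_image.mp hr
    rw [SetLike.mem_coe, RingHom.mem_ker]
    have h1 := h x
    rw [← sub_eq_zero, ← TensorProduct.sub_tmul, FinFixA.tmul_one_eq_zero_iff] at h1
    exact h1 ((LinearMap.proj j).comp g)

end Groth.Agent.Lib.Helper70.FinEqA
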