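import Mathlib
import Groth.Agent.Lib.Helper70.FinEqA

/-!
# The locus where two morphisms `P ⟶ X` over `Spec R` agree, `P` finite locally free (helper70)
-/

set_option autoImplicit false
universe u
open CategoryTheory Limits AlgebraicGeometry TensorProduct

namespace Groth.Agent.Lib.Helper70.FinEqB

open Groth.Agent.Lib.Helper70.FinEqA

/-- the case of spectra. -/
theorem spec_core (R A C : CommRingCat.{u}) (φ : R ⟶ A) (χ : R ⟶ C) (α β : C ⟶ A)
    (hα : χ ≫ α = φ) (hβ : χ ≫ β = φ)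
    (hfin : letI := φ.hom.toAlgebra; Module.Finite R A)
    (hproj : letI := φ.hom.toAlgebra; Module.Projective R A)
    (hft : letI := χ.hom.toAlgebra; Algebra.FiniteType R C) :
    ∃ c : Ideal R, c.FG ∧ ∀ (R' : CommRingCat.{u}) (ψ : R ⟶ R'),
      (pullback.fst (Spec.map φ) (Spec.map ψ) ≫ Spec.map α =
        pullback.fst (Spec.map φ) (Spec.map ψ) ≫ Spec.map β) ↔ c ≤ RingHom.ker ψ.hom := by
  let algA : Algebra R A := φ.hom.toAlgebra
  let algC : Algebra R C := χ.hom.toAlgebra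
  have : Module.Finite R A := hfin
  have : Module.Projective R A := hproj
  have : Algebra.FiniteType R C := hft
  let α' : C →ₐ[R] A := { α.hom with commutes' := fun r => congrArg (fun f => f.hom r) hα }
  let β' : C →ₐ[R] A := { β.hom with commutes' := fun r => congrArg (fun f => f.hom r) hβ }
  obtain ⟨c, hcfg, hc⟩ := exists_ideal α' β'
  refine ⟨c, hcfg, fun R' ψ => ?_⟩
  let algR' : Algebra R R' := ψ.hom.toAlgebra
  have hPB : IsPullback
      (Spec.map (CommRingCat.ofHom (S := A ⊗[R] R') Algebra.TensorProduct.includeLeftRingHom))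
      (Spec.map (CommRingCat.ofHom (S := A ⊗[R] R') Algebra.TensorProduct.includeRight.toRingHom))
      (Spec.map φ) (Spec.map ψ) :=
    isPullback_SpecMap_of_isPushout _ _ _ _ (CommRingCat.isPushout_tensorProduct R A R')
  have h1 : (pullback.fst (Spec.map φ) (Spec.map ψ) ≫ Spec.map α =
      pullback.fst (Spec.map φ) (Spec.map ψ) ≫ Spec.map β) ↔
      α ≫ CommRingCat.ofHom (S := A ⊗[R] R') Algebra.TensorProduct.includeLeftRingHom =
        β ≫ CommRingCat.ofHom (S := A ⊗[R] R') Algebra.TensorProduct.includeLeftRingHom := by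
    rw [← cancel_epi hPB.isoPullback.hom, ← Category.assoc, ← Category.assoc,
      IsPullback.isoPullback_hom_fst, ← Spec.map_comp, ← Spec.map_comp]
    exact Spec.map_injective.eq_iff
  rw [h1, show RingHom.ker ψ.hom = RingHom.ker (algebraMap R R') from rfl, hc R']
  constructor
  · intro h x
    exact congrArg (fun f => f.hom x) h
  · intro h
    ext x
    exact h x

/-- the case of affine schemes. -/
theorem affine_core {R : CommRingCat.{u}} {P X : Scheme.{u}} [IsAffine P] [IsAffine X]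
    (p : P ⟶ Spec R) [IsFinite p] [Flat p] [LocallyOfFinitePresentation p]
    (x : X ⟶ Spec R) [LocallyOfFiniteType x] (a b : P ⟶ X) (ha : a ≫ x = p) (hb : b ≫ x = p) :
    ∃ c : Ideal R, c.FG ∧ ∀ (R' : CommRingCat.{u}) (ψ : R ⟶ R'),
      (pullback.fst p (Spec.map ψ) ≫ a = pullback.fst p (Spec.map ψ) ≫ b) ↔
        c ≤ RingHom.ker ψ.hom := by
  obtain ⟨φ, hφ⟩ : ∃ φ : R ⟶ Γ(P, ⊤), Spec.map φ = P.isoSpec.inv ≫ p :=
    ⟨Spec.preimage _, Spec.map_preimage _⟩
  obtain ⟨χ, hχ⟩ : ∃ χ : R ⟶ Γ(X, ⊤), Spec.map χ = X.isoSpec.inv ≫ x :=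
    ⟨Spec.preimage _, Spec.map_preimage _⟩
  obtain ⟨α, hα⟩ : ∃ α : Γ(X, ⊤) ⟶ Γ(P, ⊤), Spec.map α = P.isoSpec.inv ≫ a ≫ X.isoSpec.hom :=
    ⟨Spec.preimage _, Spec.map_preimage _⟩
  obtain ⟨β, hβ⟩ : ∃ β : Γ(X, ⊤) ⟶ Γ(P, ⊤), Spec.map β = P.isoSpec.inv ≫ b ≫ X.isoSpec.hom :=
    ⟨Spec.preimage _, Spec.map_preimage _⟩
  have hαχ : χ ≫ α = φ := by
    apply Spec.map_injective
    rw [Spec.map_comp, hα, hχ, hφ]
    simp only [Category.assoc, Iso.hom_inv_id_assoc, ha]
  have hβχ : χ ≫ β = φ := by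
    apply Spec.map_injective
    rw [Spec.map_comp, hβ, hχ, hφ]
    simp only [Category.assoc, Iso.hom_inv_id_assoc, hb]
  have hfin : IsFinite (Spec.map φ) := by rw [hφ]; infer_instance
  have hflat : Flat (Spec.map φ) := by rw [hφ]; infer_instance
  have hfp : LocallyOfFinitePresentation (Spec.map φ) := by rw [hφ]; infer_instance
  have hft : LocallyOfFiniteType (Spec.map χ) := by rw [hχ]; infer_instance
  rw [IsFinite.SpecMap_iff] at hfin
  rw [Flat.SpecMap_iff] at hflat
  rw [LocallyOfFinitePresentation.SpecMap_iff] at hfp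
  rw [HasRingHomProperty.Spec_iff (P := @LocallyOfFiniteType)] at hft
  have hproj : letI := φ.hom.toAlgebra; Module.Projective R Γ(P, ⊤) := by
    let _ := φ.hom.toAlgebra
    have : Module.Finite R Γ(P, ⊤) := hfin
    have : Module.Flat R Γ(P, ⊤) := hflat
    have : Algebra.FinitePresentation R Γ(P, ⊤) := hfp
    have : Module.FinitePresentation R Γ(P, ⊤) :=
      Module.FinitePresentation.of_finite_of_finitePresentation R Γ(P, ⊤)
    exact Module.Flat.projective_of_finitePresentation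
  obtain ⟨c, hcfg, hc⟩ := spec_core R Γ(P, ⊤) Γ(X, ⊤) φ χ α β hαχ hβχ hfin hproj hft
  refine ⟨c, hcfg, fun R' ψ => ?_⟩
  rw [← hc R' ψ]
  have hp : p = P.isoSpec.hom ≫ Spec.map φ := by rw [hφ, Iso.hom_inv_id_assoc]
  have ha' : a = P.isoSpec.hom ≫ Spec.map α ≫ X.isoSpec.inv := by
    rw [hα]; simp
  have hb' : b = P.isoSpec.hom ≫ Spec.map β ≫ X.isoSpec.inv := by
    rw [hβ]; simp
  constructor
  · intro h
    obtain ⟨l, hl⟩ : ∃ l : pullback (Spec.map φ) (Spec.map ψ) ⟶ pullback p (Spec.map ψ),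
        l ≫ pullback.fst p (Spec.map ψ) =
          pullback.fst (Spec.map φ) (Spec.map ψ) ≫ P.isoSpec.inv :=
      ⟨pullback.lift (pullback.fst _ _ ≫ P.isoSpec.inv) (pullback.snd _ _) (by
        rw [Category.assoc, ← hφ, pullback.condition]), pullback.lift_fst _ _ _⟩
    have e1 : pullback.fst (Spec.map φ) (Spec.map ψ) ≫ Spec.map α =
        (l ≫ pullback.fst p (Spec.map ψ) ≫ a) ≫ X.isoSpec.hom := by
      rw [← Category.assoc l, hl, hα]
      simp only [Category.assoc]
    have e2 : pullback.fst (Spec.map φ) (Spec.map ψ) ≫ Spec.map β =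
        (l ≫ pullback.fst p (Spec.map ψ) ≫ b) ≫ X.isoSpec.hom := by
      rw [← Category.assoc l, hl, hβ]
      simp only [Category.assoc]
    rw [e1, e2, h]
  · intro h
    obtain ⟨l, hl⟩ : ∃ l : pullback p (Spec.map ψ) ⟶ pullback (Spec.map φ) (Spec.map ψ),
        l ≫ pullback.fst (Spec.map φ) (Spec.map ψ) =
          pullback.fst p (Spec.map ψ) ≫ P.isoSpec.hom :=
      ⟨pullback.lift (pullback.fst _ _ ≫ P.isoSpec.hom) (pullback.snd _ _) (by
        rw [Category.assoc, ← hp, pullback.condition]), pullback.lift_fst _ _ _⟩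
    have e1 : pullback.fst p (Spec.map ψ) ≫ a =
        (l ≫ pullback.fst (Spec.map φ) (Spec.map ψ) ≫ Spec.map α) ≫ X.isoSpec.inv := by
      rw [← Category.assoc l, hl, ha']
      simp only [Category.assoc]
    have e2 : pullback.fst p (Spec.map ψ) ≫ b =
        (l ≫ pullback.fst (Spec.map φ) (Spec.map ψ) ≫ Spec.map β) ≫ X.isoSpec.inv := by
      rw [← Category.assoc l, hl, hb']
      simp only [Category.assoc]
    rw [e1, e2, h]

end Groth.Agent.Lib.Helper70.FinEqB
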