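import Mathlib
import Groth.Agent.Lib.Helper70.WeilG

/-!
# Closed subfunctors cut out by finitely generated ideals (helper70)
-/

set_option autoImplicit false
universe u
open CategoryTheory Limits AlgebraicGeometry

namespace Groth.Agent.Lib.Helper70.WeilK

open Groth.Agent.Lib.Helper70.WeilG

variable {B : Scheme.{u}} (Good : ∀ ⦃T : Scheme.{u}⦄, (T ⟶ B) → Prop)
  (hcomp : ∀ ⦃T T' : Scheme.{u}⦄ (t : T ⟶ B) (g : T' ⟶ T), Good t → Good (g ≫ t))
  (hloc : ∀ ⦃T : Scheme.{u}⦄ (t : T ⟶ B) (𝒰 : Scheme.OpenCover.{u} T), (∀ i, Good (𝒰.f i ≫ t)) → Good t)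
  (haff : ∀ U : B.affineOpens, ∃ c : Ideal Γ(B, U), c.FG ∧
      ∀ (R' : CommRingCat.{u}) (ψ : Γ(B, U) ⟶ R'),
        Good (Spec.map ψ ≫ U.2.fromSpec) ↔ c ≤ RingHom.ker ψ.hom)

include hcomp hloc haff in
/-- a closed subfunctor cut out by finitely generated ideals is a closed subscheme of finite
presentation. -/
theorem exists_closed_fp : ∃ (Z : Scheme.{u}) (j : Z ⟶ B), IsClosedImmersion j ∧
    LocallyOfFinitePresentation j ∧
    ∀ ⦃T : Scheme.{u}⦄ (t : T ⟶ B), (∃ l : T ⟶ Z, l ≫ j = t) ↔ Good t := by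
  have haff' : ∀ U : B.affineOpens, ∃ c : Ideal Γ(B, U),
      ∀ (R' : CommRingCat.{u}) (ψ : Γ(B, U) ⟶ R'),
        Good (Spec.map ψ ≫ U.2.fromSpec) ↔ c ≤ RingHom.ker ψ.hom := fun U => by
    obtain ⟨c, -, hc⟩ := haff U
    exact ⟨c, hc⟩
  have hfg : ∀ U : B.affineOpens, (J Good haff' U).FG := by
    intro U
    obtain ⟨c, hcfg, hc⟩ := haff U
    have : J Good haff' U = c := by
      apply ideal_eq_of_forall_ker
      intro R' ψ
      rw [← J_spec Good haff' U R' ψ, hc R' ψ]
    rw [this]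
    exact hcfg
  refine ⟨_, (Jdata Good haff').subschemeι, inferInstance, ?_,
    fun _ t => factors_iff_good Good hcomp hloc haff' t⟩
  rw [IsZariskiLocalAtSource.iff_of_openCover (P := @LocallyOfFinitePresentation)
    (Jdata Good haff').subschemeCover.openCover]
  intro (U : B.affineOpens)
  have h1 : (Jdata Good haff').subschemeCover.openCover.f U ≫ (Jdata Good haff').subschemeι =
      Spec.map (CommRingCat.ofHom (Ideal.Quotient.mk (J Good haff' U))) ≫ U.2.fromSpec := by
    have h2 := (Jdata Good haff').subschemeCover_map_subschemeι U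
    rw [Scheme.IdealSheafData.glueDataObjι_ι] at h2
    exact h2
  obtain ⟨u, hu⟩ : ∃ u : Spec Γ(B, U) ⟶ B, u = U.2.fromSpec := ⟨_, rfl⟩
  rw [h1, ← hu]
  have hoi : IsOpenImmersion u := by rw [hu]; exact IsAffineOpen.isOpenImmersion_fromSpec U.2
  have hq : LocallyOfFinitePresentation
      (Spec.map (CommRingCat.ofHom (Ideal.Quotient.mk (J Good haff' U)))) := by
    rw [LocallyOfFinitePresentation.SpecMap_iff]
    apply RingHom.FinitePresentation.of_surjective _ Ideal.Quotient.mk_surjective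
    simp only [Ideal.mk_ker]
    exact hfg U
  have hu' : LocallyOfFinitePresentation u := inferInstance
  exact @locallyOfFinitePresentation_comp _ _ _ _ _ hq hu'

end Groth.Agent.Lib.Helper70.WeilK
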