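import Mathlib
import Groth.Agent.Lib.Helper70.WeilK
import Groth.Agent.Lib.Helper70.FinEqB

/-!
# The locus over which two morphisms from a finite locally free scheme agree is a closed subscheme
of finite presentation (helper70)
-/

set_option autoImplicit false
universe u
open CategoryTheory Limits AlgebraicGeometry

namespace Groth.Agent.Lib.Helper70.FinEqC

open Groth.Agent.Lib.Helper70.WeilG Groth.Agent.Lib.Helper70.WeilK Groth.Agent.Lib.Helper70.FinEqB

variable {B P X : Scheme.{u}} (p : P ⟶ B) (x : X ⟶ B) (a b : P ⟶ X)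

/-- `a` and `b` agree after base change along `t`. -/
def Good ⦃T : Scheme.{u}⦄ (t : T ⟶ B) : Prop :=
  pullback.fst p t ≫ a = pullback.fst p t ≫ b

variable {p a b}

theorem Good.comp {T T' : Scheme.{u}} {t : T ⟶ B} (h : Good p a b t) (g : T' ⟶ T) :
    Good p a b (g ≫ t) := by
  obtain ⟨m, hm⟩ : ∃ m : pullback p (g ≫ t) ⟶ pullback p t,
      m ≫ pullback.fst p t = pullback.fst p (g ≫ t) :=
    ⟨pullback.lift (pullback.fst _ _) (pullback.snd _ _ ≫ g)
      (by rw [Category.assoc]; exact pullback.condition), pullback.lift_fst _ _ _⟩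
  unfold Good at h ⊢
  rw [← hm, Category.assoc, h, Category.assoc]

theorem Good.of_openCover {T : Scheme.{u}} (t : T ⟶ B) (𝒰 : Scheme.OpenCover.{u} T)
    (h : ∀ i, Good p a b (𝒰.f i ≫ t)) : Good p a b t := by
  unfold Good
  apply Scheme.Cover.hom_ext (𝒰.pullback₁ (pullback.snd p t))
  intro (i : 𝒰.I₀)
  change pullback.fst (pullback.snd p t) (𝒰.f i) ≫ _ = pullback.fst (pullback.snd p t) (𝒰.f i) ≫ _
  obtain ⟨m, hm⟩ : ∃ m : pullback (pullback.snd p t) (𝒰.f i) ⟶ pullback p (𝒰.f i ≫ t),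
      m ≫ pullback.fst p (𝒰.f i ≫ t) =
        pullback.fst (pullback.snd p t) (𝒰.f i) ≫ pullback.fst p t :=
    ⟨pullback.lift (pullback.fst _ _ ≫ pullback.fst p t) (pullback.snd _ _) (by
      rw [Category.assoc, pullback.condition, ← Category.assoc, pullback.condition,
        Category.assoc]), pullback.lift_fst _ _ _⟩
  have h1 := h i
  unfold Good at h1
  rw [← Category.assoc, ← hm, Category.assoc, h1, ← Category.assoc, hm, Category.assoc]

section Affine

variable (p a b) [IsFinite p] [Flat p] [LocallyOfFinitePresentation p] [IsAffineHom x]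
  [LocallyOfFiniteType x] (ha : a ≫ x = p) (hb : b ≫ x = p) (U : B.affineOpens)

include ha hb in
theorem affine_rep : ∃ c : Ideal Γ(B, U), c.FG ∧
    ∀ (R' : CommRingCat.{u}) (ψ : Γ(B, U) ⟶ R'),
      Good p a b (Spec.map ψ ≫ U.2.fromSpec) ↔ c ≤ RingHom.ker ψ.hom := by
  obtain ⟨u, hu⟩ : ∃ u : Spec Γ(B, U) ⟶ B, u = U.2.fromSpec := ⟨_, rfl⟩
  rw [← hu]
  obtain ⟨pU, hpU⟩ : ∃ pU : pullback p u ⟶ Spec Γ(B, U), pU = pullback.snd p u := ⟨_, rfl⟩
  obtain ⟨xU, hxU⟩ : ∃ xU : pullback x u ⟶ Spec Γ(B, U), xU = pullback.snd x u := ⟨_, rfl⟩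
  have i1 : IsFinite pU := by rw [hpU]; infer_instance
  have i2 : Flat pU := by rw [hpU]; infer_instance
  have i3 : LocallyOfFinitePresentation pU := by rw [hpU]; infer_instance
  have i4 : IsAffineHom xU := by rw [hxU]; infer_instance
  have i5 : LocallyOfFiniteType xU := by rw [hxU]; infer_instance
  have i6 : IsAffine (pullback p u) := isAffine_of_isAffineHom pU
  have i7 : IsAffine (pullback x u) := isAffine_of_isAffineHom xU
  have hcP : pullback.fst p u ≫ p = pU ≫ u := by rw [hpU]; exact pullback.condition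
  obtain ⟨aU, haU1, haU2⟩ : ∃ aU : pullback p u ⟶ pullback x u,
      aU ≫ pullback.fst x u = pullback.fst p u ≫ a ∧ aU ≫ xU = pU := by
    refine ⟨pullback.lift (pullback.fst p u ≫ a) pU (by rw [Category.assoc, ha, hcP]),
      pullback.lift_fst _ _ _, ?_⟩
    rw [hxU]; exact pullback.lift_snd _ _ _
  obtain ⟨bU, hbU1, hbU2⟩ : ∃ bU : pullback p u ⟶ pullback x u,
      bU ≫ pullback.fst x u = pullback.fst p u ≫ b ∧ bU ≫ xU = pU := by
    refine ⟨pullback.lift (pullback.fst p u ≫ b) pU (by rw [Category.assoc, hb, hcP]),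
      pullback.lift_fst _ _ _, ?_⟩
    rw [hxU]; exact pullback.lift_snd _ _ _
  obtain ⟨c, hcfg, hc⟩ := affine_core pU xU aU bU haU2 hbU2
  refine ⟨c, hcfg, fun R' ψ => ?_⟩
  rw [← hc R' ψ]
  unfold Good
  constructor
  · intro h
    obtain ⟨n, hn⟩ : ∃ n : pullback pU (Spec.map ψ) ⟶ pullback p (Spec.map ψ ≫ u),
        n ≫ pullback.fst p (Spec.map ψ ≫ u) = pullback.fst pU (Spec.map ψ) ≫ pullback.fst p u :=
      ⟨pullback.lift (pullback.fst _ _ ≫ pullback.fst p u) (pullback.snd _ _) (by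
        rw [Category.assoc, hcP, ← Category.assoc, pullback.condition, Category.assoc]),
        pullback.lift_fst _ _ _⟩
    rw [hxU] at haU2 hbU2
    apply pullback.hom_ext
    · rw [Category.assoc, Category.assoc, haU1, hbU1, ← Category.assoc, ← Category.assoc, ← hn,
        Category.assoc, Category.assoc, h]
    · rw [Category.assoc, Category.assoc, haU2, hbU2]
  · intro h
    obtain ⟨n₀, hn₀1, hn₀2⟩ : ∃ n₀ : pullback p (Spec.map ψ ≫ u) ⟶ pullback p u,
        n₀ ≫ pullback.fst p u = pullback.fst p (Spec.map ψ ≫ u) ∧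
        n₀ ≫ pU = pullback.snd p (Spec.map ψ ≫ u) ≫ Spec.map ψ := by
      refine ⟨pullback.lift (pullback.fst _ _) (pullback.snd _ _ ≫ Spec.map ψ) (by
        rw [Category.assoc]; exact pullback.condition), pullback.lift_fst _ _ _, ?_⟩
      rw [hpU]; exact pullback.lift_snd _ _ _
    obtain ⟨n, hn⟩ : ∃ n : pullback p (Spec.map ψ ≫ u) ⟶ pullback pU (Spec.map ψ),
        n ≫ pullback.fst pU (Spec.map ψ) = n₀ :=
      ⟨pullback.lift n₀ (pullback.snd _ _) hn₀2, pullback.lift_fst _ _ _⟩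
    have e1 : pullback.fst p (Spec.map ψ ≫ u) ≫ a =
        (n ≫ pullback.fst pU (Spec.map ψ) ≫ aU) ≫ pullback.fst x u := by
      rw [← Category.assoc n, hn, Category.assoc, haU1, ← Category.assoc, hn₀1]
    have e2 : pullback.fst p (Spec.map ψ ≫ u) ≫ b =
        (n ≫ pullback.fst pU (Spec.map ψ) ≫ bU) ≫ pullback.fst x u := by
      rw [← Category.assoc n, hn, Category.assoc, hbU1, ← Category.assoc, hn₀1]
    rw [e1, e2, h]

end Affine

/-- **The locus where two morphisms from a finite locally free scheme agree.** -/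
theorem exists_closed_eq (p : P ⟶ B) (x : X ⟶ B) (a b : P ⟶ X)
    [IsFinite p] [Flat p] [LocallyOfFinitePresentation p] [IsAffineHom x]
    [LocallyOfFiniteType x] (ha : a ≫ x = p) (hb : b ≫ x = p) :
    ∃ (Z : Scheme.{u}) (j : Z ⟶ B), IsClosedImmersion j ∧ LocallyOfFinitePresentation j ∧
      ∀ ⦃T : Scheme.{u}⦄ (t : T ⟶ B), (∃ l : T ⟶ Z, l ≫ j = t) ↔ Good p a b t :=
  exists_closed_fp (Good p a b) (fun _ _ _ g h => h.comp g)
    (fun _ t 𝒰 h => Good.of_openCover t 𝒰 h) (affine_rep p x a b ha hb)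

end Groth.Agent.Lib.Helper70.FinEqC
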