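import Mathlib
import Groth.Agent.Lib.Helper70.FinEqC

/-!
# `Over S` form: the locus in `G` where two morphisms `G ⊗ Y ⟶ X` agree, `Y` finite locally free
(helper70)
-/

set_option autoImplicit false
universe u
open CategoryTheory Limits AlgebraicGeometry MonoidalCategory CartesianMonoidalCategory

namespace Groth.Agent.Lib.Helper70.FinEqD

open Groth.Agent.Lib.Helper70.FinEqC

variable {S : Scheme.{u}} {G Y X : Over S}

theorem exists_closed_over (u v : G ⊗ Y ⟶ X)
    [IsFinite Y.hom] [Flat Y.hom] [LocallyOfFinitePresentation Y.hom]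
    [IsAffineHom X.hom] [LocallyOfFiniteType X.hom] :
    ∃ (Z : Over S) (j : Z ⟶ G), IsClosedImmersion j.left ∧ LocallyOfFinitePresentation j.left ∧
      ∀ (T : Over S) (g : T ⟶ G), (∃ z : T ⟶ Z, z ≫ j = g) ↔
        ∀ (T' : Over S) (t : T' ⟶ T) (y : T' ⟶ Y), lift (t ≫ g) y ≫ u = lift (t ≫ g) y ≫ v := by
  obtain ⟨p, hp⟩ : ∃ p : (G ⊗ Y).left ⟶ G.left, p = (fst G Y).left := ⟨_, rfl⟩
  obtain ⟨x, hx⟩ : ∃ x : (G ⊗ X).left ⟶ G.left, x = (fst G X).left := ⟨_, rfl⟩
  have hp' : p = pullback.fst G.hom Y.hom := hp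
  have hx' : x = pullback.fst G.hom X.hom := hx
  have i1 : IsFinite p := by
    rw [hp']; exact MorphismProperty.pullback_fst (P := @IsFinite) _ _ inferInstance
  have i2 : Flat p := by
    rw [hp']; exact MorphismProperty.pullback_fst (P := @Flat) _ _ inferInstance
  have i3 : LocallyOfFinitePresentation p := by
    rw [hp']
    exact MorphismProperty.pullback_fst (P := @LocallyOfFinitePresentation) _ _ inferInstance
  have i4 : IsAffineHom x := by
    rw [hx']; exact MorphismProperty.pullback_fst (P := @IsAffineHom) _ _ inferInstance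
  have i5 : LocallyOfFiniteType x := by
    rw [hx']; exact MorphismProperty.pullback_fst (P := @LocallyOfFiniteType) _ _ inferInstance
  obtain ⟨a, ha⟩ : ∃ a : (G ⊗ Y).left ⟶ (G ⊗ X).left, a = (lift (fst G Y) u).left := ⟨_, rfl⟩
  obtain ⟨b, hb⟩ : ∃ b : (G ⊗ Y).left ⟶ (G ⊗ X).left, b = (lift (fst G Y) v).left := ⟨_, rfl⟩
  have hax : a ≫ x = p := by rw [ha, hx, hp, ← Over.comp_left, lift_fst]
  have hbx : b ≫ x = p := by rw [hb, hx, hp, ← Over.comp_left, lift_fst]
  obtain ⟨Z₀, j₀, hj1, hj2, hj3⟩ := exists_closed_eq p x a b hax hbx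
  refine ⟨Over.mk (j₀ ≫ G.hom), Over.homMk j₀ rfl, hj1, hj2, fun T g => ?_⟩
  have e1 : (∃ z : T ⟶ Over.mk (j₀ ≫ G.hom), z ≫ (Over.homMk j₀ rfl : Over.mk (j₀ ≫ G.hom) ⟶ G) = g) ↔
      ∃ l : T.left ⟶ Z₀, l ≫ j₀ = g.left := by
    constructor
    · rintro ⟨z, rfl⟩
      exact ⟨z.left, rfl⟩
    · rintro ⟨l, hl⟩
      refine ⟨Over.homMk l ?_, ?_⟩
      · change l ≫ j₀ ≫ G.hom = T.hom
        rw [← Category.assoc, hl, Over.w]
      · ext1
        exact hl
  rw [e1, hj3 g.left]
  unfold Good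
  constructor
  · intro h T' t y
    have hq : (lift (t ≫ g) y).left ≫ p = t.left ≫ g.left := by
      rw [hp, ← Over.comp_left, lift_fst, Over.comp_left]
    obtain ⟨q, hq1⟩ : ∃ q : T'.left ⟶ pullback p g.left,
        q ≫ pullback.fst p g.left = (lift (t ≫ g) y).left :=
      ⟨pullback.lift (lift (t ≫ g) y).left t.left hq, pullback.lift_fst _ _ _⟩
    have h1 : (lift (t ≫ g) y ≫ lift (fst G Y) u).left =
        (lift (t ≫ g) y ≫ lift (fst G Y) v).left := by
      rw [Over.comp_left, Over.comp_left, ← ha, ← hb, ← hq1, Category.assoc, Category.assoc, h]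
    have h2 : lift (t ≫ g) y ≫ lift (fst G Y) u = lift (t ≫ g) y ≫ lift (fst G Y) v :=
      Over.OverMorphism.ext h1
    have h3 := congrArg (fun m => m ≫ snd G X) h2
    simpa only [Category.assoc, lift_snd] using h3
  · intro h
    have hc : pullback.fst p g.left ≫ p = pullback.snd p g.left ≫ g.left := pullback.condition
    let T' : Over S := Over.mk (pullback.snd p g.left ≫ T.hom)
    let t : T' ⟶ T := Over.homMk (pullback.snd p g.left) rfl
    have hw : pullback.fst p g.left ≫ (G ⊗ Y).hom = pullback.snd p g.left ≫ T.hom := by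
      have h1 : (G ⊗ Y).hom = p ≫ G.hom := by rw [hp, Over.w]
      rw [h1, ← Category.assoc, hc, Category.assoc, Over.w]
    let w : T' ⟶ G ⊗ Y := Over.homMk (pullback.fst p g.left) hw
    have hwf : w ≫ fst G Y = t ≫ g := by
      ext1
      rw [Over.comp_left, Over.comp_left, ← hp]
      exact hc
    have hwl : w = lift (t ≫ g) (w ≫ snd G Y) := by
      apply CartesianMonoidalCategory.hom_ext
      · rw [lift_fst, hwf]
      · rw [lift_snd]
    have h1 := h T' t (w ≫ snd G Y)
    rw [← hwl] at h1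
    have h2 : w ≫ lift (fst G Y) u = w ≫ lift (fst G Y) v := by
      apply CartesianMonoidalCategory.hom_ext
      · rw [Category.assoc, Category.assoc, lift_fst, lift_fst]
      · rw [Category.assoc, Category.assoc, lift_snd, lift_snd, h1]
    have h3 := congrArg (fun m => m.left) h2
    rw [ha, hb]
    exact h3

end Groth.Agent.Lib.Helper70.FinEqD
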