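import Mathlib
import Groth.Agent.Lib.Helper70.FinFixA

/-!
# The locus where a morphism `a : P ⟶ Spec R` agrees with a finite locally free `p : P ⟶ Spec R`
after base change (helper70)
-/

set_option autoImplicit false
universe u
open CategoryTheory Limits AlgebraicGeometry TensorProduct

namespace Groth.Agent.Lib.Helper70.FinFixB

open Groth.Agent.Lib.Helper70.FinFixA

/-- the case `P = Spec A`. -/
theorem spec_core (R A : CommRingCat.{u}) (φ σ : R ⟶ A)
    (hproj : letI := φ.hom.toAlgebra; Module.Projective R A) :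
    ∃ c : Ideal R, ∀ (R' : CommRingCat.{u}) (ψ : R ⟶ R'),
      (pullback.fst (Spec.map φ) (Spec.map ψ) ≫ Spec.map σ =
        pullback.fst (Spec.map φ) (Spec.map ψ) ≫ Spec.map φ) ↔ c ≤ RingHom.ker ψ.hom := by
  let algA : Algebra R A := φ.hom.toAlgebra
  have : Module.Projective R A := hproj
  refine ⟨fixIdeal σ.hom, fun R' ψ => ?_⟩
  let algR' : Algebra R R' := ψ.hom.toAlgebra
  have hPB : IsPullback
      (Spec.map (CommRingCat.ofHom (S := A ⊗[R] R') Algebra.TensorProduct.includeLeftRingHom))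
      (Spec.map (CommRingCat.ofHom (S := A ⊗[R] R') Algebra.TensorProduct.includeRight.toRingHom))
      (Spec.map φ) (Spec.map ψ) :=
    isPullback_SpecMap_of_isPushout _ _ _ _ (CommRingCat.isPushout_tensorProduct R A R')
  have h1 : (pullback.fst (Spec.map φ) (Spec.map ψ) ≫ Spec.map σ =
      pullback.fst (Spec.map φ) (Spec.map ψ) ≫ Spec.map φ) ↔
      σ ≫ CommRingCat.ofHom (S := A ⊗[R] R') Algebra.TensorProduct.includeLeftRingHom =
        φ ≫ CommRingCat.ofHom (S := A ⊗[R] R') Algebra.TensorProduct.includeLeftRingHom := by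
    rw [← cancel_epi hPB.isoPullback.hom, ← Category.assoc, ← Category.assoc,
      IsPullback.isoPullback_hom_fst, ← Spec.map_comp, ← Spec.map_comp]
    exact Spec.map_injective.eq_iff
  rw [h1, show RingHom.ker ψ.hom = RingHom.ker (algebraMap R R') from rfl, fixIdeal_le_ker_iff]
  constructor
  · intro h r
    exact congrArg (fun f => f.hom r) h
  · intro h
    ext r
    exact h r

/-- the case of an affine `P` with `p` finite, flat and of finite presentation. -/
theorem affine_core {R : CommRingCat.{u}} {P : Scheme.{u}} [IsAffine P] (p a : P ⟶ Spec R)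
    [IsFinite p] [Flat p] [LocallyOfFinitePresentation p] :
    ∃ c : Ideal R, ∀ (R' : CommRingCat.{u}) (ψ : R ⟶ R'),
      (pullback.fst p (Spec.map ψ) ≫ a = pullback.fst p (Spec.map ψ) ≫ p) ↔
        c ≤ RingHom.ker ψ.hom := by
  obtain ⟨φ, hφ⟩ : ∃ φ : R ⟶ Γ(P, ⊤), Spec.map φ = P.isoSpec.inv ≫ p :=
    ⟨Spec.preimage _, Spec.map_preimage _⟩
  obtain ⟨σ, hσ⟩ : ∃ σ : R ⟶ Γ(P, ⊤), Spec.map σ = P.isoSpec.inv ≫ a :=
    ⟨Spec.preimage _, Spec.map_preimage _⟩
  have hfin : IsFinite (Spec.map φ) := by rw [hφ]; infer_instance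
  have hflat : Flat (Spec.map φ) := by rw [hφ]; infer_instance
  have hfp : LocallyOfFinitePresentation (Spec.map φ) := by rw [hφ]; infer_instance
  rw [IsFinite.SpecMap_iff] at hfin
  rw [Flat.SpecMap_iff] at hflat
  rw [LocallyOfFinitePresentation.SpecMap_iff] at hfp
  have hproj : letI := φ.hom.toAlgebra; Module.Projective R Γ(P, ⊤) := by
    let _ := φ.hom.toAlgebra
    have : Module.Finite R Γ(P, ⊤) := hfin
    have : Module.Flat R Γ(P, ⊤) := hflat
    have : Algebra.FinitePresentation R Γ(P, ⊤) := hfp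
    have : Module.FinitePresentation R Γ(P, ⊤) :=
      Module.FinitePresentation.of_finite_of_finitePresentation R Γ(P, ⊤)
    exact Module.Flat.projective_of_finitePresentation
  obtain ⟨c, hc⟩ := spec_core R Γ(P, ⊤) φ σ hproj
  refine ⟨c, fun R' ψ => ?_⟩
  rw [← hc R' ψ]
  have hp : p = P.isoSpec.hom ≫ Spec.map φ := by rw [hφ, Iso.hom_inv_id_assoc]
  have ha : a = P.isoSpec.hom ≫ Spec.map σ := by rw [hσ, Iso.hom_inv_id_assoc]
  constructor
  · intro h
    obtain ⟨l, hl⟩ : ∃ l : pullback (Spec.map φ) (Spec.map ψ) ⟶ pullback p (Spec.map ψ),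
        l ≫ pullback.fst p (Spec.map ψ) =
          pullback.fst (Spec.map φ) (Spec.map ψ) ≫ P.isoSpec.inv :=
      ⟨pullback.lift (pullback.fst _ _ ≫ P.isoSpec.inv) (pullback.snd _ _) (by
        rw [Category.assoc, ← hφ, pullback.condition]), pullback.lift_fst _ _ _⟩
    have e1 : pullback.fst (Spec.map φ) (Spec.map ψ) ≫ Spec.map σ =
        l ≫ pullback.fst p (Spec.map ψ) ≫ a := by
      rw [← Category.assoc, hl, Category.assoc, ← hσ]
    have e2 : pullback.fst (Spec.map φ) (Spec.map ψ) ≫ Spec.map φ =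
        l ≫ pullback.fst p (Spec.map ψ) ≫ p := by
      rw [← Category.assoc, hl, Category.assoc, ← hφ]
    rw [e1, e2, h]
  · intro h
    obtain ⟨l, hl⟩ : ∃ l : pullback p (Spec.map ψ) ⟶ pullback (Spec.map φ) (Spec.map ψ),
        l ≫ pullback.fst (Spec.map φ) (Spec.map ψ) =
          pullback.fst p (Spec.map ψ) ≫ P.isoSpec.hom :=
      ⟨pullback.lift (pullback.fst _ _ ≫ P.isoSpec.hom) (pullback.snd _ _) (by
        rw [Category.assoc, ← hp, pullback.condition]), pullback.lift_fst _ _ _⟩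
    have e1 : pullback.fst p (Spec.map ψ) ≫ a =
        l ≫ pullback.fst (Spec.map φ) (Spec.map ψ) ≫ Spec.map σ := by
      rw [← Category.assoc, hl, Category.assoc, ← ha]
    have e2 : pullback.fst p (Spec.map ψ) ≫ p =
        l ≫ pullback.fst (Spec.map φ) (Spec.map ψ) ≫ Spec.map φ := by
      rw [← Category.assoc, hl, Category.assoc, ← hp]
    rw [e1, e2, h]

end Groth.Agent.Lib.Helper70.FinFixB
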