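import Mathlib
import Groth.Agent.Lib.Helper70.WeilG
import Groth.Agent.Lib.Helper70.FinFixB

/-!
# Fixed points of a finite locally free infinitesimal pointed scheme form a closed subscheme
(helper70)
-/

set_option autoImplicit false
universe u
open CategoryTheory Limits AlgebraicGeometry MonoidalCategory CartesianMonoidalCategory

namespace Groth.Agent.Lib.Helper70.FinFixC

open Groth.Agent.Lib.Helper70.WeilG Groth.Agent.Lib.Helper70.FinFixB

variable {S : Scheme.{u}} {F X : Over S} (act : F ⊗ X ⟶ X)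

/-- scheme-level fixed point condition. -/
def Good ⦃T : Scheme.{u}⦄ (t : T ⟶ X.left) : Prop :=
  ∀ (W : Scheme.{u}) (w : W ⟶ T) (g : W ⟶ F.left) (hw : g ≫ F.hom = (w ≫ t) ≫ X.hom),
    pullback.lift g (w ≫ t) hw ≫ (act.left : pullback F.hom X.hom ⟶ X.left) = w ≫ t

/-- `Over`-level fixed point condition. -/
def FixedPt {T : Over S} (x : T ⟶ X) : Prop :=
  ∀ (T' : Over S) (t : T' ⟶ T) (g : T' ⟶ F), lift g (t ≫ x) ≫ act = t ≫ x

theorem good_iff {T : Over S} (x : T ⟶ X) : Good act x.left ↔ FixedPt act x := by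
  constructor
  · intro h W w y
    ext1
    have hw : y.left ≫ F.hom = (w.left ≫ x.left) ≫ X.hom := by
      rw [← Over.comp_left, Over.w, Over.w]
    exact h W.left w.left y.left hw
  · intro h W w y hw
    have hy : y ≫ F.hom = w ≫ T.hom := by
      rw [hw, Category.assoc, Over.w x]
    let Wo : Over S := Over.mk (w ≫ T.hom)
    let wo : Wo ⟶ T := Over.homMk w rfl
    let yo : Wo ⟶ F := Over.homMk y hy
    exact congrArg (fun m => m.left) (h Wo wo yo)

variable {act}

theorem Good.comp {T T' : Scheme.{u}} {t : T ⟶ X.left} (h : Good act t) (g : T' ⟶ T) :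
    Good act (g ≫ t) := by
  intro W w y hw
  have hw' : y ≫ F.hom = ((w ≫ g) ≫ t) ≫ X.hom := by simpa using hw
  have h1 := h W (w ≫ g) y hw'
  have h2 : pullback.lift y (w ≫ g ≫ t) hw = pullback.lift y ((w ≫ g) ≫ t) hw' := by
    congr 1
  rw [h2, h1, Category.assoc]

theorem Good.of_openCover {T : Scheme.{u}} (t : T ⟶ X.left) (𝒰 : Scheme.OpenCover.{u} T)
    (h : ∀ i, Good act (𝒰.f i ≫ t)) : Good act t := by
  intro W w y hw
  apply Scheme.Cover.hom_ext (𝒰.pullback₁ w)
  intro (i : 𝒰.I₀)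
  change pullback.fst w (𝒰.f i) ≫ _ = pullback.fst w (𝒰.f i) ≫ _
  have hc : pullback.fst w (𝒰.f i) ≫ w = pullback.snd w (𝒰.f i) ≫ 𝒰.f i := pullback.condition
  have hw' : (pullback.fst w (𝒰.f i) ≫ y) ≫ F.hom =
      (pullback.snd w (𝒰.f i) ≫ 𝒰.f i ≫ t) ≫ X.hom := by
    rw [← Category.assoc (pullback.snd _ _), ← hc]
    simp only [Category.assoc] at hw ⊢
    rw [hw]
  have key : pullback.fst w (𝒰.f i) ≫ pullback.lift y (w ≫ t) hw =
      pullback.lift (pullback.fst w (𝒰.f i) ≫ y) (pullback.snd w (𝒰.f i) ≫ 𝒰.f i ≫ t) hw' := by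
    apply pullback.hom_ext
    · rw [Category.assoc, pullback.lift_fst, pullback.lift_fst]
    · rw [Category.assoc, pullback.lift_snd, pullback.lift_snd, ← Category.assoc, hc,
        Category.assoc]
  rw [← Category.assoc, key, h i _ (pullback.snd w (𝒰.f i)) (pullback.fst w (𝒰.f i) ≫ y) hw',
    ← Category.assoc, ← hc, Category.assoc]

section Stable

variable (act) (e : 𝟙_ (Over S) ⟶ F) (he : (e ▷ X) ≫ act = (λ_ X).hom) [Surjective e.left]

include he in
/-- the action is the identity on points. -/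
theorem act_apply (q : ↥(F ⊗ X).left) : act.left q = (snd F X).left q := by
  have hpb : IsPullback (e ▷ X).left (fst (𝟙_ (Over S)) X).left (fst F X).left e.left := by
    have hright : IsPullback (snd F X).left (fst F X).left X.hom F.hom :=
      (IsPullback.of_hasPullback F.hom X.hom).flip
    have houter : IsPullback (snd (𝟙_ (Over S)) X).left (fst (𝟙_ (Over S)) X).left X.hom
        (𝟙_ (Over S)).hom :=
      (IsPullback.of_hasPullback (𝟙_ (Over S)).hom X.hom).flip
    have h1 : (e ▷ X).left ≫ (snd F X).left = (snd (𝟙_ (Over S)) X).left := by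
      rw [← Over.comp_left, whiskerRight_snd]
    have h2 : e.left ≫ F.hom = (𝟙_ (Over S)).hom := Over.w e
    have h3 : (e ▷ X).left ≫ (fst F X).left = (fst (𝟙_ (Over S)) X).left ≫ e.left := by
      rw [← Over.comp_left, ← Over.comp_left, whiskerRight_fst]
    rw [← h1, ← h2] at houter
    exact IsPullback.of_right houter h3 hright
  have hsurj : Surjective (e ▷ X).left :=
    MorphismProperty.of_isPullback (P := @Surjective) hpb.flip inferInstance
  obtain ⟨q', rfl⟩ := hsurj.surj q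
  rw [← Scheme.Hom.comp_apply, ← Scheme.Hom.comp_apply, ← Over.comp_left, ← Over.comp_left, he,
    whiskerRight_snd, leftUnitor_hom]

end Stable

section Affine

variable (act) (e : 𝟙_ (Over S) ⟶ F) (he : (e ▷ X) ≫ act = (λ_ X).hom) [Surjective e.left]
  [IsFinite F.hom] [Flat F.hom] [LocallyOfFinitePresentation F.hom]
  (U : X.left.affineOpens)

include he in
theorem affine_rep : ∃ c : Ideal Γ(X.left, U), ∀ (R' : CommRingCat.{u}) (ψ : Γ(X.left, U) ⟶ R'),
    Good act (Spec.map ψ ≫ U.2.fromSpec) ↔ c ≤ RingHom.ker ψ.hom := by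
  obtain ⟨u, hu⟩ : ∃ u : Spec Γ(X.left, U) ⟶ X.left, u = U.2.fromSpec := ⟨_, rfl⟩
  have hoi : IsOpenImmersion u := by rw [hu]; exact IsAffineOpen.isOpenImmersion_fromSpec U.2
  rw [← hu]
  obtain ⟨m, hm1, hm2⟩ : ∃ m : pullback F.hom (u ≫ X.hom) ⟶ pullback F.hom X.hom,
      m ≫ pullback.fst F.hom X.hom = pullback.fst F.hom (u ≫ X.hom) ∧
      m ≫ pullback.snd F.hom X.hom = pullback.snd F.hom (u ≫ X.hom) ≫ u :=
    ⟨pullback.lift (pullback.fst F.hom (u ≫ X.hom)) (pullback.snd F.hom (u ≫ X.hom) ≫ u)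
      (by rw [Category.assoc]; exact pullback.condition), pullback.lift_fst _ _ _,
      pullback.lift_snd _ _ _⟩
  have hr : Set.range (m ≫ (act.left : pullback F.hom X.hom ⟶ X.left)) ⊆ Set.range u := by
    rintro _ ⟨p, rfl⟩
    rw [Scheme.Hom.comp_apply, act_apply act e he (m p)]
    refine ⟨pullback.snd F.hom (u ≫ X.hom) p, ?_⟩
    rw [← Scheme.Hom.comp_apply, ← hm2, Scheme.Hom.comp_apply]
    rfl
  obtain ⟨aU, haU⟩ : ∃ aU : pullback F.hom (u ≫ X.hom) ⟶ Spec Γ(X.left, U),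
      aU ≫ u = m ≫ (act.left : pullback F.hom X.hom ⟶ X.left) :=
    ⟨IsOpenImmersion.lift u _ hr, IsOpenImmersion.lift_fac _ _ _⟩
  have haff : IsAffine (pullback F.hom (u ≫ X.hom)) :=
    isAffine_of_isAffineHom (pullback.snd F.hom (u ≫ X.hom))
  obtain ⟨c, hc⟩ := affine_core (pullback.snd F.hom (u ≫ X.hom)) aU
  refine ⟨c, fun R' ψ => ?_⟩
  rw [← hc R' ψ]
  obtain ⟨p₂, hp₂⟩ : ∃ p₂ : pullback F.hom (u ≫ X.hom) ⟶ Spec Γ(X.left, U),
      p₂ = pullback.snd F.hom (u ≫ X.hom) := ⟨_, rfl⟩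
  rw [← hp₂] at hm2 ⊢
  have hcondP : pullback.fst F.hom (u ≫ X.hom) ≫ F.hom = p₂ ≫ u ≫ X.hom := by
    rw [hp₂]; exact pullback.condition
  constructor
  · intro h
    have hc' : pullback.fst p₂ (Spec.map ψ) ≫ p₂ = pullback.snd p₂ (Spec.map ψ) ≫ Spec.map ψ :=
      pullback.condition
    have hw : (pullback.fst p₂ (Spec.map ψ) ≫ pullback.fst F.hom (u ≫ X.hom)) ≫ F.hom =
        (pullback.snd p₂ (Spec.map ψ) ≫ Spec.map ψ ≫ u) ≫ X.hom := by
      rw [Category.assoc, hcondP, ← Category.assoc, hc']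
      simp only [Category.assoc]
    have h1 := h _ (pullback.snd p₂ (Spec.map ψ))
      (pullback.fst p₂ (Spec.map ψ) ≫ pullback.fst F.hom (u ≫ X.hom)) hw
    have key : pullback.lift (pullback.fst p₂ (Spec.map ψ) ≫ pullback.fst F.hom (u ≫ X.hom))
        (pullback.snd p₂ (Spec.map ψ) ≫ Spec.map ψ ≫ u) hw = pullback.fst p₂ (Spec.map ψ) ≫ m := by
      apply pullback.hom_ext
      · rw [pullback.lift_fst, Category.assoc, hm1]
      · rw [pullback.lift_snd, Category.assoc, hm2, reassoc_of% hc']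
    rw [key, Category.assoc, ← haU] at h1
    rw [← cancel_mono u, Category.assoc, Category.assoc, h1, reassoc_of% hc']
  · intro h W w g hw
    have hw' : g ≫ F.hom = (w ≫ Spec.map ψ) ≫ u ≫ X.hom := by
      simp only [Category.assoc] at hw ⊢
      exact hw
    obtain ⟨l, hl1, hl2⟩ : ∃ l : W ⟶ pullback F.hom (u ≫ X.hom),
        l ≫ pullback.fst F.hom (u ≫ X.hom) = g ∧ l ≫ p₂ = w ≫ Spec.map ψ := by
      refine ⟨pullback.lift g (w ≫ Spec.map ψ) hw', pullback.lift_fst _ _ _, ?_⟩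
      rw [hp₂]
      exact pullback.lift_snd _ _ _
    obtain ⟨l', hl'⟩ : ∃ l' : W ⟶ pullback p₂ (Spec.map ψ),
        l' ≫ pullback.fst p₂ (Spec.map ψ) = l :=
      ⟨pullback.lift l w hl2, pullback.lift_fst _ _ _⟩
    have key : pullback.lift g (w ≫ Spec.map ψ ≫ u) hw = l ≫ m := by
      apply pullback.hom_ext
      · rw [pullback.lift_fst, Category.assoc, hm1, hl1]
      · rw [pullback.lift_snd, Category.assoc, hm2, reassoc_of% hl2]
    have h3 : l ≫ aU = l ≫ p₂ := by rw [← hl', Category.assoc, h, Category.assoc]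
    rw [key, Category.assoc, ← haU, ← Category.assoc, h3, hl2, Category.assoc]

end Affine

/-- **Fixed points of an infinitesimal finite locally free pointed scheme are closed.** -/
theorem exists_fixedLocus (act : F ⊗ X ⟶ X) (e : 𝟙_ (Over S) ⟶ F)
    (he : (e ▷ X) ≫ act = (λ_ X).hom) [Surjective e.left]
    [IsFinite F.hom] [Flat F.hom] [LocallyOfFinitePresentation F.hom] :
    ∃ (Z : Scheme.{u}) (i : Z ⟶ X.left), IsClosedImmersion i ∧
      ∀ (T : Over S) (x : T ⟶ X), (∃ y : T.left ⟶ Z, y ≫ i = x.left) ↔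
        ∀ (T' : Over S) (t : T' ⟶ T) (g : T' ⟶ F), lift g (t ≫ x) ≫ act = t ≫ x := by
  obtain ⟨Z, j, hj, hZ⟩ := exists_closed (Good act) (fun T T' t g h => h.comp g)
    (fun T t 𝒰 h => Good.of_openCover t 𝒰 h) (affine_rep act e he)
  refine ⟨Z, j, hj, fun T x => ?_⟩
  rw [hZ x.left]
  exact good_iff act x

end Groth.Agent.Lib.Helper70.FinFixC
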