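import Mathlib
import Groth.Agent.Lib.Helper70.WeilF
import Groth.Agent.Lib.Helper70.WeilH

/-!
# Fixed loci without separatedness (helper70)

`k` a field, `a : Y ⊗ X ⟶ X` a morphism of `k`-schemes under which every open subscheme of `X` is
stable.  Then the fixed locus of `a` is a closed subscheme of `X`.
-/

set_option autoImplicit false
universe u
open CategoryTheory Limits AlgebraicGeometry MonoidalCategory CartesianMonoidalCategory MonObj

namespace Groth.Agent.Lib.Helper70.FixLocA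

open Groth.Agent.Lib.Helper70.WeilF Groth.Agent.Lib.Helper70.WeilG Groth.Agent.Lib.Helper70.WeilH

variable {k : Type u} [Field k] {X Y : Over (Spec (CommRingCat.of k))} (a : Y ⊗ X ⟶ X)

/-- scheme-level fixed point condition. -/
def Good ⦃T : Scheme.{u}⦄ (t : T ⟶ X.left) : Prop :=
  ∀ (W : Scheme.{u}) (w : W ⟶ T) (y : W ⟶ Y.left) (hw : y ≫ Y.hom = (w ≫ t) ≫ X.hom),
    pullback.lift y (w ≫ t) hw ≫ (a.left : pullback Y.hom X.hom ⟶ X.left) = w ≫ t

/-- `Over`-level fixed point condition. -/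
def FixedPt {T : Over (Spec (CommRingCat.of k))} (x : T ⟶ X) : Prop :=
  ∀ (W : Over (Spec (CommRingCat.of k))) (w : W ⟶ T) (y : W ⟶ Y), lift y (w ≫ x) ≫ a = w ≫ x

theorem good_iff {T : Over (Spec (CommRingCat.of k))} (x : T ⟶ X) :
    Good a x.left ↔ FixedPt a x := by
  constructor
  · intro h W w y
    ext1
    have hw : y.left ≫ Y.hom = (w.left ≫ x.left) ≫ X.hom := by
      rw [← Over.comp_left, Over.w, Over.w]
    exact h W.left w.left y.left hw
  · intro h W w y hw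
    have hy : y ≫ Y.hom = w ≫ T.hom := by
      rw [hw, Category.assoc, Over.w x]
    let Wo : Over (Spec (CommRingCat.of k)) := Over.mk (w ≫ T.hom)
    let wo : Wo ⟶ T := Over.homMk w rfl
    let yo : Wo ⟶ Y := Over.homMk y hy
    exact congrArg (fun m => m.left) (h Wo wo yo)

variable {a}

theorem Good.comp {T T' : Scheme.{u}} {t : T ⟶ X.left} (h : Good a t) (g : T' ⟶ T) :
    Good a (g ≫ t) := by
  intro W w y hw
  have hw' : y ≫ Y.hom = ((w ≫ g) ≫ t) ≫ X.hom := by simpa using hw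
  have h1 := h W (w ≫ g) y hw'
  have h2 : pullback.lift y (w ≫ g ≫ t) hw = pullback.lift y ((w ≫ g) ≫ t) hw' := by
    congr 1
  rw [h2, h1, Category.assoc]

theorem Good.of_openCover {T : Scheme.{u}} (t : T ⟶ X.left) (𝒰 : Scheme.OpenCover.{u} T)
    (h : ∀ i, Good a (𝒰.f i ≫ t)) : Good a t := by
  intro W w y hw
  apply Scheme.Cover.hom_ext (𝒰.pullback₁ w)
  intro (i : 𝒰.I₀)
  change pullback.fst w (𝒰.f i) ≫ _ = pullback.fst w (𝒰.f i) ≫ _
  have hc : pullback.fst w (𝒰.f i) ≫ w = pullback.snd w (𝒰.f i) ≫ 𝒰.f i := pullback.condition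
  have hw' : (pullback.fst w (𝒰.f i) ≫ y) ≫ Y.hom =
      (pullback.snd w (𝒰.f i) ≫ 𝒰.f i ≫ t) ≫ X.hom := by
    rw [← Category.assoc (pullback.snd _ _), ← hc]
    simp only [Category.assoc] at hw ⊢
    rw [hw]
  have key : pullback.fst w (𝒰.f i) ≫ pullback.lift y (w ≫ t) hw =
      pullback.lift (pullback.fst w (𝒰.f i) ≫ y) (pullback.snd w (𝒰.f i) ≫ 𝒰.f i ≫ t) hw' := by
    apply pullback.hom_ext
    · rw [Category.assoc, pullback.lift_fst, pullback.lift_fst]
    · rw [Category.assoc, pullback.lift_snd, pullback.lift_snd, ← Category.assoc, hc,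
        Category.assoc]
  rw [← Category.assoc, key, h i _ (pullback.snd w (𝒰.f i)) (pullback.fst w (𝒰.f i) ≫ y) hw',
    ← Category.assoc, ← hc, Category.assoc]

section Affine

variable (a) (hstab : ∀ U : X.left.Opens, (snd Y X).left ⁻¹ᵁ U ≤ a.left ⁻¹ᵁ U)
  (U : X.left.affineOpens)

/-- the affine open `U` as a `k`-scheme. -/
noncomputable def XU : Over (Spec (CommRingCat.of k)) := Over.mk (U.2.fromSpec ≫ X.hom)

/-- its inclusion. -/
noncomputable def iU : XU U ⟶ X := Over.homMk U.2.fromSpec rfl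

instance : Mono (iU U) := by
  have : Mono (iU U).left := (inferInstance : Mono U.2.fromSpec)
  exact Over.mono_of_mono_left _

include hstab in
theorem exists_restrict : ∃ aU : Y ⊗ XU U ⟶ XU U, aU ≫ iU U = (Y ◁ iU U) ≫ a := by
  have hr : Set.range ((Y ◁ iU U) ≫ a).left ⊆ Set.range U.2.fromSpec := by
    rw [IsAffineOpen.range_fromSpec]
    rintro _ ⟨p, rfl⟩
    have h1 : (snd Y X).left ((Y ◁ iU U).left p) ∈ (U.1 : Set X.left) := by
      rw [← Scheme.Hom.comp_apply, ← Over.comp_left, whiskerLeft_snd, Over.comp_left,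
        Scheme.Hom.comp_apply]
      have : (iU U).left ((snd Y (XU U)).left p) ∈ Set.range U.2.fromSpec := ⟨_, rfl⟩
      rw [IsAffineOpen.range_fromSpec] at this
      exact this
    have h2 := hstab U.1 h1
    rw [Over.comp_left, Scheme.Hom.comp_apply]
    exact h2
  have hoi : IsOpenImmersion U.2.fromSpec := IsAffineOpen.isOpenImmersion_fromSpec U.2
  obtain ⟨l, hl⟩ : ∃ l : (Y ⊗ XU U).left ⟶ Spec Γ(X.left, U),
      l ≫ U.2.fromSpec = ((Y ◁ iU U) ≫ a).left :=
    ⟨IsOpenImmersion.lift U.2.fromSpec _ hr, IsOpenImmersion.lift_fac _ _ _⟩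
  refine ⟨Over.homMk l ?_, ?_⟩
  · change l ≫ U.2.fromSpec ≫ X.hom = _
    rw [← Category.assoc, hl, Over.w]
  · ext1
    exact hl

variable {a} in
theorem fixedPt_iff {aU : Y ⊗ XU U ⟶ XU U} (haU : aU ≫ iU U = (Y ◁ iU U) ≫ a)
    {T : Over (Spec (CommRingCat.of k))} (x : T ⟶ XU U) :
    FixedPt aU x ↔ FixedPt a (x ≫ iU U) := by
  have key : ∀ (W : Over (Spec (CommRingCat.of k))) (w : W ⟶ T) (y : W ⟶ Y),
      (lift y (w ≫ x) ≫ aU) ≫ iU U = lift y (w ≫ x ≫ iU U) ≫ a := by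
    intro W w y
    rw [Category.assoc, haU, ← Category.assoc]
    congr 1
    ext <;> simp
  constructor
  · intro h W w y
    rw [← key, h W w y, Category.assoc]
  · intro h W w y
    rw [← cancel_mono (iU U), key, h W w y, Category.assoc]

include hstab in
theorem affine_rep : ∃ c : Ideal Γ(X.left, U), ∀ (R' : CommRingCat.{u}) (ψ : Γ(X.left, U) ⟶ R'),
    Good a (Spec.map ψ ≫ U.2.fromSpec) ↔ c ≤ RingHom.ker ψ.hom := by
  obtain ⟨aU, haU⟩ := exists_restrict a hstab U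
  have hsep : IsSeparated (XU U).hom := by
    have : IsAffine (XU U).left := (inferInstance : IsAffine (Spec Γ(X.left, U)))
    infer_instance
  obtain ⟨Z, j, hj, hZ⟩ := exists_fixedLocus k (XU U) Y aU
  obtain ⟨I, hI⟩ := @exists_ideal_factors _ _ _ (𝟙 (Spec Γ(X.left, U))) j.left hj
  refine ⟨I, fun R' ψ => ?_⟩
  rw [← hI R' ψ]
  let T : Over (Spec (CommRingCat.of k)) := Over.mk (Spec.map ψ ≫ (XU U).hom)
  let x : T ⟶ XU U := Over.homMk (Spec.map ψ) rfl
  have h1 : Good a (Spec.map ψ ≫ U.2.fromSpec) ↔ FixedPt a (x ≫ iU U) :=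
    good_iff a (x ≫ iU U)
  rw [h1, ← fixedPt_iff U haU x]
  have h2 : FixedPt aU x ↔ ∃ z : T ⟶ Z, z ≫ j = x := (hZ T x).symm
  rw [h2]
  constructor
  · rintro ⟨z, hz⟩
    refine ⟨z.left, ?_⟩
    rw [Category.comp_id]
    exact congrArg (fun m => m.left) hz
  · rintro ⟨l, hl⟩
    rw [Category.comp_id] at hl
    refine ⟨Over.homMk l ?_, ?_⟩
    · rw [← Over.w j, ← Category.assoc]
      exact congrArg (fun m => m ≫ (XU U).hom) hl
    · ext1
      exact hl

end Affine

/-- **Fixed loci without separatedness.** -/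
theorem exists_fixedLocus_of_stable (a : Y ⊗ X ⟶ X)
    (hstab : ∀ U : X.left.Opens, (snd Y X).left ⁻¹ᵁ U ≤ a.left ⁻¹ᵁ U) :
    ∃ (Z : Over (Spec (CommRingCat.of k))) (j : Z ⟶ X), IsClosedImmersion j.left ∧
      (Y ◁ j) ≫ a = snd Y Z ≫ j ∧
      ∀ (T : Over (Spec (CommRingCat.of k))) (x : T ⟶ X),
        (Y ◁ x) ≫ a = snd Y T ≫ x → ∃ z : T ⟶ Z, z ≫ j = x := by
  obtain ⟨Z, j, hj, hZ⟩ := exists_closed (Good a) (fun T T' t g h => h.comp g)
    (fun T t 𝒰 h => Good.of_openCover t 𝒰 h) (affine_rep a hstab)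
  let jo : Over.mk (j ≫ X.hom) ⟶ X := Over.homMk j rfl
  refine ⟨Over.mk (j ≫ X.hom), jo, hj, ?_, fun T x hx => ?_⟩
  · rw [whisker_iff k X Y a _ jo]
    exact (good_iff a jo).mp ((hZ j).mp ⟨𝟙 _, Category.id_comp _⟩)
  · rw [whisker_iff k X Y a T x] at hx
    obtain ⟨l, hl⟩ := (hZ x.left).mpr ((good_iff a x).mpr hx)
    refine ⟨Over.homMk l ?_, ?_⟩
    · change l ≫ j ≫ X.hom = T.hom
      rw [← Category.assoc, hl, Over.w]
    · ext1
      exact hl

end Groth.Agent.Lib.Helper70.FixLocA
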