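import Mathlib
import Groth.Agent.Lib.Helper70.GenFibC

/-!
# Flat closure over a discrete valuation ring (part D)
-/

set_option autoImplicit false

namespace Groth.Agent.Lib.Helper70.GenFibD

universe u

open AlgebraicGeometry CategoryTheory Limits Opposite TopologicalSpace
open Groth.Agent.Lib.Helper70.GenFibA Groth.Agent.Lib.Helper70.GenFibB
open Groth.Agent.Lib.Helper70.GenFibC

lemma isPrincipalIdealRing_of_isLocalization {R S : Type*} [CommRing R] [CommRing S]
    [Algebra R S] (M : Submonoid R) [IsLocalization M S] [IsPrincipalIdealRing R] :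
    IsPrincipalIdealRing S := by
  refine ⟨fun J => ?_⟩
  rw [← IsLocalization.map_under M S J]
  obtain ⟨a, ha⟩ := (IsPrincipalIdealRing.principal (J.under R)).principal
  rw [ha]
  refine ⟨⟨algebraMap R S a, ?_⟩⟩
  rw [Ideal.submodule_span_eq, Ideal.map_span, Set.image_singleton]

lemma isPrincipalIdealRing_stalk_Spec (A : Type u) [CommRing A] [IsPrincipalIdealRing A]
    (y : Spec (CommRingCat.of A)) :
    IsPrincipalIdealRing ((Spec (CommRingCat.of A)).presheaf.stalk y) := by
  have h1 : IsLocalization.AtPrime ((Spec.structureSheaf A).presheaf.stalk y) y.asIdeal :=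
    StructureSheaf.IsLocalization.to_stalk A y
  exact isPrincipalIdealRing_of_isLocalization (S := (Spec.structureSheaf A).presheaf.stalk y)
    y.asIdeal.primeCompl

theorem flat_completion (A : Type u) [CommRing A] [IsDomain A] [IsDiscreteValuationRing A]
    {X : Scheme.{u}} (f : X ⟶ Spec (CommRingCat.of A))
    (η : ↥(Spec (CommRingCat.of A))) (hη : η.asIdeal = ⊥) :
    Flat ((f.fiberι η).imageι ≫ f) ∧
      ∀ (Z : Scheme.{u}) (i : Z ⟶ X), IsClosedImmersion i → Flat (i ≫ f) →
        (f.fiberι η).ker ≤ i.ker := by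
  have hη' : η = genericPoint (Spec (CommRingCat.of A)) := by
    rw [genericPoint_eq_bot_of_affine]
    exact PrimeSpectrum.ext hη
  subst hη'
  have hPID := isPrincipalIdealRing_stalk_Spec A
  have := isAffineHom_fiberι_generic f
  constructor
  · exact flat_imageι_comp hPID f (f.fiberι _) (fiberι_comp_apply f _)
  · intro Z i hi hfl
    rw [Scheme.IdealSheafData.le_def]
    intro U b hb
    rw [Scheme.Hom.ker_apply, RingHom.mem_ker] at hb ⊢
    have hUV : U.1 ≤ f ⁻¹ᵁ ⊤ := le_top
    obtain ⟨-, h3⟩ := isLocalization_sections f (f.fiberι _) (f.fiberToSpecResidueField _)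
      (IsPullback.of_hasPullback f _) (isAffineOpen_top _) trivial U.2 hUV
    obtain ⟨a, ha, hab⟩ := h3 b hb
    have hle : i ⁻¹ᵁ U.1 ≤ (i ≫ f) ⁻¹ᵁ ⊤ := le_top
    have : Nonempty (⊤ : (Spec (CommRingCat.of A)).Opens) :=
      ⟨⟨genericPoint (Spec (CommRingCat.of A)), trivial⟩⟩
    apply eq_zero_of_flat (i ≫ f) (isAffineOpen_top _) (U.2.preimage i) hle a ha
    have e1 : ((i ≫ f).appLE ⊤ (i ⁻¹ᵁ U.1) hle).hom a =
        (i.app U.1).hom ((f.appLE ⊤ U.1 hUV).hom a) := by
      rw [← Scheme.Hom.appLE_eq_app, ← CommRingCat.comp_apply, Scheme.Hom.appLE_comp_appLE]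
    rw [e1, ← map_mul, hab, map_zero]

end Groth.Agent.Lib.Helper70.GenFibD
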