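import Mathlib
import Groth.Agent.Lib.Helper70.GenFibE

/-!
# Extending a morphism from the generic fibre: closure of the graph (part F)
-/

set_option autoImplicit false

namespace Groth.Agent.Lib.Helper70.GenFibF

universe u

open AlgebraicGeometry CategoryTheory Limits Opposite TopologicalSpace
open Groth.Agent.Lib.Helper70.GenFibE

theorem extension_iff (T Y Z : Scheme.{u}) [IsIntegral T]
    (pY : Y ⟶ T) (pZ : Z ⟶ T) [Flat pY] [Flat pZ] [IsSeparated pZ]
    (ψ : pullback pY (T.fromSpecStalk (genericPoint T)) ⟶ Z)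
    (hψ : ψ ≫ pZ = pullback.fst pY (T.fromSpecStalk (genericPoint T)) ≫ pY)
    (gr : pullback pY (T.fromSpecStalk (genericPoint T)) ⟶ pullback pY pZ)
    (hgr₁ : gr ≫ pullback.fst pY pZ = pullback.fst pY (T.fromSpecStalk (genericPoint T)))
    (hgr₂ : gr ≫ pullback.snd pY pZ = ψ) :
    (∃ φ : Y ⟶ Z, φ ≫ pZ = pY ∧ pullback.fst pY (T.fromSpecStalk (genericPoint T)) ≫ φ = ψ) ↔
      IsIso (gr.imageι ≫ pullback.fst pY pZ) := by
  constructor
  · rintro ⟨φ, hφ1, hφ2⟩
    let Γφ : Y ⟶ pullback pY pZ := pullback.lift (𝟙 Y) φ (by rw [Category.id_comp, hφ1])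
    have hΓ1 : Γφ ≫ pullback.fst pY pZ = 𝟙 Y := pullback.lift_fst _ _ _
    have hΓ2 : Γφ ≫ pullback.snd pY pZ = φ := pullback.lift_snd _ _ _
    have hcl : IsClosedImmersion Γφ := by
      have : IsClosedImmersion (Γφ ≫ pullback.fst pY pZ) := by rw [hΓ1]; infer_instance
      exact IsClosedImmersion.of_comp Γφ (pullback.fst pY pZ)
    have hgr : gr = pullback.fst pY (T.fromSpecStalk (genericPoint T)) ≫ Γφ := by
      apply pullback.hom_ext
      · rw [hgr₁, Category.assoc, hΓ1, Category.comp_id]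
      · rw [hgr₂, Category.assoc, hΓ2, hφ2]
    have hker : gr.ker = Γφ.ker := by
      rw [hgr, ← Scheme.IdealSheafData.map_ker, ker_fst_fromSpecStalk_eq_bot pY,
        Scheme.IdealSheafData.map_bot]
    have hker' : gr.imageι.ker = Γφ.ker := by
      rw [Scheme.IdealSheafData.ker_subschemeι, hker]
    have hiso : IsIso (IsClosedImmersion.lift Γφ gr.imageι hker'.ge) :=
      IsClosedImmersion.isIso_of_ker_eq gr.imageι Γφ _ (IsClosedImmersion.lift_fac _ _ _) hker'
    have e1 : gr.imageι ≫ pullback.fst pY pZ =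
        IsClosedImmersion.lift Γφ gr.imageι hker'.ge := by
      conv_lhs => rw [← IsClosedImmersion.lift_fac Γφ gr.imageι hker'.ge]
      rw [Category.assoc, hΓ1, Category.comp_id]
    rw [e1]
    exact hiso
  · intro hiso
    refine ⟨inv (gr.imageι ≫ pullback.fst pY pZ) ≫ gr.imageι ≫ pullback.snd pY pZ, ?_, ?_⟩
    · rw [Category.assoc, Category.assoc, ← pullback.condition, ← Category.assoc gr.imageι,
        IsIso.inv_hom_id_assoc]
    · have e2 : pullback.fst pY (T.fromSpecStalk (genericPoint T)) =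
          gr.toImage ≫ (gr.imageι ≫ pullback.fst pY pZ) := by
        rw [← Category.assoc, gr.toImage_imageι, hgr₁]
      rw [e2, Category.assoc, IsIso.hom_inv_id_assoc, ← Category.assoc, gr.toImage_imageι, hgr₂]

end Groth.Agent.Lib.Helper70.GenFibF
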