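import Mathlib
import Groth.Agent.Lib.Helper70.GenFibF

/-!
# Extending a morphism from the generic fibre: fpqc descent (part G)
-/

set_option autoImplicit false

namespace Groth.Agent.Lib.Helper70.GenFibG

universe u

open AlgebraicGeometry CategoryTheory Limits Opposite TopologicalSpace
open Groth.Agent.Lib.Helper70.GenFibE

/-- two morphisms to a separated scheme which agree on a schematically dense part are equal. -/
theorem eq_of_ker_eq_bot {W W' Z T : Scheme.{u}} (pZ : Z ⟶ T) [IsSeparated pZ] (u v : W ⟶ Z)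
    (huv : u ≫ pZ = v ≫ pZ) (j : W' ⟶ W) (hj : j.ker = ⊥) (h : j ≫ u = j ≫ v) : u = v := by
  let uv : W ⟶ pullback pZ pZ := pullback.lift u v huv
  let Δ : Z ⟶ pullback pZ pZ := pullback.diagonal pZ
  let ιE : pullback uv Δ ⟶ W := pullback.fst uv Δ
  have hcl : IsClosedImmersion ιE := inferInstance
  -- `j` factors through the equalizer
  let l : W' ⟶ pullback uv Δ := pullback.lift j (j ≫ u) (by
    apply pullback.hom_ext
    · change (j ≫ pullback.lift u v huv) ≫ pullback.fst pZ pZ =
        ((j ≫ u) ≫ pullback.diagonal pZ) ≫ pullback.fst pZ pZ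
      rw [Category.assoc, Category.assoc, pullback.lift_fst, pullback.diagonal_fst,
        Category.comp_id]
    · change (j ≫ pullback.lift u v huv) ≫ pullback.snd pZ pZ =
        ((j ≫ u) ≫ pullback.diagonal pZ) ≫ pullback.snd pZ pZ
      rw [Category.assoc, Category.assoc, pullback.lift_snd, pullback.diagonal_snd,
        Category.comp_id, h])
  have hl : l ≫ ιE = j := pullback.lift_fst _ _ _
  have hker : ιE.ker = ⊥ := by
    rw [eq_bot_iff, ← hj, ← hl]
    exact Scheme.Hom.le_ker_comp l ιE
  have hiso : IsIso ιE := by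
    have h2 : Scheme.Hom.ker (𝟙 W) = ⊥ := Scheme.Hom.ker_eq_bot_of_isIso (𝟙 W)
    exact IsClosedImmersion.isIso_of_ker_eq ιE (𝟙 W) ιE (Category.comp_id _) (hker.trans h2.symm)
  have hE : ιE ≫ u = ιE ≫ v := by
    have hc : ιE ≫ uv = pullback.snd uv Δ ≫ Δ := pullback.condition
    have h1 := congrArg (· ≫ pullback.fst pZ pZ) hc
    have h2 := congrArg (· ≫ pullback.snd pZ pZ) hc
    simp only [Category.assoc, uv, Δ, pullback.lift_fst, pullback.lift_snd,
      pullback.diagonal_fst, pullback.diagonal_snd, Category.comp_id] at h1 h2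
    rw [h1, h2]
  exact (cancel_epi ιE).mp hE

/-- extension of a morphism from the generic fibre can be tested after an fpqc base change. -/
theorem extension_of_fpqc (T Y Z T' : Scheme.{u}) [IsIntegral T]
    (pY : Y ⟶ T) (pZ : Z ⟶ T) [Flat pY] [Flat pZ] [IsSeparated pZ]
    (ψ : pullback pY (T.fromSpecStalk (genericPoint T)) ⟶ Z)
    (g : T' ⟶ T) [Flat g] [Surjective g] [QuasiCompact g]
    (φ' : pullback pY g ⟶ pullback pZ g) (hφ' : φ' ≫ pullback.snd pZ g = pullback.snd pY g)
    (hagree : pullback.fst (pullback.fst pY g)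
        (pullback.fst pY (T.fromSpecStalk (genericPoint T))) ≫ φ' ≫ pullback.fst pZ g =
      pullback.snd (pullback.fst pY g) (pullback.fst pY (T.fromSpecStalk (genericPoint T))) ≫ ψ) :
    ∃ φ : Y ⟶ Z, φ ≫ pZ = pY ∧ pullback.fst pY (T.fromSpecStalk (genericPoint T)) ≫ φ = ψ := by
  let η : Spec (T.presheaf.stalk (genericPoint T)) ⟶ T := T.fromSpecStalk (genericPoint T)
  let jY : pullback pY η ⟶ Y := pullback.fst pY η
  let π : pullback pY g ⟶ Y := pullback.fst pY g
  obtain ⟨e, he⟩ : ∃ e : pullback pY g ⟶ Z, e = φ' ≫ pullback.fst pZ g := ⟨_, rfl⟩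
  have hagree' : pullback.fst π jY ≫ e = pullback.snd π jY ≫ ψ := by
    rw [he]
    exact hagree
  have heZ : e ≫ pZ = π ≫ pY := by
    rw [he]
    change (φ' ≫ pullback.fst pZ g) ≫ pZ = pullback.fst pY g ≫ pY
    rw [Category.assoc, pullback.condition, ← Category.assoc, hφ', pullback.condition]
  have key : pullback.fst π π ≫ e = pullback.snd π π ≫ e := by
    let pW : pullback π π ⟶ T := pullback.fst π π ≫ π ≫ pY
    have hfl : Flat pW := inferInstance
    have hpz : (pullback.fst π π ≫ e) ≫ pZ = (pullback.snd π π ≫ e) ≫ pZ := by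
      rw [Category.assoc, Category.assoc, heZ, ← Category.assoc, ← Category.assoc,
        pullback.condition]
    refine eq_of_ker_eq_bot pZ _ _ hpz (pullback.fst pW η) (ker_fst_fromSpecStalk_eq_bot pW) ?_
    · let j : pullback pW η ⟶ pullback π π := pullback.fst pW η
      have hjc : (j ≫ pullback.fst π π ≫ π) ≫ pY = pullback.snd pW η ≫ η := by
        rw [Category.assoc, Category.assoc]
        exact pullback.condition
      let q : pullback pW η ⟶ pullback pY η :=
        pullback.lift (j ≫ pullback.fst π π ≫ π) (pullback.snd pW η) hjc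
      have hq1 : q ≫ jY = j ≫ pullback.fst π π ≫ π := pullback.lift_fst _ _ _
      have hq2 : q ≫ jY = j ≫ pullback.snd π π ≫ π := by rw [hq1, pullback.condition]
      let r₁ : pullback pW η ⟶ pullback π jY :=
        pullback.lift (j ≫ pullback.fst π π) q (by rw [Category.assoc, hq1])
      let r₂ : pullback pW η ⟶ pullback π jY :=
        pullback.lift (j ≫ pullback.snd π π) q (by rw [Category.assoc, hq2])
      have h1 : r₁ ≫ pullback.fst π jY = j ≫ pullback.fst π π := pullback.lift_fst _ _ _
      have h1' : r₁ ≫ pullback.snd π jY = q := pullback.lift_snd _ _ _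
      have h2 : r₂ ≫ pullback.fst π jY = j ≫ pullback.snd π π := pullback.lift_fst _ _ _
      have h2' : r₂ ≫ pullback.snd π jY = q := pullback.lift_snd _ _ _
      calc pullback.fst pW η ≫ pullback.fst π π ≫ e
          = (r₁ ≫ pullback.fst π jY) ≫ e := by rw [h1, Category.assoc]
        _ = r₁ ≫ pullback.snd π jY ≫ ψ := by rw [Category.assoc, hagree']
        _ = q ≫ ψ := by rw [← Category.assoc, h1']
        _ = r₂ ≫ pullback.snd π jY ≫ ψ := by rw [← Category.assoc, h2']
        _ = (r₂ ≫ pullback.fst π jY) ≫ e := by rw [Category.assoc, hagree']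
        _ = pullback.fst pW η ≫ pullback.snd π π ≫ e := by rw [h2, Category.assoc]
  have hcond : ∀ {W : Scheme.{u}} (g₁ g₂ : W ⟶ pullback pY g), g₁ ≫ π = g₂ ≫ π →
      g₁ ≫ e = g₂ ≫ e := by
    intro W g₁ g₂ h
    calc g₁ ≫ e = (pullback.lift g₁ g₂ h ≫ pullback.fst π π) ≫ e := by rw [pullback.lift_fst]
      _ = (pullback.lift g₁ g₂ h ≫ pullback.snd π π) ≫ e := by
        rw [Category.assoc, key, Category.assoc]
      _ = g₂ ≫ e := by rw [pullback.lift_snd]
  have hπ : EffectiveEpi π := inferInstance
  refine ⟨EffectiveEpi.desc π e hcond, ?_, ?_⟩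
  · rw [← cancel_epi π, ← Category.assoc, EffectiveEpi.fac, heZ]
  · have hsnd : EffectiveEpi (pullback.snd π jY) := inferInstance
    rw [← cancel_epi (pullback.snd π jY), ← Category.assoc]
    have hc : pullback.snd π jY ≫ jY = pullback.fst π jY ≫ π := pullback.condition.symm
    rw [hc, Category.assoc, EffectiveEpi.fac]
    exact hagree'

end Groth.Agent.Lib.Helper70.GenFibG
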