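import Mathlib

/-!
# Generizations lift along base changes over maximal points

In a cartesian square `A' = B' ×_B A`, the morphism `f' : A' ⟶ B'` lifts generizations at every
point of `A'` lying over a maximal point of `B` ("generic flatness over a field is free").
-/

set_option autoImplicit false
universe u
open CategoryTheory CategoryTheory.Limits AlgebraicGeometry

namespace Groth.Agent.Lib.Helper70.GenFibre

theorem generalizing_of_isPullback {A' B' A B : Scheme.{u}} {f' : A' ⟶ B'} {pA : A' ⟶ A}
    {pB : B' ⟶ B} {f : A ⟶ B} (sq : IsPullback f' pA pB f) (a' : A')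
    (hmax : ∀ b : B, b ⤳ f (pA a') → b = f (pA a'))
    (ζ : B') (hζ : ζ ⤳ f' a') : ∃ w : A', w ⤳ a' ∧ f' w = ζ := by
  have hb₀ : pB (f' a') = f (pA a') := by
    rw [← Scheme.Hom.comp_apply, ← Scheme.Hom.comp_apply, sq.w]
  let j := B.fromSpecResidueField (f (pA a'))
  let j' := pullback.fst pB j
  let q := pullback.snd pB j
  let e₁ := pullback.fst f' j'
  let e₂ := pullback.snd f' j'
  -- `e₂` is flat
  have hflat : Flat e₂ := by
    have sq2 : IsPullback e₁ e₂ f' j' := IsPullback.of_hasPullback f' j'
    have outer : IsPullback (e₁ ≫ pA) e₂ f (j' ≫ pB) := sq2.paste_horiz sq.flip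
    have hc : j' ≫ pB = q ≫ j := pullback.condition
    rw [hc] at outer
    have sq4 : IsPullback (pullback.fst f j) (pullback.snd f j) f j := IsPullback.of_hasPullback f j
    have key := IsPullback.of_right' outer sq4
    have hfl : Flat (pullback.snd f j) := inferInstance
    exact MorphismProperty.of_isPullback (P := @Flat) key hfl
  have hgen : GeneralizingMap e₂ := Flat.generalizingMap e₂
  -- the range of `j'`
  have hrange : Set.range j' = pB ⁻¹' {f (pA a')} := by
    rw [Scheme.Pullback.range_fst, Scheme.range_fromSpecResidueField]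
  have hζb : pB ζ = f (pA a') := by
    apply hmax
    rw [← hb₀]
    exact hζ.map pB.continuous
  obtain ⟨ζF, hζF⟩ : ζ ∈ Set.range j' := by rw [hrange]; exact hζb
  obtain ⟨pF, hpF⟩ : f' a' ∈ Set.range j' := by rw [hrange]; exact hb₀
  have hsp : ζF ⤳ pF := by
    rw [← j'.isEmbedding.toIsInducing.specializes_iff, hζF, hpF]
    exact hζ
  obtain ⟨aE, haE1, haE2⟩ := Scheme.Pullback.exists_preimage_pullback (f := f') (g := j') a' pF
    hpF.symm
  obtain ⟨wE, hwE, hwE2⟩ := hgen (haE2.symm ▸ hsp : ζF ⤳ e₂ aE)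
  refine ⟨e₁ wE, ?_, ?_⟩
  · have h1 : e₁ wE ⤳ e₁ aE := hwE.map e₁.continuous
    have h2 : e₁ aE = a' := haE1
    exact h1.trans (specializes_of_eq h2)
  · rw [← Scheme.Hom.comp_apply, pullback.condition, Scheme.Hom.comp_apply]
    change j' (e₂ wE) = ζ
    rw [hwE2, hζF]

end Groth.Agent.Lib.Helper70.GenFibre
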