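import Mathlib

/-!
# The determinant of the generic matrix: leading coefficient with respect to a monomial order

`det (mvPolynomialX (Fin n) (Fin n) A)` is a signed sum of distinct monomials, so with respect to any
monomial order its leading coefficient is `±1`.
-/

set_option autoImplicit false

namespace Groth.Agent.Lib.Helper70

open MvPolynomial

universe u

/-- exponent vector of the monomial attached to a permutation -/
noncomputable def permExp (n : ℕ) (σ : Equiv.Perm (Fin n)) : (Fin n × Fin n) →₀ ℕ :=
  ∑ i : Fin n, Finsupp.single (σ i, i) 1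

lemma permExp_apply (n : ℕ) (σ : Equiv.Perm (Fin n)) (j i : Fin n) :
    permExp n σ (j, i) = if σ i = j then 1 else 0 := by
  classical
  unfold permExp
  rw [Finsupp.finsetSum_apply]
  simp only [Finsupp.single_apply, Prod.mk.injEq]
  rw [Finset.sum_eq_single i]
  · simp
  · intro b _ hb
    rw [if_neg]
    rintro ⟨_, h⟩
    exact hb h
  · simp

lemma permExp_injective (n : ℕ) : Function.Injective (permExp n) := by
  intro σ τ h
  ext i
  have h1 := permExp_apply n σ (σ i) i
  rw [h, permExp_apply] at h1
  simp only [if_true] at h1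
  by_contra hne
  have : τ i = σ i := by
    by_contra h2
    rw [if_neg h2] at h1
    exact absurd h1 (by norm_num)
  exact hne (by rw [this])

lemma permExp_ne_zero (n : ℕ) (hn : 0 < n) (σ : Equiv.Perm (Fin n)) : permExp n σ ≠ 0 := by
  intro h
  have := permExp_apply n σ (σ ⟨0, hn⟩) ⟨0, hn⟩
  rw [h] at this
  simp at this

lemma det_mvPolynomialX_eq_sum (A : Type u) [CommRing A] (n : ℕ) :
    (Matrix.mvPolynomialX (Fin n) (Fin n) A).det =
      ∑ σ : Equiv.Perm (Fin n), (Equiv.Perm.sign σ : ℤ) • monomial (permExp n σ) (1 : A) := by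
  rw [Matrix.det_apply]
  refine Finset.sum_congr rfl fun σ _ => ?_
  unfold permExp
  rw [MvPolynomial.monomial_sum_one]
  rfl

lemma coeff_det_mvPolynomialX (A : Type u) [CommRing A] (n : ℕ) (e : (Fin n × Fin n) →₀ ℕ) :
    coeff e (Matrix.mvPolynomialX (Fin n) (Fin n) A).det =
      ∑ σ : Equiv.Perm (Fin n), (Equiv.Perm.sign σ : ℤ) • (if permExp n σ = e then (1 : A) else 0) := by
  classical
  rw [det_mvPolynomialX_eq_sum, coeff_sum]
  refine Finset.sum_congr rfl fun σ _ => ?_
  rw [coeff_smul, coeff_monomial]

/-- a monomial order on the matrix-entry variables -/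
noncomputable def matOrder (n : ℕ) : MonomialOrder (Fin n × Fin n) :=
  let lo : LinearOrder (Fin n × Fin n) :=
    LinearOrder.lift' (Fintype.equivFin (Fin n × Fin n)) (Fintype.equivFin _).injective
  have wf : @WellFoundedGT (Fin n × Fin n) lo.toLT := @Finite.to_wellFoundedGT _ _ lo.toPreorder
  @MonomialOrder.lex _ lo wf

/-- the degree of the generic determinant is the exponent of some permutation, and its leading
coefficient is the sign of that permutation -/
lemma exists_perm_degree_det (A : Type u) [CommRing A] [Nontrivial A] (n : ℕ) :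
    ∃ σ0 : Equiv.Perm (Fin n),
      (matOrder n).degree (Matrix.mvPolynomialX (Fin n) (Fin n) A).det = permExp n σ0 ∧
      (matOrder n).leadingCoeff (Matrix.mvPolynomialX (Fin n) (Fin n) A).det =
        ((Equiv.Perm.sign σ0 : ℤ) : A) := by
  classical
  set m := matOrder n
  have hne : (Matrix.mvPolynomialX (Fin n) (Fin n) A).det ≠ 0 := Matrix.det_mvPolynomialX_ne_zero _ _
  have hmem := m.degree_mem_support hne
  set d := m.degree (Matrix.mvPolynomialX (Fin n) (Fin n) A).det with hd
  have hex : ∃ σ : Equiv.Perm (Fin n), permExp n σ = d := by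
    by_contra hcon
    push Not at hcon
    rw [mem_support_iff, coeff_det_mvPolynomialX] at hmem
    apply hmem
    apply Finset.sum_eq_zero
    intro σ _
    rw [if_neg (hcon σ), smul_zero]
  obtain ⟨σ0, hσ0⟩ := hex
  refine ⟨σ0, hσ0.symm, ?_⟩
  unfold MonomialOrder.leadingCoeff
  rw [← hd, coeff_det_mvPolynomialX, Finset.sum_eq_single σ0]
  · rw [if_pos hσ0]
    simp
  · intro τ _ hτ
    rw [if_neg, smul_zero]
    intro h
    exact hτ (permExp_injective n (h.trans hσ0.symm))
  · simp

lemma isUnit_leadingCoeff_det (A : Type u) [CommRing A] [Nontrivial A] (n : ℕ) :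
    IsUnit ((matOrder n).leadingCoeff (Matrix.mvPolynomialX (Fin n) (Fin n) A).det) := by
  obtain ⟨σ0, -, h⟩ := exists_perm_degree_det A n
  rw [h]
  rcases Int.units_eq_one_or (Equiv.Perm.sign σ0) with h | h <;> simp [h]

lemma degree_det_ne_zero (A : Type u) [CommRing A] [Nontrivial A] (n : ℕ) (hn : 0 < n) :
    (matOrder n).degree (Matrix.mvPolynomialX (Fin n) (Fin n) A).det ≠ 0 := by
  obtain ⟨σ0, h, -⟩ := exists_perm_degree_det A n
  rw [h]
  exact permExp_ne_zero n hn σ0

end Groth.Agent.Lib.Helper70
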