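import Mathlib

/-!
# Subgroup objects: a monomorphism into a group object through which the operations factor
-/

set_option autoImplicit false
universe v u

open CategoryTheory MonoidalCategory CartesianMonoidalCategory MonObj GrpObj

namespace Groth.Agent.Lib.Helper70.SubGrp

variable {C : Type u} [Category.{v} C] [CartesianMonoidalCategory C]

/-- A subobject of a group object which is closed under the group operations (the unit,
multiplication and inverse factor through it) is a group object and the inclusion is a
homomorphism. -/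
theorem exists_grpObj_of_mono {G H : C} [GrpObj G] (i : H ⟶ G) [Mono i]
    (e : 𝟙_ C ⟶ H) (he : e ≫ i = η[G])
    (m : H ⊗ H ⟶ H) (hm : m ≫ i = (fst H H ≫ i) * (snd H H ≫ i))
    (v : H ⟶ H) (hv : v ≫ i = i⁻¹) :
    ∃ (_ : GrpObj H), IsMonHom i := by
  have he' : e ≫ i = 1 := by rw [he, one_eq_one]
  let inst : MonObj H :=
    { one := e
      mul := m
      one_mul := by
        rw [← cancel_mono i, Category.assoc, hm, comp_mul, whiskerRight_fst_assoc,
          whiskerRight_snd_assoc, he', MonObj.comp_one, _root_.one_mul, leftUnitor_hom]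
      mul_one := by
        rw [← cancel_mono i, Category.assoc, hm, comp_mul, whiskerLeft_fst_assoc,
          whiskerLeft_snd_assoc, he', MonObj.comp_one, _root_.mul_one, rightUnitor_hom]
      mul_assoc := by
        rw [← cancel_mono i]
        simp only [Category.assoc, hm, comp_mul, whiskerRight_fst_assoc, whiskerRight_snd_assoc,
          whiskerLeft_fst_assoc, whiskerLeft_snd_assoc, associator_hom_fst_assoc,
          associator_hom_snd_fst_assoc, associator_hom_snd_snd_assoc, _root_.mul_assoc] }
  let instG : GrpObj H :=
    { inv := v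
      left_inv := by
        change lift v (𝟙 H) ≫ m = toUnit _ ≫ e
        rw [← cancel_mono i, Category.assoc, hm, comp_mul, lift_fst_assoc, lift_snd_assoc, hv,
          Category.id_comp, inv_mul_cancel, Category.assoc, he', MonObj.comp_one]
      right_inv := by
        change lift (𝟙 H) v ≫ m = toUnit _ ≫ e
        rw [← cancel_mono i, Category.assoc, hm, comp_mul, lift_fst_assoc, lift_snd_assoc, hv,
          Category.id_comp, mul_inv_cancel, Category.assoc, he', MonObj.comp_one] }
  refine ⟨instG, ⟨he, ?_⟩⟩
  change m ≫ i = (i ⊗ₘ i) ≫ μ[G]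
  rw [hm, mul_eq_mul, comp_mul, tensorHom_fst, tensorHom_snd]

/-- Conversely, for a homomorphism of group objects the operations factor. -/
theorem factor_of_isMonHom {G H : C} [GrpObj G] [GrpObj H] (i : H ⟶ G) [IsMonHom i] :
    η[H] ≫ i = η[G] ∧ μ[H] ≫ i = (fst H H ≫ i) * (snd H H ≫ i) ∧ ι[H] ≫ i = i⁻¹ := by
  refine ⟨IsMonHom.one_hom i, ?_, ?_⟩
  · rw [IsMonHom.mul_hom, mul_eq_mul, comp_mul, tensorHom_fst, tensorHom_snd]
  · have := GrpObj.inv_comp (𝟙 H) i
    rw [Category.id_comp, ← inv_eq_inv] at this
    exact this

end Groth.Agent.Lib.Helper70.SubGrp
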