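import Mathlib
import Groth.Agent.Lib.Helper70.SubGrpA

/-!
# Subgroup objects and monoidal functors

For a monoidal functor `F` between cartesian monoidal categories, a group object `G₀` and a
morphism `i₀ : H₀ ⟶ G₀`, the statement "`F.obj H₀` is a subgroup object of `F.obj G₀` through
`F.map i₀`" is expressed through the factorisation through `F.map i₀` of the images under `F` of
three universal morphisms to `G₀`; normality through a fourth one.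
-/

set_option autoImplicit false
universe v₁ u₁ v₂ u₂

open CategoryTheory MonoidalCategory CartesianMonoidalCategory MonObj GrpObj Functor.Monoidal
  Functor.LaxMonoidal Functor.OplaxMonoidal

namespace Groth.Agent.Lib.Helper70.SubGrp

variable {C : Type u₁} [Category.{v₁} C] [CartesianMonoidalCategory C]
  {D : Type u₂} [Category.{v₂} D] [CartesianMonoidalCategory D]
  (F : C ⥤ D) [F.Monoidal]

open scoped Obj

/-- `F.map φ` factors through `F.map i₀`. -/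
def FactF {T G₀ H₀ : C} (i₀ : H₀ ⟶ G₀) (φ : T ⟶ G₀) : Prop :=
  ∃ ψ : F.obj T ⟶ F.obj H₀, ψ ≫ F.map i₀ = F.map φ

variable {G₀ H₀ : C} [GrpObj G₀] (i₀ : H₀ ⟶ G₀)

/-- The universal product of two points of `H₀`, in `G₀`. -/
noncomputable def phiMul : H₀ ⊗ H₀ ⟶ G₀ := (fst H₀ H₀ ≫ i₀) * (snd H₀ H₀ ≫ i₀)

/-- The universal inverse of a point of `H₀`, in `G₀`. -/
noncomputable def phiInv : H₀ ⟶ G₀ := i₀⁻¹

/-- The universal conjugate of a point of `H₀` by a point of `G₀`. -/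
noncomputable def phiConj : G₀ ⊗ H₀ ⟶ G₀ := fst G₀ H₀ * (snd G₀ H₀ ≫ i₀) * (fst G₀ H₀)⁻¹

lemma map_inv' {T : C} (f : T ⟶ G₀) : F.map f⁻¹ = (F.map f)⁻¹ := by
  rw [Hom.inv_def, Hom.inv_def, F.map_comp]
  rfl

theorem exists_grpObj_of_factF [Mono (F.map i₀)]
    (h1 : FactF F i₀ η[G₀]) (h2 : FactF F i₀ (phiMul i₀)) (h3 : FactF F i₀ (phiInv i₀)) :
    ∃ (_ : GrpObj (F.obj H₀)), IsMonHom (F.map i₀) := by
  obtain ⟨ψ1, hψ1⟩ := h1
  obtain ⟨ψ2, hψ2⟩ := h2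
  obtain ⟨ψ3, hψ3⟩ := h3
  refine exists_grpObj_of_mono (F.map i₀) (Functor.LaxMonoidal.ε F ≫ ψ1) ?_ (Functor.LaxMonoidal.μ F H₀ H₀ ≫ ψ2) ?_ ψ3 ?_
  · rw [Category.assoc, hψ1]
    rfl
  · rw [Category.assoc, hψ2, phiMul, Functor.map_mul, comp_mul, F.map_comp, F.map_comp,
      μ_fst_assoc, μ_snd_assoc]
  · rw [hψ3, phiInv, map_inv']

theorem factF_of_grpObj [GrpObj (F.obj H₀)] [IsMonHom (F.map i₀)] :
    FactF F i₀ η[G₀] ∧ FactF F i₀ (phiMul i₀) ∧ FactF F i₀ (phiInv i₀) := by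
  obtain ⟨k1, k2, k3⟩ := factor_of_isMonHom (F.map i₀)
  refine ⟨⟨Functor.OplaxMonoidal.η F ≫ η[F.obj H₀], ?_⟩,
    ⟨Functor.OplaxMonoidal.δ F H₀ H₀ ≫ μ[F.obj H₀], ?_⟩, ⟨ι[F.obj H₀], ?_⟩⟩
  · rw [Category.assoc, k1, Functor.obj.η_def, η_ε_assoc]
  · rw [Category.assoc, k2, phiMul, Functor.map_mul, comp_mul, F.map_comp, F.map_comp,
      δ_fst_assoc, δ_snd_assoc]
  · rw [k3, phiInv, map_inv']

/-- Normality in terms of points. -/
def IsNormalPts {N G : D} [GrpObj G] (i : N ⟶ G) : Prop :=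
  ∀ (T : D) (g : T ⟶ G) (n : T ⟶ N), ∃ n' : T ⟶ N, g * (n ≫ i) * g⁻¹ = n' ≫ i

theorem isNormalPts_iff_factF : IsNormalPts (F.map i₀) ↔ FactF F i₀ (phiConj i₀) := by
  have key : F.map (phiConj i₀) =
      F.map (fst G₀ H₀) * (F.map (snd G₀ H₀) ≫ F.map i₀) * (F.map (fst G₀ H₀))⁻¹ := by
    rw [phiConj, Functor.map_mul, Functor.map_mul, map_inv', F.map_comp]
  constructor
  · intro h
    obtain ⟨n', hn'⟩ := h (F.obj (G₀ ⊗ H₀)) (F.map (fst G₀ H₀)) (F.map (snd G₀ H₀))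
    exact ⟨n', by rw [← hn', key]⟩
  · rintro ⟨ψ, hψ⟩ T g n
    refine ⟨lift g n ≫ Functor.LaxMonoidal.μ F G₀ H₀ ≫ ψ, ?_⟩
    rw [Category.assoc, Category.assoc, hψ, key, comp_mul, comp_mul, comp_mul, GrpObj.comp_inv,
      μ_fst, μ_snd_assoc, comp_mul, GrpObj.comp_inv, lift_fst, lift_snd_assoc]

end Groth.Agent.Lib.Helper70.SubGrp
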