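import Mathlib
import Groth.Agent.Lib.Helper70.SubGrpB

/-!
# Factorisation through a monomorphism after base change, in terms of fibre products
-/

set_option autoImplicit false
universe v u

open CategoryTheory Limits

namespace Groth.Agent.Lib.Helper70.SubGrp

variable {C : Type u} [Category.{v} C] [HasPullbacks C]
  {S₀ S' : C} (a : S' ⟶ S₀) {T₀ G₀ H₀ : Over S₀} (i₀ : H₀ ⟶ G₀) (φ₀ : T₀ ⟶ G₀)

/-- `(Over.pullback a).map φ₀` factors through `(Over.pullback a).map i₀` iff the composite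
`T₀ ×_{S₀} S' ⟶ T₀ ⟶ G₀` factors through `i₀`. -/
theorem exists_factor_iff_exists_hom :
    (∃ ψ : (Over.pullback a).obj T₀ ⟶ (Over.pullback a).obj H₀,
      ψ ≫ (Over.pullback a).map i₀ = (Over.pullback a).map φ₀) ↔
    ∃ h : pullback T₀.hom a ⟶ H₀.left, h ≫ i₀.left = pullback.fst T₀.hom a ≫ φ₀.left := by
  constructor
  · rintro ⟨ψ, hψ⟩
    refine ⟨ψ.left ≫ pullback.fst H₀.hom a, ?_⟩
    have h1 := congrArg (fun k => k.left ≫ pullback.fst G₀.hom a) hψ
    simp only [Over.comp_left, Over.pullback_map_left, Category.assoc, pullback.lift_fst] at h1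
    rw [Category.assoc]
    exact h1
  · rintro ⟨h, hh⟩
    have hw : h ≫ H₀.hom = pullback.snd T₀.hom a ≫ a := by
      rw [← Over.w i₀, ← Category.assoc, hh, Category.assoc, Over.w φ₀, pullback.condition]
    refine ⟨Over.homMk (pullback.lift h (pullback.snd T₀.hom a) hw) ?_, ?_⟩
    · simp only [Over.pullback_obj_left, Over.pullback_obj_hom]
      exact pullback.lift_snd _ _ _
    · ext
      simp only [Over.comp_left, Over.pullback_map_left, Over.homMk_left]
      apply pullback.hom_ext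
      · simp only [Category.assoc, pullback.lift_fst, pullback.lift_fst_assoc]
        exact hh
      · simp only [Category.assoc, pullback.lift_snd]

/-- If the composite `T₀ ×_{S₀} S' ⟶ T₀ ⟶ G₀` factors through the monomorphism `i₀`, the base
change of `T₀ ×_{G₀} H₀ ⟶ T₀` to `T₀ ×_{S₀} S'` is an isomorphism. -/
theorem isIso_of_exists_hom [Mono i₀.left]
    (h : pullback T₀.hom a ⟶ H₀.left) (hh : h ≫ i₀.left = pullback.fst T₀.hom a ≫ φ₀.left) :
    IsIso (pullback.fst (pullback.fst T₀.hom a) (pullback.fst φ₀.left i₀.left)) := by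
  let s : pullback T₀.hom a ⟶ pullback φ₀.left i₀.left :=
    pullback.lift (pullback.fst T₀.hom a) h hh.symm
  have hs : s ≫ pullback.fst φ₀.left i₀.left = pullback.fst T₀.hom a := pullback.lift_fst _ _ _
  let σ : pullback T₀.hom a ⟶
      pullback (pullback.fst T₀.hom a) (pullback.fst φ₀.left i₀.left) :=
    pullback.lift (𝟙 _) s (by rw [Category.id_comp, hs])
  have hσ : σ ≫ pullback.fst (pullback.fst T₀.hom a) (pullback.fst φ₀.left i₀.left) = 𝟙 _ :=
    pullback.lift_fst _ _ _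
  have : IsSplitEpi (pullback.fst (pullback.fst T₀.hom a) (pullback.fst φ₀.left i₀.left)) :=
    ⟨⟨σ, hσ⟩⟩
  exact isIso_of_mono_of_isSplitEpi _

/-- Conversely, from an isomorphic base change of `T₀ ×_{G₀} H₀ ⟶ T₀` to a stage through which
`a` factors, a factorisation. -/
theorem exists_hom_of_isIso {S'' Yi Xi : C} (a'' : S'' ⟶ S₀) (b' : S' ⟶ S'') (hab : b' ≫ a'' = a)
    (pY : Yi ⟶ T₀.left) (gi : Yi ⟶ S'') (hY : IsPullback pY gi T₀.hom a'')
    (pX : Xi ⟶ pullback φ₀.left i₀.left) (fi : Xi ⟶ Yi)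
    (hX : IsPullback pX fi (pullback.fst φ₀.left i₀.left) pY) [IsIso fi] :
    ∃ h : pullback T₀.hom a ⟶ H₀.left, h ≫ i₀.left = pullback.fst T₀.hom a ≫ φ₀.left := by
  have hw : pullback.fst T₀.hom a ≫ T₀.hom = (pullback.snd T₀.hom a ≫ b') ≫ a'' := by
    rw [Category.assoc, hab, pullback.condition]
  obtain ⟨u, hu1, hu2⟩ : ∃ u : pullback T₀.hom a ⟶ Yi, u ≫ pY = pullback.fst T₀.hom a ∧
      u ≫ gi = pullback.snd T₀.hom a ≫ b' := ⟨hY.lift _ _ hw, hY.lift_fst _ _ hw, hY.lift_snd _ _ hw⟩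
  refine ⟨u ≫ inv fi ≫ pX ≫ pullback.snd φ₀.left i₀.left, ?_⟩
  rw [Category.assoc, Category.assoc, Category.assoc, ← pullback.condition, ← Category.assoc pX,
    hX.w, Category.assoc, IsIso.inv_hom_id_assoc, ← Category.assoc, hu1]

end Groth.Agent.Lib.Helper70.SubGrp
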