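import Mathlib
import Groth.Agent.Lib.Helper70.SubGrpC

/-!
# Base change functors `Over.pullback` and fibre products: category-level lemmas
-/

set_option autoImplicit false
universe v u

open CategoryTheory Limits

namespace Groth.Agent.Lib.Helper70.GrpLim

variable {C : Type u} [Category.{v} C] [HasPullbacks C] {S₀ S' S'' : C}

/-- Two morphisms to a base change agree as soon as their first components agree. -/
theorem hom_ext_fst (a : S' ⟶ S₀) {T : Over S'} {Y : Over S₀}
    (ψ ψ' : T ⟶ (Over.pullback a).obj Y)
    (h : ψ.left ≫ pullback.fst Y.hom a = ψ'.left ≫ pullback.fst Y.hom a) : ψ = ψ' := by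
  ext
  apply pullback.hom_ext h
  have h1 := Over.w ψ
  have h2 := Over.w ψ'
  simp only [Over.pullback_obj_hom] at h1 h2
  rw [h1, h2]

/-- Equality of the base changes of two morphisms, in terms of fibre products. -/
theorem map_eq_map_iff (a : S' ⟶ S₀) {X Y : Over S₀} (u u' : X ⟶ Y) :
    (Over.pullback a).map u = (Over.pullback a).map u' ↔
      pullback.fst X.hom a ≫ u.left = pullback.fst X.hom a ≫ u'.left := by
  constructor
  · intro h
    have h1 := congrArg (fun k => k.left ≫ pullback.fst Y.hom a) h
    simpa only [Over.pullback_map_left, pullback.lift_fst] using h1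
  · intro h
    apply hom_ext_fst
    simpa only [Over.pullback_map_left, pullback.lift_fst] using h

/-- The comparison between the base changes along `a = b' ≫ a''` and along `a''`. -/
noncomputable def bcMap (a : S' ⟶ S₀) (a'' : S'' ⟶ S₀) (b' : S' ⟶ S'') (hab : b' ≫ a'' = a)
    (X : Over S₀) : pullback X.hom a ⟶ pullback X.hom a'' :=
  pullback.lift (pullback.fst X.hom a) (pullback.snd X.hom a ≫ b')
    (by rw [Category.assoc, hab, pullback.condition])

@[reassoc (attr := simp)]
lemma bcMap_fst (a : S' ⟶ S₀) (a'' : S'' ⟶ S₀) (b' : S' ⟶ S'') (hab : b' ≫ a'' = a)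
    (X : Over S₀) : bcMap a a'' b' hab X ≫ pullback.fst X.hom a'' = pullback.fst X.hom a :=
  pullback.lift_fst _ _ _

@[reassoc (attr := simp)]
lemma bcMap_snd (a : S' ⟶ S₀) (a'' : S'' ⟶ S₀) (b' : S' ⟶ S'') (hab : b' ≫ a'' = a)
    (X : Over S₀) : bcMap a a'' b' hab X ≫ pullback.snd X.hom a'' = pullback.snd X.hom a ≫ b' :=
  pullback.lift_snd _ _ _

/-- The base change of `u` is a pullback of `u`. -/
theorem isPullback_map_left (a : S' ⟶ S₀) {X Y : Over S₀} (u : X ⟶ Y) :
    IsPullback (pullback.fst X.hom a) ((Over.pullback a).map u).left u.left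
      (pullback.fst Y.hom a) := by
  have hbig : IsPullback (pullback.fst X.hom a) (pullback.snd X.hom a) (u.left ≫ Y.hom) a := by
    rw [Over.w u]
    exact IsPullback.of_hasPullback X.hom a
  have hright : IsPullback (pullback.fst Y.hom a) (pullback.snd Y.hom a) Y.hom a :=
    IsPullback.of_hasPullback Y.hom a
  have hsnd : ((Over.pullback a).map u).left ≫ pullback.snd Y.hom a = pullback.snd X.hom a := by
    simp only [Over.pullback_map_left, pullback.lift_snd]
  have hfst : ((Over.pullback a).map u).left ≫ pullback.fst Y.hom a =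
      pullback.fst X.hom a ≫ u.left := by
    simp only [Over.pullback_map_left, pullback.lift_fst]
  exact (IsPullback.of_right (by rw [hsnd]; exact hbig.flip) hfst hright.flip).flip

/-- The base change along `a = b' ≫ a''` of `u` is a pullback of its base change along `a''`. -/
theorem isPullback_bcMap (a : S' ⟶ S₀) (a'' : S'' ⟶ S₀) (b' : S' ⟶ S'') (hab : b' ≫ a'' = a)
    {X Y : Over S₀} (u : X ⟶ Y) :
    IsPullback (bcMap a a'' b' hab X) ((Over.pullback a).map u).left
      ((Over.pullback a'').map u).left (bcMap a a'' b' hab Y) := by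
  have hbig := isPullback_map_left a u
  have hright := isPullback_map_left a'' u
  refine IsPullback.of_right ?_ ?_ hright
  · rw [bcMap_fst, bcMap_fst]
    exact hbig
  · apply pullback.hom_ext
    · simp only [Category.assoc, Over.pullback_map_left, pullback.lift_fst, bcMap_fst,
        bcMap_fst_assoc]
    · simp only [Category.assoc, Over.pullback_map_left, pullback.lift_snd, bcMap_snd,
        pullback.lift_snd_assoc]

/-- Monomorphisms are stable under further base change. -/
theorem mono_map_of_mono_map (a : S' ⟶ S₀) (a'' : S'' ⟶ S₀) (b' : S' ⟶ S'') (hab : b' ≫ a'' = a)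
    {X Y : Over S₀} (u : X ⟶ Y) (h : Mono ((Over.pullback a'').map u)) :
    Mono ((Over.pullback a).map u) := by
  have : Mono ((Over.pullback a'').map u).left := inferInstance
  have h1 : Mono ((Over.pullback a).map u).left :=
    (MorphismProperty.monomorphisms C).of_isPullback (isPullback_bcMap a a'' b' hab u)
      (MorphismProperty.monomorphisms.infer_property _)
  exact Over.mono_of_mono_left _

/-- A factorisation after base change along `a''` gives one after base change along
`a = b' ≫ a''`. -/
theorem exists_hom_of_exists_hom (a : S' ⟶ S₀) (a'' : S'' ⟶ S₀) (b' : S' ⟶ S'')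
    (hab : b' ≫ a'' = a) {T₀ G₀ H₀ : Over S₀} (i₀ : H₀ ⟶ G₀) (φ₀ : T₀ ⟶ G₀)
    (h : ∃ h : pullback T₀.hom a'' ⟶ H₀.left,
      h ≫ i₀.left = pullback.fst T₀.hom a'' ≫ φ₀.left) :
    ∃ h : pullback T₀.hom a ⟶ H₀.left, h ≫ i₀.left = pullback.fst T₀.hom a ≫ φ₀.left := by
  obtain ⟨h, hh⟩ := h
  exact ⟨bcMap a a'' b' hab T₀ ≫ h, by rw [Category.assoc, hh, bcMap_fst_assoc]⟩

/-- If the base change of `i₀` along `a` is a monomorphism, so is the base change to
`T₀ ×_{S₀} S'` of `T₀ ×_{G₀} H₀ ⟶ T₀`. -/
theorem mono_fst_of_mono_map (a : S' ⟶ S₀) {T₀ G₀ H₀ : Over S₀} (i₀ : H₀ ⟶ G₀) (φ₀ : T₀ ⟶ G₀)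
    (hmono : Mono ((Over.pullback a).map i₀)) :
    Mono (pullback.fst (pullback.fst T₀.hom a) (pullback.fst φ₀.left i₀.left)) := by
  have : Mono ((Over.pullback a).map i₀).left := inferInstance
  constructor
  intro W x y hxy
  apply pullback.hom_ext hxy
  -- the components in `T₀ ×_{G₀} H₀`
  have hz : x ≫ pullback.snd _ _ ≫ pullback.fst φ₀.left i₀.left =
      y ≫ pullback.snd _ _ ≫ pullback.fst φ₀.left i₀.left := by
    rw [← pullback.condition, ← Category.assoc, ← Category.assoc, hxy]
  apply pullback.hom_ext
  · simpa only [Category.assoc] using hz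
  · -- the components in `H₀`
    have hcond : ∀ w : W ⟶ pullback (pullback.fst T₀.hom a) (pullback.fst φ₀.left i₀.left),
        (w ≫ pullback.snd _ _ ≫ pullback.snd φ₀.left i₀.left) ≫ H₀.hom =
          (w ≫ pullback.fst _ _ ≫ pullback.snd T₀.hom a) ≫ a := by
      intro w
      simp only [Category.assoc]
      rw [← pullback.condition, ← Over.w i₀, ← pullback.condition_assoc, Over.w φ₀,
        ← pullback.condition_assoc]
    have key : pullback.lift (x ≫ pullback.snd _ _ ≫ pullback.snd φ₀.left i₀.left)
        (x ≫ pullback.fst _ _ ≫ pullback.snd T₀.hom a) (hcond x) =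
        pullback.lift (y ≫ pullback.snd _ _ ≫ pullback.snd φ₀.left i₀.left)
        (y ≫ pullback.fst _ _ ≫ pullback.snd T₀.hom a) (hcond y) := by
      rw [← cancel_mono ((Over.pullback a).map i₀).left]
      apply pullback.hom_ext
      · simp only [Category.assoc, Over.pullback_map_left, pullback.lift_fst,
          pullback.lift_fst_assoc]
        rw [← pullback.condition]
        have hz' := congrArg (fun k => k ≫ φ₀.left) hz
        simpa only [Category.assoc] using hz'
      · simp only [Category.assoc, Over.pullback_map_left, pullback.lift_snd]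
        rw [← Category.assoc, ← Category.assoc, hxy]
    have := congrArg (fun k => k ≫ pullback.fst H₀.hom a) key
    simpa only [pullback.lift_fst, Category.assoc] using this

end Groth.Agent.Lib.Helper70.GrpLim
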