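import Mathlib
import Groth.Agent.Lib.Helper70.SubGrpC
import Groth.Agent.Lib.Helper13.LimDescent4

/-!
# Descent to a finite stage of a factorisation through a finitely presented closed immersion
-/

set_option autoImplicit false
set_option linter.style.haveILetI false
set_option linter.unusedSectionVars false
universe u

open CategoryTheory Limits AlgebraicGeometry

namespace Groth.Agent.Lib.Helper70.SubGrp

open Groth.Agent.Lib.Helper13.LimDescent

section IsoDescent

variable {I : Type u} [SmallCategory I] [IsCofiltered I]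
  (D : I ⥤ Scheme.{u}) (c : Cone D) (hc : IsLimit c)
  [∀ {i j : I} (f : i ⟶ j), IsAffineHom (D.map f)] (i₀ : I) [CompactSpace (D.obj i₀)]
  [QuasiSeparatedSpace (D.obj i₀)]

include hc in
set_option backward.isDefEq.respectTransparency false in
/-- Isomorphisms descend to a finite stage (two-step form). -/
theorem exists_isIso_descend {X₀ Y₀ : Scheme.{u}} (f₀ : X₀ ⟶ Y₀) (g₀ : Y₀ ⟶ D.obj i₀)
    [CompactSpace X₀] [QuasiSeparatedSpace X₀] [CompactSpace Y₀] [QuasiSeparatedSpace Y₀]
    [LocallyOfFinitePresentation f₀]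
    {X Y : Scheme.{u}} (f : X ⟶ Y) (g : Y ⟶ c.pt) (qY : Y ⟶ Y₀) (qX : X ⟶ X₀)
    (hY : IsPullback qY g g₀ (c.π.app i₀)) (hX : IsPullback qX f f₀ qY) [IsIso f] :
    ∃ (i : I) (φ : i ⟶ i₀) (Xi Yi : Scheme.{u}) (fi : Xi ⟶ Yi) (gi : Yi ⟶ D.obj i) (pY : Yi ⟶ Y₀)
      (pX : Xi ⟶ X₀), IsPullback pY gi g₀ (D.map φ) ∧ IsPullback pX fi f₀ pY ∧ IsIso fi := by
  have key := twoStep D c i₀ f₀ g₀ f g qY qX hY hX (MorphismProperty.isomorphisms Scheme.{u})
    (MorphismProperty.isomorphisms.infer_property f) ?_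
  · obtain ⟨i, φ, Xi, Yi, fi, gi, pY, pX, h1, h2, h3⟩ := key
    exact ⟨i, φ, Xi, Yi, fi, gi, pY, pX, h1, h2, (MorphismProperty.isomorphisms.iff fi).mp h3⟩
  · intro f₀' hf₀' hP
    have : LocallyOfFinitePresentation f₀' := by
      rw [hf₀']; exact (liftTop_prop_iff D i₀ f₀ g₀ @LocallyOfFinitePresentation).mpr inferInstance
    simp only [MorphismProperty.isomorphisms.iff] at hP ⊢
    exact exists_isIso_pullback_fst (sys D i₀ g₀) (sysCone D c i₀ g₀) (top i₀)
      (isLimitSysCone D c i₀ g₀ hc) f₀' hP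

end IsoDescent

section FactDescent

variable {I : Type u} [SmallCategory I] [IsCofiltered I]
  (D : I ⥤ Scheme.{u}) (c : Cone D) (hc : IsLimit c)
  [∀ {i j : I} (f : i ⟶ j), IsAffineHom (D.map f)] (i₀ : I) [CompactSpace (D.obj i₀)]
  [QuasiSeparatedSpace (D.obj i₀)]

include hc in
/-- If after base change to the limit a morphism `φ₀ : T₀ ⟶ G₀` factors through the finitely
presented closed immersion `i : H₀ ⟶ G₀`, it does so at a finite stage, and at all later
stages. -/
theorem factF_descend {T₀ G₀ H₀ : Over (D.obj i₀)} (i : H₀ ⟶ G₀) [IsClosedImmersion i.left]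
    [LocallyOfFinitePresentation i.left] (φ₀ : T₀ ⟶ G₀) [QuasiCompact T₀.hom]
    [QuasiSeparated T₀.hom]
    (h : FactF (Over.pullback (c.π.app i₀)) i φ₀) :
    ∃ (i₁ : I) (a : i₁ ⟶ i₀), ∀ (j : I) (b : j ⟶ i₁),
      FactF (Over.pullback (D.map (b ≫ a))) i φ₀ := by
  haveI : CompactSpace T₀.left := QuasiCompact.compactSpace_of_compactSpace T₀.hom
  haveI : QuasiSeparatedSpace T₀.left := quasiSeparatedSpace_of_quasiSeparated T₀.hom
  haveI : IsClosedImmersion (pullback.fst φ₀.left i.left) :=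
    MorphismProperty.pullback_fst _ _ inferInstance
  haveI : LocallyOfFinitePresentation (pullback.fst φ₀.left i.left) :=
    MorphismProperty.pullback_fst _ _ inferInstance
  haveI : CompactSpace ↥(pullback φ₀.left i.left) :=
    QuasiCompact.compactSpace_of_compactSpace (pullback.fst φ₀.left i.left)
  haveI : QuasiSeparatedSpace ↥(pullback φ₀.left i.left) :=
    quasiSeparatedSpace_of_quasiSeparated (pullback.fst φ₀.left i.left)
  obtain ⟨h0, hh0⟩ := (exists_factor_iff_exists_hom (c.π.app i₀) i φ₀).mp h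
  haveI := isIso_of_exists_hom (c.π.app i₀) i φ₀ h0 hh0
  obtain ⟨i₁, a, Xi, Yi, fi, gi, pY, pX, hY, hX, hfi⟩ := exists_isIso_descend D c hc i₀
    (pullback.fst φ₀.left i.left) T₀.hom
    (pullback.fst (pullback.fst T₀.hom (c.π.app i₀)) (pullback.fst φ₀.left i.left))
    (pullback.snd T₀.hom (c.π.app i₀)) (pullback.fst T₀.hom (c.π.app i₀))
    (pullback.snd (pullback.fst T₀.hom (c.π.app i₀)) (pullback.fst φ₀.left i.left))
    (IsPullback.of_hasPullback T₀.hom (c.π.app i₀))
    (IsPullback.of_hasPullback _ _).flip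
  refine ⟨i₁, a, fun j b => ?_⟩
  apply (exists_factor_iff_exists_hom (D.map (b ≫ a)) i φ₀).mpr
  exact exists_hom_of_isIso (D.map (b ≫ a)) i φ₀ (D.map a) (D.map b) (D.map_comp b a).symm
    pY gi hY pX fi hX

end FactDescent

end Groth.Agent.Lib.Helper70.SubGrp
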