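import Mathlib
import Groth.Agent.Lib.Helper70.SubGrpD

/-!
# A closed subgroup scheme of the limit is a closed subgroup scheme at a finite stage
-/

set_option autoImplicit false
set_option linter.style.haveILetI false
set_option linter.unusedSectionVars false
universe u

open CategoryTheory Limits AlgebraicGeometry MonoidalCategory CartesianMonoidalCategory MonObj
  GrpObj

namespace Groth.Agent.Lib.Helper70.SubGrp

open scoped Obj

section Ev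

variable {I : Type u} [SmallCategory I] [IsCofiltered I] {i₀ : I}

/-- A property of indices over `i₀` holding from some stage on. -/
def Ev (P : ∀ j : I, (j ⟶ i₀) → Prop) : Prop :=
  ∃ (i₁ : I) (a : i₁ ⟶ i₀), ∀ (j : I) (b : j ⟶ i₁), P j (b ≫ a)

lemma Ev.and {P Q : ∀ j : I, (j ⟶ i₀) → Prop} (h₁ : Ev P) (h₂ : Ev Q) :
    Ev (fun j a => P j a ∧ Q j a) := by
  obtain ⟨i₁, a₁, h₁⟩ := h₁
  obtain ⟨i₂, a₂, h₂⟩ := h₂
  obtain ⟨w, p, q, e⟩ := IsCofiltered.cospan a₁ a₂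
  refine ⟨w, p ≫ a₁, fun j b => ⟨?_, ?_⟩⟩
  · have := h₁ j (b ≫ p)
    rwa [Category.assoc] at this
  · have := h₂ j (b ≫ q)
    rwa [Category.assoc, ← e] at this

lemma Ev.exists {P : ∀ j : I, (j ⟶ i₀) → Prop} (h : Ev P) : ∃ (i : I) (a : i ⟶ i₀), P i a := by
  obtain ⟨i₁, a₁, h₁⟩ := h
  refine ⟨i₁, a₁, ?_⟩
  have := h₁ i₁ (𝟙 _)
  rwa [Category.id_comp] at this

lemma Ev.mono {P Q : ∀ j : I, (j ⟶ i₀) → Prop} (h : Ev P) (hPQ : ∀ j a, P j a → Q j a) :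
    Ev Q := by
  obtain ⟨i₁, a₁, h₁⟩ := h
  exact ⟨i₁, a₁, fun j b => hPQ _ _ (h₁ j b)⟩

end Ev

variable {I : Type u} [SmallCategory I] [IsCofiltered I]
  (D : I ⥤ Scheme.{u}) (c : Cone D) (hc : IsLimit c)
  [∀ {i j : I} (f : i ⟶ j), IsAffineHom (D.map f)] (i₀ : I) [CompactSpace (D.obj i₀)]
  [QuasiSeparatedSpace (D.obj i₀)]
  (G₀ : Over (D.obj i₀)) [GrpObj G₀] [IsSeparated G₀.hom] [QuasiCompact G₀.hom]
  (H₀ : Over (D.obj i₀)) (ι₀ : H₀ ⟶ G₀) [IsClosedImmersion ι₀.left]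
  [LocallyOfFinitePresentation ι₀.left]

include hc in
lemma ev_factF {T₀ : Over (D.obj i₀)} (φ₀ : T₀ ⟶ G₀) [QuasiCompact T₀.hom]
    [QuasiSeparated T₀.hom] (h : FactF (Over.pullback (c.π.app i₀)) ι₀ φ₀) :
    Ev (fun (j : I) (a : j ⟶ i₀) => FactF (Over.pullback (D.map a)) ι₀ φ₀) :=
  factF_descend D c hc i₀ ι₀ φ₀ h

lemma qc_H₀ {S₀ : Scheme.{u}} {G₀ H₀ : Over S₀} (ι₀ : H₀ ⟶ G₀) [IsSeparated G₀.hom]
    [QuasiCompact G₀.hom] [IsClosedImmersion ι₀.left] :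
    QuasiCompact H₀.hom ∧ QuasiSeparated H₀.hom := by
  rw [← Over.w ι₀]
  exact ⟨inferInstance, inferInstance⟩

lemma mono_map {S₀ S' : Scheme.{u}} {G₀ H₀ : Over S₀} (ι₀ : H₀ ⟶ G₀) [IsClosedImmersion ι₀.left]
    (a : S' ⟶ S₀) : Mono ((Over.pullback a).map ι₀) := by
  haveI : Mono ι₀ := by
    haveI : Mono ι₀.left := inferInstance
    exact Over.mono_of_mono_left ι₀
  infer_instance

include hc in
theorem ev_subgroup
    (hH : ∃ _ : GrpObj ((Over.pullback (c.π.app i₀)).obj H₀),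
      IsMonHom ((Over.pullback (c.π.app i₀)).map ι₀)) :
    Ev (fun (j : I) (a : j ⟶ i₀) => ∃ _ : GrpObj ((Over.pullback (D.map a)).obj H₀),
      IsMonHom ((Over.pullback (D.map a)).map ι₀)) := by
  obtain ⟨inst, hmon⟩ := hH
  obtain ⟨k1, k2, k3⟩ := factF_of_grpObj (Over.pullback (c.π.app i₀)) ι₀
  obtain ⟨hqc, hqs⟩ := qc_H₀ ι₀
  haveI : QuasiCompact (𝟙_ (Over (D.obj i₀))).hom := by
    rw [Over.tensorUnit_hom]; exact (inferInstance : QuasiCompact (𝟙 (D.obj i₀)))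
  haveI : QuasiSeparated (𝟙_ (Over (D.obj i₀))).hom := by
    rw [Over.tensorUnit_hom]; exact (inferInstance : QuasiSeparated (𝟙 (D.obj i₀)))
  haveI : QuasiCompact (H₀ ⊗ H₀).hom := by
    rw [Over.tensorObj_hom]
    haveI : QuasiCompact (pullback.fst H₀.hom H₀.hom) := MorphismProperty.pullback_fst _ _ hqc
    infer_instance
  haveI : QuasiSeparated (H₀ ⊗ H₀).hom := by
    rw [Over.tensorObj_hom]
    haveI : QuasiSeparated (pullback.fst H₀.hom H₀.hom) := MorphismProperty.pullback_fst _ _ hqs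
    infer_instance
  have e1 := ev_factF D c hc i₀ G₀ H₀ ι₀ η[G₀] k1
  have e2 := ev_factF D c hc i₀ G₀ H₀ ι₀ (phiMul ι₀) k2
  have e3 := ev_factF D c hc i₀ G₀ H₀ ι₀ (phiInv ι₀) k3
  refine ((e1.and e2).and e3).mono ?_
  rintro j a ⟨⟨h1, h2⟩, h3⟩
  haveI := mono_map ι₀ (D.map a)
  exact exists_grpObj_of_factF (Over.pullback (D.map a)) ι₀ h1 h2 h3

include hc in
theorem ev_normal
    (hH : ∃ (_ : GrpObj ((Over.pullback (c.π.app i₀)).obj H₀))
      (_ : IsMonHom ((Over.pullback (c.π.app i₀)).map ι₀)),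
      IsNormalPts ((Over.pullback (c.π.app i₀)).map ι₀)) :
    Ev (fun (j : I) (a : j ⟶ i₀) => ∃ (_ : GrpObj ((Over.pullback (D.map a)).obj H₀))
      (_ : IsMonHom ((Over.pullback (D.map a)).map ι₀)),
      IsNormalPts ((Over.pullback (D.map a)).map ι₀)) := by
  obtain ⟨inst, hmon, hnorm⟩ := hH
  have e0 := ev_subgroup D c hc i₀ G₀ H₀ ι₀ ⟨inst, hmon⟩
  obtain ⟨hqc, hqs⟩ := qc_H₀ ι₀
  haveI : QuasiCompact (G₀ ⊗ H₀).hom := by
    rw [Over.tensorObj_hom]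
    haveI : QuasiCompact (pullback.fst G₀.hom H₀.hom) := MorphismProperty.pullback_fst _ _ hqc
    infer_instance
  haveI : QuasiSeparated (G₀ ⊗ H₀).hom := by
    rw [Over.tensorObj_hom]
    haveI : QuasiSeparated (pullback.fst G₀.hom H₀.hom) := MorphismProperty.pullback_fst _ _ hqs
    infer_instance
  have k4 := (isNormalPts_iff_factF (Over.pullback (c.π.app i₀)) ι₀).mp hnorm
  have e4 := ev_factF D c hc i₀ G₀ H₀ ι₀ (phiConj ι₀) k4
  refine (e0.and e4).mono ?_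
  rintro j a ⟨⟨inst', hmon'⟩, h4⟩
  exact ⟨inst', hmon', (isNormalPts_iff_factF (Over.pullback (D.map a)) ι₀).mpr h4⟩

end Groth.Agent.Lib.Helper70.SubGrp
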