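import Mathlib
import Groth.Agent.Lib.Helper70.GrpLimA
import Groth.Agent.Lib.Helper70.SubGrpE

/-!
# Base change functors over a cofiltered limit of schemes: descent of monomorphisms,
factorisations and equalities to a finite stage (in `Ev` form)
-/

set_option autoImplicit false
set_option linter.style.haveILetI false
set_option linter.unusedSectionVars false
universe u

open CategoryTheory Limits AlgebraicGeometry

namespace Groth.Agent.Lib.Helper70.GrpLim

open Groth.Agent.Lib.Helper13.LimDescent Groth.Agent.Lib.Helper70.SubGrp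

section Cat

variable {C : Type*} [Category C] [HasPullbacks C] {S₀ S' : C}

/-- A property stable under base change passes from any model of the base change of `u` to
`(Over.pullback a).map u`. -/
theorem prop_map_left_of_isPullback (P : MorphismProperty C) [P.IsStableUnderBaseChange]
    (a : S' ⟶ S₀) {X Y : Over S₀} (u : X ⟶ Y) {Yi Xi : C} (pY : Yi ⟶ Y.left) (gi : Yi ⟶ S')
    (hY : IsPullback pY gi Y.hom a) (pX : Xi ⟶ X.left) (fi : Xi ⟶ Yi)
    (hX : IsPullback pX fi u.left pY) (h : P fi) : P ((Over.pullback a).map u).left := by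
  obtain ⟨e, he1, he2⟩ : ∃ e : pullback Y.hom a ⟶ Yi, e ≫ pY = pullback.fst Y.hom a ∧
      e ≫ gi = pullback.snd Y.hom a :=
    ⟨hY.lift _ _ pullback.condition, hY.lift_fst _ _ _, hY.lift_snd _ _ _⟩
  have hK := isPullback_map_left a u
  have hw : pullback.fst X.hom a ≫ u.left = (((Over.pullback a).map u).left ≫ e) ≫ pY := by
    rw [Category.assoc, he1]
    exact hK.w
  obtain ⟨m, hm1, hm2⟩ : ∃ m : pullback X.hom a ⟶ Xi, m ≫ pX = pullback.fst X.hom a ∧
      m ≫ fi = ((Over.pullback a).map u).left ≫ e :=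
    ⟨hX.lift _ _ hw, hX.lift_fst _ _ _, hX.lift_snd _ _ _⟩
  have hsq : IsPullback m ((Over.pullback a).map u).left fi e := by
    refine IsPullback.of_right ?_ hm2 hX
    rw [hm1, he1]
    exact hK
  exact P.of_isPullback hsq h

end Cat

variable {I : Type u} [SmallCategory I] [IsCofiltered I]
  (D : I ⥤ Scheme.{u}) (c : Cone D) (hc : IsLimit c)
  [∀ {i j : I} (f : i ⟶ j), IsAffineHom (D.map f)] (i₀ : I) [CompactSpace (D.obj i₀)]
  [QuasiSeparatedSpace (D.obj i₀)]

include hc in
set_option backward.isDefEq.respectTransparency false in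
/-- Monomorphisms descend to a finite stage (two-step form). -/
theorem exists_mono_descend {X₀ Y₀ : Scheme.{u}} (f₀ : X₀ ⟶ Y₀) (g₀ : Y₀ ⟶ D.obj i₀)
    [CompactSpace X₀] [QuasiSeparatedSpace X₀] [CompactSpace Y₀] [QuasiSeparatedSpace Y₀]
    [LocallyOfFiniteType f₀]
    {X Y : Scheme.{u}} (f : X ⟶ Y) (g : Y ⟶ c.pt) (qY : Y ⟶ Y₀) (qX : X ⟶ X₀)
    (hY : IsPullback qY g g₀ (c.π.app i₀)) (hX : IsPullback qX f f₀ qY) [Mono f] :
    ∃ (i : I) (φ : i ⟶ i₀) (Xi Yi : Scheme.{u}) (fi : Xi ⟶ Yi) (gi : Yi ⟶ D.obj i) (pY : Yi ⟶ Y₀)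
      (pX : Xi ⟶ X₀), IsPullback pY gi g₀ (D.map φ) ∧ IsPullback pX fi f₀ pY ∧ Mono fi := by
  refine twoStep D c i₀ f₀ g₀ f g qY qX hY hX (MorphismProperty.monomorphisms Scheme.{u})
    (MorphismProperty.monomorphisms.infer_property f) ?_
  intro f₀' hf₀' hP
  have : LocallyOfFiniteType f₀' := by
    rw [hf₀']; exact (liftTop_prop_iff D i₀ f₀ g₀ @LocallyOfFiniteType).mpr inferInstance
  simp only [MorphismProperty.monomorphisms.iff] at hP ⊢
  exact exists_mono_pullback_fst (sys D i₀ g₀) (sysCone D c i₀ g₀) (top i₀)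
    (isLimitSysCone D c i₀ g₀ hc) f₀' hP

include hc in
/-- If the base change to the limit of a morphism of finite type between quasi-compact
quasi-separated schemes over a stage is a monomorphism, so are its base changes from some stage
on. -/
theorem ev_mono {X₀ Y₀ : Over (D.obj i₀)} (u : X₀ ⟶ Y₀) [LocallyOfFiniteType u.left]
    [QuasiCompact X₀.hom] [QuasiSeparated X₀.hom] [QuasiCompact Y₀.hom] [QuasiSeparated Y₀.hom]
    (h : Mono ((Over.pullback (c.π.app i₀)).map u)) :
    Ev (fun (j : I) (a : j ⟶ i₀) => Mono ((Over.pullback (D.map a)).map u)) := by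
  haveI : CompactSpace X₀.left := QuasiCompact.compactSpace_of_compactSpace X₀.hom
  haveI : QuasiSeparatedSpace X₀.left := quasiSeparatedSpace_of_quasiSeparated X₀.hom
  haveI : CompactSpace Y₀.left := QuasiCompact.compactSpace_of_compactSpace Y₀.hom
  haveI : QuasiSeparatedSpace Y₀.left := quasiSeparatedSpace_of_quasiSeparated Y₀.hom
  haveI : Mono ((Over.pullback (c.π.app i₀)).map u).left := inferInstance
  obtain ⟨i₁, a, Xi, Yi, fi, gi, pY, pX, hY, hX, hfi⟩ := exists_mono_descend D c hc i₀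
    u.left Y₀.hom ((Over.pullback (c.π.app i₀)).map u).left
    (pullback.snd Y₀.hom (c.π.app i₀)) (pullback.fst Y₀.hom (c.π.app i₀))
    (pullback.fst X₀.hom (c.π.app i₀))
    (IsPullback.of_hasPullback Y₀.hom (c.π.app i₀))
    (isPullback_map_left (c.π.app i₀) u)
  have h1 : Mono ((Over.pullback (D.map a)).map u).left :=
    prop_map_left_of_isPullback (MorphismProperty.monomorphisms Scheme.{u}) (D.map a) u pY gi hY
      pX fi hX (MorphismProperty.monomorphisms.infer_property fi)
  have h2 : Mono ((Over.pullback (D.map a)).map u) := Over.mono_of_mono_left _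
  refine ⟨i₁, a, fun j b => ?_⟩
  exact mono_map_of_mono_map (D.map (b ≫ a)) (D.map a) (D.map b) (D.map_comp b a).symm u h2

include hc in
/-- Generalisation of `factF_descend` to a finitely presented morphism whose base change to the
limit is a monomorphism. -/
theorem ev_factF' {T₀ G₀ H₀ : Over (D.obj i₀)} (i : H₀ ⟶ G₀)
    [LocallyOfFinitePresentation i.left] [QuasiCompact i.left] [QuasiSeparated i.left]
    (hmono : Mono ((Over.pullback (c.π.app i₀)).map i))
    (φ₀ : T₀ ⟶ G₀) [QuasiCompact T₀.hom] [QuasiSeparated T₀.hom]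
    (h : FactF (Over.pullback (c.π.app i₀)) i φ₀) :
    Ev (fun (j : I) (a : j ⟶ i₀) => FactF (Over.pullback (D.map a)) i φ₀) := by
  haveI : CompactSpace T₀.left := QuasiCompact.compactSpace_of_compactSpace T₀.hom
  haveI : QuasiSeparatedSpace T₀.left := quasiSeparatedSpace_of_quasiSeparated T₀.hom
  haveI : QuasiCompact (pullback.fst φ₀.left i.left) :=
    MorphismProperty.pullback_fst _ _ inferInstance
  haveI : QuasiSeparated (pullback.fst φ₀.left i.left) :=
    MorphismProperty.pullback_fst _ _ inferInstance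
  haveI : LocallyOfFinitePresentation (pullback.fst φ₀.left i.left) :=
    MorphismProperty.pullback_fst _ _ inferInstance
  haveI : CompactSpace ↥(pullback φ₀.left i.left) :=
    QuasiCompact.compactSpace_of_compactSpace (pullback.fst φ₀.left i.left)
  haveI : QuasiSeparatedSpace ↥(pullback φ₀.left i.left) :=
    quasiSeparatedSpace_of_quasiSeparated (pullback.fst φ₀.left i.left)
  obtain ⟨h0, hh0⟩ := (exists_factor_iff_exists_hom (c.π.app i₀) i φ₀).mp h
  haveI : Mono (pullback.fst (pullback.fst T₀.hom (c.π.app i₀)) (pullback.fst φ₀.left i.left)) :=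
    mono_fst_of_mono_map (c.π.app i₀) i φ₀ hmono
  haveI : IsIso (pullback.fst (pullback.fst T₀.hom (c.π.app i₀))
      (pullback.fst φ₀.left i.left)) := by
    let s : pullback T₀.hom (c.π.app i₀) ⟶ pullback φ₀.left i.left :=
      pullback.lift (pullback.fst T₀.hom (c.π.app i₀)) h0 hh0.symm
    have hs : s ≫ pullback.fst φ₀.left i.left = pullback.fst T₀.hom (c.π.app i₀) :=
      pullback.lift_fst _ _ _
    haveI : IsSplitEpi (pullback.fst (pullback.fst T₀.hom (c.π.app i₀))
        (pullback.fst φ₀.left i.left)) :=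
      ⟨⟨pullback.lift (𝟙 _) s (by rw [Category.id_comp, hs]), pullback.lift_fst _ _ _⟩⟩
    exact isIso_of_mono_of_isSplitEpi _
  obtain ⟨i₁, a, Xi, Yi, fi, gi, pY, pX, hY, hX, hfi⟩ := exists_isIso_descend D c hc i₀
    (pullback.fst φ₀.left i.left) T₀.hom
    (pullback.fst (pullback.fst T₀.hom (c.π.app i₀)) (pullback.fst φ₀.left i.left))
    (pullback.snd T₀.hom (c.π.app i₀)) (pullback.fst T₀.hom (c.π.app i₀))
    (pullback.snd (pullback.fst T₀.hom (c.π.app i₀)) (pullback.fst φ₀.left i.left))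
    (IsPullback.of_hasPullback T₀.hom (c.π.app i₀))
    (IsPullback.of_hasPullback _ _).flip
  refine ⟨i₁, a, fun j b => ?_⟩
  apply (exists_factor_iff_exists_hom (D.map (b ≫ a)) i φ₀).mpr
  exact exists_hom_of_isIso (D.map (b ≫ a)) i φ₀ (D.map a) (D.map b) (D.map_comp b a).symm
    pY gi hY pX fi hX

/-- A factorisation at a stage gives one over the limit. -/
theorem factF_limit_of_stage {T₀ G₀ H₀ : Over (D.obj i₀)} (i : H₀ ⟶ G₀) (φ₀ : T₀ ⟶ G₀)
    {j : I} (a : j ⟶ i₀) (h : FactF (Over.pullback (D.map a)) i φ₀) :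
    FactF (Over.pullback (c.π.app i₀)) i φ₀ := by
  apply (exists_factor_iff_exists_hom (c.π.app i₀) i φ₀).mpr
  exact exists_hom_of_exists_hom (c.π.app i₀) (D.map a) (c.π.app j) (c.w a) i φ₀
    ((exists_factor_iff_exists_hom (D.map a) i φ₀).mp h)

/-- A monomorphism at a stage gives one over the limit. -/
theorem mono_limit_of_stage {X₀ Y₀ : Over (D.obj i₀)} (u : X₀ ⟶ Y₀)
    {j : I} (a : j ⟶ i₀) (h : Mono ((Over.pullback (D.map a)).map u)) :
    Mono ((Over.pullback (c.π.app i₀)).map u) :=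
  mono_map_of_mono_map (c.π.app i₀) (D.map a) (c.π.app j) (c.w a) u h

end Groth.Agent.Lib.Helper70.GrpLim
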