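import Mathlib
import Groth.Agent.Lib.Helper70.GrpLimB

/-!
# Equalities of base-changed morphisms descend to a finite stage
-/

set_option autoImplicit false
set_option linter.style.haveILetI false
set_option linter.unusedSectionVars false
universe u

open CategoryTheory Limits AlgebraicGeometry

namespace Groth.Agent.Lib.Helper70.GrpLim

open Groth.Agent.Lib.Helper13.LimDescent Groth.Agent.Lib.Helper70.SubGrp

variable {I : Type u} [SmallCategory I] [IsCofiltered I]
  (D : I ⥤ Scheme.{u}) (c : Cone D) (hc : IsLimit c)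
  [∀ {i j : I} (f : i ⟶ j), IsAffineHom (D.map f)] (i₀ : I)

/-- Equality of base changes persists at later stages. -/
theorem map_eq_map_of_stage {S₀ S' S'' : Scheme.{u}} (a : S' ⟶ S₀) (a'' : S'' ⟶ S₀)
    (b' : S' ⟶ S'') (hab : b' ≫ a'' = a) {X₀ Y₀ : Over S₀} (u u' : X₀ ⟶ Y₀)
    (h : (Over.pullback a'').map u = (Over.pullback a'').map u') :
    (Over.pullback a).map u = (Over.pullback a).map u' := by
  rw [map_eq_map_iff] at h ⊢
  rw [← bcMap_fst a a'' b' hab X₀, Category.assoc, h, Category.assoc]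

include hc in
set_option backward.isDefEq.respectTransparency false in
/-- If two morphisms to an object locally of finite type over the stage `i₀`, from a quasi-compact
one, agree after base change to the limit, they agree after base change to some stage and all
later ones. -/
theorem ev_eq {X₀ Y₀ : Over (D.obj i₀)} (u u' : X₀ ⟶ Y₀) [LocallyOfFiniteType Y₀.hom]
    [CompactSpace X₀.left]
    (h : (Over.pullback (c.π.app i₀)).map u = (Over.pullback (c.π.app i₀)).map u') :
    Ev (fun (j : I) (a : j ⟶ i₀) =>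
      (Over.pullback (D.map a)).map u = (Over.pullback (D.map a)).map u') := by
  rw [map_eq_map_iff] at h
  let t₂ : sys D i₀ X₀.hom ⟶ (Functor.const (Over i₀)).obj (D.obj i₀) :=
    { app := fun k => pullback.snd (D.map k.hom) X₀.hom ≫ X₀.hom
      naturality := fun k₁ k₂ b => by
        change (sys D i₀ X₀.hom).map b ≫ pullback.snd (D.map k₂.hom) X₀.hom ≫ X₀.hom =
          (pullback.snd (D.map k₁.hom) X₀.hom ≫ X₀.hom) ≫ 𝟙 _
        rw [Category.comp_id, ← Category.assoc, sys_map_snd] }
  have hsym : ∀ {S' : Scheme.{u}} (a : S' ⟶ D.obj i₀) (v : X₀ ⟶ Y₀),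
      pullback.snd a X₀.hom ≫ v.left =
        (pullbackSymmetry a X₀.hom).hom ≫ pullback.fst X₀.hom a ≫ v.left := by
    intro S' a v
    rw [pullbackSymmetry_hom_comp_fst_assoc]
  have hab : (sysCone D c i₀ X₀.hom).π.app (top i₀) ≫
      (pullback.snd (D.map (top i₀).hom) X₀.hom ≫ u.left) =
      (sysCone D c i₀ X₀.hom).π.app (top i₀) ≫
      (pullback.snd (D.map (top i₀).hom) X₀.hom ≫ u'.left) := by
    rw [← Category.assoc, ← Category.assoc, sysCone_π_snd, hsym, hsym, h]
  obtain ⟨k, hik, hk⟩ := Scheme.exists_hom_comp_eq_comp_of_locallyOfFiniteType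
    (sys D i₀ X₀.hom) t₂ Y₀.hom (sysCone D c i₀ X₀.hom) (isLimitSysCone D c i₀ X₀.hom hc)
    (i := top i₀)
    (pullback.snd (D.map (top i₀).hom) X₀.hom ≫ u.left)
    (pullback.snd (D.map (top i₀).hom) X₀.hom ≫ u'.left)
    (by change _ = (_ ≫ _) ≫ _; rw [Category.assoc, Over.w u])
    (by change _ = (_ ≫ _) ≫ _; rw [Category.assoc, Over.w u']) hab
  rw [← Category.assoc, ← Category.assoc, sys_map_snd] at hk
  refine ⟨k.left, k.hom, fun j b => ?_⟩
  apply map_eq_map_of_stage (D.map (b ≫ k.hom)) (D.map k.hom) (D.map b) (D.map_comp b k.hom).symm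
  rw [map_eq_map_iff]
  have h1 : ∀ v : X₀ ⟶ Y₀, pullback.fst X₀.hom (D.map k.hom) ≫ v.left =
      (pullbackSymmetry X₀.hom (D.map k.hom)).hom ≫ pullback.snd (D.map k.hom) X₀.hom ≫ v.left := by
    intro v
    rw [pullbackSymmetry_hom_comp_snd_assoc]
  rw [h1, h1, hk]

end Groth.Agent.Lib.Helper70.GrpLim
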