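import Mathlib
import Groth.Agent.Lib.Helper70.GrpLimC
import Groth.Prelude.Def_ActBC

/-!
# Homomorphisms of group objects and base change: descent to a finite stage
-/

set_option autoImplicit false
set_option linter.style.haveILetI false
set_option linter.unusedSectionVars false
universe v₁ u₁ v₂ u₂ u

open CategoryTheory Limits AlgebraicGeometry MonoidalCategory CartesianMonoidalCategory MonObj

namespace Groth.Agent.Lib.Helper70.GrpLim

section Monoidal

variable {C : Type u₁} [Category.{v₁} C] [MonoidalCategory C]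
  {E : Type u₂} [Category.{v₂} E] [MonoidalCategory E]
  (F : C ⥤ E) [F.Monoidal]

open scoped Obj

/-- For a monoidal functor `F`, the image of `φ` is a homomorphism of monoids iff the two
equations expressing that `φ` is a homomorphism hold after applying `F`. -/
theorem isMonHom_map_iff {G H : C} [MonObj G] [MonObj H] (φ : G ⟶ H) :
    IsMonHom (F.map φ) ↔
      F.map (η[G] ≫ φ) = F.map η[H] ∧ F.map (μ[G] ≫ φ) = F.map ((φ ⊗ₘ φ) ≫ μ[H]) := by
  constructor
  · intro h
    constructor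
    · have h1 := h.one_hom
      rw [Functor.obj.η_def, Functor.obj.η_def, Category.assoc, cancel_epi, ← F.map_comp] at h1
      exact h1
    · have h2 := h.mul_hom
      rw [Functor.obj.μ_def, Functor.obj.μ_def, Category.assoc,
        Functor.LaxMonoidal.μ_natural_assoc, cancel_epi, ← F.map_comp, ← F.map_comp] at h2
      exact h2
  · rintro ⟨h1, h2⟩
    constructor
    · rw [Functor.obj.η_def, Functor.obj.η_def, Category.assoc, ← F.map_comp, h1]
    · rw [Functor.obj.μ_def, Functor.obj.μ_def, Category.assoc,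
        Functor.LaxMonoidal.μ_natural_assoc, ← F.map_comp, ← F.map_comp, h2]

end Monoidal

section BcHom

open ActBC

variable {S₀ S' S'' S₃ : Scheme.{u}}

/-- The base change of a morphism `v` between base changes along `a`, viewed (through the
canonical identifications) as a morphism between the base changes along `a'' = b' ≫ a`. -/
noncomputable def bcHom (a : S' ⟶ S₀) (b' : S'' ⟶ S') {a'' : S'' ⟶ S₀} (h : b' ≫ a = a'')
    {X Y : Over S₀} (v : Red.bc a X ⟶ Red.bc a Y) : Red.bc a'' X ⟶ Red.bc a'' Y :=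
  (bcCompIso b' a X h).inv ≫ (Over.pullback b').map v ≫ (bcCompIso b' a Y h).hom

theorem bcCompIso_hom_comp_bcHom (a : S' ⟶ S₀) (b' : S'' ⟶ S') {a'' : S'' ⟶ S₀}
    (h : b' ≫ a = a'') {X Y : Over S₀} (v : Red.bc a X ⟶ Red.bc a Y) :
    (bcCompIso b' a X h).hom ≫ bcHom a b' h v =
      (Over.pullback b').map v ≫ (bcCompIso b' a Y h).hom := by
  rw [bcHom, Iso.hom_inv_id_assoc]

theorem map_eq_iff_bcHom_eq (a : S' ⟶ S₀) (b' : S'' ⟶ S') {a'' : S'' ⟶ S₀}
    (h : b' ≫ a = a'') {X Y : Over S₀} (v : Red.bc a X ⟶ Red.bc a Y)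
    (w : Red.bc a'' X ⟶ Red.bc a'' Y) :
    (Over.pullback b').map v = (bcCompIso b' a X h).hom ≫ w ≫ (bcCompIso b' a Y h).inv ↔
      bcHom a b' h v = w := by
  rw [bcHom]
  constructor
  · intro h1
    rw [h1]
    simp only [Category.assoc, Iso.inv_hom_id, Category.comp_id, Iso.inv_hom_id_assoc]
  · intro h1
    rw [← h1]
    simp only [Category.assoc, Iso.hom_inv_id, Category.comp_id, Iso.hom_inv_id_assoc]

theorem bcCompIso_hom_left_bcMap (a : S' ⟶ S₀) (b' : S'' ⟶ S') {a'' : S'' ⟶ S₀}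
    (h : b' ≫ a = a'') (X : Over S₀) :
    (bcCompIso b' a X h).hom.left ≫ bcMap a'' a b' h X = pullback.fst _ b' := by
  apply pullback.hom_ext
  · rw [Category.assoc, bcMap_fst, bcCompIso_hom_left_fst]
  · rw [Category.assoc, bcMap_snd, bcCompIso_hom_left_snd_assoc]
    exact pullback.condition.symm

/-- The first component of `bcHom`. -/
theorem bcHom_left_fst (a : S' ⟶ S₀) (b' : S'' ⟶ S') {a'' : S'' ⟶ S₀} (h : b' ≫ a = a'')
    {X Y : Over S₀} (v : Red.bc a X ⟶ Red.bc a Y) :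
    (bcHom a b' h v).left ≫ pullback.fst Y.hom a'' =
      bcMap a'' a b' h X ≫ v.left ≫ pullback.fst Y.hom a := by
  have h1 := congrArg (fun k => k.left ≫ pullback.fst Y.hom a'') (bcCompIso_hom_comp_bcHom a b' h v)
  simp only [Over.comp_left, Category.assoc, bcCompIso_hom_left_fst,
    pullback_map_left_fst_assoc] at h1
  have : IsIso (bcCompIso b' a X h).hom.left := inferInstance
  rw [← cancel_epi (bcCompIso b' a X h).hom.left, h1, ← Category.assoc (bcCompIso b' a X h).hom.left,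
    bcCompIso_hom_left_bcMap]

theorem bcMap_bcMap (a : S' ⟶ S₀) (b' : S'' ⟶ S') {a'' : S'' ⟶ S₀} (h : b' ≫ a = a'')
    (b'' : S₃ ⟶ S'') {a₃ : S₃ ⟶ S₀} (h' : b'' ≫ a'' = a₃)
    (b₃ : S₃ ⟶ S') (hb : b'' ≫ b' = b₃) (h₃ : b₃ ≫ a = a₃) (X : Over S₀) :
    bcMap a₃ a'' b'' h' X ≫ bcMap a'' a b' h X = bcMap a₃ a b₃ h₃ X := by
  apply pullback.hom_ext
  · simp only [Category.assoc, bcMap_fst]
  · simp only [Category.assoc, bcMap_snd, bcMap_snd_assoc, hb]

/-- Transitivity of `bcHom`. -/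
theorem bcHom_bcHom (a : S' ⟶ S₀) (b' : S'' ⟶ S') {a'' : S'' ⟶ S₀} (h : b' ≫ a = a'')
    (b'' : S₃ ⟶ S'') {a₃ : S₃ ⟶ S₀} (h' : b'' ≫ a'' = a₃)
    (b₃ : S₃ ⟶ S') (hb : b'' ≫ b' = b₃) (h₃ : b₃ ≫ a = a₃)
    {X Y : Over S₀} (v : Red.bc a X ⟶ Red.bc a Y) :
    bcHom a'' b'' h' (bcHom a b' h v) = bcHom a b₃ h₃ v := by
  apply hom_ext_fst
  rw [bcHom_left_fst, bcHom_left_fst, bcHom_left_fst, ← Category.assoc,
    bcMap_bcMap a b' h b'' h' b₃ hb h₃]

/-- The identification used in statements, in terms of `bcCompIso`. -/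
theorem pullbackComp_symm_trans_eqToIso (b' : S'' ⟶ S') (a : S' ⟶ S₀) {a'' : S'' ⟶ S₀}
    (h : b' ≫ a = a'') (X : Over S₀) :
    ((Over.pullbackComp b' a).app X).symm ≪≫ eqToIso (congrArg (fun g => Red.bc g X) h) =
      bcCompIso b' a X h := by
  subst h
  ext1
  simp [bcCompIso_hom_eq_pullbackComp_inv]

instance isMonHom_bcHom (a : S' ⟶ S₀) (b' : S'' ⟶ S') {a'' : S'' ⟶ S₀} (h : b' ≫ a = a'')
    {X Y : Over S₀} [GrpObj X] [GrpObj Y] (v : Red.bc a X ⟶ Red.bc a Y)
    [IsMonHom ((Over.pullback b').map v)] : IsMonHom (bcHom a b' h v) := by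
  unfold bcHom
  infer_instance

end BcHom

section Limit

open ActBC Groth.Agent.Lib.Helper13.LimDescent Groth.Agent.Lib.Helper70.SubGrp

variable {I : Type u} [SmallCategory I] [IsCofiltered I]
  (D : I ⥤ Scheme.{u}) (c : Cone D) (hc : IsLimit c)
  [∀ {i j : I} (f : i ⟶ j), IsAffineHom (D.map f)] (i₀ : I)

include hc in
set_option backward.isDefEq.respectTransparency false in
/-- A morphism between the base changes to the limit of a quasi-compact quasi-separated object and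
an object locally of finite presentation over a stage comes from a morphism between their base
changes to some later stage. -/
theorem exists_hom_descend {X₀ Y₀ : Over (D.obj i₀)} [LocallyOfFinitePresentation Y₀.hom]
    [CompactSpace X₀.left] [QuasiSeparatedSpace X₀.left]
    (u : Red.bc (c.π.app i₀) X₀ ⟶ Red.bc (c.π.app i₀) Y₀) :
    ∃ (i : I) (f : i ⟶ i₀) (ui : Red.bc (D.map f) X₀ ⟶ Red.bc (D.map f) Y₀),
      bcHom (D.map f) (c.π.app i) (c.w f) ui = u := by
  let t₂ : sys D i₀ X₀.hom ⟶ (Functor.const (Over i₀)).obj (D.obj i₀) :=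
    { app := fun k => pullback.snd (D.map k.hom) X₀.hom ≫ X₀.hom
      naturality := fun k₁ k₂ b => by
        change (sys D i₀ X₀.hom).map b ≫ pullback.snd (D.map k₂.hom) X₀.hom ≫ X₀.hom =
          (pullback.snd (D.map k₁.hom) X₀.hom ≫ X₀.hom) ≫ 𝟙 _
        rw [Category.comp_id, ← Category.assoc, sys_map_snd] }
  let a : (sysCone D c i₀ X₀.hom).pt ⟶ Y₀.left :=
    (pullbackSymmetry (c.π.app i₀) X₀.hom).hom ≫ u.left ≫ pullback.fst Y₀.hom (c.π.app i₀)
  have hu : u.left ≫ pullback.snd Y₀.hom (c.π.app i₀) = pullback.snd X₀.hom (c.π.app i₀) :=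
    Over.w u
  have ha : (sysCone D c i₀ X₀.hom).π ≫ t₂ = (Functor.const _).map (a ≫ Y₀.hom) := by
    ext k
    change (sysCone D c i₀ X₀.hom).π.app k ≫ pullback.snd (D.map k.hom) X₀.hom ≫ X₀.hom =
      ((pullbackSymmetry (c.π.app i₀) X₀.hom).hom ≫ u.left ≫ pullback.fst Y₀.hom (c.π.app i₀)) ≫
        Y₀.hom
    rw [← Category.assoc, sysCone_π_snd]
    simp only [Category.assoc]
    rw [pullback.condition, reassoc_of% hu, pullbackSymmetry_hom_comp_snd_assoc,
      pullback.condition]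
  obtain ⟨k, g, hg₁, hg₂⟩ := Scheme.exists_π_app_comp_eq_of_locallyOfFinitePresentation
    (sys D i₀ X₀.hom) t₂ Y₀.hom (sysCone D c i₀ X₀.hom) (isLimitSysCone D c i₀ X₀.hom hc) a ha
  replace hg₂ : g ≫ Y₀.hom = pullback.snd (D.map k.hom) X₀.hom ≫ X₀.hom := hg₂
  have hcomp : ((pullbackSymmetry X₀.hom (D.map k.hom)).hom ≫ g) ≫ Y₀.hom =
      pullback.snd X₀.hom (D.map k.hom) ≫ D.map k.hom := by
    rw [Category.assoc, hg₂, pullbackSymmetry_hom_comp_snd_assoc, pullback.condition]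
  let ui : Red.bc (D.map k.hom) X₀ ⟶ Red.bc (D.map k.hom) Y₀ :=
    Over.homMk (pullback.lift ((pullbackSymmetry X₀.hom (D.map k.hom)).hom ≫ g)
      (pullback.snd X₀.hom (D.map k.hom)) hcomp) (pullback.lift_snd _ _ _)
  have hui : ui.left ≫ pullback.fst Y₀.hom (D.map k.hom) =
      (pullbackSymmetry X₀.hom (D.map k.hom)).hom ≫ g := pullback.lift_fst _ _ _
  refine ⟨k.left, k.hom, ui, ?_⟩
  apply hom_ext_fst
  rw [bcHom_left_fst, hui]
  have key : bcMap (c.π.app i₀) (D.map k.hom) (c.π.app k.left) (c.w k.hom) X₀ ≫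
      (pullbackSymmetry X₀.hom (D.map k.hom)).hom =
      (pullbackSymmetry (c.π.app i₀) X₀.hom).inv ≫ (sysCone D c i₀ X₀.hom).π.app k := by
    apply pullback.hom_ext
    · rw [Category.assoc, pullbackSymmetry_hom_comp_fst, bcMap_snd, Category.assoc, sysCone_π_fst,
        pullbackSymmetry_inv_comp_fst_assoc]
    · rw [Category.assoc, pullbackSymmetry_hom_comp_snd, bcMap_fst, Category.assoc, sysCone_π_snd,
        pullbackSymmetry_inv_comp_snd]
  rw [reassoc_of% key, hg₁]
  simp only [a, Iso.inv_hom_id_assoc]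

include hc in
/-- If the base change to the limit of a morphism between group objects over a stage is a
homomorphism, so are its base changes from some stage on. -/
theorem ev_isMonHom [CompactSpace (D.obj i₀)] {G₀ H₀ : Over (D.obj i₀)} [GrpObj G₀] [GrpObj H₀]
    [QuasiCompact G₀.hom] [LocallyOfFiniteType H₀.hom] (φ : G₀ ⟶ H₀)
    (h : IsMonHom ((Over.pullback (c.π.app i₀)).map φ)) :
    Ev (fun (j : I) (a : j ⟶ i₀) => IsMonHom ((Over.pullback (D.map a)).map φ)) := by
  obtain ⟨h1, h2⟩ := (isMonHom_map_iff (Over.pullback (c.π.app i₀)) φ).mp h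
  haveI : CompactSpace (𝟙_ (Over (D.obj i₀))).left := ‹CompactSpace (D.obj i₀)›
  haveI : QuasiCompact (G₀ ⊗ G₀).hom := by
    rw [Over.tensorObj_hom]
    haveI : QuasiCompact (pullback.fst G₀.hom G₀.hom) :=
      MorphismProperty.pullback_fst _ _ inferInstance
    infer_instance
  haveI : CompactSpace (G₀ ⊗ G₀).left := QuasiCompact.compactSpace_of_compactSpace (G₀ ⊗ G₀).hom
  have e1 := ev_eq D c hc i₀ (η[G₀] ≫ φ) η[H₀] h1
  have e2 := ev_eq D c hc i₀ (μ[G₀] ≫ φ) ((φ ⊗ₘ φ) ≫ μ[H₀]) h2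
  refine (e1.and e2).mono ?_
  rintro j a ⟨k1, k2⟩
  exact (isMonHom_map_iff (Over.pullback (D.map a)) φ).mpr ⟨k1, k2⟩

end Limit

end Groth.Agent.Lib.Helper70.GrpLim
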