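import Mathlib

/-!
# Candidate group structures and monoidal functors

A `PreGrp X` is the data of a group-object structure on `X` (unit, multiplication, inverse) without
the axioms.  For a monoidal functor `F` between cartesian monoidal categories, `P.map F` is the
induced data on `F.obj X`, and `P.map F` satisfies the axioms iff the axioms of `P` hold after
applying `F`.
-/

set_option autoImplicit false
universe v₁ u₁ v₂ u₂

open CategoryTheory MonoidalCategory CartesianMonoidalCategory MonObj Functor.LaxMonoidal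
  Functor.Monoidal

namespace Groth.Agent.Lib.Helper70

variable {C : Type u₁} [Category.{v₁} C] [CartesianMonoidalCategory C]
  {E : Type u₂} [Category.{v₂} E] [CartesianMonoidalCategory E]

/-- The data of a group object structure, without axioms. -/
structure PreGrp (X : C) where
  /-- unit -/
  one : 𝟙_ C ⟶ X
  /-- multiplication -/
  mul : X ⊗ X ⟶ X
  /-- inverse -/
  inv : X ⟶ X

namespace PreGrp

variable {X : C} (P : PreGrp X)

/-- left side of `one_mul` -/
def lhs1 : 𝟙_ C ⊗ X ⟶ X := (P.one ▷ X) ≫ P.mul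
/-- left side of `mul_one` -/
def lhs2 : X ⊗ 𝟙_ C ⟶ X := (X ◁ P.one) ≫ P.mul
/-- left side of `mul_assoc` -/
def lhs3 : (X ⊗ X) ⊗ X ⟶ X := (P.mul ▷ X) ≫ P.mul
/-- right side of `mul_assoc` -/
def rhs3 : (X ⊗ X) ⊗ X ⟶ X := (α_ X X X).hom ≫ (X ◁ P.mul) ≫ P.mul
/-- left side of `left_inv` -/
def lhs4 : X ⟶ X := lift P.inv (𝟙 X) ≫ P.mul
/-- left side of `right_inv` -/
def lhs5 : X ⟶ X := lift (𝟙 X) P.inv ≫ P.mul
/-- right side of `left_inv` and `right_inv` -/
def rhs4 : X ⟶ X := toUnit X ≫ P.one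

/-- The group axioms. -/
structure IsGrp : Prop where
  h1 : P.lhs1 = (λ_ X).hom
  h2 : P.lhs2 = (ρ_ X).hom
  h3 : P.lhs3 = P.rhs3
  h4 : P.lhs4 = P.rhs4
  h5 : P.lhs5 = P.rhs4

/-- The group object given by data satisfying the axioms. -/
abbrev toGrpObj (h : P.IsGrp) : GrpObj X where
  one := P.one
  mul := P.mul
  one_mul := h.h1
  mul_one := h.h2
  mul_assoc := h.h3
  inv := P.inv
  left_inv := h.h4
  right_inv := h.h5

/-- The data underlying a group object. -/
def ofGrpObj (X : C) [GrpObj X] : PreGrp X := ⟨η[X], μ[X], ι[X]⟩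

theorem isGrp_ofGrpObj (X : C) [GrpObj X] : (ofGrpObj X).IsGrp :=
  ⟨MonObj.one_mul X, MonObj.mul_one X, MonObj.mul_assoc X, GrpObj.left_inv X, GrpObj.right_inv X⟩

variable (F : C ⥤ E) [F.Monoidal]

/-- The induced data on the image under a monoidal functor. -/
def map : PreGrp (F.obj X) := ⟨ε F ≫ F.map P.one, Functor.LaxMonoidal.μ F X X ≫ F.map P.mul, F.map P.inv⟩

@[simp] lemma map_one : (P.map F).one = ε F ≫ F.map P.one := rfl
@[simp] lemma map_mul : (P.map F).mul = Functor.LaxMonoidal.μ F X X ≫ F.map P.mul := rfl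
@[simp] lemma map_inv : (P.map F).inv = F.map P.inv := rfl

theorem map_lhs1 : (P.map F).lhs1 = (ε F ▷ F.obj X) ≫ Functor.LaxMonoidal.μ F (𝟙_ C) X ≫ F.map P.lhs1 := by
  simp only [lhs1, map_one, map_mul, comp_whiskerRight, Category.assoc, μ_natural_left_assoc,
    F.map_comp]

theorem map_rhs1 : (λ_ (F.obj X)).hom = (ε F ▷ F.obj X) ≫ Functor.LaxMonoidal.μ F (𝟙_ C) X ≫ F.map (λ_ X).hom := by
  rw [Functor.LaxMonoidal.left_unitality]

theorem map_lhs2 : (P.map F).lhs2 = (F.obj X ◁ ε F) ≫ Functor.LaxMonoidal.μ F X (𝟙_ C) ≫ F.map P.lhs2 := by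
  simp only [lhs2, map_one, map_mul, MonoidalCategory.whiskerLeft_comp, Category.assoc,
    μ_natural_right_assoc, F.map_comp]

theorem map_rhs2 : (ρ_ (F.obj X)).hom = (F.obj X ◁ ε F) ≫ Functor.LaxMonoidal.μ F X (𝟙_ C) ≫ F.map (ρ_ X).hom := by
  rw [Functor.LaxMonoidal.right_unitality]

theorem map_lhs3 : (P.map F).lhs3 =
    (Functor.LaxMonoidal.μ F X X ▷ F.obj X) ≫ Functor.LaxMonoidal.μ F (X ⊗ X) X ≫ F.map P.lhs3 := by
  simp only [lhs3, map_mul, comp_whiskerRight, Category.assoc, μ_natural_left_assoc, F.map_comp]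

theorem map_rhs3 : (P.map F).rhs3 =
    (Functor.LaxMonoidal.μ F X X ▷ F.obj X) ≫ Functor.LaxMonoidal.μ F (X ⊗ X) X ≫ F.map P.rhs3 := by
  simp only [rhs3, map_mul, MonoidalCategory.whiskerLeft_comp, Category.assoc,
    μ_natural_right_assoc, F.map_comp]
  rw [← Functor.LaxMonoidal.associativity_assoc]

theorem map_lhs4 : (P.map F).lhs4 = F.map P.lhs4 := by
  simp only [lhs4, map_mul, map_inv, F.map_comp]
  rw [← F.map_id, lift_μ_assoc]

theorem map_lhs5 : (P.map F).lhs5 = F.map P.lhs5 := by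
  simp only [lhs5, map_mul, map_inv, F.map_comp]
  rw [← F.map_id, lift_μ_assoc]

theorem map_rhs4 : (P.map F).rhs4 = F.map P.rhs4 := by
  simp only [rhs4, map_one, F.map_comp]
  rw [toUnit_ε_assoc]

/-- `P.map F` satisfies the group axioms iff those of `P` hold after applying `F`. -/
theorem isGrp_map_iff : (P.map F).IsGrp ↔
    F.map P.lhs1 = F.map (λ_ X).hom ∧ F.map P.lhs2 = F.map (ρ_ X).hom ∧
      F.map P.lhs3 = F.map P.rhs3 ∧ F.map P.lhs4 = F.map P.rhs4 ∧
      F.map P.lhs5 = F.map P.rhs4 := by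
  constructor
  · intro h
    refine ⟨?_, ?_, ?_, ?_, ?_⟩
    · have := h.h1
      rw [map_lhs1, map_rhs1 F, cancel_epi, cancel_epi] at this
      exact this
    · have := h.h2
      rw [map_lhs2, map_rhs2 F, cancel_epi, cancel_epi] at this
      exact this
    · have := h.h3
      rw [map_lhs3, map_rhs3, cancel_epi, cancel_epi] at this
      exact this
    · have := h.h4
      rwa [map_lhs4, map_rhs4] at this
    · have := h.h5
      rwa [map_lhs5, map_rhs4] at this
  · rintro ⟨k1, k2, k3, k4, k5⟩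
    refine ⟨?_, ?_, ?_, ?_, ?_⟩
    · rw [map_lhs1, map_rhs1 F, k1]
    · rw [map_lhs2, map_rhs2 F, k2]
    · rw [map_lhs3, map_rhs3, k3]
    · rw [map_lhs4, map_rhs4, k4]
    · rw [map_lhs5, map_rhs4, k5]

section Hom

variable {X Y Z : C} (P : PreGrp X) (Q : PreGrp Y) (R : PreGrp Z)

/-- A morphism compatible with candidate group structures. -/
structure IsHom (φ : X ⟶ Y) : Prop where
  one : P.one ≫ φ = Q.one
  mul : P.mul ≫ φ = (φ ⊗ₘ φ) ≫ Q.mul
  inv : P.inv ≫ φ = φ ≫ Q.inv

variable {P Q R}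

theorem IsHom.comp {φ : X ⟶ Y} {ψ : Y ⟶ Z} (h : IsHom P Q φ) (h' : IsHom Q R ψ) :
    IsHom P R (φ ≫ ψ) where
  one := by rw [← Category.assoc, h.one, h'.one]
  mul := by rw [← Category.assoc, h.mul, Category.assoc, h'.mul, ← Category.assoc,
    MonoidalCategory.tensorHom_comp_tensorHom]
  inv := by rw [← Category.assoc, h.inv, Category.assoc, h'.inv, Category.assoc]

theorem IsHom.symm (e : X ≅ Y) (h : IsHom P Q e.hom) : IsHom Q P e.inv where
  one := by rw [← h.one, Category.assoc, Iso.hom_inv_id, Category.comp_id]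
  mul := by
    rw [← cancel_epi (e.hom ⊗ₘ e.hom), ← Category.assoc (e.hom ⊗ₘ e.hom), ← h.mul,
      Category.assoc, Iso.hom_inv_id, Category.comp_id, ← Category.assoc,
      MonoidalCategory.tensorHom_comp_tensorHom, Iso.hom_inv_id, MonoidalCategory.tensorHom_id,
      MonoidalCategory.id_whiskerRight, Category.id_comp]
  inv := by
    rw [← cancel_epi e.hom, ← Category.assoc, ← h.inv, Category.assoc, Iso.hom_inv_id,
      Category.comp_id, Iso.hom_inv_id_assoc]

/-- A candidate structure isomorphic to a group structure is a group structure. -/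
theorem IsGrp.of_iso (e : X ≅ Y) (h : IsHom P Q e.hom) (hQ : Q.IsGrp) : P.IsGrp := by
  let _ : GrpObj Y := Q.toGrpObj hQ
  let _ : GrpObj X := GrpObj.ofIso e.symm
  have : P = ofGrpObj X := by
    have h' := IsHom.symm e h
    cases P with
    | mk o m i =>
      simp only [ofGrpObj, PreGrp.mk.injEq]
      refine ⟨?_, ?_, ?_⟩
      · exact h'.one.symm
      · change m = (e.symm.inv ⊗ₘ e.symm.inv) ≫ Q.mul ≫ e.symm.hom
        have := h.mul
        simp only at this
        rw [Iso.symm_inv, Iso.symm_hom, ← Category.assoc, ← this, Category.assoc, Iso.hom_inv_id,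
          Category.comp_id]
      · change i = e.symm.inv ≫ Q.inv ≫ e.symm.hom
        have := h.inv
        simp only at this
        rw [Iso.symm_inv, Iso.symm_hom, ← Category.assoc, ← this, Category.assoc, Iso.hom_inv_id,
          Category.comp_id]
  rw [this]
  exact isGrp_ofGrpObj X

/-- A compatible morphism between group structures is a homomorphism. -/
theorem IsHom.isMonHom {φ : X ⟶ Y} (h : IsHom P Q φ) (hP : P.IsGrp) (hQ : Q.IsGrp) :
    @IsMonHom _ _ _ X Y (P.toGrpObj hP).toMonObj (Q.toGrpObj hQ).toMonObj φ :=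
  @IsMonHom.mk _ _ _ X Y (P.toGrpObj hP).toMonObj (Q.toGrpObj hQ).toMonObj φ h.one h.mul

theorem isHom_of_isMonHom [GrpObj X] [GrpObj Y] (φ : X ⟶ Y) [IsMonHom φ] :
    IsHom (ofGrpObj X) (ofGrpObj Y) φ :=
  ⟨IsMonHom.one_hom φ, IsMonHom.mul_hom φ, GrpObj.inv_hom φ⟩

end Hom

section NatTrans

variable {X : C} (P : PreGrp X) (F₁ F₂ : C ⥤ E) [F₁.Monoidal] [F₂.Monoidal]

/-- A natural transformation between monoidal functors (automatically monoidal, the categories
being cartesian) is compatible with the induced candidate structures. -/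
theorem isHom_app (τ : F₁ ⟶ F₂) : IsHom (P.map F₁) (P.map F₂) (τ.app X) where
  one := by
    simp only [map_one, Category.assoc]
    rw [τ.naturality, NatTrans.IsMonoidal.unit_assoc]
  mul := by
    simp only [map_mul, Category.assoc]
    rw [τ.naturality, NatTrans.IsMonoidal.tensor_assoc]
  inv := by
    simp only [map_inv]
    rw [τ.naturality]

variable {E' : Type*} [Category E'] [CartesianMonoidalCategory E'] (G : E ⥤ E') [G.Monoidal]

theorem map_map : (P.map F₁).map G = P.map (F₁ ⋙ G) := by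
  simp only [map, Functor.comp_obj, Functor.comp_map, Functor.map_comp, Category.assoc,
    Functor.LaxMonoidal.comp_ε, Functor.LaxMonoidal.comp_μ]

end NatTrans

/-- The structure on the image of a group object is the image of its structure. -/
theorem ofGrpObj_map {X : C} [GrpObj X] (F : C ⥤ E) [F.Monoidal] :
    (ofGrpObj X).map F = @ofGrpObj _ _ _ (F.obj X) F.grpObjObj := rfl

end PreGrp

end Groth.Agent.Lib.Helper70
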