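import Mathlib
import Groth.Agent.Lib.Helper70.GrpLimD
import Groth.Agent.Lib.Helper70.PreGrpA

/-!
# Group structures over a limit descend to a finite stage
-/

set_option autoImplicit false
set_option linter.style.haveILetI false
set_option linter.unusedSectionVars false
universe u

open CategoryTheory Limits AlgebraicGeometry MonoidalCategory CartesianMonoidalCategory MonObj

namespace Groth.Agent.Lib.Helper70.GrpLim

open ActBC Groth.Agent.Lib.Helper13.LimDescent Groth.Agent.Lib.Helper70.SubGrp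
  Groth.Agent.Lib.Helper70

section Nat

variable {S₀ S' S'' : Scheme.{u}}

/-- `bcCompIso` as a natural isomorphism of functors. -/
noncomputable def bcCompNat (b' : S'' ⟶ S') (a : S' ⟶ S₀) {a'' : S'' ⟶ S₀} (h : b' ≫ a = a'') :
    Over.pullback a ⋙ Over.pullback b' ≅ Over.pullback a'' :=
  NatIso.ofComponents (fun X => bcCompIso b' a X h)
    (fun φ => bcCompIso_hom_naturality b' a h φ)

@[simp] lemma bcCompNat_hom_app (b' : S'' ⟶ S') (a : S' ⟶ S₀) {a'' : S'' ⟶ S₀}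
    (h : b' ≫ a = a'') (X : Over S₀) :
    (bcCompNat b' a h).hom.app X = (bcCompIso b' a X h).hom := rfl

end Nat

section Props

variable {S : Scheme.{u}}

lemma qc_tensor (A B : Over S) [QuasiCompact A.hom] [QuasiCompact B.hom] :
    QuasiCompact (A ⊗ B).hom := by
  rw [Over.tensorObj_hom]
  haveI : QuasiCompact (pullback.fst A.hom B.hom) :=
    MorphismProperty.pullback_fst _ _ inferInstance
  infer_instance

lemma qs_tensor (A B : Over S) [QuasiSeparated A.hom] [QuasiSeparated B.hom] :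
    QuasiSeparated (A ⊗ B).hom := by
  rw [Over.tensorObj_hom]
  haveI : QuasiSeparated (pullback.fst A.hom B.hom) :=
    MorphismProperty.pullback_fst _ _ inferInstance
  infer_instance

lemma qc_unit : QuasiCompact (𝟙_ (Over S)).hom := by
  change QuasiCompact (𝟙 S)
  infer_instance

lemma qs_unit : QuasiSeparated (𝟙_ (Over S)).hom := by
  change QuasiSeparated (𝟙 S)
  infer_instance

end Props

variable {I : Type u} [SmallCategory I] [IsCofiltered I]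
  (D : I ⥤ Scheme.{u}) (c : Cone D) (hc : IsLimit c)
  [∀ {i j : I} (f : i ⟶ j), IsAffineHom (D.map f)] (i₀ : I)

include hc in
/-- `exists_hom_descend`, in "eventually" form. -/
theorem ev_hom_descend {X₀ Y₀ : Over (D.obj i₀)} [LocallyOfFinitePresentation Y₀.hom]
    [CompactSpace X₀.left] [QuasiSeparatedSpace X₀.left]
    (u : Red.bc (c.π.app i₀) X₀ ⟶ Red.bc (c.π.app i₀) Y₀) :
    Ev (fun (i : I) (f : i ⟶ i₀) => ∃ ui : Red.bc (D.map f) X₀ ⟶ Red.bc (D.map f) Y₀,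
      bcHom (D.map f) (c.π.app i) (c.w f) ui = u) := by
  obtain ⟨i₁, f₁, ui₁, h₁⟩ := exists_hom_descend D c hc i₀ u
  refine ⟨i₁, f₁, fun j b => ?_⟩
  refine ⟨bcHom (D.map f₁) (D.map b) (D.map_comp b f₁).symm ui₁, ?_⟩
  rw [bcHom_bcHom (D.map f₁) (D.map b) (D.map_comp b f₁).symm (c.π.app j) (c.w (b ≫ f₁))
    (c.π.app i₁) (c.w b) (c.w f₁)]
  exact h₁

section Main

variable [∀ i, CompactSpace (D.obj i)] [∀ i, QuasiSeparatedSpace (D.obj i)]

include hc in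
set_option maxHeartbeats 1600000 in
/-- A group structure on the base change to the limit of a finitely presented object over a
stage comes from a group structure on its base change to some later stage. -/
theorem exists_grpObj_descend (X₀ : Over (D.obj i₀)) [LocallyOfFinitePresentation X₀.hom]
    [QuasiCompact X₀.hom] [QuasiSeparated X₀.hom] (inst : GrpObj (Red.bc (c.π.app i₀) X₀)) :
    ∃ (i₂ : I) (X₂ : Over (D.obj i₂)) (_ : GrpObj X₂)
      (e : Red.bc (c.π.app i₀) X₀ ≅ Red.bc (c.π.app i₂) X₂),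
      IsMonHom e.hom ∧ LocallyOfFinitePresentation X₂.hom ∧ QuasiCompact X₂.hom ∧
        QuasiSeparated X₂.hom := by
  let Fl := Over.pullback (c.π.app i₀)
  let Q : PreGrp (Fl.obj X₀) := PreGrp.ofGrpObj _
  haveI := qc_tensor X₀ X₀
  haveI := qs_tensor X₀ X₀
  haveI : CompactSpace X₀.left := QuasiCompact.compactSpace_of_compactSpace X₀.hom
  haveI : QuasiSeparatedSpace X₀.left := quasiSeparatedSpace_of_quasiSeparated X₀.hom
  haveI : CompactSpace (X₀ ⊗ X₀).left := QuasiCompact.compactSpace_of_compactSpace (X₀ ⊗ X₀).hom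
  haveI : QuasiSeparatedSpace (X₀ ⊗ X₀).left :=
    quasiSeparatedSpace_of_quasiSeparated (X₀ ⊗ X₀).hom
  haveI : CompactSpace (𝟙_ (Over (D.obj i₀))).left := inferInstanceAs (CompactSpace (D.obj i₀))
  haveI : QuasiSeparatedSpace (𝟙_ (Over (D.obj i₀))).left :=
    inferInstanceAs (QuasiSeparatedSpace (D.obj i₀))
  have e1 := ev_hom_descend D c hc i₀ (X₀ := 𝟙_ _) (Y₀ := X₀)
    (inv (Functor.LaxMonoidal.ε Fl) ≫ Q.one)
  have e2 := ev_hom_descend D c hc i₀ (X₀ := X₀ ⊗ X₀) (Y₀ := X₀)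
    (inv (Functor.LaxMonoidal.μ Fl X₀ X₀) ≫ Q.mul)
  have e3 := ev_hom_descend D c hc i₀ (X₀ := X₀) (Y₀ := X₀) Q.inv
  obtain ⟨i₁, f₁, ⟨⟨o₁, ho⟩, ⟨m₁, hm⟩⟩, ⟨v₁, hv⟩⟩ := ((e1.and e2).and e3).exists
  let F₁ := Over.pullback (D.map f₁)
  let Fl1 := Over.pullback (c.π.app i₁)
  let X₁ : Over (D.obj i₁) := F₁.obj X₀
  let P₁ : PreGrp X₁ :=
    ⟨Functor.LaxMonoidal.ε F₁ ≫ o₁, Functor.LaxMonoidal.μ F₁ X₀ X₀ ≫ m₁, v₁⟩
  let τ₁ : F₁ ⋙ Fl1 ≅ Fl := bcCompNat (c.π.app i₁) (D.map f₁) (c.w f₁)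
  let β₁ : Fl1.obj X₁ ≅ Fl.obj X₀ := bcCompIso (c.π.app i₁) (D.map f₁) X₀ (c.w f₁)
  have hd : PreGrp.IsHom (P₁.map Fl1) Q β₁.hom := by
    refine ⟨?_, ?_, ?_⟩
    · have h1 := (map_eq_iff_bcHom_eq (D.map f₁) (c.π.app i₁) (c.w f₁) o₁ _).mpr ho
      have h2 := NatTrans.IsMonoidal.unit (τ := τ₁.hom)
      rw [Functor.LaxMonoidal.comp_ε] at h2
      replace h2 : Functor.LaxMonoidal.ε Fl1 ≫ Fl1.map (Functor.LaxMonoidal.ε F₁) ≫
          (bcCompIso (c.π.app i₁) (D.map f₁) (𝟙_ _) (c.w f₁)).hom = Functor.LaxMonoidal.ε Fl := by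
        rw [← Category.assoc]; exact h2
      rw [PreGrp.map_one, Category.assoc, Functor.map_comp, Category.assoc, h1]
      simp only [β₁, Category.assoc, Iso.inv_hom_id, Category.comp_id]
      rw [reassoc_of% h2, IsIso.hom_inv_id_assoc]
    · have h1 := (map_eq_iff_bcHom_eq (D.map f₁) (c.π.app i₁) (c.w f₁) m₁ _).mpr hm
      have h2 := NatTrans.IsMonoidal.tensor (τ := τ₁.hom) X₀ X₀
      rw [Functor.LaxMonoidal.comp_μ] at h2
      replace h2 : Functor.LaxMonoidal.μ Fl1 (F₁.obj X₀) (F₁.obj X₀) ≫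
          Fl1.map (Functor.LaxMonoidal.μ F₁ X₀ X₀) ≫
          (bcCompIso (c.π.app i₁) (D.map f₁) (X₀ ⊗ X₀) (c.w f₁)).hom =
          (β₁.hom ⊗ₘ β₁.hom) ≫ Functor.LaxMonoidal.μ Fl X₀ X₀ := by
        rw [← Category.assoc]; exact h2
      rw [PreGrp.map_mul, Category.assoc, Functor.map_comp, Category.assoc, h1]
      simp only [β₁, Category.assoc, Iso.inv_hom_id, Category.comp_id] at h2 ⊢
      rw [reassoc_of% h2, IsIso.hom_inv_id_assoc]
    · have h1 := (map_eq_iff_bcHom_eq (D.map f₁) (c.π.app i₁) (c.w f₁) v₁ _).mpr hv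
      rw [PreGrp.map_inv, h1]
      simp only [β₁, Category.assoc, Iso.inv_hom_id, Category.comp_id]
  have hG₁ : (P₁.map Fl1).IsGrp := PreGrp.IsGrp.of_iso β₁ hd (PreGrp.isGrp_ofGrpObj _)
  obtain ⟨k1, k2, k3, k4, k5⟩ := (PreGrp.isGrp_map_iff P₁ Fl1).mp hG₁
  -- finiteness properties at the stage `i₁`
  haveI : LocallyOfFinitePresentation X₁.hom := by
    change LocallyOfFinitePresentation (pullback.snd X₀.hom (D.map f₁))
    exact MorphismProperty.pullback_snd _ _ inferInstance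
  haveI : QuasiCompact X₁.hom := by
    change QuasiCompact (pullback.snd X₀.hom (D.map f₁))
    exact MorphismProperty.pullback_snd _ _ inferInstance
  haveI : QuasiSeparated X₁.hom := by
    change QuasiSeparated (pullback.snd X₀.hom (D.map f₁))
    exact MorphismProperty.pullback_snd _ _ inferInstance
  haveI : LocallyOfFiniteType X₁.hom := inferInstance
  haveI := qc_unit (S := D.obj i₁)
  haveI := qc_tensor (𝟙_ (Over (D.obj i₁))) X₁
  haveI := qc_tensor X₁ (𝟙_ (Over (D.obj i₁)))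
  haveI := qc_tensor X₁ X₁
  haveI := qc_tensor (X₁ ⊗ X₁) X₁
  haveI : CompactSpace (𝟙_ (Over (D.obj i₁)) ⊗ X₁).left :=
    QuasiCompact.compactSpace_of_compactSpace (𝟙_ (Over (D.obj i₁)) ⊗ X₁).hom
  haveI : CompactSpace (X₁ ⊗ 𝟙_ (Over (D.obj i₁))).left :=
    QuasiCompact.compactSpace_of_compactSpace (X₁ ⊗ 𝟙_ (Over (D.obj i₁))).hom
  haveI : CompactSpace ((X₁ ⊗ X₁) ⊗ X₁).left :=
    QuasiCompact.compactSpace_of_compactSpace ((X₁ ⊗ X₁) ⊗ X₁).hom
  haveI : CompactSpace X₁.left := QuasiCompact.compactSpace_of_compactSpace X₁.hom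
  have a1 := ev_eq D c hc i₁ P₁.lhs1 (λ_ X₁).hom k1
  have a2 := ev_eq D c hc i₁ P₁.lhs2 (ρ_ X₁).hom k2
  have a3 := ev_eq D c hc i₁ P₁.lhs3 P₁.rhs3 k3
  have a4 := ev_eq D c hc i₁ P₁.lhs4 P₁.rhs4 k4
  have a5 := ev_eq D c hc i₁ P₁.lhs5 P₁.rhs4 k5
  obtain ⟨i₂, g, ⟨⟨⟨l1, l2⟩, l3⟩, l4⟩, l5⟩ := ((((a1.and a2).and a3).and a4).and a5).exists
  let F₂ := Over.pullback (D.map g)
  let Fl2 := Over.pullback (c.π.app i₂)
  have hG₂ : (P₁.map F₂).IsGrp := (PreGrp.isGrp_map_iff P₁ F₂).mpr ⟨l1, l2, l3, l4, l5⟩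
  let τ₂ : F₂ ⋙ Fl2 ≅ Fl1 := bcCompNat (c.π.app i₂) (D.map g) (c.w g)
  let β₂ : Fl2.obj (F₂.obj X₁) ≅ Fl1.obj X₁ := bcCompIso (c.π.app i₂) (D.map g) X₁ (c.w g)
  have hd₂ : PreGrp.IsHom ((P₁.map F₂).map Fl2) (P₁.map Fl1) β₂.hom := by
    rw [PreGrp.map_map]
    exact PreGrp.isHom_app P₁ (F₂ ⋙ Fl2) Fl1 τ₂.hom
  have h3 : PreGrp.IsHom Q ((P₁.map F₂).map Fl2) (β₁.inv ≫ β₂.inv) :=
    (PreGrp.IsHom.symm β₁ hd).comp (PreGrp.IsHom.symm β₂ hd₂)
  refine ⟨i₂, F₂.obj X₁, (P₁.map F₂).toGrpObj hG₂, β₁.symm ≪≫ β₂.symm, ?_, ?_, ?_, ?_⟩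
  · exact @IsMonHom.mk _ _ _ _ _ inst.toMonObj
      (@Functor.grpObjObj _ _ _ _ _ _ Fl2 _ (F₂.obj X₁) ((P₁.map F₂).toGrpObj hG₂)).toMonObj
      (β₁.symm ≪≫ β₂.symm).hom h3.one h3.mul
  · change LocallyOfFinitePresentation (pullback.snd X₁.hom (D.map g))
    exact MorphismProperty.pullback_snd _ _ inferInstance
  · change QuasiCompact (pullback.snd X₁.hom (D.map g))
    exact MorphismProperty.pullback_snd _ _ inferInstance
  · change QuasiSeparated (pullback.snd X₁.hom (D.map g))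
    exact MorphismProperty.pullback_snd _ _ inferInstance

end Main

end Groth.Agent.Lib.Helper70.GrpLim
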