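import Mathlib
import Groth.Agent.Lib.Helper70.GrpLimE
import Groth.Agent.H76.LimFlat

/-!
# Torsors over a limit: descent to a finite stage
-/

set_option autoImplicit false
set_option linter.style.haveILetI false
set_option linter.unusedSectionVars false
universe u

open CategoryTheory Limits AlgebraicGeometry MonoidalCategory CartesianMonoidalCategory MonObj

namespace Groth.Agent.Lib.Helper70.GrpLim

open ActBC Groth.Agent.Lib.Helper13.LimDescent Groth.Agent.Lib.Helper70.SubGrp
  Groth.Agent.Lib.Helper70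

section Ev

variable {I : Type u} [SmallCategory I] [IsCofiltered I]

/-- Transport an eventual property along a morphism of indices. -/
theorem Ev.comp {i₁ j : I} (f₁ : i₁ ⟶ j) {P : ∀ k : I, (k ⟶ i₁) → Prop} (h : Ev P) :
    Ev (fun (k : I) (a : k ⟶ j) => ∃ a' : k ⟶ i₁, a' ≫ f₁ = a ∧ P k a') := by
  obtain ⟨k₁, a₁, hP⟩ := h
  exact ⟨k₁, a₁ ≫ f₁, fun k b => ⟨b ≫ a₁, Category.assoc _ _ _, hP k b⟩⟩

end Ev

variable {I : Type u} [SmallCategory I] [IsCofiltered I]
  (D : I ⥤ Scheme.{u}) (c : Cone D) (hc : IsLimit c)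
  [∀ {i j : I} (f : i ⟶ j), IsAffineHom (D.map f)] (i₀ : I)

/-- From the two-step form of a descent statement to the "eventually" form. -/
theorem ev_of_twoStep (P : MorphismProperty Scheme.{u}) [P.IsStableUnderBaseChange]
    {X₀ Y₀ : Over (D.obj i₀)} (u : X₀ ⟶ Y₀)
    (h : ∃ (i : I) (φ : i ⟶ i₀) (Xi Yi : Scheme.{u}) (fi : Xi ⟶ Yi) (gi : Yi ⟶ D.obj i)
      (pY : Yi ⟶ Y₀.left) (pX : Xi ⟶ X₀.left), IsPullback pY gi Y₀.hom (D.map φ) ∧
        IsPullback pX fi u.left pY ∧ P fi) :
    Ev (fun (j : I) (a : j ⟶ i₀) => P ((Over.pullback (D.map a)).map u).left) := by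
  obtain ⟨i₁, a, Xi, Yi, fi, gi, pY, pX, hY, hX, hfi⟩ := h
  have h1 : P ((Over.pullback (D.map a)).map u).left :=
    prop_map_left_of_isPullback P (D.map a) u pY gi hY pX fi hX hfi
  refine ⟨i₁, a, fun j b => ?_⟩
  exact P.of_isPullback
    (isPullback_bcMap (D.map (b ≫ a)) (D.map a) (D.map b) (D.map_comp b a).symm u) h1

section General

variable {S₀ S' S'' : Scheme.{u}}

/-- Isomorphisms persist under further base change. -/
theorem isIso_map_of_isIso_map (a : S' ⟶ S₀) (b' : S'' ⟶ S') {a'' : S'' ⟶ S₀} (h : b' ≫ a = a'')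
    {X Y : Over S₀} (u : X ⟶ Y) (hu : IsIso ((Over.pullback a).map u)) :
    IsIso ((Over.pullback a'').map u) := by
  have hnat := (bcCompNat b' a h).hom.naturality u
  have : (Over.pullback a'').map u = (bcCompNat b' a h).inv.app X ≫
      (Over.pullback a ⋙ Over.pullback b').map u ≫ (bcCompNat b' a h).hom.app Y := by
    rw [hnat, Iso.inv_hom_id_app_assoc]
  rw [this]
  haveI : IsIso ((Over.pullback a ⋙ Over.pullback b').map u) := by
    rw [Functor.comp_map]; infer_instance
  infer_instance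

end General

section TorsorMap

variable {C : Type*} [Category C] [CartesianMonoidalCategory C]
  {E : Type*} [Category E] [CartesianMonoidalCategory E] (F : C ⥤ E) [F.Monoidal]

/-- The map `(g, x) ↦ (g x, x)` for the image of an action under a monoidal functor. -/
theorem lift_μ_map_snd {G X : C} (a : G ⊗ X ⟶ X) :
    lift (Functor.LaxMonoidal.μ F G X ≫ F.map a) (snd (F.obj G) (F.obj X)) =
      Functor.LaxMonoidal.μ F G X ≫ F.map (lift a (snd G X)) ≫ Functor.OplaxMonoidal.δ F X X := by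
  apply CartesianMonoidalCategory.hom_ext
  · rw [lift_fst, Category.assoc, Category.assoc, Functor.OplaxMonoidal.δ_fst, ← F.map_comp,
      lift_fst]
  · rw [lift_snd, Category.assoc, Category.assoc, Functor.OplaxMonoidal.δ_snd, ← F.map_comp,
      lift_snd, Functor.Monoidal.μ_snd]

theorem isIso_lift_μ_map_snd_iff {G X : C} (a : G ⊗ X ⟶ X) :
    IsIso (lift (Functor.LaxMonoidal.μ F G X ≫ F.map a) (snd (F.obj G) (F.obj X))) ↔
      IsIso (F.map (lift a (snd G X))) := by
  rw [lift_μ_map_snd]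
  constructor
  · intro h
    have h1 : IsIso (F.map (lift a (snd G X)) ≫ Functor.OplaxMonoidal.δ F X X) :=
      IsIso.of_isIso_comp_left (Functor.LaxMonoidal.μ F G X) _
    exact IsIso.of_isIso_comp_right _ (Functor.OplaxMonoidal.δ F X X)
  · intro h
    infer_instance

end TorsorMap

section Cover

/-- The structure morphism of `X` is covering for the fppf topology. -/
abbrev HasCover {S : Scheme.{u}} (X : Over S) : Prop :=
  ∃ (Z : Scheme.{u}) (v : Z ⟶ S) (w : Z ⟶ X.left), w ≫ X.hom = v ∧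
    Flat v ∧ Surjective v ∧ LocallyOfFinitePresentation v ∧ QuasiCompact v ∧ QuasiSeparated v

variable {S₀ S' S'' : Scheme.{u}}

/-- A property stable under base change passes to structure morphisms of further base
changes. -/
theorem prop_bc_hom_of_stage (P : MorphismProperty Scheme.{u}) [P.IsStableUnderBaseChange]
    (a : S' ⟶ S₀) (b' : S'' ⟶ S') {a'' : S'' ⟶ S₀} (h : b' ≫ a = a'') (Zo : Over S₀)
    (hP : P (Red.bc a Zo).hom) : P (Red.bc a'' Zo).hom := by
  rw [← Over.w (bcCompIso b' a Zo h).inv]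
  haveI : IsIso (bcCompIso b' a Zo h).inv.left :=
    inferInstanceAs (IsIso ((Over.forget _).map (bcCompIso b' a Zo h).inv))
  exact (P.cancel_left_of_respectsIso _ _).mpr (P.pullback_snd _ _ hP)

/-- Covers persist under further base change. -/
theorem hasCover_of_stage (a : S' ⟶ S₀) (b' : S'' ⟶ S') {a'' : S'' ⟶ S₀} (h : b' ≫ a = a'')
    (X : Over S₀) (hX : HasCover (Red.bc a X)) : HasCover (Red.bc a'' X) := by
  obtain ⟨Z, v, w, hw, h1, h2, h3, h4, h5⟩ := hX
  have hw' : w ≫ pullback.snd X.hom a = v := hw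
  refine ⟨pullback v b', pullback.snd v b',
    pullback.lift (pullback.fst v b' ≫ w ≫ pullback.fst X.hom a) (pullback.snd v b') ?_,
    pullback.lift_snd _ _ _, ?_, ?_, ?_, ?_, ?_⟩
  · rw [Category.assoc, Category.assoc, pullback.condition, reassoc_of% hw', pullback.condition_assoc,
      h]
  · exact MorphismProperty.pullback_snd _ _ h1
  · exact MorphismProperty.pullback_snd _ _ h2
  · exact MorphismProperty.pullback_snd _ _ h3
  · exact MorphismProperty.pullback_snd _ _ h4
  · exact MorphismProperty.pullback_snd _ _ h5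

end Cover

section Stage

variable [CompactSpace (D.obj i₀)] [QuasiSeparatedSpace (D.obj i₀)]

include hc in
/-- Isomorphisms descend, "eventually" form. -/
theorem ev_isIso {X₀ Y₀ : Over (D.obj i₀)} (u : X₀ ⟶ Y₀) [LocallyOfFinitePresentation u.left]
    [QuasiCompact X₀.hom] [QuasiSeparated X₀.hom] [QuasiCompact Y₀.hom] [QuasiSeparated Y₀.hom]
    (h : IsIso ((Over.pullback (c.π.app i₀)).map u)) :
    Ev (fun (j : I) (a : j ⟶ i₀) => IsIso ((Over.pullback (D.map a)).map u)) := by
  haveI : CompactSpace X₀.left := QuasiCompact.compactSpace_of_compactSpace X₀.hom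
  haveI : QuasiSeparatedSpace X₀.left := quasiSeparatedSpace_of_quasiSeparated X₀.hom
  haveI : CompactSpace Y₀.left := QuasiCompact.compactSpace_of_compactSpace Y₀.hom
  haveI : QuasiSeparatedSpace Y₀.left := quasiSeparatedSpace_of_quasiSeparated Y₀.hom
  haveI := h
  haveI : IsIso ((Over.pullback (c.π.app i₀)).map u).left :=
    inferInstanceAs (IsIso ((Over.forget _).map ((Over.pullback (c.π.app i₀)).map u)))
  have key := exists_isIso_descend D c hc i₀
    u.left Y₀.hom ((Over.pullback (c.π.app i₀)).map u).left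
    (pullback.snd Y₀.hom (c.π.app i₀)) (pullback.fst Y₀.hom (c.π.app i₀))
    (pullback.fst X₀.hom (c.π.app i₀))
    (IsPullback.of_hasPullback Y₀.hom (c.π.app i₀))
    (isPullback_map_left (c.π.app i₀) u)
  have e := ev_of_twoStep D i₀ (MorphismProperty.isomorphisms Scheme.{u}) u (by
    obtain ⟨i, φ, Xi, Yi, fi, gi, pY, pX, h1, h2, h3⟩ := key
    exact ⟨i, φ, Xi, Yi, fi, gi, pY, pX, h1, h2, (MorphismProperty.isomorphisms.iff fi).mpr h3⟩)
  refine e.mono fun j a hja => ?_
  have h1 : IsIso ((Over.pullback (D.map a)).map u).left :=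
    (MorphismProperty.isomorphisms.iff _).mp hja
  haveI : IsIso ((Over.forget _).map ((Over.pullback (D.map a)).map u)) := h1
  exact isIso_of_reflects_iso _ (Over.forget _)

end Stage

section CoverDescent

variable [∀ i, CompactSpace (D.obj i)] [∀ i, QuasiSeparatedSpace (D.obj i)]

include hc in
set_option backward.isDefEq.respectTransparency false in
/-- An fppf cover of the base change to the limit of an object locally of finite presentation
over a stage comes from an fppf cover at some stage. -/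
theorem ev_hasCover
    (hdesc : ∀ (X : Scheme.{u}) (f : X ⟶ c.pt) [LocallyOfFinitePresentation f] [QuasiCompact f]
      [QuasiSeparated f], ∃ (i : I) (Xi : Scheme.{u}) (fi : Xi ⟶ D.obj i) (g : X ⟶ Xi),
        LocallyOfFinitePresentation fi ∧ QuasiCompact fi ∧ QuasiSeparated fi ∧
          IsPullback g f fi (c.π.app i))
    (Xj : Over (D.obj i₀)) [LocallyOfFinitePresentation Xj.hom]
    (h : HasCover (Red.bc (c.π.app i₀) Xj)) :
    Ev (fun (k : I) (a : k ⟶ i₀) => HasCover (Red.bc (D.map a) Xj)) := by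
  obtain ⟨Z, v, w, hw, hfl, hsurj, hlfp, hqc, hqs⟩ := h
  obtain ⟨i₁', Z₁', v₁', g', h1, h2, h3, hpb⟩ := hdesc Z v
  -- move to an index over `i₀`
  let i₁ := IsCofiltered.min i₁' i₀
  let p : i₁ ⟶ i₁' := IsCofiltered.minToLeft i₁' i₀
  let f₁ : i₁ ⟶ i₀ := IsCofiltered.minToRight i₁' i₀
  let v₁ : pullback v₁' (D.map p) ⟶ D.obj i₁ := pullback.snd v₁' (D.map p)
  haveI : LocallyOfFinitePresentation v₁ := MorphismProperty.pullback_snd _ _ h1
  haveI : QuasiCompact v₁ := MorphismProperty.pullback_snd _ _ h2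
  haveI : QuasiSeparated v₁ := MorphismProperty.pullback_snd _ _ h3
  let g : Z ⟶ pullback v₁' (D.map p) := pullback.lift g' (v ≫ c.π.app i₁)
    (by rw [hpb.w, Category.assoc, c.w])
  have hpb₁ : IsPullback g v v₁ (c.π.app i₁) := by
    refine IsPullback.of_right ?_ (pullback.lift_snd _ _ _) (IsPullback.of_hasPullback v₁' (D.map p))
    rw [pullback.lift_fst, c.w]
    exact hpb
  let Zo : Over (D.obj i₁) := Over.mk v₁
  haveI : LocallyOfFinitePresentation Zo.hom := ‹LocallyOfFinitePresentation v₁›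
  haveI : QuasiCompact Zo.hom := ‹QuasiCompact v₁›
  haveI : QuasiSeparated Zo.hom := ‹QuasiSeparated v₁›
  haveI : CompactSpace Zo.left := QuasiCompact.compactSpace_of_compactSpace Zo.hom
  haveI : QuasiSeparatedSpace Zo.left := quasiSeparatedSpace_of_quasiSeparated Zo.hom
  haveI : CompactSpace ↥(pullback v₁' (D.map p)) := ‹CompactSpace Zo.left›
  -- flatness and surjectivity at the limit
  have hfst : pullback.fst (c.π.app i₁) v₁ = hpb₁.flip.isoPullback.inv ≫ v :=
    (hpb₁.flip.isoPullback_inv_fst).symm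
  have hflat : Flat (pullback.fst (c.π.app i₁) v₁) := by rw [hfst]; infer_instance
  have hsurj' : Surjective (pullback.fst (c.π.app i₁) v₁) := by rw [hfst]; infer_instance
  obtain ⟨k₁, hk₁⟩ := Groth.Agent.H76.LimFlat.exists_flat_pullback_fst D c i₁ v₁ hc hflat
  obtain ⟨k₂, hk₂⟩ := exists_surjective_pullback_fst D c i₁ hc v₁ hsurj'
  have hsymm : ∀ {S' : Scheme.{u}} (a : S' ⟶ D.obj i₁),
      (Red.bc a Zo).hom = (pullbackSymmetry v₁ a).hom ≫ pullback.fst a v₁ := fun a =>
    (pullbackSymmetry_hom_comp_fst v₁ a).symm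
  have E1 : Ev (fun (k : I) (a : k ⟶ i₁) => Flat (Red.bc (D.map a) Zo).hom) := by
    refine ⟨k₁.left, k₁.hom, fun k b => ?_⟩
    refine prop_bc_hom_of_stage @Flat (D.map k₁.hom) (D.map b) (D.map_comp b k₁.hom).symm Zo ?_
    rw [hsymm]; infer_instance
  have E2 : Ev (fun (k : I) (a : k ⟶ i₁) => Surjective (Red.bc (D.map a) Zo).hom) := by
    refine ⟨k₂.left, k₂.hom, fun k b => ?_⟩
    refine prop_bc_hom_of_stage @Surjective (D.map k₂.hom) (D.map b) (D.map_comp b k₂.hom).symm
      Zo ?_
    rw [hsymm]; infer_instance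
  -- the morphism to `X`
  haveI : LocallyOfFinitePresentation (Red.bc (D.map f₁) Xj).hom := by
    change LocallyOfFinitePresentation (pullback.snd Xj.hom (D.map f₁))
    exact MorphismProperty.pullback_snd _ _ inferInstance
  let eZ : Red.bc (c.π.app i₁) Zo ≅ Over.mk v :=
    Over.isoMk hpb₁.isoPullback.symm (by
      change hpb₁.isoPullback.inv ≫ v = pullback.snd v₁ (c.π.app i₁)
      exact hpb₁.isoPullback_inv_snd)
  let wo : Over.mk v ⟶ Red.bc (c.π.app i₀) Xj := Over.homMk w hw
  let w'' : Red.bc (c.π.app i₁) Zo ⟶ Red.bc (c.π.app i₁) (Red.bc (D.map f₁) Xj) :=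
    eZ.hom ≫ wo ≫ (bcCompIso (c.π.app i₁) (D.map f₁) Xj (c.w f₁)).inv
  have E3 : Ev (fun (k : I) (a : k ⟶ i₁) =>
      Nonempty (Red.bc (D.map a) Zo ⟶ Red.bc (D.map a) (Red.bc (D.map f₁) Xj))) :=
    (ev_hom_descend D c hc i₁ w'').mono fun k a ⟨ui, _⟩ => ⟨ui⟩
  refine (Ev.comp f₁ ((E1.and E2).and E3)).mono ?_
  rintro k a ⟨a', ha', ⟨hF, hS⟩, ⟨w₃⟩⟩
  have hcomp : D.map a' ≫ D.map f₁ = D.map a := by rw [← D.map_comp, ha']
  refine ⟨(Red.bc (D.map a') Zo).left, (Red.bc (D.map a') Zo).hom,
    (w₃ ≫ (bcCompIso (D.map a') (D.map f₁) Xj hcomp).hom).left, Over.w _, hF, hS, ?_, ?_, ?_⟩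
  · change LocallyOfFinitePresentation (pullback.snd v₁ (D.map a'))
    exact MorphismProperty.pullback_snd _ _ inferInstance
  · change QuasiCompact (pullback.snd v₁ (D.map a'))
    exact MorphismProperty.pullback_snd _ _ inferInstance
  · change QuasiSeparated (pullback.snd v₁ (D.map a'))
    exact MorphismProperty.pullback_snd _ _ inferInstance

end CoverDescent

section Torsor

variable [∀ i, CompactSpace (D.obj i)] [∀ i, QuasiSeparatedSpace (D.obj i)]

lemma lfp_tensor {S : Scheme.{u}} (A B : Over S) [LocallyOfFinitePresentation A.hom]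
    [LocallyOfFinitePresentation B.hom] : LocallyOfFinitePresentation (A ⊗ B).hom := by
  rw [Over.tensorObj_hom]
  haveI : LocallyOfFinitePresentation (pullback.fst A.hom B.hom) :=
    MorphismProperty.pullback_fst _ _ inferInstance
  infer_instance

include hc in
/-- A scheme with action over a stage becomes a torsor over the limit iff it does so at some
stage. -/
theorem torsor_limit_iff
    (hdesc : ∀ (X : Scheme.{u}) (f : X ⟶ c.pt) [LocallyOfFinitePresentation f] [QuasiCompact f]
      [QuasiSeparated f], ∃ (i : I) (Xi : Scheme.{u}) (fi : Xi ⟶ D.obj i) (g : X ⟶ Xi),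
        LocallyOfFinitePresentation fi ∧ QuasiCompact fi ∧ QuasiSeparated fi ∧
          IsPullback g f fi (c.π.app i))
    (Gj Xj : Over (D.obj i₀)) (act : Gj ⊗ Xj ⟶ Xj)
    [LocallyOfFinitePresentation Gj.hom] [QuasiCompact Gj.hom] [QuasiSeparated Gj.hom]
    [LocallyOfFinitePresentation Xj.hom] [QuasiCompact Xj.hom] [QuasiSeparated Xj.hom] :
    (IsIso (lift (Functor.LaxMonoidal.μ (Over.pullback (c.π.app i₀)) Gj Xj ≫
          (Over.pullback (c.π.app i₀)).map act)
        (snd (Red.bc (c.π.app i₀) Gj) (Red.bc (c.π.app i₀) Xj))) ∧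
      HasCover (Red.bc (c.π.app i₀) Xj)) ↔
    ∃ (i : I) (f : i ⟶ i₀),
      IsIso (lift (Functor.LaxMonoidal.μ (Over.pullback (D.map f)) Gj Xj ≫
          (Over.pullback (D.map f)).map act)
        (snd (Red.bc (D.map f) Gj) (Red.bc (D.map f) Xj))) ∧
      HasCover (Red.bc (D.map f) Xj) := by
  haveI := qc_tensor Gj Xj
  haveI := qs_tensor Gj Xj
  haveI := qc_tensor Xj Xj
  haveI := qs_tensor Xj Xj
  haveI := lfp_tensor Gj Xj
  haveI := lfp_tensor Xj Xj
  haveI : LocallyOfFinitePresentation (lift act (snd Gj Xj)).left :=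
    locallyOfFinitePresentation_of_comp (lift act (snd Gj Xj)).left (Xj ⊗ Xj).hom
      (by rw [Over.w]; infer_instance) inferInstance
  constructor
  · rintro ⟨h1, h2⟩
    have e1 := ev_isIso D c hc i₀ (lift act (snd Gj Xj))
      ((isIso_lift_μ_map_snd_iff (Over.pullback (c.π.app i₀)) act).mp h1)
    have e2 := ev_hasCover D c hc i₀ hdesc Xj h2
    obtain ⟨i, f, k1, k2⟩ := (e1.and e2).exists
    exact ⟨i, f, (isIso_lift_μ_map_snd_iff (Over.pullback (D.map f)) act).mpr k1, k2⟩
  · rintro ⟨i, f, k1, k2⟩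
    refine ⟨(isIso_lift_μ_map_snd_iff (Over.pullback (c.π.app i₀)) act).mpr ?_,
      hasCover_of_stage (D.map f) (c.π.app i) (c.w f) Xj k2⟩
    exact isIso_map_of_isIso_map (D.map f) (c.π.app i) (c.w f) _
      ((isIso_lift_μ_map_snd_iff (Over.pullback (D.map f)) act).mp k1)

end Torsor

end Groth.Agent.Lib.Helper70.GrpLim
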