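import Mathlib
import Groth.Agent.Lib.Helper70.GrpLimF
import Groth.Agent.Lib.Helper71.FppfChart
import Groth.Agent.S0079

/-!
# Quotients by flat equivalence relations over a limit: descent to a finite stage
-/

set_option autoImplicit false
set_option linter.style.haveILetI false
set_option linter.unusedSectionVars false
universe u

open CategoryTheory Limits AlgebraicGeometry MonoidalCategory CartesianMonoidalCategory MonObj

namespace Groth.Agent.Lib.Helper70.GrpLim

open ActBC Groth.Agent.Lib.Helper13.LimDescent Groth.Agent.Lib.Helper70.SubGrp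
  Groth.Agent.Lib.Helper70

section FP

lemma quasiCompact_of_comp_surjective {X Y Z : Scheme.{u}} (f : X ⟶ Y) (g : Y ⟶ Z)
    [Surjective f] [QuasiCompact (f ≫ g)] : QuasiCompact g := by
  refine ⟨fun U hU hUc => ?_⟩
  have h1 : IsCompact ((f ≫ g) ⁻¹' U) := QuasiCompact.isCompact_preimage (f := f ≫ g) U hU hUc
  have h2 : (f ≫ g) ⁻¹' U = f ⁻¹' (g ⁻¹' U) := by
    ext x
    simp only [Set.mem_preimage, Scheme.Hom.comp_apply]
  rw [h2] at h1
  have := h1.image f.continuous
  rwa [Set.image_preimage_eq _ f.surjective] at this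

/-- The quotient of a finitely presented scheme by an fppf equivalence relation with quasi-compact
graph is finitely presented. -/
theorem fp_of_fppf_quotient {S X R Y : Scheme.{u}} (s t : R ⟶ X) (p : X ⟶ Y) (q : Y ⟶ S)
    [Flat p] [Surjective p] [LocallyOfFinitePresentation p]
    (hsq : IsPullback s t p p)
    [LocallyOfFinitePresentation (p ≫ q)] [QuasiCompact (p ≫ q)] [QuasiSeparated (p ≫ q)]
    [QuasiCompact (s ≫ p ≫ q)] :
    LocallyOfFinitePresentation q ∧ QuasiCompact q ∧ QuasiSeparated q := by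
  refine ⟨Groth.Agent.Lib.Helper71.FppfChart.locallyOfFinitePresentation_of_fppf_comp p q,
    quasiCompact_of_comp_surjective p q, ⟨?_⟩⟩
  have sq := pullback_map_diagonal_isPullback p p q
  have : MorphismProperty.IsStableUnderComposition @Surjective.{u} :=
    (inferInstance : MorphismProperty.IsMultiplicative @Surjective.{u}).toIsStableUnderComposition
  have hp1 : Surjective (pullback.map (p ≫ q) (p ≫ q) q q p p (𝟙 _) (Category.comp_id _)
      (Category.comp_id _)) :=
    MorphismProperty.pullbackMap (P := @Surjective.{u}) ‹_› ‹_› rfl rfl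
  have hp2 : Flat (pullback.map (p ≫ q) (p ≫ q) q q p p (𝟙 _) (Category.comp_id _)
      (Category.comp_id _)) :=
    MorphismProperty.pullbackMap (P := @Flat.{u}) ‹_› ‹_› rfl rfl
  have hp3 : LocallyOfFinitePresentation (pullback.map (p ≫ q) (p ≫ q) q q p p (𝟙 _)
      (Category.comp_id _) (Category.comp_id _)) :=
    MorphismProperty.pullbackMap (P := @LocallyOfFinitePresentation.{u}) ‹_› ‹_› rfl rfl
  have hs : QuasiCompact s := QuasiCompact.of_comp s (p ≫ q)
  have hq : QuasiCompact (pullback.map p p (p ≫ q) (p ≫ q) (𝟙 _) (𝟙 _) q (Category.id_comp _).symm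
      (Category.id_comp _).symm) := by
    have h1 : QuasiCompact (pullback.map p p (p ≫ q) (p ≫ q) (𝟙 _) (𝟙 _) q
        (Category.id_comp _).symm (Category.id_comp _).symm ≫ pullback.fst (p ≫ q) (p ≫ q)) := by
      rw [pullback.lift_fst, Category.comp_id, ← hsq.isoPullback_inv_fst]
      infer_instance
    exact QuasiCompact.of_comp _ (pullback.fst (p ≫ q) (p ≫ q))
  haveI := Groth.Agent.S0079.result.{u}
  exact MorphismProperty.of_isPullback_of_descendsAlong (P := @QuasiCompact)
    (Q := @Surjective ⊓ @Flat ⊓ @LocallyOfFinitePresentation) sq.flip ⟨⟨hp1, hp2⟩, hp3⟩ hq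

end FP

section Quot

/-- The quotient of `X` by the relation `(s, t) : R ⟶ X × X` is representable by an fppf
morphism. -/
abbrev HasQuot {S : Scheme.{u}} {X R : Over S} (s t : R ⟶ X) : Prop :=
  ∃ (Y : Over S) (p : X ⟶ Y), Flat p.left ∧ Surjective p.left ∧
    LocallyOfFinitePresentation p.left ∧ IsPullback s t p p

variable {S₀ S' S'' : Scheme.{u}}

theorem HasQuot.of_iso {S : Scheme.{u}} {X R X' R' : Over S} {s t : R ⟶ X} {s' t' : R' ⟶ X'}
    (eR : R ≅ R') (eX : X ≅ X') (hs : s ≫ eX.hom = eR.hom ≫ s') (ht : t ≫ eX.hom = eR.hom ≫ t')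
    (h : HasQuot s t) : HasQuot s' t' := by
  obtain ⟨Y, p, h1, h2, h3, hsq⟩ := h
  haveI : IsIso eX.inv.left := inferInstanceAs (IsIso ((Over.forget _).map eX.inv))
  refine ⟨Y, eX.inv ≫ p, ?_, ?_, ?_, ?_⟩
  · rw [Over.comp_left]; infer_instance
  · rw [Over.comp_left]; infer_instance
  · rw [Over.comp_left]; infer_instance
  · refine IsPullback.of_iso hsq eR eX eX (Iso.refl Y) hs ht ?_ ?_
    · rw [Iso.hom_inv_id_assoc, Iso.refl_hom, Category.comp_id]
    · rw [Iso.hom_inv_id_assoc, Iso.refl_hom, Category.comp_id]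

/-- Representability of the quotient is stable under base change. -/
theorem HasQuot.map (b' : S'' ⟶ S') {X R : Over S'} {s t : R ⟶ X} (h : HasQuot s t) :
    HasQuot ((Over.pullback b').map s) ((Over.pullback b').map t) := by
  obtain ⟨Y, p, h1, h2, h3, hsq⟩ := h
  refine ⟨(Over.pullback b').obj Y, (Over.pullback b').map p, ?_, ?_, ?_, hsq.map _⟩
  · exact MorphismProperty.of_isPullback (P := @Flat) (isPullback_map_left b' p) h1
  · exact MorphismProperty.of_isPullback (P := @Surjective) (isPullback_map_left b' p) h2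
  · exact MorphismProperty.of_isPullback (P := @LocallyOfFinitePresentation)
      (isPullback_map_left b' p) h3

/-- Representability of the quotient of a twice base-changed relation gives that of the
relation base-changed along the composite. -/
theorem HasQuot.of_comp (a : S' ⟶ S₀) (b' : S'' ⟶ S') {a'' : S'' ⟶ S₀} (h : b' ≫ a = a'')
    {X R : Over S₀} (s t : R ⟶ X)
    (hq : HasQuot ((Over.pullback b').map ((Over.pullback a).map s))
      ((Over.pullback b').map ((Over.pullback a).map t))) :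
    HasQuot ((Over.pullback a'').map s) ((Over.pullback a'').map t) :=
  HasQuot.of_iso (bcCompIso b' a R h) (bcCompIso b' a X h)
    (bcCompIso_hom_naturality b' a h s) (bcCompIso_hom_naturality b' a h t) hq

theorem hasQuot_of_stage (a : S' ⟶ S₀) (b' : S'' ⟶ S') {a'' : S'' ⟶ S₀} (h : b' ≫ a = a'')
    {X R : Over S₀} (s t : R ⟶ X)
    (hq : HasQuot ((Over.pullback a).map s) ((Over.pullback a).map t)) :
    HasQuot ((Over.pullback a'').map s) ((Over.pullback a'').map t) :=
  HasQuot.of_comp a b' h s t (HasQuot.map b' hq)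

end Quot

section FPObj

variable {S S' : Scheme.{u}}

/-- Finite presentation of the structure morphism. -/
structure FP (X : Over S) : Prop where
  lfp : LocallyOfFinitePresentation X.hom
  qc : QuasiCompact X.hom
  qs : QuasiSeparated X.hom

theorem FP.mk' (X : Over S) [LocallyOfFinitePresentation X.hom] [QuasiCompact X.hom]
    [QuasiSeparated X.hom] : FP X := ⟨inferInstance, inferInstance, inferInstance⟩

theorem FP.hom_props {X Y : Over S} (u : X ⟶ Y) (hX : FP X) (hY : FP Y) :
    LocallyOfFinitePresentation u.left ∧ QuasiCompact u.left ∧ QuasiSeparated u.left := by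
  obtain ⟨h1, h2, h3⟩ := hX
  obtain ⟨k1, k2, k3⟩ := hY
  have hw : u.left ≫ Y.hom = X.hom := Over.w u
  have : LocallyOfFinitePresentation (u.left ≫ Y.hom) := by rw [hw]; exact h1
  have : QuasiCompact (u.left ≫ Y.hom) := by rw [hw]; exact h2
  have : QuasiSeparated (u.left ≫ Y.hom) := by rw [hw]; exact h3
  exact ⟨locallyOfFinitePresentation_of_comp u.left Y.hom inferInstance inferInstance,
    QuasiCompact.of_comp u.left Y.hom, QuasiSeparated.of_comp u.left Y.hom⟩

theorem FP.of_hom {W X : Over S} (u : W ⟶ X) (h1 : LocallyOfFinitePresentation u.left)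
    (h2 : QuasiCompact u.left) (h3 : QuasiSeparated u.left) (hX : FP X) : FP W := by
  obtain ⟨k1, k2, k3⟩ := hX
  have hw : u.left ≫ X.hom = W.hom := Over.w u
  refine ⟨?_, ?_, ?_⟩ <;> rw [← hw] <;> infer_instance

theorem FP.bc (a : S' ⟶ S) {X : Over S} (hX : FP X) : FP (Red.bc a X) := by
  obtain ⟨k1, k2, k3⟩ := hX
  refine ⟨?_, ?_, ?_⟩
  · change LocallyOfFinitePresentation (pullback.snd X.hom a)
    exact MorphismProperty.pullback_snd _ _ k1
  · change QuasiCompact (pullback.snd X.hom a)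
    exact MorphismProperty.pullback_snd _ _ k2
  · change QuasiSeparated (pullback.snd X.hom a)
    exact MorphismProperty.pullback_snd _ _ k3

theorem FP.tensor {X Y : Over S} (hX : FP X) (hY : FP Y) : FP (X ⊗ Y) := by
  obtain ⟨h1, h2, h3⟩ := hX
  obtain ⟨k1, k2, k3⟩ := hY
  exact ⟨lfp_tensor X Y, qc_tensor X Y, qs_tensor X Y⟩

/-- The kernel pair of a morphism between finitely presented objects is finitely presented. -/
theorem FP.pullback {X Y : Over S} (p : X ⟶ Y) (hX : FP X) (hY : FP Y) :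
    FP (Limits.pullback p p) := by
  obtain ⟨h1, h2, h3⟩ := FP.hom_props p hX hY
  have hW : IsPullback (pullback.fst p p).left (pullback.snd p p).left p.left p.left :=
    (IsPullback.of_hasPullback p p).map (Over.forget S)
  exact FP.of_hom (pullback.fst p p)
    (MorphismProperty.of_isPullback (P := @LocallyOfFinitePresentation) hW.flip h1)
    (MorphismProperty.of_isPullback (P := @QuasiCompact) hW.flip h2)
    (MorphismProperty.of_isPullback (P := @QuasiSeparated) hW.flip h3) hX

end FPObj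

section CatLemma

variable {C : Type*} [Category C] [CartesianMonoidalCategory C] [HasPullbacks C]
  {E : Type*} [Category E] [CartesianMonoidalCategory E] (F : C ⥤ E) [F.Monoidal]

instance mono_lift_pullback {X Y : C} (p : X ⟶ Y) :
    Mono (lift (pullback.fst p p) (pullback.snd p p)) := by
  constructor
  intro Z x y hxy
  apply pullback.hom_ext
  · have := congrArg (fun k => k ≫ fst X X) hxy
    simpa only [Category.assoc, lift_fst] using this
  · have := congrArg (fun k => k ≫ snd X X) hxy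
    simpa only [Category.assoc, lift_snd] using this

theorem mono_lift_map [F.PreservesMonomorphisms] {X R : C} (s t : R ⟶ X) [Mono (lift s t)] :
    Mono (lift (F.map s) (F.map t)) := by
  have : lift (F.map s) (F.map t) = F.map (lift s t) ≫ Functor.OplaxMonoidal.δ F X X := by
    rw [← Functor.Monoidal.lift_μ, Category.assoc, Functor.Monoidal.μ_δ, Category.comp_id]
  rw [this]
  infer_instance

/-- A square is cartesian after applying `F` iff the graph of `(s, t)` and the kernel pair of
`p` factor through each other after applying `F`. -/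
theorem isPullback_map_iff_factF [F.PreservesMonomorphisms]
    [PreservesLimitsOfShape WalkingCospan F] {X Y R : C} (s t : R ⟶ X)
    (p : X ⟶ Y) [Mono (lift s t)] :
    IsPullback (F.map s) (F.map t) (F.map p) (F.map p) ↔
      FactF F (lift (pullback.fst p p) (pullback.snd p p)) (lift s t) ∧
        FactF F (lift s t) (lift (pullback.fst p p) (pullback.snd p p)) := by
  have hW : IsPullback (F.map (pullback.fst p p)) (F.map (pullback.snd p p)) (F.map p) (F.map p) :=
    (IsPullback.of_hasPullback p p).map F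
  have key : ∀ {A B : C} (f g : A ⟶ X) (f' g' : B ⟶ X) (θ : F.obj A ⟶ F.obj B),
      θ ≫ F.map f' = F.map f → θ ≫ F.map g' = F.map g →
      θ ≫ F.map (lift f' g') = F.map (lift f g) := by
    intro A B f g f' g' θ h1 h2
    rw [← Functor.Monoidal.lift_μ, ← Functor.Monoidal.lift_μ, ← Category.assoc, comp_lift, h1, h2]
  have key' : ∀ {A B : C} (f g : A ⟶ X) (f' g' : B ⟶ X) (θ : F.obj A ⟶ F.obj B),
      θ ≫ F.map (lift f' g') = F.map (lift f g) →
      θ ≫ F.map f' = F.map f ∧ θ ≫ F.map g' = F.map g := by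
    intro A B f g f' g' θ h
    constructor
    · have := congrArg (fun k => k ≫ F.map (fst X X)) h
      simpa only [Category.assoc, ← F.map_comp, lift_fst] using this
    · have := congrArg (fun k => k ≫ F.map (snd X X)) h
      simpa only [Category.assoc, ← F.map_comp, lift_snd] using this
  constructor
  · intro h
    let θ := h.isoIsPullback _ _ hW
    have h1 : θ.hom ≫ F.map (pullback.fst p p) = F.map s := h.isoIsPullback_hom_fst _ _ hW
    have h2 : θ.hom ≫ F.map (pullback.snd p p) = F.map t := h.isoIsPullback_hom_snd _ _ hW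
    have h3 : θ.inv ≫ F.map s = F.map (pullback.fst p p) := h.isoIsPullback_inv_fst _ _ hW
    have h4 : θ.inv ≫ F.map t = F.map (pullback.snd p p) := h.isoIsPullback_inv_snd _ _ hW
    exact ⟨⟨θ.hom, key _ _ _ _ _ h1 h2⟩, ⟨θ.inv, key _ _ _ _ _ h3 h4⟩⟩
  · rintro ⟨⟨ψ, hψ⟩, ⟨φ, hφ⟩⟩
    haveI : Mono (F.map (lift s t)) := inferInstance
    haveI : Mono (F.map (lift (pullback.fst p p) (pullback.snd p p))) := inferInstance
    have h1 : ψ ≫ φ = 𝟙 _ := by
      rw [← cancel_mono (F.map (lift s t)), Category.assoc, hφ, hψ, Category.id_comp]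
    have h2 : φ ≫ ψ = 𝟙 _ := by
      rw [← cancel_mono (F.map (lift (pullback.fst p p) (pullback.snd p p))), Category.assoc, hψ,
        hφ, Category.id_comp]
    obtain ⟨k1, k2⟩ := key' _ _ _ _ _ hφ
    refine IsPullback.of_iso hW (⟨φ, ψ, h2, h1⟩ : F.obj (Limits.pullback p p) ≅ F.obj R)
      (Iso.refl _) (Iso.refl _) (Iso.refl _) ?_ ?_ ?_ ?_
    · simpa using k1.symm
    · simpa using k2.symm
    · simp
    · simp

end CatLemma

section StageProps

variable {I : Type u} [SmallCategory I] [IsCofiltered I]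
  (D : I ⥤ Scheme.{u}) (c : Cone D) (hc : IsLimit c)
  [∀ {i j : I} (f : i ⟶ j), IsAffineHom (D.map f)] (i₀ : I)
  [CompactSpace (D.obj i₀)] [QuasiSeparatedSpace (D.obj i₀)]

include hc in
set_option backward.isDefEq.respectTransparency false in
/-- Flatness descends, "eventually" form. -/
theorem ev_flat {X₀ Y₀ : Over (D.obj i₀)} (u : X₀ ⟶ Y₀) [LocallyOfFinitePresentation u.left]
    [QuasiCompact X₀.hom] [QuasiSeparated X₀.hom] [QuasiCompact Y₀.hom] [QuasiSeparated Y₀.hom]
    (h : Flat ((Over.pullback (c.π.app i₀)).map u).left) :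
    Ev (fun (j : I) (a : j ⟶ i₀) => Flat ((Over.pullback (D.map a)).map u).left) := by
  haveI : CompactSpace X₀.left := QuasiCompact.compactSpace_of_compactSpace X₀.hom
  haveI : QuasiSeparatedSpace X₀.left := quasiSeparatedSpace_of_quasiSeparated X₀.hom
  haveI : CompactSpace Y₀.left := QuasiCompact.compactSpace_of_compactSpace Y₀.hom
  haveI : QuasiSeparatedSpace Y₀.left := quasiSeparatedSpace_of_quasiSeparated Y₀.hom
  refine ev_of_twoStep D i₀ @Flat u ?_
  refine twoStep D c i₀ u.left Y₀.hom ((Over.pullback (c.π.app i₀)).map u).left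
    (pullback.snd Y₀.hom (c.π.app i₀)) (pullback.fst Y₀.hom (c.π.app i₀))
    (pullback.fst X₀.hom (c.π.app i₀)) (IsPullback.of_hasPullback Y₀.hom (c.π.app i₀))
    (isPullback_map_left (c.π.app i₀) u) @Flat h ?_
  intro f₀' hf₀' hP
  have : LocallyOfFinitePresentation f₀' := by
    rw [hf₀']
    exact (liftTop_prop_iff D i₀ u.left Y₀.hom @LocallyOfFinitePresentation).mpr inferInstance
  exact Groth.Agent.H76.LimFlat.exists_flat_pullback_fst (sys D i₀ Y₀.hom)
    (sysCone D c i₀ Y₀.hom) (top i₀) f₀' (isLimitSysCone D c i₀ Y₀.hom hc) hP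

include hc in
set_option backward.isDefEq.respectTransparency false in
/-- Surjectivity descends, "eventually" form. -/
theorem ev_surjective {X₀ Y₀ : Over (D.obj i₀)} (u : X₀ ⟶ Y₀)
    [LocallyOfFinitePresentation u.left] [QuasiCompact u.left]
    [QuasiCompact X₀.hom] [QuasiSeparated X₀.hom] [QuasiCompact Y₀.hom] [QuasiSeparated Y₀.hom]
    (h : Surjective ((Over.pullback (c.π.app i₀)).map u).left) :
    Ev (fun (j : I) (a : j ⟶ i₀) => Surjective ((Over.pullback (D.map a)).map u).left) := by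
  haveI : CompactSpace X₀.left := QuasiCompact.compactSpace_of_compactSpace X₀.hom
  haveI : QuasiSeparatedSpace X₀.left := quasiSeparatedSpace_of_quasiSeparated X₀.hom
  haveI : CompactSpace Y₀.left := QuasiCompact.compactSpace_of_compactSpace Y₀.hom
  haveI : QuasiSeparatedSpace Y₀.left := quasiSeparatedSpace_of_quasiSeparated Y₀.hom
  refine ev_of_twoStep D i₀ @Surjective u ?_
  refine twoStep D c i₀ u.left Y₀.hom ((Over.pullback (c.π.app i₀)).map u).left
    (pullback.snd Y₀.hom (c.π.app i₀)) (pullback.fst Y₀.hom (c.π.app i₀))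
    (pullback.fst X₀.hom (c.π.app i₀)) (IsPullback.of_hasPullback Y₀.hom (c.π.app i₀))
    (isPullback_map_left (c.π.app i₀) u) @Surjective h ?_
  intro f₀' hf₀' hP
  have : LocallyOfFinitePresentation f₀' := by
    rw [hf₀']
    exact (liftTop_prop_iff D i₀ u.left Y₀.hom @LocallyOfFinitePresentation).mpr inferInstance
  have : QuasiCompact f₀' := by
    rw [hf₀']
    exact (liftTop_prop_iff D i₀ u.left Y₀.hom @QuasiCompact).mpr inferInstance
  exact exists_surjective_pullback_fst (sys D i₀ Y₀.hom) (sysCone D c i₀ Y₀.hom) (top i₀)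
    (isLimitSysCone D c i₀ Y₀.hom hc) f₀' hP

include hc in
/-- Cartesianness of a square `(s, t, p, p)` of finitely presented objects descends. -/
theorem ev_isPullback {X₀ R₀ Y₀ : Over (D.obj i₀)} (s t : R₀ ⟶ X₀) (p : X₀ ⟶ Y₀)
    (hX : FP X₀) (hR : FP R₀) (hY : FP Y₀) [Mono (lift s t)]
    (h : IsPullback ((Over.pullback (c.π.app i₀)).map s) ((Over.pullback (c.π.app i₀)).map t)
      ((Over.pullback (c.π.app i₀)).map p) ((Over.pullback (c.π.app i₀)).map p)) :
    Ev (fun (j : I) (a : j ⟶ i₀) =>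
      IsPullback ((Over.pullback (D.map a)).map s) ((Over.pullback (D.map a)).map t)
        ((Over.pullback (D.map a)).map p) ((Over.pullback (D.map a)).map p)) := by
  have hW : FP (Limits.pullback p p) := FP.pullback p hX hY
  have hXX : FP (X₀ ⊗ X₀) := FP.tensor hX hX
  obtain ⟨a1, a2, a3⟩ := FP.hom_props (lift s t) hR hXX
  obtain ⟨b1, b2, b3⟩ := FP.hom_props (lift (pullback.fst p p) (pullback.snd p p)) hW hXX
  haveI := hR.qc
  haveI := hR.qs
  haveI := hW.qc
  haveI := hW.qs
  obtain ⟨k1, k2⟩ := (isPullback_map_iff_factF (Over.pullback (c.π.app i₀)) s t p).mp h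
  have e1 := ev_factF' D c hc i₀ (lift (pullback.fst p p) (pullback.snd p p)) inferInstance
    (lift s t) k1
  have e2 := ev_factF' D c hc i₀ (lift s t) inferInstance
    (lift (pullback.fst p p) (pullback.snd p p)) k2
  refine (e1.and e2).mono fun j a ⟨l1, l2⟩ => ?_
  exact (isPullback_map_iff_factF (Over.pullback (D.map a)) s t p).mpr ⟨l1, l2⟩

end StageProps

section Main

variable {I : Type u} [SmallCategory I] [IsCofiltered I]
  (D : I ⥤ Scheme.{u}) (c : Cone D) (hc : IsLimit c)
  [∀ {i j : I} (f : i ⟶ j), IsAffineHom (D.map f)]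
  [∀ i, CompactSpace (D.obj i)] [∀ i, QuasiSeparatedSpace (D.obj i)]

lemma isIso_left_of_iso {S : Scheme.{u}} {A B : Over S} (e : A ≅ B) :
    IsIso e.hom.left ∧ IsIso e.inv.left :=
  ⟨inferInstanceAs (IsIso ((Over.forget _).map e.hom)),
    inferInstanceAs (IsIso ((Over.forget _).map e.inv))⟩

/-- A finitely presented object over the limit descends to an index over a given one. -/
theorem exists_descend_over
    (hdesc : ∀ (X : Scheme.{u}) (f : X ⟶ c.pt) [LocallyOfFinitePresentation f] [QuasiCompact f]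
      [QuasiSeparated f], ∃ (i : I) (Xi : Scheme.{u}) (fi : Xi ⟶ D.obj i) (g : X ⟶ Xi),
        LocallyOfFinitePresentation fi ∧ QuasiCompact fi ∧ QuasiSeparated fi ∧
          IsPullback g f fi (c.π.app i))
    (i₀ : I) (Y : Over c.pt) (hY : FP Y) :
    ∃ (i₁ : I) (_ : i₁ ⟶ i₀) (Y₁ : Over (D.obj i₁)), FP Y₁ ∧
      Nonempty (Red.bc (c.π.app i₁) Y₁ ≅ Y) := by
  haveI := hY.lfp
  haveI := hY.qc
  haveI := hY.qs
  obtain ⟨i₁', Y₁', y₁', g', h1, h2, h3, hpb⟩ := hdesc Y.left Y.hom
  let i₁ := IsCofiltered.min i₁' i₀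
  let p : i₁ ⟶ i₁' := IsCofiltered.minToLeft i₁' i₀
  let f₁ : i₁ ⟶ i₀ := IsCofiltered.minToRight i₁' i₀
  let y₁ : pullback y₁' (D.map p) ⟶ D.obj i₁ := pullback.snd y₁' (D.map p)
  let g : Y.left ⟶ pullback y₁' (D.map p) := pullback.lift g' (Y.hom ≫ c.π.app i₁)
    (by rw [hpb.w, Category.assoc, c.w])
  have hpb₁ : IsPullback g Y.hom y₁ (c.π.app i₁) := by
    refine IsPullback.of_right ?_ (pullback.lift_snd _ _ _) (IsPullback.of_hasPullback y₁' (D.map p))
    rw [pullback.lift_fst, c.w]
    exact hpb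
  refine ⟨i₁, f₁, Over.mk y₁, ⟨MorphismProperty.pullback_snd _ _ h1,
    MorphismProperty.pullback_snd _ _ h2, MorphismProperty.pullback_snd _ _ h3⟩, ⟨?_⟩⟩
  exact Over.isoMk hpb₁.isoPullback.symm (by
    change hpb₁.isoPullback.inv ≫ Y.hom = pullback.snd y₁ (c.π.app i₁)
    exact hpb₁.isoPullback_inv_snd)

include hc in
set_option maxHeartbeats 1600000 in
/-- Representability of the quotient by a finitely presented equivalence relation over the
limit implies representability at some stage. -/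
theorem ev_hasQuot
    (hdesc : ∀ (X : Scheme.{u}) (f : X ⟶ c.pt) [LocallyOfFinitePresentation f] [QuasiCompact f]
      [QuasiSeparated f], ∃ (i : I) (Xi : Scheme.{u}) (fi : Xi ⟶ D.obj i) (g : X ⟶ Xi),
        LocallyOfFinitePresentation fi ∧ QuasiCompact fi ∧ QuasiSeparated fi ∧
          IsPullback g f fi (c.π.app i))
    (i₀ : I) (Xj Rj : Over (D.obj i₀)) (hX : FP Xj) (hR : FP Rj) (sj tj : Rj ⟶ Xj)
    [Mono (lift sj tj)]
    (h : HasQuot ((Over.pullback (c.π.app i₀)).map sj) ((Over.pullback (c.π.app i₀)).map tj)) :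
    Ev (fun (k : I) (a : k ⟶ i₀) =>
      HasQuot ((Over.pullback (D.map a)).map sj) ((Over.pullback (D.map a)).map tj)) := by
  obtain ⟨Y, p, hfl, hsurj, hlfp, hsq⟩ := h
  have hX' : FP (Red.bc (c.π.app i₀) Xj) := hX.bc _
  have hR' : FP (Red.bc (c.π.app i₀) Rj) := hR.bc _
  -- the quotient is finitely presented
  have hYfp : FP Y := by
    have hsq' : IsPullback ((Over.pullback (c.π.app i₀)).map sj).left
        ((Over.pullback (c.π.app i₀)).map tj).left p.left p.left := hsq.map (Over.forget _)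
    have hw : p.left ≫ Y.hom = (Red.bc (c.π.app i₀) Xj).hom := Over.w p
    haveI : LocallyOfFinitePresentation (p.left ≫ Y.hom) := by rw [hw]; exact hX'.lfp
    haveI : QuasiCompact (p.left ≫ Y.hom) := by rw [hw]; exact hX'.qc
    haveI : QuasiSeparated (p.left ≫ Y.hom) := by rw [hw]; exact hX'.qs
    haveI : QuasiCompact (((Over.pullback (c.π.app i₀)).map sj).left ≫ p.left ≫ Y.hom) := by
      rw [hw, Over.w]; exact hR'.qc
    obtain ⟨x1, x2, x3⟩ := fp_of_fppf_quotient ((Over.pullback (c.π.app i₀)).map sj).left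
      ((Over.pullback (c.π.app i₀)).map tj).left p.left Y.hom hsq'
    exact ⟨x1, x2, x3⟩
  obtain ⟨i₁, f₁, Y₁, hY₁, ⟨eY⟩⟩ := exists_descend_over D c hdesc i₀ Y hYfp
  -- rebase at `i₁`
  have hX₁ : FP (Red.bc (D.map f₁) Xj) := hX.bc _
  have hR₁ : FP (Red.bc (D.map f₁) Rj) := hR.bc _
  haveI : Mono (lift ((Over.pullback (D.map f₁)).map sj) ((Over.pullback (D.map f₁)).map tj)) :=
    mono_lift_map (Over.pullback (D.map f₁)) sj tj
  have hp' : ∃ p' : Red.bc (c.π.app i₁) (Red.bc (D.map f₁) Xj) ⟶ Red.bc (c.π.app i₁) Y₁,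
      Flat p'.left ∧ Surjective p'.left ∧
      IsPullback ((Over.pullback (c.π.app i₁)).map ((Over.pullback (D.map f₁)).map sj))
        ((Over.pullback (c.π.app i₁)).map ((Over.pullback (D.map f₁)).map tj)) p' p' := by
    obtain ⟨y1, y2⟩ := isIso_left_of_iso (bcCompIso (c.π.app i₁) (D.map f₁) Xj (c.w f₁))
    obtain ⟨y3, y4⟩ := isIso_left_of_iso eY
    refine ⟨(bcCompIso (c.π.app i₁) (D.map f₁) Xj (c.w f₁)).hom ≫ p ≫ eY.inv, ?_, ?_, ?_⟩
    · rw [Over.comp_left, Over.comp_left]; infer_instance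
    · rw [Over.comp_left, Over.comp_left]; infer_instance
    · refine IsPullback.of_iso hsq (bcCompIso (c.π.app i₁) (D.map f₁) Rj (c.w f₁)).symm
        (bcCompIso (c.π.app i₁) (D.map f₁) Xj (c.w f₁)).symm
        (bcCompIso (c.π.app i₁) (D.map f₁) Xj (c.w f₁)).symm eY.symm ?_ ?_ ?_ ?_
      · rw [Iso.symm_hom, Iso.symm_hom, Iso.comp_inv_eq, Category.assoc,
          bcCompIso_hom_naturality, Iso.inv_hom_id_assoc]
      · rw [Iso.symm_hom, Iso.symm_hom, Iso.comp_inv_eq, Category.assoc,
          bcCompIso_hom_naturality, Iso.inv_hom_id_assoc]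
      · rw [Iso.symm_hom, Iso.symm_hom, Iso.inv_hom_id_assoc]
      · rw [Iso.symm_hom, Iso.symm_hom, Iso.inv_hom_id_assoc]
  obtain ⟨p', hfl₁, hsurj₁, hsq₁⟩ := hp'
  -- descend `p'`
  haveI := hY₁.lfp
  haveI := hX₁.qc
  haveI := hX₁.qs
  haveI : CompactSpace (Red.bc (D.map f₁) Xj).left :=
    QuasiCompact.compactSpace_of_compactSpace (Red.bc (D.map f₁) Xj).hom
  haveI : QuasiSeparatedSpace (Red.bc (D.map f₁) Xj).left :=
    quasiSeparatedSpace_of_quasiSeparated (Red.bc (D.map f₁) Xj).hom
  obtain ⟨i₂, a₂, p₂, hp₂⟩ := exists_hom_descend D c hc i₁ p'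
  have hp₂' := (map_eq_iff_bcHom_eq (D.map a₂) (c.π.app i₂) (c.w a₂) p₂ p').mpr hp₂
  -- rebase at `i₂`
  have hX₂ : FP (Red.bc (D.map a₂) (Red.bc (D.map f₁) Xj)) := hX₁.bc _
  have hR₂ : FP (Red.bc (D.map a₂) (Red.bc (D.map f₁) Rj)) := hR₁.bc _
  have hY₂ : FP (Red.bc (D.map a₂) Y₁) := hY₁.bc _
  haveI : Mono (lift ((Over.pullback (D.map a₂)).map ((Over.pullback (D.map f₁)).map sj))
      ((Over.pullback (D.map a₂)).map ((Over.pullback (D.map f₁)).map tj))) :=
    mono_lift_map (Over.pullback (D.map a₂)) _ _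
  obtain ⟨z1, z2⟩ := isIso_left_of_iso (bcCompIso (c.π.app i₂) (D.map a₂) (Red.bc (D.map f₁) Xj)
    (c.w a₂))
  obtain ⟨z3, z4⟩ := isIso_left_of_iso (bcCompIso (c.π.app i₂) (D.map a₂) Y₁ (c.w a₂))
  have hfl₂ : Flat ((Over.pullback (c.π.app i₂)).map p₂).left := by
    rw [hp₂', Over.comp_left, Over.comp_left]; infer_instance
  have hsurj₂ : Surjective ((Over.pullback (c.π.app i₂)).map p₂).left := by
    rw [hp₂', Over.comp_left, Over.comp_left]; infer_instance
  have hsq₂ : IsPullback
      ((Over.pullback (c.π.app i₂)).map ((Over.pullback (D.map a₂)).map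
        ((Over.pullback (D.map f₁)).map sj)))
      ((Over.pullback (c.π.app i₂)).map ((Over.pullback (D.map a₂)).map
        ((Over.pullback (D.map f₁)).map tj)))
      ((Over.pullback (c.π.app i₂)).map p₂) ((Over.pullback (c.π.app i₂)).map p₂) := by
    rw [hp₂']
    refine IsPullback.of_iso hsq₁
      (bcCompIso (c.π.app i₂) (D.map a₂) (Red.bc (D.map f₁) Rj) (c.w a₂)).symm
      (bcCompIso (c.π.app i₂) (D.map a₂) (Red.bc (D.map f₁) Xj) (c.w a₂)).symm
      (bcCompIso (c.π.app i₂) (D.map a₂) (Red.bc (D.map f₁) Xj) (c.w a₂)).symm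
      (bcCompIso (c.π.app i₂) (D.map a₂) Y₁ (c.w a₂)).symm ?_ ?_ ?_ ?_
    · rw [Iso.symm_hom, Iso.symm_hom, Iso.comp_inv_eq, Category.assoc,
        bcCompIso_hom_naturality, Iso.inv_hom_id_assoc]
    · rw [Iso.symm_hom, Iso.symm_hom, Iso.comp_inv_eq, Category.assoc,
        bcCompIso_hom_naturality, Iso.inv_hom_id_assoc]
    · rw [Iso.symm_hom, Iso.symm_hom, Iso.inv_hom_id_assoc]
    · rw [Iso.symm_hom, Iso.symm_hom, Iso.inv_hom_id_assoc]
  -- descent at the base stage `i₂`
  obtain ⟨c1, c2, c3⟩ := FP.hom_props p₂ hX₂ hY₂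
  haveI := hX₂.qc
  haveI := hX₂.qs
  haveI := hY₂.qc
  haveI := hY₂.qs
  have E1 := ev_flat D c hc i₂ p₂ hfl₂
  have E2 := ev_surjective D c hc i₂ p₂ hsurj₂
  have E3 := ev_isPullback D c hc i₂ _ _ p₂ hX₂ hR₂ hY₂ hsq₂
  have E' : Ev (fun (k : I) (b : k ⟶ i₂) =>
      HasQuot ((Over.pullback (D.map b)).map ((Over.pullback (D.map a₂)).map
        ((Over.pullback (D.map f₁)).map sj)))
      ((Over.pullback (D.map b)).map ((Over.pullback (D.map a₂)).map
        ((Over.pullback (D.map f₁)).map tj)))) := by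
    refine ((E1.and E2).and E3).mono ?_
    rintro k b ⟨⟨x1, x2⟩, x3⟩
    exact ⟨_, (Over.pullback (D.map b)).map p₂, x1, x2,
      MorphismProperty.of_isPullback (P := @LocallyOfFinitePresentation)
        (isPullback_map_left (D.map b) p₂) c1, x3⟩
  have E'' : Ev (fun (k : I) (a : k ⟶ i₁) =>
      HasQuot ((Over.pullback (D.map a)).map ((Over.pullback (D.map f₁)).map sj))
        ((Over.pullback (D.map a)).map ((Over.pullback (D.map f₁)).map tj))) := by
    refine (Ev.comp a₂ E').mono ?_
    rintro k a ⟨a', ha', hq⟩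
    exact HasQuot.of_comp (D.map a₂) (D.map a') (by rw [← D.map_comp, ha']) _ _ hq
  refine (Ev.comp f₁ E'').mono ?_
  rintro k a ⟨a', ha', hq⟩
  exact HasQuot.of_comp (D.map f₁) (D.map a') (by rw [← D.map_comp, ha']) _ _ hq

include hc in
/-- The quotient by a finitely presented equivalence relation over a stage is representable
over the limit iff it is representable at some stage. -/
theorem quot_limit_iff
    (hdesc : ∀ (X : Scheme.{u}) (f : X ⟶ c.pt) [LocallyOfFinitePresentation f] [QuasiCompact f]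
      [QuasiSeparated f], ∃ (i : I) (Xi : Scheme.{u}) (fi : Xi ⟶ D.obj i) (g : X ⟶ Xi),
        LocallyOfFinitePresentation fi ∧ QuasiCompact fi ∧ QuasiSeparated fi ∧
          IsPullback g f fi (c.π.app i))
    (i₀ : I) (Xj Rj : Over (D.obj i₀)) (hX : FP Xj) (hR : FP Rj) (sj tj : Rj ⟶ Xj)
    [Mono (lift sj tj)] :
    HasQuot ((Over.pullback (c.π.app i₀)).map sj) ((Over.pullback (c.π.app i₀)).map tj) ↔
      ∃ (i : I) (f : i ⟶ i₀),
        HasQuot ((Over.pullback (D.map f)).map sj) ((Over.pullback (D.map f)).map tj) := by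
  constructor
  · intro h
    exact (ev_hasQuot D c hc hdesc i₀ Xj Rj hX hR sj tj h).exists
  · rintro ⟨i, f, h⟩
    exact hasQuot_of_stage (D.map f) (c.π.app i) (c.w f) sj tj h

end Main

end Groth.Agent.Lib.Helper70.GrpLim
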