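import Mathlib
import Groth.Agent.Lib.Helper70.GrpLimG

/-!
# Quotients of group schemes by subgroups over a limit
-/

set_option autoImplicit false
set_option linter.style.haveILetI false
set_option linter.unusedSectionVars false
universe u

open CategoryTheory Limits AlgebraicGeometry MonoidalCategory CartesianMonoidalCategory MonObj

namespace Groth.Agent.Lib.Helper70.GrpLim

open ActBC Groth.Agent.Lib.Helper13.LimDescent Groth.Agent.Lib.Helper70.SubGrp
  Groth.Agent.Lib.Helper70

section Cat

variable {C : Type*} [Category C] [CartesianMonoidalCategory C] {G G' : C} [GrpObj G]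

lemma comp_whiskerLeft_mul {T : C} (u : G' ⟶ G) (x : T ⟶ G ⊗ G') :
    x ≫ (G ◁ u) ≫ μ[G] = (x ≫ fst G G') * ((x ≫ snd G G') ≫ u) := by
  rw [Hom.mul_def, ← Category.assoc]
  congr 1
  apply CartesianMonoidalCategory.hom_ext
  · rw [Category.assoc, whiskerLeft_fst, lift_fst]
  · rw [Category.assoc, whiskerLeft_snd, lift_snd, Category.assoc]

/-- The graph `(g, h) ↦ (g u(h), g)` of the right translation action of a subgroup is a
monomorphism. -/
instance mono_lift_translation (u : G' ⟶ G) [Mono u] :
    Mono (lift ((G ◁ u) ≫ μ[G]) (fst G G')) := by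
  constructor
  intro T x y hxy
  have h1 : x ≫ fst G G' = y ≫ fst G G' := by
    have := congrArg (fun k => k ≫ snd G G) hxy
    simpa only [Category.assoc, lift_snd] using this
  have h2 : x ≫ (G ◁ u) ≫ μ[G] = y ≫ (G ◁ u) ≫ μ[G] := by
    have := congrArg (fun k => k ≫ fst G G) hxy
    simpa only [Category.assoc, lift_fst] using this
  rw [comp_whiskerLeft_mul, comp_whiskerLeft_mul, h1] at h2
  have h3 : (x ≫ snd G G') ≫ u = (y ≫ snd G G') ≫ u := mul_left_cancel h2
  have h4 : x ≫ snd G G' = y ≫ snd G G' := (cancel_mono u).mp h3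
  exact CartesianMonoidalCategory.hom_ext _ _ h1 h4

end Cat

section Rel

variable {S₀ S' : Scheme.{u}}

open scoped Obj in
/-- The translation relation of the base change is the base change of the translation
relation. -/
theorem hasQuot_translation_iff (a : S' ⟶ S₀) {G G' : Over S₀} [GrpObj G] (u : G' ⟶ G) :
    HasQuot ((Red.bc a G ◁ (Over.pullback a).map u) ≫ μ[Red.bc a G])
        (fst (Red.bc a G) (Red.bc a G')) ↔
      HasQuot ((Over.pullback a).map ((G ◁ u) ≫ μ[G])) ((Over.pullback a).map (fst G G')) := by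
  have hs : ((Red.bc a G ◁ (Over.pullback a).map u) ≫ μ[Red.bc a G]) ≫ (Iso.refl _).hom =
      (Functor.Monoidal.μIso (Over.pullback a) G G').hom ≫
        (Over.pullback a).map ((G ◁ u) ≫ μ[G]) := by
    rw [Iso.refl_hom, Category.comp_id, Functor.Monoidal.μIso_hom, Functor.map_comp,
      ← Functor.LaxMonoidal.μ_natural_right_assoc]
    rfl
  have ht : fst (Red.bc a G) (Red.bc a G') ≫ (Iso.refl _).hom =
      (Functor.Monoidal.μIso (Over.pullback a) G G').hom ≫ (Over.pullback a).map (fst G G') := by
    rw [Iso.refl_hom, Category.comp_id, Functor.Monoidal.μIso_hom, Functor.Monoidal.μ_fst]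
  constructor
  · exact HasQuot.of_iso (Functor.Monoidal.μIso (Over.pullback a) G G') (Iso.refl _) hs ht
  · refine HasQuot.of_iso (Functor.Monoidal.μIso (Over.pullback a) G G').symm (Iso.refl _) ?_ ?_
    · rw [Iso.symm_hom, Iso.eq_inv_comp, Iso.refl_hom, Category.comp_id, ← hs, Iso.refl_hom,
        Category.comp_id]
    · rw [Iso.symm_hom, Iso.eq_inv_comp, Iso.refl_hom, Category.comp_id, ← ht, Iso.refl_hom,
        Category.comp_id]

end Rel

end Groth.Agent.Lib.Helper70.GrpLim
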