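import Mathlib
import Groth.Agent.Lib.Helper70.HomogA
import Groth.Agent.Lib.Helper14.SmoothFlatDescent
import Groth.Agent.Lib.Helper14.SmoothFibre

/-!
# A group scheme locally of finite type over a field, smooth at the unit point, is smooth
(helper70)
-/

set_option autoImplicit false

namespace Groth.Agent.Lib.Helper70.GrpSmE

universe u

open AlgebraicGeometry CategoryTheory Limits TopologicalSpace MonoidalCategory
  CartesianMonoidalCategory MonObj GrpObj

variable {k : Type u} [Field k] (G : Over (Spec (CommRingCat.of k))) [GrpObj G]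

/-- the shear map `(g, h) ↦ (g h, h)`. -/
noncomputable def shear : G ⊗ G ⟶ G ⊗ G := lift μ[G] (snd G G)

/-- its inverse `(a, h) ↦ (a h⁻¹, h)`. -/
noncomputable def shearInv : G ⊗ G ⟶ G ⊗ G := lift (fst G G * (snd G G)⁻¹) (snd G G)

theorem shear_shearInv : shear G ≫ shearInv G = 𝟙 _ := by
  unfold shear shearInv
  apply CartesianMonoidalCategory.hom_ext
  · rw [Category.assoc, lift_fst, MonObj.comp_mul, GrpObj.comp_inv, lift_fst, lift_snd,
      Category.id_comp, MonObj.mul_eq_mul, mul_inv_cancel_right]
  · rw [Category.assoc, lift_snd, lift_snd, Category.id_comp]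

theorem shearInv_shear : shearInv G ≫ shear G = 𝟙 _ := by
  unfold shear shearInv
  apply CartesianMonoidalCategory.hom_ext
  · rw [Category.assoc, lift_fst, Category.id_comp]
    rw [MonObj.mul_eq_mul, MonObj.comp_mul, lift_fst, lift_snd, inv_mul_cancel_right]
  · rw [Category.assoc, lift_snd, lift_snd, Category.id_comp]

theorem isPullback_mul : IsPullback μ[G].left (snd G G).left G.hom G.hom := by
  have h1 := HomogA.isPullback_prod G G
  let e : G ⊗ G ≅ G ⊗ G := ⟨shear G, shearInv G, shear_shearInv G, shearInv_shear G⟩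
  let e' : (G ⊗ G).left ≅ (G ⊗ G).left := (Over.forget _).mapIso e
  refine IsPullback.of_iso h1 e'.symm (Iso.refl _) (Iso.refl _) (Iso.refl _) ?_ ?_ ?_ ?_
  · change (fst G G).left ≫ 𝟙 _ = (shearInv G).left ≫ μ[G].left
    rw [Category.comp_id, ← Over.comp_left]
    congr 1
    unfold shearInv
    rw [MonObj.mul_eq_mul, MonObj.comp_mul, lift_fst, lift_snd, inv_mul_cancel_right]
  · change (snd G G).left ≫ 𝟙 _ = (shearInv G).left ≫ (snd G G).left
    rw [Category.comp_id, ← Over.comp_left]
    congr 1
    unfold shearInv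
    rw [lift_snd]
  · simp
  · simp

variable [LocallyOfFiniteType G.hom]

/-- A group scheme locally of finite type over a field which is smooth at the unit point is
smooth. -/
theorem smooth_of_unit_mem_smoothLocus (p : (𝟙_ (Over (Spec (CommRingCat.of k)))).left)
    (hw : η[G].left p ∈ G.hom.smoothLocus) : Smooth G.hom := by
  have hfp : LocallyOfFinitePresentation G.hom := inferInstance
  have H1 := HomogA.isPullback_prod G G
  have H2 := isPullback_mul G
  have hfp2 : LocallyOfFinitePresentation (snd G G).left :=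
    MorphismProperty.of_isPullback H1 inferInstance
  have hflat : Flat G.hom := inferInstance
  rw [← Scheme.Hom.smoothLocus_eq_top_iff, eq_top_iff]
  intro r _
  obtain ⟨z, hz⟩ : ∃ z, z = (lift (𝟙 G) ι[G]).left r := ⟨_, rfl⟩
  have hz1 : (fst G G).left z = r := by
    rw [hz, ← Scheme.Hom.comp_apply, ← Over.comp_left, lift_fst]; rfl
  have hz2 : μ[G].left z = η[G].left p := by
    rw [hz, ← Scheme.Hom.comp_apply, ← Over.comp_left, GrpObj.right_inv, Over.comp_left,
      Scheme.Hom.comp_apply]
    congr 1
    exact @Subsingleton.elim (Spec (CommRingCat.of k)) inferInstance _ _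
  have hzs : z ∈ (snd G G).left.smoothLocus :=
    Groth.Agent.Lib.Helper14.mem_smoothLocus_of_isPullback H2 z (by rw [hz2]; exact hw)
  have := Groth.Agent.Lib.Helper14.mem_smoothLocus_fst_of_isPullback H1 z
    (Flat.stalkMap G.hom _) hzs
  rwa [hz1] at this

end Groth.Agent.Lib.Helper70.GrpSmE
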