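import Mathlib
import Groth.Agent.Lib.Helper70.GrpTransC

set_option autoImplicit false
universe u
open CategoryTheory CategoryTheory.Limits MonoidalCategory CartesianMonoidalCategory MonObj GrpObj AlgebraicGeometry

namespace Groth.Agent.Lib.Helper70.GrpTrans

variable {K : Type u} [Field K]

/-- the product set `A · B` of two subsets of a group scheme. -/
def setMul (G : Over (Spec (CommRingCat.of K))) [GrpObj G] (A B : Set G.left) : Set G.left :=
  μ[G].left '' ((fst G G).left ⁻¹' A ∩ (snd G G).left ⁻¹' B)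

/-- the shear automorphism `(x, y) ↦ (x, x * y)`. -/
noncomputable def shear (G : Over (Spec (CommRingCat.of K))) [GrpObj G] : G ⊗ G ≅ G ⊗ G where
  hom := lift (fst G G) (fst G G * snd G G)
  inv := lift (fst G G) ((fst G G)⁻¹ * snd G G)
  hom_inv_id := by
    apply CartesianMonoidalCategory.hom_ext
    · simp
    · simp only [comp_lift, lift_fst, lift_snd, MonObj.comp_mul, GrpObj.comp_inv, Category.id_comp]
      group
  inv_hom_id := by
    apply CartesianMonoidalCategory.hom_ext
    · simp
    · simp only [comp_lift, lift_fst, lift_snd, MonObj.comp_mul, Category.id_comp]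
      group

theorem shear_hom_snd (G : Over (Spec (CommRingCat.of K))) [GrpObj G] :
    (shear G).hom ≫ snd G G = μ[G] := by
  simp [shear, MonObj.mul_eq_mul]

theorem isOpenMap_mul (G : Over (Spec (CommRingCat.of K))) [GrpObj G] : IsOpenMap μ[G].left := by
  rw [← shear_hom_snd, Over.comp_left]
  have : IsIso (shear G).hom.left := inferInstance
  exact (isOpenMap_snd_left G G).comp (shear G).hom.left.homeomorph.isOpenMap

/-- the box of two compact opens is compact. -/
theorem isCompact_box' (G : Over (Spec (CommRingCat.of K))) (A B : G.left.Opens)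
    (hA : IsCompact (A : Set G.left)) (hB : IsCompact (B : Set G.left)) :
    IsCompact ((fst G G).left ⁻¹' (A : Set G.left) ∩ (snd G G).left ⁻¹' (B : Set G.left)) := by
  obtain ⟨s, hs, hAs⟩ := (isCompact_and_isOpen_iff_finite_and_eq_biUnion_affineOpens
    (U := (A : Set G.left))).mp ⟨hA, A.2⟩
  obtain ⟨t, ht, hBt⟩ := (isCompact_and_isOpen_iff_finite_and_eq_biUnion_affineOpens
    (U := (B : Set G.left))).mp ⟨hB, B.2⟩
  have e : (fst G G).left ⁻¹' (A : Set G.left) ∩ (snd G G).left ⁻¹' (B : Set G.left) =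
      ⋃ i ∈ s, ⋃ j ∈ t, ((fst G G).left ⁻¹' ((i : G.left.Opens) : Set G.left) ∩
        (snd G G).left ⁻¹' ((j : G.left.Opens) : Set G.left)) := by
    rw [hAs, hBt]
    ext w
    simp only [Set.preimage_iUnion, Set.mem_inter_iff, Set.mem_iUnion, Set.mem_preimage]
    constructor
    · rintro ⟨⟨i, hi, hwi⟩, ⟨j, hj, hwj⟩⟩
      exact ⟨i, hi, j, hj, hwi, hwj⟩
    · rintro ⟨i, hi, j, hj, hwi, hwj⟩
      exact ⟨⟨i, hi, hwi⟩, ⟨j, hj, hwj⟩⟩
  rw [e]
  exact hs.isCompact_biUnion fun i _ => ht.isCompact_biUnion fun j _ =>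
    isCompact_box G i.1 j.1 i.2 j.2

theorem isOpen_setMul (G : Over (Spec (CommRingCat.of K))) [GrpObj G] (A B : G.left.Opens) :
    IsOpen (setMul G (A : Set G.left) (B : Set G.left)) :=
  isOpenMap_mul G _ ((A.2.preimage (fst G G).left.continuous).inter
    (B.2.preimage (snd G G).left.continuous))

theorem isCompact_setMul (G : Over (Spec (CommRingCat.of K))) [GrpObj G] (A B : G.left.Opens)
    (hA : IsCompact (A : Set G.left)) (hB : IsCompact (B : Set G.left)) :
    IsCompact (setMul G (A : Set G.left) (B : Set G.left)) :=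
  (isCompact_box' G A B hA hB).image μ[G].left.continuous

/-- the powers `U, U·U, (U·U)·U, …` of an open. -/
noncomputable def powOpens (G : Over (Spec (CommRingCat.of K))) [GrpObj G] (U : G.left.Opens) :
    ℕ → G.left.Opens
  | 0 => U
  | n + 1 => ⟨setMul G (powOpens G U n : Set G.left) (U : Set G.left), isOpen_setMul G _ _⟩

theorem isCompact_powOpens (G : Over (Spec (CommRingCat.of K))) [GrpObj G] (U : G.left.Opens)
    (hU : IsCompact (U : Set G.left)) : ∀ n, IsCompact (powOpens G U n : Set G.left)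
  | 0 => hU
  | n + 1 => isCompact_setMul G _ _ (isCompact_powOpens G U hU n) hU

/-- the union of the powers of an open neighbourhood of the unit is closed. -/
theorem isClosed_iUnion_powOpens (G : Over (Spec (CommRingCat.of K))) [GrpObj G] (U : G.left.Opens)
    (he : η[G].left (IsLocalRing.closedPoint K) ∈ U) :
    IsClosed (⋃ n, (powOpens G U n : Set G.left)) := by
  set W : Set G.left := ⋃ n, (powOpens G U n : Set G.left) with hW
  rw [← closure_subset_iff_isClosed]
  intro x hx
  let T : Over (Spec (CommRingCat.of K)) := Over.mk (G.left.fromSpecResidueField x ≫ G.hom)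
  let gT : T ⟶ G := Over.homMk (G.left.fromSpecResidueField x) rfl
  have hgTx : ∀ t, gT.left t = x := fun t => Scheme.fromSpecResidueField_apply _ _
  let φ := twist gT
  let a : T ⊗ G ⟶ G := snd T G
  let d : T ⊗ G ⟶ G := φ.hom ≫ a
  obtain ⟨t⟩ : Nonempty (Spec (G.left.residueField x)) := inferInstance
  let p₁ : (T ⊗ G).left := (lift (𝟙 T) gT).left t
  have hap₁ : a.left p₁ = x := by
    change a.left ((lift (𝟙 T) gT).left t) = x
    rw [← Scheme.Hom.comp_apply, ← Over.comp_left, lift_snd]
    exact hgTx t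
  have hdp₁ : d.left p₁ ∈ (U : Set G.left) := by
    change d.left ((lift (𝟙 T) gT).left t) ∈ (U : Set G.left)
    have e : lift (𝟙 T) gT ≫ d = toUnit T ≫ η[G] := by
      change lift (𝟙 T) gT ≫ φ.hom ≫ a = _
      rw [twist_hom_snd, MonObj.comp_mul, GrpObj.comp_inv, lift_snd, ← Category.assoc, lift_fst,
        Category.id_comp, inv_mul_cancel, Hom.one_def]
    rw [← Scheme.Hom.comp_apply, ← Over.comp_left, e, Over.comp_left, Scheme.Hom.comp_apply]
    have : (toUnit T).left t = IsLocalRing.closedPoint K :=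
      (inferInstance : Subsingleton (PrimeSpectrum K)).elim _ _
    rw [this]
    exact he
  have hdO : IsOpen (d.left ⁻¹' (U : Set G.left)) := U.2.preimage d.left.continuous
  have hp₁cl : p₁ ∈ closure (a.left ⁻¹' W) := by
    rw [← (isOpenMap_snd_left T G).preimage_closure_eq_closure_preimage a.left.continuous W]
    change a.left p₁ ∈ closure W
    rw [hap₁]; exact hx
  obtain ⟨p, hpd, hpa⟩ := mem_closure_iff.mp hp₁cl _ hdO hdp₁
  obtain ⟨n, hn⟩ := Set.mem_iUnion.mp hpa
  refine Set.mem_iUnion.mpr ⟨n + 1, ?_⟩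
  change x ∈ setMul G (powOpens G U n : Set G.left) (U : Set G.left)
  refine ⟨(lift a d).left p, ⟨?_, ?_⟩, ?_⟩
  · change (fst G G).left ((lift a d).left p) ∈ (powOpens G U n : Set G.left)
    rw [← Scheme.Hom.comp_apply, ← Over.comp_left, lift_fst]
    exact hn
  · change (snd G G).left ((lift a d).left p) ∈ (U : Set G.left)
    rw [← Scheme.Hom.comp_apply, ← Over.comp_left, lift_snd]
    exact hpd
  · rw [← Scheme.Hom.comp_apply, ← Over.comp_left, lift_twist_mul, Over.comp_left,
      Scheme.Hom.comp_apply]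
    exact hgTx _

/-- a group scheme over a field has a clopen neighbourhood of the unit which is a countable union
of affine opens. -/
theorem exists_clopen_countable_union_affine (G : Over (Spec (CommRingCat.of K))) [GrpObj G] :
    ∃ U : G.left.Opens, IsClosed (U : Set G.left) ∧ η[G].left (IsLocalRing.closedPoint K) ∈ U ∧
      ∃ V : ℕ → G.left.Opens, (∀ n, IsAffineOpen (V n)) ∧
        (U : Set G.left) = ⋃ n, (V n : Set G.left) := by
  obtain ⟨U, hU, heU, -⟩ := exists_isAffineOpen_mem_and_subset
    (X := G.left) (x := η[G].left (IsLocalRing.closedPoint K)) (U := ⊤) trivial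
  have hcomp := isCompact_powOpens G U hU.isCompact
  let W : G.left.Opens := ⨆ n, powOpens G U n
  have hWcoe : (W : Set G.left) = ⋃ n, (powOpens G U n : Set G.left) := by
    simp [W]
  refine ⟨W, ?_, ?_, ?_⟩
  · rw [hWcoe]; exact isClosed_iUnion_powOpens G U heU
  · rw [← SetLike.mem_coe, hWcoe]
    exact Set.mem_iUnion.mpr ⟨0, heU⟩
  · -- enumerate the affine opens
    choose s hs hsU using fun n =>
      (isCompact_and_isOpen_iff_finite_and_eq_biUnion_affineOpens
        (U := (powOpens G U n : Set G.left))).mp ⟨hcomp n, (powOpens G U n).2⟩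
    let 𝒜 : Set G.left.affineOpens := ⋃ n, s n
    have h𝒜c : 𝒜.Countable := Set.countable_iUnion fun n => (hs n).countable
    have h𝒜ne : 𝒜.Nonempty := by
      by_contra hcon
      rw [Set.not_nonempty_iff_eq_empty] at hcon
      have : (powOpens G U 0 : Set G.left) = ∅ := by
        rw [hsU 0]
        have : s 0 = ∅ := by
          apply Set.eq_empty_of_subset_empty
          rw [← hcon]
          exact Set.subset_iUnion s 0
        rw [this]; simp
      have heU' : η[G].left (IsLocalRing.closedPoint K) ∈ (powOpens G U 0 : Set G.left) := heU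
      rw [this] at heU'
      exact Set.notMem_empty _ heU' 
    obtain ⟨f, hf⟩ := h𝒜c.exists_eq_range h𝒜ne
    refine ⟨fun n => (f n).1, fun n => (f n).2, ?_⟩
    rw [hWcoe]
    ext y
    simp only [Set.mem_iUnion]
    constructor
    · rintro ⟨n, hn⟩
      rw [hsU n] at hn
      obtain ⟨i, hi, hyi⟩ := Set.mem_iUnion₂.mp hn
      have : i ∈ 𝒜 := Set.mem_iUnion.mpr ⟨n, hi⟩
      rw [hf] at this
      obtain ⟨m, rfl⟩ := this
      exact ⟨m, hyi⟩
    · rintro ⟨m, hm⟩
      have : f m ∈ 𝒜 := by rw [hf]; exact ⟨m, rfl⟩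
      obtain ⟨n, hn⟩ := Set.mem_iUnion.mp this
      refine ⟨n, ?_⟩
      rw [hsU n]
      exact Set.mem_iUnion₂.mpr ⟨f m, hn, hm⟩

end Groth.Agent.Lib.Helper70.GrpTrans
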