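import Mathlib
import Groth.Prelude.Def_Grpd
import Groth.Agent.Lib.Helper70.CartierB
import Groth.Agent.Lib.Helper70.CartierC
import Groth.Agent.Lib.Helper70.CartierD
import Groth.Agent.Lib.Helper70.GrpdSmA

/-!
# Groupoid schemes on the spectrum of a field: tangent vectors at the identity lift to
derivations of the local ring at the identity (helper70)
-/

set_option autoImplicit false
universe u
open CategoryTheory CategoryTheory.Limits AlgebraicGeometry

namespace Groth.Agent.Lib.Helper70.GrpdCartA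

open Grpd Groth.Agent.Lib.Helper70.GrpdSmA CartierC IsLocalRing
open Groth.Agent.Lib.Helper70.CartierD (exists_SpecMap_fromSpecStalk SpecMap_fromSpecStalk_cancel
  Keps inlK fstK)

variable {S : Scheme.{u}} (G : GroupoidScheme S) {k : Type u} [Field k]
  (eU : G.U ≅ Spec (CommRingCat.of k))

/-- the identity as a `k`-point of `R`. -/
noncomputable def e' : Spec (CommRingCat.of k) ⟶ G.R := eU.inv ≫ G.e

/-- the identity point of `R`. -/
noncomputable def ept : G.R := e' G eU (closedPoint k)

/-- the local ring at the identity point. -/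
noncomputable abbrev Rst : CommRingCat.{u} := G.R.presheaf.stalk (ept G eU)

noncomputable abbrev can : Spec (Rst G eU) ⟶ G.R := G.R.fromSpecStalk (ept G eU)

/-- `s♯` -/
noncomputable def sR : CommRingCat.of k ⟶ Rst G eU := Spec.preimage (can G eU ≫ G.s ≫ eU.hom)

/-- `t♯` -/
noncomputable def tR : CommRingCat.of k ⟶ Rst G eU := Spec.preimage (can G eU ≫ G.t ≫ eU.hom)

theorem SpecMap_sR : Spec.map (sR G eU) = can G eU ≫ G.s ≫ eU.hom := Spec.map_preimage _

theorem SpecMap_tR : Spec.map (tR G eU) = can G eU ≫ G.t ≫ eU.hom := Spec.map_preimage _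

/-- evaluation at the identity. -/
noncomputable def ev : Rst G eU ⟶ CommRingCat.of k :=
  Scheme.stalkClosedPointTo (R := CommRingCat.of k) (e' G eU)

theorem SpecMap_ev : Spec.map (ev G eU) ≫ can G eU = e' G eU :=
  Scheme.Spec_stalkClosedPointTo_fromSpecStalk (R := CommRingCat.of k) (e' G eU)

theorem sR_ev : sR G eU ≫ ev G eU = 𝟙 _ := by
  apply Spec.map_injective
  rw [Spec.map_comp, SpecMap_sR, ← Category.assoc, SpecMap_ev, Spec.map_id]
  simp only [e', Category.assoc]
  rw [← Category.assoc G.e, G.e_s, Category.id_comp, Iso.inv_hom_id]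

theorem tR_ev : tR G eU ≫ ev G eU = 𝟙 _ := by
  apply Spec.map_injective
  rw [Spec.map_comp, SpecMap_tR, ← Category.assoc, SpecMap_ev, Spec.map_id]
  simp only [e', Category.assoc]
  rw [← Category.assoc G.e, G.e_t, Category.id_comp, Iso.inv_hom_id]

noncomputable abbrev RT : Type u := (Rst G eU : Type u)

noncomputable abbrev Reps : CommRingCat.{u} :=
  CommRingCat.of (TrivSqZeroExt (RT G eU) (RT G eU))

noncomputable abbrev inlR : Rst G eU ⟶ Reps G eU :=
  CommRingCat.ofHom (TrivSqZeroExt.inlHom (RT G eU) (RT G eU))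
noncomputable abbrev fstR : Reps G eU ⟶ Rst G eU :=
  CommRingCat.ofHom (TrivSqZeroExt.fstHom (RT G eU) (RT G eU) (RT G eU)).toRingHom
noncomputable abbrev evE : Reps G eU ⟶ Keps k := CommRingCat.ofHom (dmap (ev G eU).hom)
noncomputable abbrev tE : Keps k ⟶ Reps G eU := CommRingCat.ofHom (dmap (tR G eU).hom)

theorem ev_sR_apply (c : k) : (ev G eU).hom ((sR G eU).hom c) = c := by
  have := congrArg (fun f => f.hom c) (sR_ev G eU)
  simpa using this

theorem ev_tR_apply (c : k) : (ev G eU).hom ((tR G eU).hom c) = c := by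
  have := congrArg (fun f => f.hom c) (tR_ev G eU)
  simpa using this

theorem inlR_fstR : inlR G eU ≫ fstR G eU = 𝟙 _ := by
  apply CommRingCat.hom_ext
  apply RingHom.ext
  intro r
  rfl

theorem tE_fstR : tE G eU ≫ fstR G eU = fstK k ≫ tR G eU := by
  apply CommRingCat.hom_ext
  apply RingHom.ext
  intro x
  change (dmap (tR G eU).hom x).fst = (tR G eU).hom x.fst
  simp

theorem inlR_evE : inlR G eU ≫ evE G eU = ev G eU ≫ inlK k := by
  apply CommRingCat.hom_ext
  apply RingHom.ext
  intro r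
  change dmap (ev G eU).hom (TrivSqZeroExt.inl r) = TrivSqZeroExt.inl ((ev G eU).hom r)
  ext <;> simp

theorem tE_evE : tE G eU ≫ evE G eU = 𝟙 _ := by
  apply CommRingCat.hom_ext
  apply RingHom.ext
  intro x
  change dmap (ev G eU).hom (dmap (tR G eU).hom x) = x
  ext
  · simp only [fst_dmap]
    exact ev_tR_apply G eU _
  · simp only [snd_dmap]
    exact ev_tR_apply G eU _

theorem inlK_tE : inlK k ≫ tE G eU = tR G eU ≫ inlR G eU := by
  apply CommRingCat.hom_ext
  apply RingHom.ext
  intro c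
  change dmap (tR G eU).hom (TrivSqZeroExt.inl c) = TrivSqZeroExt.inl ((tR G eU).hom c)
  ext <;> simp

variable (τ : Rst G eU ⟶ Keps k) (hτ1 : τ ≫ fstK k = ev G eU) (hτ2 : sR G eU ≫ τ = inlK k)

/-- the tangent vector as a point of `R`. -/
noncomputable def vv : Spec (Keps k) ⟶ G.R := Spec.map τ ≫ can G eU

include hτ2 in
theorem vv_s : vv G eU τ ≫ G.s ≫ eU.hom = Spec.map (inlK k) := by
  unfold vv
  rw [Category.assoc, ← SpecMap_sR, ← Spec.map_comp, hτ2]

/-- the constant extension of the universal point. -/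
noncomputable def canE : Spec (Reps G eU) ⟶ G.R := Spec.map (inlR G eU) ≫ can G eU

include hτ2 in
theorem cond : (Spec.map (tE G eU) ≫ vv G eU τ) ≫ G.s = canE G eU ≫ G.t := by
  rw [← cancel_mono eU.hom]
  simp only [Category.assoc]
  rw [vv_s G eU τ hτ2, ← Spec.map_comp, inlK_tE, Spec.map_comp]
  unfold canE
  rw [Category.assoc, ← SpecMap_tR]

/-- the lifted vector field as a point of `R`. -/
noncomputable def ww : Spec (Reps G eU) ⟶ G.R :=
  cmp G (Spec.map (tE G eU) ≫ vv G eU τ) (canE G eU) (cond G eU τ hτ2)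

include hτ1 in
theorem ii_ww : Spec.map (fstR G eU) ≫ ww G eU τ hτ2 = can G eU := by
  unfold ww
  rw [precomp_cmp]
  have h2 : Spec.map (fstR G eU) ≫ canE G eU = can G eU := by
    unfold canE
    rw [← Spec.map_comp_assoc, inlR_fstR, Spec.map_id, Category.id_comp]
  have h1 : Spec.map (fstR G eU) ≫ Spec.map (tE G eU) ≫ vv G eU τ =
      can G eU ≫ G.t ≫ G.e := by
    unfold vv
    rw [← Spec.map_comp_assoc, ← Spec.map_comp_assoc, tE_fstR, ← Category.assoc, hτ1,
      Spec.map_comp_assoc, SpecMap_ev, SpecMap_tR]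
    simp only [e', Category.assoc, Iso.hom_inv_id_assoc]
  rw [cmp_congr G _ h1 h2]
  exact G.e_comp (can G eU)

include hτ2 in
theorem jj_ww : Spec.map (evE G eU) ≫ ww G eU τ hτ2 = vv G eU τ := by
  unfold ww
  rw [precomp_cmp]
  have h1 : Spec.map (evE G eU) ≫ Spec.map (tE G eU) ≫ vv G eU τ = vv G eU τ := by
    rw [← Spec.map_comp_assoc, tE_evE, Spec.map_id, Category.id_comp]
  have h2 : Spec.map (evE G eU) ≫ canE G eU = vv G eU τ ≫ G.s ≫ G.e := by
    unfold canE
    rw [← Spec.map_comp_assoc, inlR_evE, Spec.map_comp_assoc, SpecMap_ev]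
    have := vv_s G eU τ hτ2
    have h3 : vv G eU τ ≫ G.s = Spec.map (inlK k) ≫ eU.inv := by
      rw [← this]
      simp only [Category.assoc, Iso.hom_inv_id, Category.comp_id]
    rw [← Category.assoc (vv G eU τ), h3]
    simp only [e', Category.assoc]
  rw [cmp_congr G _ h1 h2]
  exact G.comp_e (vv G eU τ)

include hτ1 in
theorem ww_closedPoint :
    ww G eU τ hτ2 (closedPoint (TrivSqZeroExt (RT G eU) (RT G eU))) = ept G eU := by
  have h1 : Spec.map (fstR G eU) (closedPoint (RT G eU)) =
      closedPoint (TrivSqZeroExt (RT G eU) (RT G eU)) := by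
    have : IsLocalHom (fstR G eU).hom :=
      show IsLocalHom (TrivSqZeroExt.fstHom (RT G eU) (RT G eU) (RT G eU)).toRingHom from
        inferInstance
    exact Spec_closedPoint
  rw [← h1, ← Scheme.Hom.comp_apply, ii_ww G eU τ hτ1 hτ2]
  exact Scheme.fromSpecStalk_closedPoint

include hτ1 hτ2 in
theorem exists_lift : ∃ φ : Rst G eU ⟶ Reps G eU, φ ≫ fstR G eU = 𝟙 _ ∧ φ ≫ evE G eU = τ := by
  obtain ⟨φ, hφ⟩ := exists_SpecMap_fromSpecStalk (S := Reps G eU) (ww G eU τ hτ2) (ept G eU)
    (ww_closedPoint G eU τ hτ1 hτ2)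
  refine ⟨φ, ?_, ?_⟩
  · apply SpecMap_fromSpecStalk_cancel (ept G eU)
    rw [Spec.map_comp, Category.assoc, hφ, Spec.map_id, Category.id_comp]
    exact ii_ww G eU τ hτ1 hτ2
  · apply SpecMap_fromSpecStalk_cancel (ept G eU)
    rw [Spec.map_comp, Category.assoc, hφ]
    exact jj_ww G eU τ hτ2

/-- the local ring at the identity point is a domain in characteristic zero. -/
theorem isDomain_stalk_ept [CharZero k] [IsLocallyNoetherian G.R] : IsDomain (RT G eU) := by
  apply CartierB.isDomain_of_hasLifts k (RT G eU) (sR G eU).hom (ev G eU).hom (ev_sR_apply G eU)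
  apply hasLifts_of_ringHoms _ _ (ev_sR_apply G eU)
  intro τ hτ1 hτ2
  obtain ⟨φ, h1, h2⟩ := exists_lift G eU (CommRingCat.ofHom τ)
    (by apply CommRingCat.hom_ext; apply RingHom.ext; intro r; exact hτ1 r)
    (by apply CommRingCat.hom_ext; apply RingHom.ext; intro c; exact hτ2 c)
  refine ⟨φ.hom, fun r => ?_, fun r => ?_⟩
  · exact congrArg (fun f => f.hom r) h1
  · exact congrArg (fun f => f.hom r) h2

end Groth.Agent.Lib.Helper70.GrpdCartA
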