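import Mathlib
import Groth.Prelude.Def_Grpd
import Groth.Agent.Lib.Helper14.SmoothFibre
import Groth.Agent.Lib.Helper70.GrpdSmA

/-!
# Groupoid schemes on the spectrum of a field: `s` is smooth as soon as it is smooth somewhere
(helper70)
-/

set_option autoImplicit false
universe u
open CategoryTheory CategoryTheory.Limits AlgebraicGeometry

namespace Groth.Agent.Lib.Helper70.GrpdSmB

open Grpd Groth.Agent.Lib.Helper70.GrpdSmA

theorem isPullback_comp_mono {C : Type*} [Category C] {P X Y Z W : C} {fst : P ⟶ X}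
    {snd : P ⟶ Y} {f : X ⟶ Z} {g : Y ⟶ Z} (h : IsPullback fst snd f g) (i : Z ⟶ W) [Mono i] :
    IsPullback fst snd (f ≫ i) (g ≫ i) := by
  have hw : fst ≫ f ≫ i = snd ≫ g ≫ i := by rw [← Category.assoc, h.w, Category.assoc]
  refine IsPullback.of_isLimit (c := PullbackCone.mk _ _ hw) ?_
  refine PullbackCone.IsLimit.mk hw
    (fun c => h.lift c.fst c.snd ((cancel_mono i).mp (by simpa using c.condition))) ?_ ?_ ?_
  · intro c
    exact h.lift_fst _ _ _
  · intro c
    exact h.lift_snd _ _ _
  · intro c m h1 h2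
    apply h.hom_ext
    · rw [h.lift_fst]; exact h1
    · rw [h.lift_snd]; exact h2

variable {S : Scheme.{u}} (G : GroupoidScheme S)

theorem smooth_s_of_dense (k : Type u) [Field k] (eU : G.U ≅ Spec (CommRingCat.of k))
    [LocallyOfFiniteType G.s] [LocallyOfFiniteType G.t]
    [LocallyOfFinitePresentation (G.s ≫ eU.hom)]
    (hd : Dense ((G.s ≫ eU.hom).smoothLocus : Set G.R)) : Smooth G.s := by
  have hsub : Subsingleton G.U := by
    have : Subsingleton (Spec (CommRingCat.of k)) :=
      inferInstanceAs (Subsingleton (PrimeSpectrum k))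
    exact eU.hom.homeomorph.injective.subsingleton
  have H1 : IsPullback (pullback.fst G.s G.t) (pullback.snd G.s G.t) (G.s ≫ eU.hom)
      (G.t ≫ eU.hom) := isPullback_comp_mono (IsPullback.of_hasPullback G.s G.t) eU.hom
  have H2 : IsPullback G.c (pullback.snd G.s G.t) (G.s ≫ eU.hom) (G.s ≫ eU.hom) :=
    isPullback_comp_mono (isPullback_c G) eU.hom
  have hfp2 : LocallyOfFinitePresentation (pullback.snd G.s G.t) :=
    MorphismProperty.of_isPullback H1 inferInstance
  have hflat : Flat (G.t ≫ eU.hom) := inferInstance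
  suffices h : Smooth (G.s ≫ eU.hom) from
    (MorphismProperty.cancel_right_of_respectsIso @Smooth G.s eU.hom).mp h
  rw [← Scheme.Hom.smoothLocus_eq_top_iff, eq_top_iff]
  intro r _
  have hne : Nonempty G.R := ⟨r⟩
  obtain ⟨w, hw⟩ := hd.nonempty
  obtain ⟨z, hz1, hz2⟩ := exists_point G r w (Subsingleton.elim _ _)
  have hzs : z ∈ (pullback.snd G.s G.t).smoothLocus :=
    Groth.Agent.Lib.Helper14.mem_smoothLocus_of_isPullback H2 z (by rw [hz2]; exact hw)
  have := Groth.Agent.Lib.Helper14.mem_smoothLocus_fst_of_isPullback H1 z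
    (Flat.stalkMap (G.t ≫ eU.hom) _) hzs
  rwa [hz1] at this

theorem smooth_t_of_smooth_s [Smooth G.s] : Smooth G.t := by
  rw [← G.i_s]
  infer_instance

theorem main (k : Type u) [Field k] [PerfectField k] (eU : G.U ≅ Spec (CommRingCat.of k))
    [LocallyOfFiniteType G.s] [LocallyOfFiniteType G.t] [IsReduced G.R] :
    Smooth G.s ∧ Smooth G.t := by
  have hfp : LocallyOfFinitePresentation (G.s ≫ eU.hom) := inferInstance
  have hs : Smooth G.s :=
    smooth_s_of_dense G k eU (Scheme.Hom.dense_smoothLocus_of_perfectField (G.s ≫ eU.hom))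
  exact ⟨hs, smooth_t_of_smooth_s G⟩

end Groth.Agent.Lib.Helper70.GrpdSmB
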