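import Mathlib
import Groth.Prelude.Def_Grpd
import Groth.Agent.Lib.Helper14.ReducedNhd
import Groth.Agent.Lib.Helper70.GrpdSmB
import Groth.Agent.Lib.Helper70.GrpdCartA

/-!
# Groupoid schemes on the spectrum of a field of characteristic zero: `s` and `t` are smooth
(helper70)
-/

set_option autoImplicit false
universe u
open CategoryTheory CategoryTheory.Limits AlgebraicGeometry

namespace Groth.Agent.Lib.Helper70.GrpdCartB

open Grpd Groth.Agent.Lib.Helper70.GrpdSmA Groth.Agent.Lib.Helper70.GrpdSmB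
  Groth.Agent.Lib.Helper70.GrpdCartA

variable {S : Scheme.{u}} (G : GroupoidScheme S)

/-- `s` is smooth as soon as it is smooth at one point (when `U` is the spectrum of a field). -/
theorem smooth_s_of_mem (k : Type u) [Field k] (eU : G.U ≅ Spec (CommRingCat.of k))
    [LocallyOfFiniteType G.s] [LocallyOfFiniteType G.t]
    [LocallyOfFinitePresentation (G.s ≫ eU.hom)]
    (w : G.R) (hw : w ∈ (G.s ≫ eU.hom).smoothLocus) : Smooth G.s := by
  have hsub : Subsingleton G.U := by
    have : Subsingleton (Spec (CommRingCat.of k)) :=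
      inferInstanceAs (Subsingleton (PrimeSpectrum k))
    exact eU.hom.homeomorph.injective.subsingleton
  have H1 : IsPullback (pullback.fst G.s G.t) (pullback.snd G.s G.t) (G.s ≫ eU.hom)
      (G.t ≫ eU.hom) := isPullback_comp_mono (IsPullback.of_hasPullback G.s G.t) eU.hom
  have H2 : IsPullback G.c (pullback.snd G.s G.t) (G.s ≫ eU.hom) (G.s ≫ eU.hom) :=
    isPullback_comp_mono (isPullback_c G) eU.hom
  have hfp2 : LocallyOfFinitePresentation (pullback.snd G.s G.t) :=
    MorphismProperty.of_isPullback H1 inferInstance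
  have hflat : Flat (G.t ≫ eU.hom) := inferInstance
  suffices h : Smooth (G.s ≫ eU.hom) from
    (MorphismProperty.cancel_right_of_respectsIso @Smooth G.s eU.hom).mp h
  rw [← Scheme.Hom.smoothLocus_eq_top_iff, eq_top_iff]
  intro r _
  obtain ⟨z, hz1, hz2⟩ := exists_point G r w (Subsingleton.elim _ _)
  have hzs : z ∈ (pullback.snd G.s G.t).smoothLocus :=
    Groth.Agent.Lib.Helper14.mem_smoothLocus_of_isPullback H2 z (by rw [hz2]; exact hw)
  have := Groth.Agent.Lib.Helper14.mem_smoothLocus_fst_of_isPullback H1 z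
    (Flat.stalkMap (G.t ≫ eU.hom) _) hzs
  rwa [hz1] at this

theorem main (k : Type u) [Field k] [CharZero k] (eU : G.U ≅ Spec (CommRingCat.of k))
    [LocallyOfFiniteType G.s] [LocallyOfFiniteType G.t] : Smooth G.s ∧ Smooth G.t := by
  have hfp : LocallyOfFinitePresentation (G.s ≫ eU.hom) := inferInstance
  have hN : IsLocallyNoetherian G.R := LocallyOfFiniteType.isLocallyNoetherian (G.s ≫ eU.hom)
  have hdom : IsDomain (RT G eU) := isDomain_stalk_ept G eU
  have hred : _root_.IsReduced (G.R.presheaf.stalk (ept G eU)) := inferInstance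
  obtain ⟨V, hV, hVred⟩ := Groth.Agent.Lib.Helper14.exists_isReduced_nhd (ept G eU) hred
  have hd := Scheme.Hom.dense_smoothLocus_of_perfectField (V.ι ≫ G.s ≫ eU.hom)
  have hne : Nonempty V := ⟨⟨ept G eU, hV⟩⟩
  obtain ⟨x, hx⟩ := hd.nonempty
  rw [← Scheme.Hom.preimage_smoothLocus_eq] at hx
  have hs : Smooth G.s := smooth_s_of_mem G k eU (V.ι x) hx
  exact ⟨hs, smooth_t_of_smooth_s G⟩

end Groth.Agent.Lib.Helper70.GrpdCartB
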