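import Mathlib
import Groth.Prelude.Def_Grpd
import Groth.Agent.Lib.Helper70.BigFieldA

/-!
# Groupoid schemes on the spectrum of a field: points of the restriction to a big algebraically
closed field with both residue field maps bijective (helper70)
-/

set_option autoImplicit false
universe u
open CategoryTheory CategoryTheory.Limits AlgebraicGeometry

namespace Groth.Agent.Lib.Helper70.GrpdPtA

open Grpd Groth.Agent.Lib.Helper70.BigFieldA

theorem isIso_of_comp_isIso_of_mono {C : Type*} [Category C] {X Y Z : C} (A : X ⟶ Y) (B : Y ⟶ Z)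
    [IsIso (A ≫ B)] [Mono B] : IsIso A := by
  have hB : IsSplitEpi B := ⟨⟨⟨inv (A ≫ B) ≫ A, by rw [Category.assoc, IsIso.inv_hom_id]⟩⟩⟩
  have : IsIso B := isIso_of_mono_of_isSplitEpi B
  have : A = (A ≫ B) ≫ inv B := by rw [Category.assoc, IsIso.hom_inv_id, Category.comp_id]
  rw [this]
  infer_instance

theorem mono_residueFieldMap_of_field {X : Scheme.{u}} {L : Type u} [Field L]
    (P : Spec (CommRingCat.of L) ⟶ X) (pt : Spec (CommRingCat.of L)) :
    Mono (P.residueFieldMap pt) := by
  apply ConcreteCategory.mono_of_injective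
  exact (P.residueFieldMap pt).hom.injective

variable {S : Scheme.{u}} (G : GroupoidScheme S)

theorem main (k : Type u) [Field k] (eU : G.U ≅ Spec (CommRingCat.of k)) (r : G.R) :
    ∃ (k' : Type u) (_ : Field k') (_ : IsAlgClosed k') (_ : Algebra k k'),
    ∃ r' : ↑(pullback (pullback.snd (Spec.map (CommRingCat.ofHom (algebraMap k k')) ≫ eU.inv) G.t
        ≫ G.s) (Spec.map (CommRingCat.ofHom (algebraMap k k')) ≫ eU.inv)),
      (pullback.fst (pullback.snd (Spec.map (CommRingCat.ofHom (algebraMap k k')) ≫ eU.inv) G.t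
        ≫ G.s) (Spec.map (CommRingCat.ofHom (algebraMap k k')) ≫ eU.inv) ≫
          pullback.snd (Spec.map (CommRingCat.ofHom (algebraMap k k')) ≫ eU.inv) G.t) r' = r ∧
      IsIso ((pullback.snd (pullback.snd (Spec.map (CommRingCat.ofHom (algebraMap k k')) ≫ eU.inv)
        G.t ≫ G.s) (Spec.map (CommRingCat.ofHom (algebraMap k k')) ≫ eU.inv)).residueFieldMap r') ∧
      IsIso ((pullback.fst (pullback.snd (Spec.map (CommRingCat.ofHom (algebraMap k k')) ≫ eU.inv)
        G.t ≫ G.s) (Spec.map (CommRingCat.ofHom (algebraMap k k')) ≫ eU.inv) ≫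
          pullback.fst (Spec.map (CommRingCat.ofHom (algebraMap k k')) ≫ eU.inv)
            G.t).residueFieldMap r') := by
  let κ : Type u := G.R.residueField r
  let fs : Spec (G.R.residueField r) ⟶ Spec (CommRingCat.of k) :=
    G.R.fromSpecResidueField r ≫ G.s ≫ eU.hom
  let ft : Spec (G.R.residueField r) ⟶ Spec (CommRingCat.of k) :=
    G.R.fromSpecResidueField r ≫ G.t ≫ eU.hom
  let σ : k →+* κ := (Spec.preimage fs).hom
  let τ : k →+* κ := (Spec.preimage ft).hom
  obtain ⟨θ, hθ⟩ := exists_ringEquiv σ τ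
  let _ : Algebra k (Big κ) := algOf τ
  refine ⟨Big κ, inferInstance, inferInstance, algOf τ, ?_⟩
  let j : κ →+* Big κ := algebraMap κ (Big κ)
  let g : Spec (CommRingCat.of (Big κ)) ⟶ G.U :=
    Spec.map (CommRingCat.ofHom (algebraMap k (Big κ))) ≫ eU.inv
  let ρ : Spec (CommRingCat.of (Big κ)) ⟶ G.R :=
    Spec.map (CommRingCat.ofHom j) ≫ G.R.fromSpecResidueField r
  let β : Spec (CommRingCat.of (Big κ)) ⟶ Spec (CommRingCat.of (Big κ)) :=
    Spec.map (CommRingCat.ofHom θ.toRingHom)
  have hβ : IsIso β := by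
    have : IsIso (CommRingCat.ofHom θ.toRingHom) :=
      (ConcreteCategory.isIso_iff_bijective _).mpr θ.bijective
    infer_instance
  have hτ : CommRingCat.ofHom (algebraMap k (Big κ)) = Spec.preimage ft ≫ CommRingCat.ofHom j := by
    apply CommRingCat.hom_ext
    apply RingHom.ext
    intro c
    exact algebraMap_algOf τ c
  have hσ : CommRingCat.ofHom (algebraMap k (Big κ)) ≫ CommRingCat.ofHom θ.toRingHom =
      Spec.preimage fs ≫ CommRingCat.ofHom j := by
    apply CommRingCat.hom_ext
    apply RingHom.ext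
    intro c
    change θ (algebraMap k (Big κ) c) = j (σ c)
    rw [algebraMap_algOf τ c]
    exact hθ c
  have h1 : ρ ≫ G.t = g := by
    rw [← cancel_mono eU.hom]
    simp only [ρ, g, Category.assoc, Iso.inv_hom_id, Category.comp_id]
    rw [hτ, Spec.map_comp, Spec.map_preimage]
    rfl
  have h2 : ρ ≫ G.s = β ≫ g := by
    rw [← cancel_mono eU.hom]
    simp only [ρ, g, β, Category.assoc, Iso.inv_hom_id, Category.comp_id]
    rw [← Spec.map_comp, hσ, Spec.map_comp, Spec.map_preimage]
    rfl
  let P₁ : Spec (CommRingCat.of (Big κ)) ⟶ pullback g G.t :=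
    pullback.lift (𝟙 _) ρ (by rw [Category.id_comp, h1])
  let P : Spec (CommRingCat.of (Big κ)) ⟶ pullback (pullback.snd g G.t ≫ G.s) g :=
    pullback.lift P₁ β (by simp only [P₁, pullback.lift_snd_assoc]; exact h2)
  let pt : Spec (CommRingCat.of (Big κ)) := default
  have hP1 : P ≫ pullback.fst (pullback.snd g G.t ≫ G.s) g ≫ pullback.snd g G.t = ρ := by
    simp only [P, P₁, pullback.lift_fst_assoc, pullback.lift_snd]
  have hP2 : P ≫ pullback.snd (pullback.snd g G.t ≫ G.s) g = β := by
    simp only [P, pullback.lift_snd]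
  have hP3 : P ≫ pullback.fst (pullback.snd g G.t ≫ G.s) g ≫ pullback.fst g G.t = 𝟙 _ := by
    simp only [P, P₁, pullback.lift_fst_assoc, pullback.lift_fst]
  have hmono := mono_residueFieldMap_of_field P pt
  refine ⟨P pt, ?_, ?_, ?_⟩
  · rw [← Scheme.Hom.comp_apply, hP1]
    simp only [ρ, Scheme.Hom.comp_apply]
    exact Scheme.fromSpecResidueField_apply _ _
  · have h : IsIso ((P ≫ pullback.snd (pullback.snd g G.t ≫ G.s) g).residueFieldMap pt) := by
      rw [hP2]; infer_instance
    rw [Scheme.residueFieldMap_comp] at h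
    exact @isIso_of_comp_isIso_of_mono _ _ _ _ _ _ (P.residueFieldMap pt) h hmono
  · have h : IsIso ((P ≫ pullback.fst (pullback.snd g G.t ≫ G.s) g ≫
        pullback.fst g G.t).residueFieldMap pt) := by
      rw [hP3]; infer_instance
    rw [Scheme.residueFieldMap_comp] at h
    exact @isIso_of_comp_isIso_of_mono _ _ _ _ _ _ (P.residueFieldMap pt) h hmono

end Groth.Agent.Lib.Helper70.GrpdPtA
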