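import Mathlib
import Groth.Prelude.Def_Grpd
import Groth.Agent.Lib.Helper70.GrpdSmA

/-!
# Sub-groupoid schemes along a monomorphism into the arrow scheme (helper70)
-/

set_option autoImplicit false
universe u
open CategoryTheory CategoryTheory.Limits AlgebraicGeometry

namespace Groth.Agent.Lib.Helper70.GrpdSubA

open Grpd Groth.Agent.Lib.Helper70.GrpdSmA

variable {S : Scheme.{u}} (G : GroupoidScheme S) {Z : Scheme.{u}} (ι : Z ⟶ G.R)

/-- the canonical map `Z ×_U Z ⟶ R ×_U R`. -/
noncomputable def mapι : pullback (ι ≫ G.s) (ι ≫ G.t) ⟶ pullback G.s G.t :=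
  pullback.map (ι ≫ G.s) (ι ≫ G.t) G.s G.t ι ι (𝟙 G.U) (by simp) (by simp)

theorem lift_mapι {T : Scheme.{u}} (α β : T ⟶ Z) (h : α ≫ ι ≫ G.s = β ≫ ι ≫ G.t) :
    pullback.lift α β h ≫ mapι G ι =
      pullback.lift (α ≫ ι) (β ≫ ι) (by simpa using h) := by
  unfold mapι
  apply pullback.hom_ext
  · rw [Category.assoc, pullback.lift_fst, pullback.lift_fst_assoc, pullback.lift_fst]
  · rw [Category.assoc, pullback.lift_snd, pullback.lift_snd_assoc, pullback.lift_snd]

variable [Mono ι] (e' : G.U ⟶ Z) (he : e' ≫ ι = G.e) (i' : Z ⟶ Z) (hi : i' ≫ ι = ι ≫ G.i)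
  (c' : pullback (ι ≫ G.s) (ι ≫ G.t) ⟶ Z) (hc : c' ≫ ι = mapι G ι ≫ G.c)

omit [Mono ι] in
include hc in
theorem key {T : Scheme.{u}} (α β : T ⟶ Z) (h : α ≫ ι ≫ G.s = β ≫ ι ≫ G.t) :
    (pullback.lift α β h ≫ c') ≫ ι = cmp G (α ≫ ι) (β ≫ ι) (by simpa using h) := by
  rw [Category.assoc, hc, ← Category.assoc, lift_mapι]
  rfl

/-- The sub-groupoid scheme on `Z`. -/
noncomputable def sub : GroupoidScheme S where
  U := G.U
  R := Z
  pU := G.pU
  pR := ι ≫ G.pR
  s := ι ≫ G.s
  t := ι ≫ G.t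
  e := e'
  i := i'
  c := c'
  s_over := by rw [Category.assoc, G.s_over]
  t_over := by rw [Category.assoc, G.t_over]
  comp_s := fun α β h => by
    rw [← Category.assoc, key G ι c' hc α β h, cmp_s, Category.assoc]
  comp_t := fun α β h => by
    rw [← Category.assoc, key G ι c' hc α β h, cmp_t, Category.assoc]
  assoc := fun α β δ h₁ h₂ => by
    rw [← cancel_mono ι]
    refine (key G ι c' hc _ δ _).trans ?_
    refine (cmp_congr G _ (key G ι c' hc α β h₁) rfl).trans ?_
    refine (cmp_assoc G (α ≫ ι) (β ≫ ι) (δ ≫ ι) (by simpa using h₁) (by simpa using h₂)).trans ?_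
    refine (cmp_congr G _ rfl (key G ι c' hc β δ h₂).symm).trans ?_
    exact (key G ι c' hc α _ _).symm
  e_s := by rw [← Category.assoc, he, G.e_s]
  e_t := by rw [← Category.assoc, he, G.e_t]
  comp_e := fun α => by
    rw [← cancel_mono ι, key G ι c' hc]
    apply cmp_e
    simp only [Category.assoc, he]
  e_comp := fun α => by
    rw [← cancel_mono ι, key G ι c' hc]
    apply e_cmp
    simp only [Category.assoc, he]
  i_s := by rw [← Category.assoc, hi, Category.assoc, G.i_s]
  i_t := by rw [← Category.assoc, hi, Category.assoc, G.i_t]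
  comp_i := fun α => by
    rw [← cancel_mono ι, key G ι c' hc]
    rw [cmp_congr G _ rfl (show (α ≫ i') ≫ ι = (α ≫ ι) ≫ G.i by simp only [Category.assoc, hi])]
    rw [cmp_i]
    simp only [Category.assoc, he]
  i_comp := fun α => by
    rw [← cancel_mono ι, key G ι c' hc]
    rw [cmp_congr G _ (show (α ≫ i') ≫ ι = (α ≫ ι) ≫ G.i by simp only [Category.assoc, hi]) rfl]
    rw [i_cmp]
    simp only [Category.assoc, he]

/-- The inclusion of the sub-groupoid. -/
noncomputable def subHom : GroupoidScheme.Hom (sub G ι e' he i' hi c' hc) G where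
  fU := 𝟙 G.U
  fR := ι
  fU_over := Category.id_comp _
  comm_s := (Category.comp_id _).symm
  comm_t := (Category.comp_id _).symm
  comm_c := fun α β h => key G ι c' hc α β h

end Groth.Agent.Lib.Helper70.GrpdSubA
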