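import Mathlib
import Groth.Agent.Lib.Helper70.HomogA
import Groth.Agent.Lib.Helper70.GenFibre

/-!
# Homogeneous spaces under group schemes over a field, part B:
orbit maps are surjective, and lift generizations at the unit point.
-/

set_option autoImplicit false
universe u
open CategoryTheory CategoryTheory.Limits MonoidalCategory CartesianMonoidalCategory MonObj GrpObj AlgebraicGeometry

namespace Groth.Agent.Lib.Helper70.HomogB

open HomogA

variable {k : Type u} [Field k] {G X : Over (Spec (CommRingCat.of k))} [GrpObj G]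
  (a : AlgGrp.Action G X)

/-- orbit maps of a homogeneous space are surjective. -/
theorem surjective_orb (hΦ : Surjective (lift a.act (snd G X)).left)
    {T₁ : Over (Spec (CommRingCat.of k))} (x₁ : T₁ ⟶ X) :
    Function.Surjective (orb a x₁).left := by
  intro y'
  let Φ : G ⊗ X ⟶ X ⊗ X := lift a.act (snd G X)
  let ρX : T₁ ⊗ X ⟶ X ⊗ X := lift (snd T₁ X) (fst T₁ X ≫ x₁)
  obtain ⟨z, hz⟩ := hΦ.surj (ρX.left y')
  obtain ⟨r, hr1, hr2⟩ := Scheme.Pullback.exists_preimage_pullback (f := ρX.left) (g := Φ.left)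
    y' z hz.symm
  let RO : Over (Spec (CommRingCat.of k)) :=
    Over.mk (pullback.fst ρX.left Φ.left ≫ (T₁ ⊗ X).hom)
  let s : RO ⟶ T₁ ⊗ X := Over.homMk (pullback.fst ρX.left Φ.left) rfl
  let s' : RO ⟶ G ⊗ X := Over.homMk (pullback.snd ρX.left Φ.left) (by
    change pullback.snd ρX.left Φ.left ≫ (G ⊗ X).hom = pullback.fst ρX.left Φ.left ≫ (T₁ ⊗ X).hom
    rw [← Over.w Φ, ← Over.w ρX, ← Category.assoc, ← Category.assoc]
    congr 1
    exact (pullback.condition (f := ρX.left) (g := Φ.left)).symm)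
  have hs : s ≫ ρX = s' ≫ Φ := by
    apply Over.OverMorphism.ext
    exact pullback.condition (f := ρX.left) (g := Φ.left)
  have h1 : s ≫ snd T₁ X = s' ≫ a.act := by
    have := congrArg (· ≫ fst X X) hs
    simpa [ρX, Φ] using this
  have h2 : s ≫ fst T₁ X ≫ x₁ = s' ≫ snd G X := by
    have := congrArg (· ≫ snd X X) hs
    simpa [ρX, Φ] using this
  let l : RO ⟶ T₁ ⊗ G := lift (s ≫ fst T₁ X) (s' ≫ fst G X)
  have hl : l ≫ orb a x₁ = s := by
    apply CartesianMonoidalCategory.hom_ext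
    · simp [l]
    · have h2' : (s ≫ fst T₁ X) ≫ x₁ = s' ≫ snd G X := by rw [Category.assoc, h2]
      rw [Category.assoc, orb_snd, ← Category.assoc, comp_lift, lift_snd, lift_fst_assoc, h2', h1]
      congr 1
      apply CartesianMonoidalCategory.hom_ext <;> simp
  refine ⟨l.left r, ?_⟩
  rw [← Scheme.Hom.comp_apply, ← Over.comp_left, hl]
  exact hr1

variable (hΦ : Surjective (lift a.act (snd G X)).left)

theorem lift_id_one_tau {T : Over (Spec (CommRingCat.of k))} (c : T ⟶ G) :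
    lift (𝟙 T) (1 : T ⟶ G) ≫ tau selfAct c = lift (𝟙 T) c := by
  apply CartesianMonoidalCategory.hom_ext
  · simp
  · rw [Category.assoc, lam_snd, MonObj.comp_mul, lift_snd, lift_fst_assoc, Category.id_comp,
      _root_.mul_one, lift_snd]

theorem lift_id_one_orb {T : Over (Spec (CommRingCat.of k))} (x : T ⟶ X) :
    lift (𝟙 T) (1 : T ⟶ G) ≫ orb a x = lift (𝟙 T) x := by
  apply CartesianMonoidalCategory.hom_ext
  · simp
  · rw [Category.assoc, orb_snd, ← Category.assoc, comp_lift, lift_snd, lift_fst_assoc,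
      Category.id_comp, act_one, lift_snd]

include hΦ in
/-- **Key lemma**: the orbit map of a field-valued point lifts generizations at the unit point. -/
theorem orb_generalizing_unit {T₁ : Over (Spec (CommRingCat.of k))} [Subsingleton T₁.left]
    [IsIntegral T₁.left] (x₁ : T₁ ⟶ X) (t₁ : T₁.left) (ζ : (T₁ ⊗ X).left)
    (hζ : ζ ⤳ (lift (𝟙 T₁) x₁).left t₁) :
    ∃ g : (T₁ ⊗ G).left, g ⤳ (lift (𝟙 T₁) (1 : T₁ ⟶ G)).left t₁ ∧ (orb a x₁).left g = ζ := by
  -- a maximal point of `T₁ ⊗ X`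
  obtain ⟨ξ₀, hξ₀⟩ := QuasiSober.sober (isIrreducible_irreducibleComponent (x := ζ))
    isClosed_irreducibleComponent
  have hmax : ∀ b : (T₁ ⊗ X).left, b ⤳ ξ₀ → b = ξ₀ := by
    intro b hb
    have hsub : irreducibleComponent ζ ⊆ closure {b} := by
      rw [← hξ₀.def]
      exact specializes_iff_closure_subset.mp hb
    have hirr : IsIrreducible (closure {b}) := isIrreducible_singleton.closure
    have heq : closure {b} = irreducibleComponent ζ :=
      (irreducibleComponent_mem_irreducibleComponents ζ).2 hirr hsub |>.antisymm hsub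
    have hb' : IsGenericPoint b (irreducibleComponent ζ) := heq
    exact hb'.eq hξ₀
  obtain ⟨γ₀, hγ₀⟩ := surjective_orb a hΦ x₁ ξ₀
  -- the residue field of `γ₀`
  let T : Over (Spec (CommRingCat.of k)) :=
    Over.mk ((T₁ ⊗ G).left.fromSpecResidueField γ₀ ≫ (T₁ ⊗ G).hom)
  let uG : T ⟶ T₁ ⊗ G := Over.homMk ((T₁ ⊗ G).left.fromSpecResidueField γ₀) rfl
  obtain ⟨t₀⟩ : Nonempty (Spec ((T₁ ⊗ G).left.residueField γ₀)) := inferInstance
  have huG : uG.left t₀ = γ₀ := Scheme.fromSpecResidueField_apply _ _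
  let u : T ⟶ T₁ := uG ≫ fst T₁ G
  let c : T ⟶ G := uG ≫ snd T₁ G
  have hut : u.left t₀ = t₁ := Subsingleton.elim _ _
  have sq := isPullback_orb a u x₁
  let γ' : (T ⊗ G).left := (lift (𝟙 T) c).left t₀
  have hγ' : (u ⊗ₘ 𝟙 G).left γ' = γ₀ := by
    change (u ⊗ₘ 𝟙 G).left ((lift (𝟙 T) c).left t₀) = γ₀
    rw [← Scheme.Hom.comp_apply, ← Over.comp_left]
    have : lift (𝟙 T) c ≫ (u ⊗ₘ 𝟙 G) = uG := by
      apply CartesianMonoidalCategory.hom_ext <;> simp [u, c]
    rw [this, huG]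
  -- generizations lift at `γ'`
  have hgen1 : ∀ ζ' : (T ⊗ X).left, ζ' ⤳ (orb a (u ≫ x₁)).left γ' →
      ∃ w : (T ⊗ G).left, w ⤳ γ' ∧ (orb a (u ≫ x₁)).left w = ζ' := by
    intro ζ' hζ'
    refine GenFibre.generalizing_of_isPullback sq γ' ?_ ζ' hζ'
    rw [hγ', hγ₀]
    exact hmax
  -- translate to the unit point
  let lam := tauIso (selfAct (G := G)) c
  let tau' := tauIso a c
  have hlam_hom_inv : ∀ p, lam.hom.left (lam.inv.left p) = p := by
    intro p
    rw [← Scheme.Hom.comp_apply, ← Over.comp_left, lam.inv_hom_id]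
    rfl
  have hlam_inv_hom : ∀ p, lam.inv.left (lam.hom.left p) = p := by
    intro p
    rw [← Scheme.Hom.comp_apply, ← Over.comp_left, lam.hom_inv_id]
    rfl
  have htau_inv_hom : ∀ p, tau'.inv.left (tau'.hom.left p) = p := by
    intro p
    rw [← Scheme.Hom.comp_apply, ← Over.comp_left, tau'.hom_inv_id]
    rfl
  have hequiv : ∀ p, (orb a (u ≫ x₁)).left (lam.hom.left p) =
      tau'.hom.left ((orb a (u ≫ x₁)).left p) := by
    intro p
    rw [← Scheme.Hom.comp_apply, ← Scheme.Hom.comp_apply, ← Over.comp_left, ← Over.comp_left]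
    change (tau selfAct c ≫ orb a (u ≫ x₁)).left p = (orb a (u ≫ x₁) ≫ tau a c).left p
    rw [lam_orb]
  let eT : (T ⊗ G).left := (lift (𝟙 T) (1 : T ⟶ G)).left t₀
  have hlam_eT : lam.hom.left eT = γ' := by
    change (tau selfAct c).left ((lift (𝟙 T) (1 : T ⟶ G)).left t₀) = (lift (𝟙 T) c).left t₀
    rw [← Scheme.Hom.comp_apply, ← Over.comp_left, lift_id_one_tau]
  have hgen2 : ∀ ζ' : (T ⊗ X).left, ζ' ⤳ (orb a (u ≫ x₁)).left eT →
      ∃ w : (T ⊗ G).left, w ⤳ eT ∧ (orb a (u ≫ x₁)).left w = ζ' := by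
    intro ζ' hζ'
    have h1 : tau'.hom.left ζ' ⤳ (orb a (u ≫ x₁)).left γ' := by
      rw [← hlam_eT, hequiv]
      exact hζ'.map tau'.hom.left.continuous
    obtain ⟨w, hw, hw2⟩ := hgen1 _ h1
    refine ⟨lam.inv.left w, ?_, ?_⟩
    · have := hw.map lam.inv.left.continuous
      rwa [← hlam_eT, hlam_inv_hom] at this
    · have h3 : tau'.hom.left ((orb a (u ≫ x₁)).left (lam.inv.left w)) = tau'.hom.left ζ' := by
        rw [← hequiv, hlam_hom_inv, hw2]
      have := congrArg tau'.inv.left h3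
      rwa [htau_inv_hom, htau_inv_hom] at this
  -- descend to `T₁`
  have hflat : Flat (u ⊗ₘ 𝟙 X).left := by
    have hu : Flat u.left := inferInstance
    exact MorphismProperty.of_isPullback (P := @Flat) (isPullback_tensor u X).flip hu
  have hgenX : GeneralizingMap (u ⊗ₘ 𝟙 X).left := Flat.generalizingMap _
  have horb_eT : (orb a (u ≫ x₁)).left eT = (lift (𝟙 T) (u ≫ x₁)).left t₀ := by
    change (orb a (u ≫ x₁)).left ((lift (𝟙 T) (1 : T ⟶ G)).left t₀) = _
    rw [← Scheme.Hom.comp_apply, ← Over.comp_left, lift_id_one_orb]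
  have hpX : (u ⊗ₘ 𝟙 X).left ((lift (𝟙 T) (u ≫ x₁)).left t₀) = (lift (𝟙 T₁) x₁).left t₁ := by
    rw [← Scheme.Hom.comp_apply, ← Over.comp_left]
    have : lift (𝟙 T) (u ≫ x₁) ≫ (u ⊗ₘ 𝟙 X) = u ≫ lift (𝟙 T₁) x₁ := by
      apply CartesianMonoidalCategory.hom_ext <;> simp
    rw [this, Over.comp_left, Scheme.Hom.comp_apply, hut]
  obtain ⟨ζ', hζ', hζ'2⟩ := hgenX (hpX.symm ▸ hζ :
    ζ ⤳ (u ⊗ₘ 𝟙 X).left ((lift (𝟙 T) (u ≫ x₁)).left t₀))
  obtain ⟨w, hw, hw2⟩ := hgen2 ζ' (horb_eT.symm ▸ hζ')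
  refine ⟨(u ⊗ₘ 𝟙 G).left w, ?_, ?_⟩
  · have h1 := hw.map (u ⊗ₘ 𝟙 G).left.continuous
    have h2 : (u ⊗ₘ 𝟙 G).left eT = (lift (𝟙 T₁) (1 : T₁ ⟶ G)).left t₁ := by
      change (u ⊗ₘ 𝟙 G).left ((lift (𝟙 T) (1 : T ⟶ G)).left t₀) = _
      rw [← Scheme.Hom.comp_apply, ← Over.comp_left]
      have : lift (𝟙 T) (1 : T ⟶ G) ≫ (u ⊗ₘ 𝟙 G) = u ≫ lift (𝟙 T₁) (1 : T₁ ⟶ G) := by
        apply CartesianMonoidalCategory.hom_ext <;> simp
      rw [this, Over.comp_left, Scheme.Hom.comp_apply, hut]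
    rwa [h2] at h1
  · rw [← Scheme.Hom.comp_apply, ← Over.comp_left, ← orb_comp, Over.comp_left,
      Scheme.Hom.comp_apply, hw2, hζ'2]

end Groth.Agent.Lib.Helper70.HomogB
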