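import Mathlib
import Groth.Agent.Lib.Helper70.HomogB
import Groth.Agent.Lib.Helper70.GrpConnE

/-!
# Homogeneous spaces under group schemes over a field, part C:
uniqueness of irreducible components through a point, and the generization lifting property.
-/

set_option autoImplicit false
universe u
open CategoryTheory CategoryTheory.Limits MonoidalCategory CartesianMonoidalCategory MonObj GrpObj AlgebraicGeometry

namespace Groth.Agent.Lib.Helper70.HomogC

open HomogA HomogB GrpIrrA GrpConnA GrpConnB GrpConnC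

variable {k : Type u} [Field k] {G X : Over (Spec (CommRingCat.of k))} [GrpObj G]
  (a : AlgGrp.Action G X) (hΦ : Surjective (lift a.act (snd G X)).left)

theorem snd_lift_id_one {T : Over (Spec (CommRingCat.of k))} (t : T.left) :
    (snd T G).left ((lift (𝟙 T) (1 : T ⟶ G)).left t) = ept G := by
  rw [← Scheme.Hom.comp_apply, ← Over.comp_left, lift_snd]
  change (toUnit T ≫ η[G]).left t = _
  rw [Over.comp_left, Scheme.Hom.comp_apply]
  have : (toUnit T).left t = IsLocalRing.closedPoint k :=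
    @Subsingleton.elim (Spec (CommRingCat.of k)) inferInstance _ _
  rw [this]
  rfl

include hΦ in
/-- uniqueness of the irreducible component through a field-valued point, over that field. -/
theorem uniqueComp_fieldPoint {T₁ : Over (Spec (CommRingCat.of k))} [Subsingleton T₁.left]
    [IsIntegral T₁.left] (x₁ : T₁ ⟶ X) (t₁ : T₁.left) :
    UniqueComp (T₁ ⊗ X).left ((lift (𝟙 T₁) x₁).left t₁) := by
  have : IrreducibleSpace T₁.left := inferInstance
  have hP := isIrreducible_preimage_snd G T₁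
  let Y₀ : Set (T₁ ⊗ X).left := closure ((orb a x₁).left '' ((snd T₁ G).left ⁻¹' C0 G))
  have hY₀ : IsIrreducible Y₀ := (hP.image _ (orb a x₁).left.continuous.continuousOn).closure
  have key : ∀ Z ∈ irreducibleComponents (T₁ ⊗ X).left, (lift (𝟙 T₁) x₁).left t₁ ∈ Z → Z = Y₀ := by
    intro Z hZ hxZ
    obtain ⟨ξ, hξ⟩ := QuasiSober.sober hZ.1 (isClosed_of_mem_irreducibleComponents Z hZ)
    have hsp : ξ ⤳ (lift (𝟙 T₁) x₁).left t₁ := hξ.specializes hxZ
    obtain ⟨g, hg, hg2⟩ := orb_generalizing_unit a hΦ x₁ t₁ ξ hsp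
    have hgC : (snd T₁ G).left g ∈ C0 G := by
      apply mem_C0_of_specializes
      have := hg.map (snd T₁ G).left.continuous
      rwa [snd_lift_id_one] at this
    have hξY : ξ ∈ Y₀ := subset_closure ⟨g, hgC, hg2⟩
    have hsub : Z ⊆ Y₀ := by
      rw [← hξ.def]
      exact closure_minimal (Set.singleton_subset_iff.mpr hξY) isClosed_closure
    exact subset_antisymm hsub (hZ.2 hY₀ hsub)
  intro Z₁ hZ₁ Z₂ hZ₂ h₁ h₂
  rw [key Z₁ hZ₁ h₁, key Z₂ hZ₂ h₂]

include hΦ in
/-- every point of a homogeneous space lies on exactly one irreducible component. -/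
theorem uniqueComp (x : X.left) : UniqueComp X.left x := by
  let T₁ : Over (Spec (CommRingCat.of k)) := Over.mk (X.left.fromSpecResidueField x ≫ X.hom)
  let x₁ : T₁ ⟶ X := Over.homMk (X.left.fromSpecResidueField x) rfl
  obtain ⟨t₁⟩ : Nonempty (Spec (X.left.residueField x)) := inferInstance
  have hx₁ : x₁.left t₁ = x := Scheme.fromSpecResidueField_apply _ _
  have : Subsingleton T₁.left := inferInstanceAs (Subsingleton (Spec (X.left.residueField x)))
  have : IsIntegral T₁.left := inferInstanceAs (IsIntegral (Spec (X.left.residueField x)))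
  have h := uniqueComp_fieldPoint a hΦ x₁ t₁
  have hgen : GeneralizingMap (snd T₁ X).left := generalizingMap_snd X T₁
  have h' := h.of_generalizingMap (snd T₁ X).left.continuous hgen
  rwa [← Scheme.Hom.comp_apply, ← Over.comp_left, lift_snd, hx₁] at h'

include hΦ in
/-- the same over any field extension. -/
theorem uniqueComp_tensor {T : Over (Spec (CommRingCat.of k))} [Subsingleton T.left]
    [IsIntegral T.left] (z : (T ⊗ X).left) : UniqueComp (T ⊗ X).left z := by
  let T₁ : Over (Spec (CommRingCat.of k)) :=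
    Over.mk ((T ⊗ X).left.fromSpecResidueField z ≫ (T ⊗ X).hom)
  let zT : T₁ ⟶ T ⊗ X := Over.homMk ((T ⊗ X).left.fromSpecResidueField z) rfl
  obtain ⟨t₁⟩ : Nonempty (Spec ((T ⊗ X).left.residueField z)) := inferInstance
  have hz : zT.left t₁ = z := Scheme.fromSpecResidueField_apply _ _
  have : Subsingleton T₁.left :=
    inferInstanceAs (Subsingleton (Spec ((T ⊗ X).left.residueField z)))
  have : IsIntegral T₁.left :=
    inferInstanceAs (IsIntegral (Spec ((T ⊗ X).left.residueField z)))
  let u : T₁ ⟶ T := zT ≫ fst T X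
  let x₁ : T₁ ⟶ X := zT ≫ snd T X
  have h := uniqueComp_fieldPoint a hΦ x₁ t₁
  have hflat : Flat (u ⊗ₘ 𝟙 X).left := by
    have hu : Flat u.left := inferInstance
    exact MorphismProperty.of_isPullback (P := @Flat) (isPullback_tensor u X).flip hu
  have hgen : GeneralizingMap (u ⊗ₘ 𝟙 X).left := Flat.generalizingMap _
  have h' := h.of_generalizingMap (u ⊗ₘ 𝟙 X).left.continuous hgen
  have e : lift (𝟙 T₁) x₁ ≫ (u ⊗ₘ 𝟙 X) = zT := by
    apply CartesianMonoidalCategory.hom_ext <;> simp [u, x₁]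
  rwa [← Scheme.Hom.comp_apply, ← Over.comp_left, e, hz] at h'

include hΦ in
/-- the generization lifting property for homogeneous spaces. -/
theorem hasGenLift : HasGenLift (G := G) (X := X) a.act := by
  intro x ξ h
  let T₁ : Over (Spec (CommRingCat.of k)) := Over.mk (X.left.fromSpecResidueField x ≫ X.hom)
  let x₁ : T₁ ⟶ X := Over.homMk (X.left.fromSpecResidueField x) rfl
  obtain ⟨t₁⟩ : Nonempty (Spec (X.left.residueField x)) := inferInstance
  have hx₁ : ∀ t, x₁.left t = x := fun t => Scheme.fromSpecResidueField_apply _ _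
  have : Subsingleton T₁.left := inferInstanceAs (Subsingleton (Spec (X.left.residueField x)))
  have : IsIntegral T₁.left := inferInstanceAs (IsIntegral (Spec (X.left.residueField x)))
  have hsnd : (snd T₁ X).left ((lift (𝟙 T₁) x₁).left t₁) = x := by
    rw [← Scheme.Hom.comp_apply, ← Over.comp_left, lift_snd, hx₁]
  obtain ⟨ζ, hζ, hζ2⟩ := generalizingMap_snd X T₁ (hsnd.symm ▸ h :
    ξ ⤳ (snd T₁ X).left ((lift (𝟙 T₁) x₁).left t₁))
  obtain ⟨g, hg, hg2⟩ := orb_generalizing_unit a hΦ x₁ t₁ ζ hζ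
  have hgC : (snd T₁ G).left g ∈ C0 G := by
    apply mem_C0_of_specializes
    have := hg.map (snd T₁ G).left.continuous
    rwa [snd_lift_id_one] at this
  let T : Over (Spec (CommRingCat.of k)) :=
    Over.mk ((T₁ ⊗ G).left.fromSpecResidueField g ≫ (T₁ ⊗ G).hom)
  let gT : T ⟶ T₁ ⊗ G := Over.homMk ((T₁ ⊗ G).left.fromSpecResidueField g) rfl
  have hgT : ∀ t, gT.left t = g := fun t => Scheme.fromSpecResidueField_apply _ _
  obtain ⟨t₀⟩ : Nonempty (Spec ((T₁ ⊗ G).left.residueField g)) := inferInstance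
  let c : T ⟶ G := gT ≫ snd T₁ G
  let q : (T ⊗ X).left := (lift (𝟙 T) (gT ≫ fst T₁ G ≫ x₁)).left t₀
  refine ⟨T, c, q, ?_, ?_, ?_⟩
  · intro t
    change (gT ≫ snd T₁ G).left t ∈ C0 G
    rw [Over.comp_left, Scheme.Hom.comp_apply, hgT]
    exact hgC
  · change (snd T X).left ((lift (𝟙 T) (gT ≫ fst T₁ G ≫ x₁)).left t₀) = x
    rw [← Scheme.Hom.comp_apply, ← Over.comp_left, lift_snd, Over.comp_left, Over.comp_left,
      Scheme.Hom.comp_apply, Scheme.Hom.comp_apply]
    exact hx₁ _
  · change (GrpConnA.trans a.act c).left ((lift (𝟙 T) (gT ≫ fst T₁ G ≫ x₁)).left t₀) = ξ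
    rw [← Scheme.Hom.comp_apply, ← Over.comp_left]
    have : lift (𝟙 T) (gT ≫ fst T₁ G ≫ x₁) ≫ GrpConnA.trans a.act c =
        gT ≫ orb a x₁ ≫ snd T₁ X := by
      unfold GrpConnA.trans
      rw [orb_snd]
      have l : lift (𝟙 T) (gT ≫ fst T₁ G ≫ x₁) ≫ lift (fst T X ≫ c) (snd T X) =
          lift c (gT ≫ fst T₁ G ≫ x₁) := by
        apply CartesianMonoidalCategory.hom_ext <;> simp
      have r : gT ≫ lift (snd T₁ G) (fst T₁ G ≫ x₁) = lift c (gT ≫ fst T₁ G ≫ x₁) := by
        apply CartesianMonoidalCategory.hom_ext <;> simp [c]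
      rw [← Category.assoc, l, ← reassoc_of% r]
    rw [this, Over.comp_left, Over.comp_left, Scheme.Hom.comp_apply, Scheme.Hom.comp_apply, hgT,
      hg2, hζ2]

end Groth.Agent.Lib.Helper70.HomogC
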