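import Mathlib
import Groth.Agent.Lib.Helper70.HomogC

/-!
# Homogeneous spaces under group schemes over a field, part D:
the set `C⁰ · U`.
-/

set_option autoImplicit false
universe u
open CategoryTheory CategoryTheory.Limits MonoidalCategory CartesianMonoidalCategory MonObj GrpObj AlgebraicGeometry

namespace Groth.Agent.Lib.Helper70.HomogD

open HomogA HomogB HomogC GrpIrrA GrpConnA GrpConnB GrpConnC GrpConnE

variable {k : Type u} [Field k] {G X : Over (Spec (CommRingCat.of k))} [GrpObj G]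
  (a : AlgGrp.Action G X)

/-- acting by `g⁻¹` after acting by `g` is the identity. -/
theorem inv_act_act {S : Over (Spec (CommRingCat.of k))} (g : S ⟶ G) (y : S ⟶ X) :
    lift g⁻¹ (lift g y ≫ a.act) ≫ a.act = y := by
  rw [← act_mul, inv_mul_cancel, act_one]

/-- the set `C⁰ · U`. -/
def CU (U : Set X.left) : Set X.left :=
  a.act.left '' {z : (G ⊗ X).left | (fst G X).left z ∈ C0 G ∧ (snd G X).left z ∈ U}

theorem CU_subset_W (U : Set X.left) : CU a U ⊆ W U := by
  rintro _ ⟨z, ⟨hz1, hz2⟩, rfl⟩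
  let T : Over (Spec (CommRingCat.of k)) :=
    Over.mk ((G ⊗ X).left.fromSpecResidueField z ≫ (G ⊗ X).hom)
  let zT : T ⟶ G ⊗ X := Over.homMk ((G ⊗ X).left.fromSpecResidueField z) rfl
  have hzT : ∀ t, zT.left t = z := fun t => Scheme.fromSpecResidueField_apply _ _
  obtain ⟨t₀⟩ : Nonempty (Spec ((G ⊗ X).left.residueField z)) := inferInstance
  let c : T ⟶ G := zT ≫ fst G X
  let xT : T ⟶ X := zT ≫ snd G X
  have hc : ∀ t, c.left t ∈ C0 G := by
    intro t
    change (zT ≫ fst G X).left t ∈ C0 G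
    rw [Over.comp_left, Scheme.Hom.comp_apply, hzT]
    exact hz1
  let q : (T ⊗ X).left := (lift (𝟙 T) xT).left t₀
  obtain ⟨Z, hZ, h1, h2⟩ := lemmaS a.act a.one_act c hc q
  have e1 : (snd T X).left q = (snd G X).left z := by
    change (snd T X).left ((lift (𝟙 T) xT).left t₀) = _
    rw [← Scheme.Hom.comp_apply, ← Over.comp_left, lift_snd]
    change (zT ≫ snd G X).left t₀ = _
    rw [Over.comp_left, Scheme.Hom.comp_apply, hzT]
  have e2 : (GrpConnA.trans a.act c).left q = a.act.left z := by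
    change (GrpConnA.trans a.act c).left ((lift (𝟙 T) xT).left t₀) = _
    rw [← Scheme.Hom.comp_apply, ← Over.comp_left]
    have : lift (𝟙 T) xT ≫ GrpConnA.trans a.act c = zT ≫ a.act := by
      unfold GrpConnA.trans
      rw [← Category.assoc]
      congr 1
      apply CartesianMonoidalCategory.hom_ext <;> simp [c, xT]
    rw [this, Over.comp_left, Scheme.Hom.comp_apply, hzT]
  rw [e1] at h1
  rw [e2] at h2
  exact ⟨Z, ⟨hZ, ⟨_, h1, hz2⟩⟩, h2⟩

theorem W_subset_CU (hΦ : Surjective (lift a.act (snd G X)).left) (U : Set X.left)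
    (hU : IsOpen U) : W U ⊆ CU a U := by
  rintro y ⟨Z, ⟨hZ, hne⟩, hyZ⟩
  obtain ⟨ξ, hξ⟩ := QuasiSober.sober hZ.1 (isClosed_of_mem_irreducibleComponents Z hZ)
  have hξU : ξ ∈ U := (hξ.mem_open_set_iff hU).mpr hne
  have hsp : ξ ⤳ y := hξ.specializes hyZ
  obtain ⟨T, c, q, hc, hq1, hq2⟩ := hasGenLift a hΦ y ξ hsp
  refine ⟨(lift ((fst T X ≫ c)⁻¹) (GrpConnA.trans a.act c)).left q, ⟨?_, ?_⟩, ?_⟩
  · rw [← Scheme.Hom.comp_apply, ← Over.comp_left, lift_fst, Hom.inv_def, Over.comp_left,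
      Over.comp_left, Scheme.Hom.comp_apply, Scheme.Hom.comp_apply]
    exact inv_mem_C0 G _ (hc _)
  · rw [← Scheme.Hom.comp_apply, ← Over.comp_left, lift_snd, hq2]
    exact hξU
  · rw [← Scheme.Hom.comp_apply, ← Over.comp_left]
    unfold GrpConnA.trans
    rw [inv_act_act, hq1]

theorem CU_eq_W (hΦ : Surjective (lift a.act (snd G X)).left) (U : Set X.left)
    (hU : IsOpen U) : CU a U = W U :=
  subset_antisymm (CU_subset_W a U) (W_subset_CU a hΦ U hU)

theorem W_eq_sUnion {Y : Type*} [TopologicalSpace Y] [QuasiSober Y] (U : Set Y) (hU : IsOpen U) :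
    W U = ⋃₀ {Z : Set Y | Z ∈ irreducibleComponents Y ∧ ∃ ξ ∈ U, closure {ξ} = Z} := by
  unfold W
  congr 1
  ext Z
  constructor
  · rintro ⟨hZ, hne⟩
    obtain ⟨ξ, hξ⟩ := QuasiSober.sober hZ.1 (isClosed_of_mem_irreducibleComponents Z hZ)
    exact ⟨hZ, ξ, (hξ.mem_open_set_iff hU).mpr hne, hξ.def⟩
  · rintro ⟨hZ, ξ, hξU, rfl⟩
    exact ⟨hZ, ξ, subset_closure rfl, hξU⟩

theorem quasiCompact_ι_of_isRetrocompact {Y : Scheme.{u}} (U : Y.Opens)
    (h : IsRetrocompact (U : Set Y)) : QuasiCompact U.ι := by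
  rw [quasiCompact_iff_isSpectralMap]
  have := (IsRetrocompact_iff_isSpectralMap_subtypeVal (s := (U : Set Y))).mp h
  exact this

theorem main (hΦ : Surjective (lift a.act (snd G X)).left) (U : X.left.Opens) :
    IsOpen (CU a (U : Set X.left)) ∧
    CU a (U : Set X.left) =
      ⋃₀ {Z : Set X.left | Z ∈ irreducibleComponents X.left ∧ ∃ ξ ∈ U, closure {ξ} = Z} ∧
    (IsRetrocompact (U : Set X.left) → CU a (U : Set X.left) = closure (U : Set X.left)) := by
  rw [CU_eq_W a hΦ (U : Set X.left) U.2]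
  refine ⟨isOpen_W a.act a.one_act (hasGenLift a hΦ) _ U.2, ?_, ?_⟩
  · rw [W_eq_sUnion (U : Set X.left) U.2]
    rfl
  · intro h
    have := quasiCompact_ι_of_isRetrocompact U h
    exact subset_antisymm (W_subset_closure _ U.2) (closure_subset_W U)

end Groth.Agent.Lib.Helper70.HomogD
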