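import Mathlib
import Groth.Agent.Lib.Helper70.HomogD

/-!
# Homogeneous spaces under group schemes over a field, part E:
the orbit of a rational point under the neutral component, and geometric irreducibility of the
component through a rational point.
-/

set_option autoImplicit false
universe u
open CategoryTheory CategoryTheory.Limits MonoidalCategory CartesianMonoidalCategory MonObj GrpObj AlgebraicGeometry

namespace Groth.Agent.Lib.Helper70.HomogE

open HomogA HomogB HomogC HomogD GrpIrrA GrpConnA GrpConnB GrpConnC GrpConnE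

variable {k : Type u} [Field k] {G X : Over (Spec (CommRingCat.of k))} [GrpObj G]
  (a : AlgGrp.Action G X)

/-- the rational point of the base. -/
noncomputable abbrev kpt (k : Type u) [Field k] : (𝟙_ (Over (Spec (CommRingCat.of k)))).left :=
  (IsLocalRing.closedPoint k : Spec (CommRingCat.of k))

theorem comp_orbitMap {M : Over (Spec (CommRingCat.of k))} (x : 𝟙_ _ ⟶ X) (h : M ⟶ G) :
    h ≫ a.orbitMap x = lift h (toUnit M ≫ x) ≫ a.act := by
  unfold AlgGrp.Action.orbitMap
  rw [← Category.assoc]
  congr 1
  apply CartesianMonoidalCategory.hom_ext <;> simp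

theorem orb_snd_orbitMap {T : Over (Spec (CommRingCat.of k))} (x : 𝟙_ _ ⟶ X) :
    orb a (toUnit T ≫ x) ≫ snd T X = snd T G ≫ a.orbitMap x := by
  rw [orb_snd, comp_orbitMap]
  congr 2

theorem orb_snd_orbitMap' (x : 𝟙_ _ ⟶ X) :
    orb a x ≫ snd (𝟙_ _) X = snd (𝟙_ _) G ≫ a.orbitMap x := by
  have := orb_snd_orbitMap a (T := 𝟙_ _) x
  rwa [toUnit_unique (toUnit (𝟙_ (Over (Spec (CommRingCat.of k))))) (𝟙 _), Category.id_comp]
    at this

theorem unit_orbitMap (x : 𝟙_ _ ⟶ X) : η[G] ≫ a.orbitMap x = x := by
  rw [comp_orbitMap]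
  have h1 : toUnit (𝟙_ (Over (Spec (CommRingCat.of k)))) = 𝟙 _ := toUnit_unique _ _
  have h2 : (η[G] : 𝟙_ _ ⟶ G) = (1 : 𝟙_ _ ⟶ G) := by
    rw [Hom.one_def, h1, Category.id_comp]
  rw [h1, Category.id_comp, h2, act_one]

theorem orbitMap_ept (x : 𝟙_ _ ⟶ X) : (a.orbitMap x).left (ept G) = x.left (kpt k) := by
  unfold ept
  rw [← Scheme.Hom.comp_apply, ← Over.comp_left, unit_orbitMap]

variable (hΦ : Surjective (lift a.act (snd G X)).left)

include hΦ in
/-- generizations of a rational point are in the orbit of the neutral component. -/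
theorem exists_C0_of_specializes (x : 𝟙_ _ ⟶ X) (ξ : X.left) (h : ξ ⤳ x.left (kpt k)) :
    ∃ g ∈ C0 G, (a.orbitMap x).left g = ξ := by
  let T₁ : Over (Spec (CommRingCat.of k)) := 𝟙_ _
  have : Subsingleton T₁.left := inferInstanceAs (Subsingleton (Spec (CommRingCat.of k)))
  have : IsIntegral T₁.left := inferInstanceAs (IsIntegral (Spec (CommRingCat.of k)))
  have hsnd : (snd T₁ X).left ((lift (𝟙 T₁) x).left (kpt k)) = x.left (kpt k) := by
    rw [← Scheme.Hom.comp_apply, ← Over.comp_left, lift_snd]
  obtain ⟨ζ, hζ, hζ2⟩ := generalizingMap_snd X T₁ (hsnd.symm ▸ h :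
    ξ ⤳ (snd T₁ X).left ((lift (𝟙 T₁) x).left (kpt k)))
  obtain ⟨g, hg, hg2⟩ := orb_generalizing_unit a hΦ x (kpt k) ζ hζ
  refine ⟨(snd T₁ G).left g, ?_, ?_⟩
  · apply mem_C0_of_specializes
    have := hg.map (snd T₁ G).left.continuous
    rwa [snd_lift_id_one] at this
  · rw [← Scheme.Hom.comp_apply, ← Over.comp_left, ← orb_snd_orbitMap', Over.comp_left,
      Scheme.Hom.comp_apply, hg2, hζ2]

include hΦ in
/-- the orbit of a rational point under the neutral component is the irreducible component
through that point. -/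
theorem orbitMap_image_C0 (x : 𝟙_ _ ⟶ X) :
    (a.orbitMap x).left '' C0 G = irreducibleComponent (x.left (kpt k)) := by
  apply subset_antisymm
  · have hirr : IsIrreducible ((a.orbitMap x).left '' C0 G) :=
      (isIrreducible_C0 G).image _ (a.orbitMap x).left.continuous.continuousOn
    obtain ⟨Z, hZ, hsub⟩ := exists_mem_irreducibleComponents_subset_of_isIrreducible _ hirr
    have hx₀ : x.left (kpt k) ∈ Z := hsub ⟨ept G, ept_mem_C0 G, orbitMap_ept a x⟩
    have : Z = irreducibleComponent (x.left (kpt k)) :=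
      uniqueComp a hΦ _ Z hZ _ (irreducibleComponent_mem_irreducibleComponents _) hx₀
        mem_irreducibleComponent
    rw [← this]
    exact hsub
  · intro y hy
    obtain ⟨ξ, hξ⟩ := QuasiSober.sober
      (isIrreducible_irreducibleComponent (x := x.left (kpt k))) isClosed_irreducibleComponent
    have h1 : ξ ⤳ x.left (kpt k) := hξ.specializes mem_irreducibleComponent
    have h2 : ξ ⤳ y := hξ.specializes hy
    obtain ⟨g₀, hg₀, hg₀2⟩ := exists_C0_of_specializes a hΦ x ξ h1
    obtain ⟨T, c, q, hc, hq1, hq2⟩ := hasGenLift a hΦ y ξ h2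
    obtain ⟨m, hm1, hm2⟩ := Scheme.Pullback.exists_preimage_pullback
      (f := (GrpConnA.trans a.act c).left) (g := (a.orbitMap x).left) q g₀ (by rw [hq2, hg₀2])
    let P : Scheme.{u} := pullback (GrpConnA.trans a.act c).left (a.orbitMap x).left
    let M : Over (Spec (CommRingCat.of k)) :=
      Over.mk (P.fromSpecResidueField m ≫ pullback.fst _ _ ≫ (T ⊗ X).hom)
    let qM : M ⟶ T ⊗ X := Over.homMk (P.fromSpecResidueField m ≫ pullback.fst _ _)
      (by simp [M])
    let gM : M ⟶ G := Over.homMk (P.fromSpecResidueField m ≫ pullback.snd _ _) (by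
      change (P.fromSpecResidueField m ≫ pullback.snd _ _) ≫ G.hom =
        P.fromSpecResidueField m ≫ pullback.fst _ _ ≫ (T ⊗ X).hom
      rw [← Over.w (a.orbitMap x), ← Over.w (GrpConnA.trans a.act c), Category.assoc,
        ← Category.assoc (pullback.snd _ _), ← pullback.condition, Category.assoc])
    have hcomm : qM ≫ GrpConnA.trans a.act c = gM ≫ a.orbitMap x := by
      apply Over.OverMorphism.ext
      change (P.fromSpecResidueField m ≫ pullback.fst _ _) ≫ (GrpConnA.trans a.act c).left =
        (P.fromSpecResidueField m ≫ pullback.snd _ _) ≫ (a.orbitMap x).left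
      rw [Category.assoc, Category.assoc, pullback.condition]
    obtain ⟨m₀⟩ : Nonempty (Spec (P.residueField m)) := inferInstance
    have hqM : qM.left m₀ = q := by
      change (P.fromSpecResidueField m ≫ pullback.fst _ _) m₀ = q
      rw [Scheme.Hom.comp_apply, Scheme.fromSpecResidueField_apply, hm1]
    have hgM : gM.left m₀ = g₀ := by
      change (P.fromSpecResidueField m ≫ pullback.snd _ _) m₀ = g₀
      rw [Scheme.Hom.comp_apply, Scheme.fromSpecResidueField_apply, hm2]
    let cM : M ⟶ G := qM ≫ fst T X ≫ c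
    refine ⟨(cM⁻¹ * gM).left m₀, ?_, ?_⟩
    · rw [Hom.mul_def, Over.comp_left, Scheme.Hom.comp_apply]
      apply mul_mem_C0
      · rw [← Scheme.Hom.comp_apply, ← Over.comp_left, lift_fst, Hom.inv_def, Over.comp_left,
          Scheme.Hom.comp_apply]
        apply inv_mem_C0
        change (qM ≫ fst T X ≫ c).left m₀ ∈ C0 G
        rw [Over.comp_left, Over.comp_left, Scheme.Hom.comp_apply, Scheme.Hom.comp_apply]
        exact hc _
      · rw [← Scheme.Hom.comp_apply, ← Over.comp_left, lift_snd, hgM]
        exact hg₀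
    · rw [← Scheme.Hom.comp_apply, ← Over.comp_left]
      have : (cM⁻¹ * gM) ≫ a.orbitMap x = qM ≫ snd T X := by
        rw [comp_orbitMap, act_mul, ← comp_orbitMap, ← hcomm]
        unfold GrpConnA.trans
        rw [← Category.assoc qM, comp_lift, ← Category.assoc qM]
        exact inv_act_act a cM (qM ≫ snd T X)
      rw [this, Over.comp_left, Scheme.Hom.comp_apply, hqM, hq1]

include hΦ in
theorem preimage_eq_image (x : 𝟙_ _ ⟶ X) (T : Over (Spec (CommRingCat.of k))) :
    (snd T X).left ⁻¹' (irreducibleComponent (x.left (kpt k))) =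
      (orb a (toUnit T ≫ x)).left '' ((snd T G).left ⁻¹' C0 G) := by
  rw [← orbitMap_image_C0 a hΦ x]
  apply subset_antisymm
  · rintro z ⟨g₀, hg₀, hg₀2⟩
    have hiso : IsIso (snd (𝟙_ (Over (Spec (CommRingCat.of k)))) G) := by
      rw [← leftUnitor_hom]; infer_instance
    have hisoX : IsIso (snd (𝟙_ (Over (Spec (CommRingCat.of k)))) X) := by
      rw [← leftUnitor_hom]; infer_instance
    let g' : (𝟙_ (Over (Spec (CommRingCat.of k))) ⊗ G).left :=
      (inv (snd (𝟙_ (Over (Spec (CommRingCat.of k)))) G)).left g₀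
    have hg' : (snd (𝟙_ (Over (Spec (CommRingCat.of k)))) G).left g' = g₀ := by
      change (snd (𝟙_ (Over (Spec (CommRingCat.of k)))) G).left
        ((inv (snd (𝟙_ (Over (Spec (CommRingCat.of k)))) G)).left g₀) = g₀
      rw [← Scheme.Hom.comp_apply, ← Over.comp_left, IsIso.inv_hom_id]
      rfl
    have hinj : Function.Injective (snd (𝟙_ (Over (Spec (CommRingCat.of k)))) X).left := by
      intro p₁ p₂ hp
      have := congrArg (inv (snd (𝟙_ (Over (Spec (CommRingCat.of k)))) X)).left hp
      rw [← Scheme.Hom.comp_apply, ← Scheme.Hom.comp_apply, ← Over.comp_left,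
        IsIso.hom_inv_id] at this
      exact this
    have hcompat : (toUnit T ⊗ₘ 𝟙 X).left z = (orb a x).left g' := by
      apply hinj
      rw [← Scheme.Hom.comp_apply, ← Scheme.Hom.comp_apply, ← Over.comp_left, ← Over.comp_left,
        orb_snd_orbitMap', tensorHom_snd, Category.comp_id, Over.comp_left,
        Scheme.Hom.comp_apply, hg', hg₀2]
    obtain ⟨w, hw1, hw2⟩ := Scheme.Pullback.exists_preimage_pullback
      (f := (toUnit T ⊗ₘ 𝟙 X).left) (g := (orb a x).left) z g' hcompat
    have sq := isPullback_orb a (toUnit T) x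
    let e := sq.isoPullback
    refine ⟨e.inv w, ?_, ?_⟩
    · change (snd T G).left (e.inv w) ∈ C0 G
      have h3 : (toUnit T ⊗ₘ 𝟙 G).left (e.inv w) = g' := by
        rw [← Scheme.Hom.comp_apply, sq.isoPullback_inv_snd, hw2]
      have hsnd : ∀ p, (snd (𝟙_ (Over (Spec (CommRingCat.of k)))) G).left
          ((toUnit T ⊗ₘ 𝟙 G).left p) = (snd T G).left p := by
        intro p
        rw [← Scheme.Hom.comp_apply, ← Over.comp_left, tensorHom_snd, Category.comp_id]
      have h4 : (snd T G).left (e.inv w) = g₀ := by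
        rw [← hsnd, h3, hg']
      rw [h4]
      exact hg₀
    · rw [← Scheme.Hom.comp_apply, sq.isoPullback_inv_fst, hw1]
  · rintro _ ⟨w, hw, rfl⟩
    refine ⟨(snd T G).left w, hw, ?_⟩
    rw [← Scheme.Hom.comp_apply, ← Scheme.Hom.comp_apply, ← Over.comp_left, ← Over.comp_left,
      orb_snd_orbitMap]

include hΦ in
theorem isIrreducible_preimage_snd' (x : 𝟙_ _ ⟶ X) (T : Over (Spec (CommRingCat.of k)))
    [IrreducibleSpace T.left] :
    IsIrreducible ((snd T X).left ⁻¹' (irreducibleComponent (x.left (kpt k)))) := by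
  rw [preimage_eq_image a hΦ x T]
  exact (isIrreducible_preimage_snd G T).image _
    (orb a (toUnit T ≫ x)).left.continuous.continuousOn

include hΦ in
/-- the form used in the statements. -/
theorem isIrreducible_preimage_fst (x : 𝟙_ _ ⟶ X) (K : Type u) [Field K] [Algebra k K] :
    IsIrreducible ((pullback.fst X.hom (Spec.map (CommRingCat.ofHom (algebraMap k K)))).base ⁻¹'
      (irreducibleComponent (x.left (kpt k)))) := by
  let T : Over (Spec (CommRingCat.of k)) :=
    Over.mk (Spec.map (CommRingCat.ofHom (algebraMap k K)))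
  have : IrreducibleSpace T.left := inferInstanceAs (IrreducibleSpace (Spec (CommRingCat.of K)))
  have h := isIrreducible_preimage_snd' a hΦ x T
  let e := pullbackSymmetry X.hom (Spec.map (CommRingCat.ofHom (algebraMap k K)))
  have hs : (pullback.fst X.hom (Spec.map (CommRingCat.ofHom (algebraMap k K)))).base ⁻¹'
      (irreducibleComponent (x.left (kpt k))) =
      e.inv '' ((snd T X).left ⁻¹' (irreducibleComponent (x.left (kpt k)))) := by
    ext p
    constructor
    · intro hp
      refine ⟨e.hom p, ?_, ?_⟩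
      · show (snd T X).left (e.hom p) ∈ irreducibleComponent (x.left (kpt k))
        have he : e.hom ≫ pullback.snd T.hom X.hom =
            pullback.fst X.hom (Spec.map (CommRingCat.ofHom (algebraMap k K))) :=
          pullbackSymmetry_hom_comp_snd _ _
        rw [Over.snd_left, ← Scheme.Hom.comp_apply, he]
        exact hp
      · rw [← Scheme.Hom.comp_apply, e.hom_inv_id]
        rfl
    · rintro ⟨p', hp', rfl⟩
      show (pullback.fst X.hom (Spec.map (CommRingCat.ofHom (algebraMap k K)))) (e.inv p') ∈
        irreducibleComponent (x.left (kpt k))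
      have he : e.inv ≫ pullback.fst X.hom (Spec.map (CommRingCat.ofHom (algebraMap k K))) =
          pullback.snd T.hom X.hom :=
        pullbackSymmetry_inv_comp_fst _ _
      rw [← Scheme.Hom.comp_apply, he]
      rw [Set.mem_preimage, Over.snd_left] at hp'
      exact hp'
  rw [hs]
  exact h.image _ e.inv.continuous.continuousOn

include hΦ in
/-- uniqueness of components through a point over any field extension. -/
theorem existsUnique_component (K : Type u) [Field K] [Algebra k K]
    (z : ↥(pullback X.hom (Spec.map (CommRingCat.ofHom (algebraMap k K))))) :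
    ∃! C, C ∈ irreducibleComponents
      ↥(pullback X.hom (Spec.map (CommRingCat.ofHom (algebraMap k K)))) ∧ z ∈ C := by
  let T : Over (Spec (CommRingCat.of k)) :=
    Over.mk (Spec.map (CommRingCat.ofHom (algebraMap k K)))
  have : Subsingleton T.left := inferInstanceAs (Subsingleton (Spec (CommRingCat.of K)))
  have : IsIntegral T.left := inferInstanceAs (IsIntegral (Spec (CommRingCat.of K)))
  let e := pullbackSymmetry X.hom (Spec.map (CommRingCat.ofHom (algebraMap k K)))
  let eh := Scheme.homeoOfIso e.symm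
  have h := uniqueComp_tensor a hΦ (T := T) (e.hom z)
  have h' := h.of_homeomorph eh
  have hz : eh (e.hom z) = z := by
    change e.inv (e.hom z) = z
    rw [← Scheme.Hom.comp_apply, e.hom_inv_id]
    rfl
  rw [hz] at h'
  refine ⟨irreducibleComponent z, ⟨irreducibleComponent_mem_irreducibleComponents z,
    mem_irreducibleComponent⟩, ?_⟩
  rintro C ⟨hC, hzC⟩
  exact h' C hC _ (irreducibleComponent_mem_irreducibleComponents z) hzC mem_irreducibleComponent

end Groth.Agent.Lib.Helper70.HomogE
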