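import Mathlib

/-!
# Quotient of a multivariate polynomial ring by a polynomial with invertible leading coefficient

For a monomial order `m` and `b : MvPolynomial σ R` with `IsUnit (m.leadingCoeff b)`, the quotient
`MvPolynomial σ R ⧸ Ideal.span {b}` is a free `R`-module: the monomials not divisible by the leading
monomial of `b` map to a basis.
-/

set_option autoImplicit false

namespace Groth.Agent.Lib.Helper70

open MvPolynomial

variable {σ R : Type*} [CommRing R] (m : MonomialOrder σ)

/-- exponents not divisible by the leading exponent of `b` -/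
def redSet (b : MvPolynomial σ R) : Set (σ →₀ ℕ) := {c | ¬ (m.degree b ≤ c)}

/-- The linear map from the span of the reduced monomials to the quotient. -/
noncomputable def redToQuot (b : MvPolynomial σ R) :
    restrictSupport R (redSet m b) →ₗ[R] (MvPolynomial σ R ⧸ Ideal.span {b}) :=
  (Ideal.Quotient.mkₐ R (Ideal.span {b})).toLinearMap ∘ₗ (restrictSupport R (redSet m b)).subtype

lemma redToQuot_apply (b : MvPolynomial σ R) (x : restrictSupport R (redSet m b)) :
    redToQuot m b x = Ideal.Quotient.mk (Ideal.span {b}) (x : MvPolynomial σ R) := rfl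

lemma redToQuot_surjective {b : MvPolynomial σ R} (hb : IsUnit (m.leadingCoeff b)) :
    Function.Surjective (redToQuot m b) := by
  intro q
  obtain ⟨f, rfl⟩ := Ideal.Quotient.mk_surjective q
  obtain ⟨g, r, hf, -, hr⟩ := m.div_single hb f
  refine ⟨⟨r, ?_⟩, ?_⟩
  · rw [mem_restrictSupport_iff]
    intro c hc
    exact hr c (by simpa using hc)
  · rw [redToQuot_apply]
    show Ideal.Quotient.mk _ r = Ideal.Quotient.mk _ f
    rw [Ideal.Quotient.eq, hf]
    rw [Ideal.mem_span_singleton']
    exact ⟨-g, by ring⟩

lemma redToQuot_injective {b : MvPolynomial σ R} (hb : IsUnit (m.leadingCoeff b)) :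
    Function.Injective (redToQuot m b) := by
  rw [← LinearMap.ker_eq_bot, LinearMap.ker_eq_bot']
  rintro ⟨r, hr⟩ h0
  rw [redToQuot_apply, Ideal.Quotient.eq_zero_iff_mem, Ideal.mem_span_singleton'] at h0
  obtain ⟨g, hg⟩ := h0
  simp only at hg
  have hbnzd : m.leadingCoeff b ∈ nonZeroDivisors R := hb.mem_nonZeroDivisors
  by_cases hg0 : g = 0
  · apply Subtype.ext
    simp only [ZeroMemClass.coe_zero]
    rw [← hg, hg0, zero_mul]
  · exfalso
    have hdeg : m.degree (b * g) = m.degree b + m.degree g :=
      m.degree_mul_of_left_mem_nonZeroDivisors hbnzd hg0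
    have hbg : b * g ≠ 0 := by
      have hnz := m.mem_nonZeroDivisors_of_leadingCoeff_mem_nonZeroDivisors hbnzd
      intro h
      apply hg0
      have := (mem_nonZeroDivisors_iff_right.mp hnz) g (by rw [mul_comm]; exact h)
      exact this
    have hmem : m.degree (b * g) ∈ (b * g).support := m.degree_mem_support hbg
    rw [mem_restrictSupport_iff] at hr
    have : m.degree (b * g) ∈ redSet m b := hr (by rw [← hg, mul_comm]; exact_mod_cast hmem)
    rw [hdeg] at this
    exact this le_self_add

/-- The reduced monomials give the quotient. -/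
noncomputable def redEquivQuot {b : MvPolynomial σ R} (hb : IsUnit (m.leadingCoeff b)) :
    restrictSupport R (redSet m b) ≃ₗ[R] (MvPolynomial σ R ⧸ Ideal.span {b}) :=
  LinearEquiv.ofBijective (redToQuot m b) ⟨redToQuot_injective m hb, redToQuot_surjective m hb⟩

theorem free_quotient_of_isUnit_leadingCoeff {b : MvPolynomial σ R} (hb : IsUnit (m.leadingCoeff b)) :
    Module.Free R (MvPolynomial σ R ⧸ Ideal.span {b}) :=
  Module.Free.of_equiv' (Module.Free.of_basis (basisRestrictSupport R (redSet m b))) (redEquivQuot m hb)

theorem nontrivial_quotient_of_isUnit_leadingCoeff [Nontrivial R] {b : MvPolynomial σ R}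
    (hb : IsUnit (m.leadingCoeff b)) (hdeg : m.degree b ≠ 0) :
    Nontrivial (MvPolynomial σ R ⧸ Ideal.span {b}) := by
  classical
  have h1 : (1 : MvPolynomial σ R) ∈ restrictSupport R (redSet m b) := by
    rw [mem_restrictSupport_iff]
    intro c hc
    have hc0 : c = 0 := by
      have : c ∈ (1 : MvPolynomial σ R).support := by exact_mod_cast hc
      rw [show (1 : MvPolynomial σ R) = monomial 0 1 from rfl, support_monomial] at this
      simpa using this
    subst hc0
    show ¬ (m.degree b ≤ 0)
    intro hle
    exact hdeg (le_antisymm hle zero_le)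
  have hne : (redEquivQuot m hb ⟨1, h1⟩) ≠ redEquivQuot m hb 0 := by
    intro h
    have := (redEquivQuot m hb).injective h
    have h2 : (1 : MvPolynomial σ R) = 0 := congrArg Subtype.val this
    exact one_ne_zero h2
  exact ⟨⟨_, _, hne⟩⟩

end Groth.Agent.Lib.Helper70
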