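import Mathlib
import Groth.Agent.Lib.Helper70.NeronClosA

/-!
# Generic fibre over `Spec A` for an arbitrary fraction field `K` of the domain `A`
-/

set_option autoImplicit false

namespace Groth.Agent.Lib.Helper70.NeronClosC

universe u

open AlgebraicGeometry CategoryTheory Limits Opposite TopologicalSpace
open Groth.Agent.Lib.Helper70.GenFibE Groth.Agent.Lib.Helper70.NeronClosA

variable (A K : Type u) [CommRing A] [IsDomain A] [Field K] [Algebra A K] [IsFractionRing A K]

/-- the generic point morphism for a fraction field `K`. -/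
noncomputable abbrev genPtK : Spec (CommRingCat.of K) ⟶ Spec (CommRingCat.of A) :=
  Spec.map (CommRingCat.ofHom (algebraMap A K))

theorem exists_iso_fromSpecStalk_aux (x : Spec (CommRingCat.of A)) (hx : x.asIdeal = ⊥) :
    ∃ ψ : (Spec (CommRingCat.of A)).presheaf.stalk x ⟶ CommRingCat.of K,
      IsIso ψ ∧ Spec.map ψ ≫ (Spec (CommRingCat.of A)).fromSpecStalk x = genPtK A K := by
  have h1 : IsLocalization.AtPrime ((Spec.structureSheaf A).presheaf.stalk x) x.asIdeal :=
    StructureSheaf.IsLocalization.to_stalk A x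
  have hM : x.asIdeal.primeCompl = nonZeroDivisors A := by
    ext a
    rw [Ideal.mem_primeCompl_iff, hx, Ideal.mem_bot, mem_nonZeroDivisors_iff_ne_zero]
  have h2 : IsLocalization x.asIdeal.primeCompl K := by
    rw [hM]; infer_instance
  let e : (Spec.structureSheaf A).presheaf.stalk x ≃ₐ[A] K :=
    IsLocalization.algEquiv x.asIdeal.primeCompl _ _
  refine ⟨(e.toRingEquiv.toCommRingCatIso).hom, inferInstance, ?_⟩
  have key : StructureSheaf.toStalk A x ≫ (e.toRingEquiv.toCommRingCatIso).hom =
      CommRingCat.ofHom (algebraMap A K) := by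
    ext r
    exact e.commutes r
  rw [Spec.fromSpecStalk_eq']
  have := congrArg Spec.map key
  rw [Spec.map_comp] at this
  exact this

theorem exists_iso_fromSpecStalk :
    ∃ ψ : (Spec (CommRingCat.of A)).presheaf.stalk (genericPoint (Spec (CommRingCat.of A))) ⟶
        CommRingCat.of K,
      IsIso ψ ∧ Spec.map ψ ≫
        (Spec (CommRingCat.of A)).fromSpecStalk (genericPoint (Spec (CommRingCat.of A))) =
          genPtK A K := by
  apply exists_iso_fromSpecStalk_aux
  rw [genericPoint_eq_bot_of_affine]
  rfl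

/-- The generic fibre is schematically dense in a flat scheme over `Spec A`. -/
theorem ker_eq_bot_of_isPullback_genPtK {X D : Scheme.{u}} (f : X ⟶ Spec (CommRingCat.of A))
    [Flat f] (d : D ⟶ X) (s : D ⟶ Spec (CommRingCat.of K))
    (H : IsPullback d s f (genPtK A K)) : d.ker = ⊥ := by
  obtain ⟨ψ, hψ, h⟩ := exists_iso_fromSpecStalk A K
  have sq : IsPullback (Spec.map ψ) (genPtK A K)
      ((Spec (CommRingCat.of A)).fromSpecStalk (genericPoint (Spec (CommRingCat.of A))))
      (𝟙 (Spec (CommRingCat.of A))) :=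
    IsPullback.of_horiz_isIso ⟨by rw [h, Category.comp_id]⟩
  have H2 := (H.flip.paste_horiz sq).flip
  rw [Category.comp_id] at H2
  have hd : d = H2.isoPullback.hom ≫ pullback.fst f
      ((Spec (CommRingCat.of A)).fromSpecStalk (genericPoint (Spec (CommRingCat.of A)))) :=
    (H2.isoPullback_hom_fst).symm
  rw [hd, Scheme.Hom.ker_comp_of_isIso]
  exact ker_fst_fromSpecStalk_eq_bot f

/-- a morphism from a flat `A`-scheme to a separated `A`-scheme is determined by its generic
fibre. -/
theorem hom_ext_of_genericFibre (X Y : Over (Spec (CommRingCat.of A))) [Flat X.hom]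
    [IsSeparated Y.hom] (f g : X ⟶ Y)
    (h : (Over.pullback (genPtK A K)).map f = (Over.pullback (genPtK A K)).map g) : f = g := by
  let d := pullback.fst X.hom (genPtK A K)
  have hd : d.ker = ⊥ :=
    ker_eq_bot_of_isPullback_genPtK A K X.hom d (pullback.snd X.hom (genPtK A K))
      (IsPullback.of_hasPullback _ _)
  have hf : ∀ k : X ⟶ Y, ((Over.pullback (genPtK A K)).map k).left ≫
      pullback.fst Y.hom (genPtK A K) = d ≫ k.left :=
    fun k => pullback.lift_fst _ _ _
  have hdfg : d ≫ f.left = d ≫ g.left := by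
    rw [← hf f, ← hf g, h]
  let DK : Over (Spec (CommRingCat.of A)) := Over.mk (d ≫ X.hom)
  let dO : DK ⟶ X := Over.homMk d rfl
  have hdO : dO ≫ f = dO ≫ g := Over.OverMorphism.ext hdfg
  let a : DK ⟶ equalizer f g := equalizer.lift dO hdO
  have ha : d ≫ 𝟙 X.left = a.left ≫ (equalizer.ι f g).left := by
    rw [Category.comp_id, ← Over.comp_left, equalizer.lift_ι]
    rfl
  obtain ⟨m, hm⟩ := exists_lift_of_ker_eq_bot (equalizer.ι f g).left (𝟙 X.left) d hd a.left ha
  apply Over.OverMorphism.ext
  have h1 : (equalizer.ι f g).left ≫ f.left = (equalizer.ι f g).left ≫ g.left := by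
    rw [← Over.comp_left, ← Over.comp_left, equalizer.condition]
  calc f.left = (m ≫ (equalizer.ι f g).left) ≫ f.left := by rw [hm, Category.id_comp]
    _ = (m ≫ (equalizer.ι f g).left) ≫ g.left := by
        rw [Category.assoc, h1, ← Category.assoc]
    _ = g.left := by rw [hm, Category.id_comp]

end Groth.Agent.Lib.Helper70.NeronClosC
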