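import Mathlib
import Groth.Agent.Lib.Helper70.HomogE
import Groth.Agent.Lib.Helper70.NeronClosB
import Groth.Agent.Lib.Helper70.CartierG

/-!
# Orbit maps: the stabilizer of a rational point and the torsor square
-/

set_option autoImplicit false
universe u
open CategoryTheory CategoryTheory.Limits MonoidalCategory CartesianMonoidalCategory MonObj GrpObj AlgebraicGeometry

namespace Groth.Agent.Lib.Helper70.OrbitA

open HomogA HomogD HomogE

variable {k : Type u} [Field k] {G X : Over (Spec (CommRingCat.of k))} [GrpObj G]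
  (a : AlgGrp.Action G X) (x : 𝟙_ (Over (Spec (CommRingCat.of k))) ⟶ X)

theorem mul_orbitMap {T : Over (Spec (CommRingCat.of k))} (g h : T ⟶ G) :
    (g * h) ≫ a.orbitMap x = lift g (h ≫ a.orbitMap x) ≫ a.act := by
  rw [comp_orbitMap, act_mul, ← comp_orbitMap]

theorem inv_orbitMap {T : Over (Spec (CommRingCat.of k))} (g : T ⟶ G)
    (hg : g ≫ a.orbitMap x = toUnit T ≫ x) : g⁻¹ ≫ a.orbitMap x = toUnit T ≫ x := by
  calc g⁻¹ ≫ a.orbitMap x = lift g⁻¹ (toUnit T ≫ x) ≫ a.act := comp_orbitMap a x _
    _ = lift g⁻¹ (g ≫ a.orbitMap x) ≫ a.act := by rw [hg]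
    _ = lift g⁻¹ (lift g (toUnit T ≫ x) ≫ a.act) ≫ a.act := by rw [comp_orbitMap]
    _ = toUnit T ≫ x := inv_act_act a g _

theorem inv_mul_orbitMap {T : Over (Spec (CommRingCat.of k))} (g h : T ⟶ G)
    (hgh : g ≫ a.orbitMap x = h ≫ a.orbitMap x) :
    (g⁻¹ * h) ≫ a.orbitMap x = toUnit T ≫ x := by
  rw [mul_orbitMap, ← hgh, comp_orbitMap, inv_act_act]

/-- the stabilizer of `x`. -/
noncomputable abbrev Stab : Over (Spec (CommRingCat.of k)) :=
  Over.mk (pullback.fst (a.orbitMap x).left x.left ≫ G.hom)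

/-- the inclusion of the stabilizer. -/
noncomputable def iS : Stab a x ⟶ G := Over.homMk (pullback.fst (a.orbitMap x).left x.left) rfl

theorem snd_eq : pullback.snd (a.orbitMap x).left x.left = (Stab a x).hom := by
  have h := pullback.condition (f := (a.orbitMap x).left) (g := x.left)
  have h2 := congrArg (· ≫ X.hom) h
  simp only [Category.assoc, Over.w] at h2
  have h3 : (𝟙_ (Over (Spec (CommRingCat.of k)))).hom = 𝟙 _ := rfl
  rw [h3, Category.comp_id] at h2
  exact h2.symm

theorem iS_orbitMap : iS a x ≫ a.orbitMap x = toUnit _ ≫ x := by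
  apply Over.OverMorphism.ext
  change pullback.fst _ _ ≫ (a.orbitMap x).left = (toUnit (Stab a x)).left ≫ x.left
  rw [Over.toUnit_left, ← snd_eq, pullback.condition]

theorem exists_lift_iS {T : Over (Spec (CommRingCat.of k))} (g : T ⟶ G)
    (hg : g ≫ a.orbitMap x = toUnit T ≫ x) : ∃ l : T ⟶ Stab a x, l ≫ iS a x = g := by
  have h : g.left ≫ (a.orbitMap x).left = T.hom ≫ x.left := by
    have := congrArg (fun f => f.left) hg
    simpa [Over.toUnit_left] using this
  refine ⟨Over.homMk (pullback.lift g.left T.hom h) ?_, ?_⟩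
  · change pullback.lift g.left T.hom h ≫ pullback.fst _ _ ≫ G.hom = T.hom
    rw [pullback.lift_fst_assoc, Over.w]
  · apply Over.OverMorphism.ext
    change pullback.lift g.left T.hom h ≫ pullback.fst _ _ = g.left
    exact pullback.lift_fst _ _ _

instance : Mono (iS a x) := by
  have hw : x.left ≫ X.hom = 𝟙 _ := Over.w x
  have h1 : Mono x.left := (SplitMono.mk X.hom hw).mono
  have h2 : Mono (pullback.fst (a.orbitMap x).left x.left) := inferInstance
  have h3 : Mono (iS a x).left := h2
  exact Over.mono_of_mono_left _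

/-- the stabilizer is a subgroup. -/
theorem exists_grpObj_stab :
    ∃ str : GrpObj (Stab a x), @IsMonHom _ _ _ (Stab a x) G str.toMonObj _ (iS a x) := by
  obtain ⟨e, he⟩ := exists_lift_iS a x η[G] (by
    rw [unit_orbitMap, toUnit_unique (toUnit (𝟙_ (Over (Spec (CommRingCat.of k))))) (𝟙 _),
      Category.id_comp])
  obtain ⟨m, hm⟩ := exists_lift_iS a x ((iS a x ⊗ₘ iS a x) ≫ μ[G]) (by
    have h1 : (iS a x ⊗ₘ iS a x) ≫ μ[G] =
        (fst (Stab a x) (Stab a x) ≫ iS a x) * (snd (Stab a x) (Stab a x) ≫ iS a x) := by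
      rw [Hom.mul_def, lift_fst_comp_snd_comp]
    rw [h1, mul_orbitMap, Category.assoc, iS_orbitMap, ← Category.assoc,
      toUnit_unique (snd (Stab a x) (Stab a x) ≫ toUnit (Stab a x)) (toUnit _), ← comp_orbitMap,
      Category.assoc, iS_orbitMap, ← Category.assoc]
    congr 1)
  obtain ⟨v, hv⟩ := exists_lift_iS a x (iS a x ≫ ι[G]) (by
    rw [← Hom.inv_def]
    exact inv_orbitMap a x _ (iS_orbitMap a x))
  exact NeronClosB.exists_grpObj_of_mono (iS a x) e m v he hm hv

instance [LocallyOfFiniteType X.hom] [LocallyOfFiniteType G.hom] :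
    LocallyOfFiniteType (Stab a x).hom := by
  have hw : x.left ≫ X.hom = 𝟙 _ := Over.w x
  have h0 : LocallyOfFiniteType (x.left ≫ X.hom) := by rw [hw]; infer_instance
  have h1 : LocallyOfFiniteType x.left := locallyOfFiniteType_of_comp x.left X.hom
  change LocallyOfFiniteType (pullback.fst (a.orbitMap x).left x.left ≫ G.hom)
  infer_instance

/-- in characteristic zero, stabilizers are smooth. -/
theorem smooth_stab [CharZero k] [LocallyOfFiniteType X.hom] [LocallyOfFiniteType G.hom] :
    Smooth (Stab a x).hom := by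
  obtain ⟨str, -⟩ := exists_grpObj_stab a x
  exact CartierG.smooth_of_charZero k (Stab a x)

/-- the multiplication map `G × Stab → G`. -/
noncomputable def mS : G ⊗ Stab a x ⟶ G := fst G (Stab a x) * (snd G (Stab a x) ≫ iS a x)

theorem mS_orbitMap : mS a x ≫ a.orbitMap x = fst G (Stab a x) ≫ a.orbitMap x := by
  unfold mS
  rw [mul_orbitMap, Category.assoc, iS_orbitMap, ← Category.assoc,
    toUnit_unique (snd G (Stab a x) ≫ toUnit (Stab a x)) (toUnit _), ← comp_orbitMap]

/-- the orbit map is a torsor under the stabilizer: the square is cartesian. -/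
theorem isPullback_torsor :
    IsPullback (fst G (Stab a x)) (mS a x) (a.orbitMap x) (a.orbitMap x) := by
  classical
  have hlift : ∀ s : PullbackCone (a.orbitMap x) (a.orbitMap x),
      ∃ l : s.pt ⟶ Stab a x, l ≫ iS a x = s.fst⁻¹ * s.snd := fun s =>
    exists_lift_iS a x _ (inv_mul_orbitMap a x s.fst s.snd s.condition)
  refine ⟨⟨(mS_orbitMap a x).symm⟩, ⟨PullbackCone.IsLimit.mk _
    (fun s => lift s.fst (hlift s).choose) ?_ ?_ ?_⟩⟩
  · intro s
    exact lift_fst _ _
  · intro s
    unfold mS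
    rw [MonObj.comp_mul, lift_fst, ← Category.assoc, lift_snd, (hlift s).choose_spec,
      mul_inv_cancel_left]
  · intro s m h1 h2
    apply CartesianMonoidalCategory.hom_ext
    · rw [lift_fst]
      exact h1
    · rw [lift_snd, ← cancel_mono (iS a x), (hlift s).choose_spec, ← h1, ← h2]
      unfold mS
      rw [MonObj.comp_mul, inv_mul_cancel_left, Category.assoc]

end Groth.Agent.Lib.Helper70.OrbitA
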