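import Mathlib
import Groth.Agent.Lib.Helper70.OrbitA
import Groth.Agent.Lib.Helper41.TransitiveFlat

/-!
# Orbit maps of homogeneous spaces in characteristic zero are smooth
-/

set_option autoImplicit false
universe u
open CategoryTheory CategoryTheory.Limits MonoidalCategory CartesianMonoidalCategory MonObj GrpObj AlgebraicGeometry

namespace Groth.Agent.Lib.Helper70.OrbitB

open HomogA HomogD HomogE OrbitA

variable {k : Type u} [Field k] {G X : Over (Spec (CommRingCat.of k))} [GrpObj G]
  (a : AlgGrp.Action G X) (x : 𝟙_ (Over (Spec (CommRingCat.of k))) ⟶ X)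

/-- a faithfully flat quasi-compact orbit map is smooth in characteristic zero. -/
theorem smooth_orbitMap_of_flat_surjective [CharZero k] [LocallyOfFiniteType X.hom]
    [LocallyOfFiniteType G.hom] (hflat : Flat (a.orbitMap x).left)
    (hsurj : Surjective (a.orbitMap x).left) [QuasiCompact (a.orbitMap x).left] :
    Smooth (a.orbitMap x).left := by
  have sq : IsPullback (fst G (Stab a x)).left (mS a x).left (a.orbitMap x).left
      (a.orbitMap x).left := (isPullback_torsor a x).map (Over.forget _)
  have hst : Smooth (Stab a x).hom := smooth_stab a x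
  have hfst : Smooth (fst G (Stab a x)).left :=
    MorphismProperty.of_isPullback (P := @Smooth) (isPullback_prod G (Stab a x)).flip hst
  exact MorphismProperty.of_isPullback_of_descendsAlong (P := @Smooth)
    (Q := @Surjective ⊓ @Flat ⊓ @QuasiCompact) sq ⟨⟨hsurj, hflat⟩, inferInstance⟩ hfst

/-- orbit maps are equivariant for left translation. -/
theorem whiskerLeft_orbitMap_act :
    (G ◁ a.orbitMap x) ≫ a.act = (selfAct (G := G)).act ≫ a.orbitMap x := by
  change _ = μ[G] ≫ a.orbitMap x
  have h1 : μ[G] = fst G G * snd G G := by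
    rw [Hom.mul_def, lift_fst_snd, Category.id_comp]
  have h2 : G ◁ a.orbitMap x = lift (fst G G) (snd G G ≫ a.orbitMap x) := by
    apply CartesianMonoidalCategory.hom_ext <;> simp
  rw [h1, mul_orbitMap, h2]

/-- the base field as a trivial extension. -/
noncomputable def epsIso :
    Groth.Agent.Lib.Helper41.TransitiveFlat.SpK k k ≅ 𝟙_ (Over (Spec (CommRingCat.of k))) :=
  Over.isoMk (Iso.refl _) (by
    change 𝟙 _ ≫ 𝟙 _ = Spec.map (CommRingCat.ofHom (algebraMap k k))
    rw [Category.id_comp, Algebra.algebraMap_self]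
    exact (Spec.map_id _).symm)

/-- the main theorem. -/
theorem smooth_orbitMap [IsAlgClosed k] [CharZero k] [LocallyOfFiniteType G.hom]
    [QuasiCompact G.hom] [Nonempty G.left] [IsReduced X.left] [QuasiSeparated X.hom]
    [LocallyOfFiniteType X.hom]
    (htrans : ∀ y y' : 𝟙_ (Over (Spec (CommRingCat.of k))) ⟶ X,
      ∃ σ : 𝟙_ (Over (Spec (CommRingCat.of k))) ⟶ G, lift σ y ≫ a.act = y') :
    Smooth (a.orbitMap x).left := by
  have hf := whiskerLeft_orbitMap_act a x
  have htr : ∀ y y' : Groth.Agent.Lib.Helper41.TransitiveFlat.SpK k k ⟶ X,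
      ∃ g : Groth.Agent.Lib.Helper41.TransitiveFlat.SpK k k ⟶ G, lift g y ≫ a.act = y' := by
    intro y y'
    obtain ⟨σ, hσ⟩ := htrans ((epsIso (k := k)).inv ≫ y) ((epsIso (k := k)).inv ≫ y')
    refine ⟨(epsIso (k := k)).hom ≫ σ, ?_⟩
    have : lift ((epsIso (k := k)).hom ≫ σ) y =
        (epsIso (k := k)).hom ≫ lift σ ((epsIso (k := k)).inv ≫ y) := by
      apply CartesianMonoidalCategory.hom_ext <;> simp
    rw [this, Category.assoc, hσ, Iso.hom_inv_id_assoc]
  obtain ⟨hflat, hsurj⟩ :=
    Groth.Agent.Lib.Helper41.TransitiveFlat.flat_surjective_of_transitive k k G G X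
      (selfAct (G := G)) a (a.orbitMap x) hf htr
  have hqc : QuasiCompact ((a.orbitMap x).left ≫ X.hom) := by
    rw [Over.w]
    infer_instance
  have : QuasiCompact (a.orbitMap x).left := QuasiCompact.of_comp (a.orbitMap x).left X.hom
  exact smooth_orbitMap_of_flat_surjective a x hflat hsurj

end Groth.Agent.Lib.Helper70.OrbitB
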