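import Mathlib
import Groth.Agent.Lib.Helper70.AWNLocalization

universe u

namespace Groth.Agent.Lib.Helper70

open CategoryTheory AlgebraicGeometry Polynomial

namespace PerfAWN
open SpecUH AWNRing AWNLoc Groth.Agent.Lib.Helper37

theorem isReduced_of_perfectRing (p : ℕ) [Fact p.Prime] (R : Type u) [CommRing R] [CharP R p]
    [PerfectRing R p] : IsReduced R := by
  constructor
  rintro x ⟨n, hn⟩
  have h1 : x ^ p ^ n = 0 := by
    rw [← Nat.sub_add_cancel ((n.lt_pow_self (Fact.out : p.Prime).one_lt).le), pow_add, hn,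
      mul_zero]
  have h2 : iterateFrobeniusEquiv R p n x = iterateFrobeniusEquiv R p n 0 := by
    rw [iterateFrobeniusEquiv_def, iterateFrobeniusEquiv_def, h1,
      zero_pow (pow_ne_zero _ (Fact.out : p.Prime).ne_zero)]
  exact (iterateFrobeniusEquiv R p n).injective h2

theorem isAWNRing_of_perfectRing (p : ℕ) [Fact p.Prime] (R : Type u) [CommRing R] [CharP R p]
    [PerfectRing R p] : HTop.IsAWNRing R := by
  have hp : p.Prime := Fact.out
  have hred : IsReduced R := isReduced_of_perfectRing p R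
  have hfinj : Function.Injective (frobenius R p) := injective_frobenius R p
  rw [isAWNRing_iff, isSeminormalRing_iff]
  refine ⟨⟨hred, fun x y hxy => ?_⟩, fun l hl x y hxy => ?_⟩
  · obtain ⟨i, j, hij⟩ : ∃ i j : ℕ, p = 2 * i + 3 * j := by
      rcases hp.eq_two_or_odd with h | h
      · exact ⟨1, 0, by omega⟩
      · have : 3 ≤ p := by
          have := hp.two_le
          omega
        exact ⟨(p - 3) / 2, 1, by omega⟩
    obtain ⟨a, ha⟩ := surjective_frobenius R p (x ^ i * y ^ j)
    rw [frobenius_def] at ha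
    refine ⟨a, hfinj ?_, hfinj ?_⟩
    · rw [frobenius_def, frobenius_def, ← pow_mul, mul_comm, pow_mul, ha, mul_pow, ← pow_mul,
        ← pow_mul]
      conv_lhs => rw [hij, pow_add, pow_mul x 3 j, hxy]
      ring
    · rw [frobenius_def, frobenius_def, ← pow_mul, mul_comm, pow_mul, ha, mul_pow, ← pow_mul,
        ← pow_mul]
      rw [mul_comm i 3, pow_mul x 3 i, hxy, hij, pow_add]
      ring
  · by_cases hlp : l = p
    · subst hlp
      have h0 : ((l : ℕ) : R) = 0 := CharP.cast_eq_zero R l
      rw [h0, zero_pow hl.ne_zero, zero_mul] at hxy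
      have hy : y = 0 := (pow_eq_zero_iff hl.ne_zero).mp hxy.symm
      obtain ⟨a, ha⟩ := surjective_frobenius R l x
      rw [frobenius_def] at ha
      exact ⟨a, ha.symm, by rw [h0, zero_mul, hy]⟩
    · have hcop : Nat.Coprime l p := (Nat.coprime_primes hl hp).mpr hlp
      have hunit : IsUnit ((l : ℕ) : R) := by
        obtain ⟨u, v, huv⟩ : ∃ u v : ℤ, u * l + v * p = 1 := by
          have := Nat.Coprime.isCoprime hcop
          obtain ⟨u, v, h⟩ := this
          exact ⟨u, v, h⟩
        have h1 := congrArg (Int.cast : ℤ → R) huv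
        push_cast at h1
        rw [CharP.cast_eq_zero R p, mul_zero, add_zero] at h1
        exact IsUnit.of_mul_eq_one _ (by rw [mul_comm]; exact h1)
      obtain ⟨u, hu⟩ := hunit
      refine ⟨(u⁻¹ : Rˣ) * y, ?_, ?_⟩
      · rw [mul_pow, ← hxy, ← hu, ← mul_assoc, ← mul_pow, Units.inv_mul, one_pow, one_mul]
      · rw [← hu, ← mul_assoc, Units.mul_inv, one_mul]

theorem isUnivHomeo_of (p : ℕ) [Fact p.Prime] (A : Type u) [CommRing A] [CharP A p] :
    FlatMor.IsUnivHomeo (Spec.map (CommRingCat.ofHom (PerfectClosure.of A p))) := by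
  have hp : p.Prime := Fact.out
  have hpow : ∀ (n : ℕ) (a : A), (PerfectClosure.mk A p (n, a)) ^ p ^ n = PerfectClosure.of A p a := by
    intro n a
    rw [← PerfectClosure.iterate_frobenius_mk, ← iterateFrobenius_def, coe_iterateFrobenius]
  rw [isUnivHomeo_SpecMap_iff]
  refine ⟨?_, ?_, ?_⟩
  · intro x
    induction x using PerfectClosure.induction_on with
    | _ x =>
      obtain ⟨n, a⟩ := x
      refine ⟨X ^ p ^ n - C a, monic_X_pow_sub_C a (pow_ne_zero n hp.ne_zero), ?_⟩
      rw [eval₂_sub, eval₂_pow, eval₂_X, eval₂_C, hpow, sub_self]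
  · intro a ha
    rw [RingHom.mem_ker, PerfectClosure.of_apply, PerfectClosure.zero_def,
      PerfectClosure.mk_eq_iff] at ha
    obtain ⟨z, hz⟩ := ha
    simp only [zero_add, ← coe_iterateFrobenius, map_zero] at hz
    rw [mem_nilradical]
    exact ⟨p ^ z, by rw [← iterateFrobenius_def]; exact hz⟩
  · intro K _ g₁ g₂ hg
    have hpK : ((p : ℕ) : K) = 0 := by
      have h1 := map_natCast g₁ p
      rw [CharP.cast_eq_zero (PerfectClosure A p) p, map_zero] at h1
      exact h1.symm
    have hK : CharP K p := (CharP.charP_iff_prime_eq_zero hp).mpr hpK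
    apply RingHom.ext
    intro x
    induction x using PerfectClosure.induction_on with
    | _ x =>
      obtain ⟨n, a⟩ := x
      have h1 : g₁ (PerfectClosure.mk A p (n, a)) ^ p ^ n = g₂ (PerfectClosure.mk A p (n, a)) ^ p ^ n := by
        rw [← map_pow, ← map_pow, hpow]
        exact congrFun (congrArg DFunLike.coe hg) a
      have h2 : (g₁ (PerfectClosure.mk A p (n, a)) - g₂ (PerfectClosure.mk A p (n, a))) ^ p ^ n = 0 := by
        rw [sub_pow_char_pow, h1, sub_self]
      exact sub_eq_zero.mp ((pow_eq_zero_iff (pow_ne_zero n hp.ne_zero)).mp h2)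

/-- S8993 -/
theorem isRingAWN_perfectClosure (p : ℕ) [Fact p.Prime] (A : Type u) [CommRing A] [CharP A p] :
    HTop.IsRingAWN (PerfectClosure.of A p) :=
  isRingAWN_of_isAWNRing _ (isUnivHomeo_of p A) (isAWNRing_of_perfectRing p (PerfectClosure A p))

end PerfAWN

end Groth.Agent.Lib.Helper70
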