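import Mathlib

/-!
# Algebras that are directed unions of finite products of copies of the base field (helper70)

Points, idempotents, and a tube lemma.
-/

set_option autoImplicit false

namespace Groth.Agent.Lib.Helper70.ProfA

universe u

variable (k : Type u) [Field k] (A : Type u) [CommRing A] [Algebra k A]

/-- every finite subset lies in a subalgebra isomorphic to a finite product of copies of `k`. -/
def ProfAlg : Prop :=
  ∀ s : Finset A, ∃ (B : Subalgebra k A) (n : ℕ), (↑s : Set A) ⊆ (B : Set A) ∧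
    Nonempty (B ≃ₐ[k] (Fin n → k))

variable {k A}

/-- the key local structure at a prime. -/
theorem exists_idem (hA : ProfAlg k A) (t : Ideal A) [t.IsPrime] (s : Finset A) :
    ∃ e : A, IsIdempotentElem e ∧ e ∉ t ∧ ∀ a ∈ s, ∃ c : k, e * a = c • e ∧ (a ∈ t → c = 0) := by
  classical
  obtain ⟨B, n, hsB, ⟨θ⟩⟩ := hA s
  let ε : Fin n → B := fun j => θ.symm (Pi.single j 1)
  have hsum : ∑ j, (ε j : A) = 1 := by
    have h1 : ∑ j, ε j = 1 := by
      rw [← map_sum]
      have : ∑ j : Fin n, (Pi.single j (1 : k) : Fin n → k) = 1 := by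
        ext i
        simp [Finset.sum_apply, Pi.single_apply]
      rw [this, map_one]
    have := congrArg (fun b : B => (b : A)) h1
    simpa using this
  have hidem : ∀ j, IsIdempotentElem (ε j : A) := by
    intro j
    have : ε j * ε j = ε j := by
      rw [← map_mul, ← Pi.single_mul, mul_one]
    exact congrArg (fun b : B => (b : A)) this
  obtain ⟨j, hj⟩ : ∃ j, (ε j : A) ∉ t := by
    by_contra hcon
    push Not at hcon
    have : (1 : A) ∈ t := by
      rw [← hsum]
      exact t.sum_mem fun j _ => hcon j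
    exact (Ideal.IsPrime.ne_top ‹_›) ((Ideal.eq_top_iff_one t).mpr this)
  refine ⟨ε j, hidem j, hj, fun a ha => ?_⟩
  obtain ⟨b, rfl⟩ : ∃ b : B, (b : A) = a := ⟨⟨a, hsB ha⟩, rfl⟩
  have hmul : ε j * b = (θ b j) • ε j := by
    apply θ.injective
    rw [map_mul, map_smul, AlgEquiv.apply_symm_apply]
    ext i
    by_cases hij : i = j
    · subst hij; simp
    · simp [hij]
  have hmulA : (ε j : A) * (b : A) = (θ b j) • (ε j : A) :=
    congrArg (fun b : B => (b : A)) hmul
  refine ⟨θ b j, hmulA, fun hbt => ?_⟩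
  by_contra hc
  have h1 : (θ b j) • (ε j : A) ∈ t := by
    rw [← hmulA]; exact t.mul_mem_left _ hbt
  have h2 : (ε j : A) ∈ t := by
    have := t.smul_mem ((θ b j)⁻¹ • (1 : A)) h1
    rwa [smul_eq_mul, smul_mul_assoc, one_mul, smul_smul, inv_mul_cancel₀ hc, one_smul] at this
  exact hj h2

/-- every element is congruent to a constant modulo a prime. -/
theorem exists_const (hA : ProfAlg k A) (t : Ideal A) [t.IsPrime] (a : A) :
    ∃ c : k, a - algebraMap k A c ∈ t := by
  obtain ⟨e, -, het, h⟩ := exists_idem hA t {a}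
  obtain ⟨c, hc, -⟩ := h a (Finset.mem_singleton_self a)
  refine ⟨c, ?_⟩
  have : e * (a - algebraMap k A c) = 0 := by
    rw [mul_sub, hc, Algebra.smul_def, mul_comm e, sub_self]
  exact (Ideal.IsPrime.mem_or_mem ‹_› (this ▸ t.zero_mem)).resolve_left het

theorem bijective_algebraMap_quotient (hA : ProfAlg k A) (t : Ideal A) [t.IsPrime] :
    Function.Bijective (algebraMap k (A ⧸ t)) := by
  have : Nontrivial (A ⧸ t) := Ideal.Quotient.nontrivial_iff.mpr (Ideal.IsPrime.ne_top ‹_›)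
  refine ⟨(algebraMap k (A ⧸ t)).injective, fun x => ?_⟩
  obtain ⟨a, rfl⟩ := Ideal.Quotient.mk_surjective x
  obtain ⟨c, hc⟩ := exists_const hA t a
  refine ⟨c, ?_⟩
  rw [IsScalarTower.algebraMap_apply k A (A ⧸ t), Ideal.Quotient.algebraMap_eq, eq_comm,
    Ideal.Quotient.eq]
  exact hc

/-- the evaluation at a prime. -/
noncomputable def ev (hA : ProfAlg k A) (t : Ideal A) [t.IsPrime] : A →ₐ[k] k :=
  ((AlgEquiv.ofBijective (Algebra.ofId k (A ⧸ t))
    (bijective_algebraMap_quotient hA t)).symm : (A ⧸ t) →ₐ[k] k).comp (Ideal.Quotient.mkₐ k t)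

theorem ker_ev (hA : ProfAlg k A) (t : Ideal A) [t.IsPrime] :
    RingHom.ker (ev hA t : A →+* k) = t := by
  ext a
  rw [RingHom.mem_ker]
  change (AlgEquiv.ofBijective (Algebra.ofId k (A ⧸ t))
    (bijective_algebraMap_quotient hA t)).symm (Ideal.Quotient.mk t a) = 0 ↔ _
  rw [EmbeddingLike.map_eq_zero_iff, Ideal.Quotient.eq_zero_iff_mem]

theorem isMaximal (hA : ProfAlg k A) (t : Ideal A) [t.IsPrime] : t.IsMaximal := by
  rw [← ker_ev hA t]
  exact RingHom.ker_isMaximal_of_surjective _ (fun c => ⟨algebraMap k A c, (ev hA t).commutes c⟩)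

/-- finitely many elements of a prime are killed by an idempotent outside the prime. -/
theorem exists_idem_kill (hA : ProfAlg k A) (t : Ideal A) [t.IsPrime] (s : Finset A)
    (hs : ∀ a ∈ s, a ∈ t) :
    ∃ e : A, IsIdempotentElem e ∧ e ∉ t ∧ ∀ a ∈ s, e * a = 0 := by
  obtain ⟨e, he, het, h⟩ := exists_idem hA t s
  refine ⟨e, he, het, fun a ha => ?_⟩
  obtain ⟨c, hc, hc0⟩ := h a ha
  rw [hc, hc0 (hs a ha), zero_smul]

/-- idempotent basic opens form a basis of the spectrum. -/
theorem exists_idem_basicOpen_subset (hA : ProfAlg k A) (t : PrimeSpectrum A)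
    (O : Set (PrimeSpectrum A)) (hO : IsOpen O) (ht : t ∈ O) :
    ∃ e : A, IsIdempotentElem e ∧ e ∉ t.asIdeal ∧
      ((PrimeSpectrum.basicOpen e : TopologicalSpace.Opens (PrimeSpectrum A)) :
        Set (PrimeSpectrum A)) ⊆ O := by
  obtain ⟨_, ⟨a, rfl⟩, hta, haO⟩ :=
    PrimeSpectrum.isTopologicalBasis_basic_opens.exists_subset_of_mem_open ht hO
  have hat : a ∉ t.asIdeal := hta
  obtain ⟨e, he, het, h⟩ := exists_idem hA t.asIdeal {a}
  obtain ⟨c, hc, -⟩ := h a (Finset.mem_singleton_self a)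
  have hc0 : c ≠ 0 := by
    rintro rfl
    rw [zero_smul] at hc
    exact (Ideal.IsPrime.mem_or_mem t.isPrime (hc ▸ t.asIdeal.zero_mem)).elim het hat
  refine ⟨e, he, het, fun p hp => haO ?_⟩
  have hep : e ∉ p.asIdeal := hp
  change a ∉ p.asIdeal
  intro hap
  have h1 : c • e ∈ p.asIdeal := by rw [← hc]; exact p.asIdeal.mul_mem_left _ hap
  have := p.asIdeal.smul_mem (c⁻¹ • (1 : A)) h1
  rw [smul_eq_mul, smul_mul_assoc, one_mul, smul_smul, inv_mul_cancel₀ hc0, one_smul] at this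
  exact hep this

/-- **Tube lemma.** -/
theorem tube (hA : ProfAlg k A) {R : Type u} [CommRing R] (ψ : A →+* R) (t₀ : PrimeSpectrum A)
    (Ω : Set (PrimeSpectrum R)) (hΩ : IsOpen Ω)
    (h : ∀ p : PrimeSpectrum R, p.asIdeal.comap ψ = t₀.asIdeal → p ∈ Ω) :
    ∃ e : A, IsIdempotentElem e ∧ e ∉ t₀.asIdeal ∧
      ∀ p : PrimeSpectrum R, ψ e ∉ p.asIdeal → p ∈ Ω := by
  classical
  have hmax : t₀.asIdeal.IsMaximal := isMaximal hA t₀.asIdeal
  obtain ⟨J, hJ⟩ : ∃ J : Ideal R, PrimeSpectrum.zeroLocus (J : Set R) = Ωᶜ :=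
    ⟨PrimeSpectrum.vanishingIdeal Ωᶜ, by
      rw [PrimeSpectrum.zeroLocus_vanishingIdeal_eq_closure, hΩ.isClosed_compl.closure_eq]⟩
  have hempty : PrimeSpectrum.zeroLocus ((J ⊔ t₀.asIdeal.map ψ : Ideal R) : Set R) = ∅ := by
    rw [Set.eq_empty_iff_forall_notMem]
    intro p hp
    rw [PrimeSpectrum.mem_zeroLocus, SetLike.coe_subset_coe] at hp
    have h1 : J ≤ p.asIdeal := le_sup_left.trans hp
    have h2 : t₀.asIdeal.map ψ ≤ p.asIdeal := le_sup_right.trans hp
    have h3 : t₀.asIdeal ≤ p.asIdeal.comap ψ := Ideal.map_le_iff_le_comap.mp h2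
    have h4 : p.asIdeal.comap ψ = t₀.asIdeal :=
      (hmax.eq_of_le (Ideal.IsPrime.ne_top (Ideal.comap_isPrime ψ p.asIdeal)) h3).symm
    have h5 : p ∈ Ωᶜ := by
      rw [← hJ, PrimeSpectrum.mem_zeroLocus, SetLike.coe_subset_coe]; exact h1
    exact h5 (h p h4)
  rw [PrimeSpectrum.zeroLocus_empty_iff_eq_top] at hempty
  have h1 : (1 : R) ∈ J ⊔ t₀.asIdeal.map ψ := by rw [hempty]; trivial
  obtain ⟨j, hj, m, hm, hjm⟩ := Submodule.mem_sup.mp h1
  rw [Ideal.map, Ideal.span] at hm
  obtain ⟨T', hT', hmT'⟩ := Submodule.mem_span_finite_of_mem_span hm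
  obtain ⟨s, hs, rfl⟩ := Finset.subset_set_image_iff.mp hT'
  obtain ⟨e, he, het, hkill⟩ := exists_idem_kill hA t₀.asIdeal s (fun a ha => hs ha)
  have hem : ψ e * m = 0 := by
    have : ∀ y ∈ Submodule.span R ((s.image ψ : Finset R) : Set R), ψ e * y = 0 := by
      intro y hy
      induction hy using Submodule.span_induction with
      | mem x hx =>
        obtain ⟨a, ha, rfl⟩ := Finset.mem_image.mp (Finset.mem_coe.mp hx)
        rw [← map_mul, hkill a ha, map_zero]
      | zero => exact mul_zero _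
      | add x y _ _ hx hy => rw [mul_add, hx, hy, add_zero]
      | smul r x _ hx => rw [smul_eq_mul, mul_left_comm, hx, mul_zero]
    exact this m hmT'
  refine ⟨e, he, het, fun p hp => ?_⟩
  by_contra hpΩ
  have h5 : p ∈ PrimeSpectrum.zeroLocus (J : Set R) := by rw [hJ]; exact hpΩ
  rw [PrimeSpectrum.mem_zeroLocus, SetLike.coe_subset_coe] at h5
  have h6 : ψ e = ψ e * j := by
    have := congrArg (fun z => ψ e * z) hjm
    simp only [mul_add, hem, add_zero, mul_one] at this
    exact this.symm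
  exact hp (h6 ▸ p.asIdeal.mul_mem_left _ (h5 hj))

end Groth.Agent.Lib.Helper70.ProfA
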