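import Mathlib
import Groth.Agent.Lib.Helper70.ProfA
import Groth.Agent.Lib.Helper70.AffPtsB

/-!
# Profinite affine schemes over a field: rational points and the tube lemma (helper70)
-/

set_option autoImplicit false

namespace Groth.Agent.Lib.Helper70.ProfB

universe u

open AlgebraicGeometry CategoryTheory Limits TopologicalSpace MonoidalCategory
  CartesianMonoidalCategory
open Groth.Agent.Lib.Helper70.ProfA Groth.Agent.Lib.Helper70.AffPtsB

variable {k : Type u} [Field k] {A : Type u} [CommRing A] [Algebra k A]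

variable (k A) in
/-- `Spec A` as an object over `Spec k`. -/
noncomputable abbrev To : Over (Spec (CommRingCat.of k)) :=
  Over.mk (Spec.map (CommRingCat.ofHom (algebraMap k A)))

variable (hA : ProfAlg k A)

/-- the rational point at a prime. -/
noncomputable def pt (t : PrimeSpectrum A) : 𝟙_ (Over (Spec (CommRingCat.of k))) ⟶ To k A :=
  Over.homMk (Spec.map (CommRingCat.ofHom (ev hA t.asIdeal : A →+* k))) (by
    change Spec.map _ ≫ Spec.map _ = 𝟙 _
    rw [← Spec.map_comp, ← Spec.map_id]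
    congr 1
    ext c
    exact (ev hA t.asIdeal).commutes c)

theorem pt_apply (t : PrimeSpectrum A) : (pt hA t).left p0 = t := by
  apply PrimeSpectrum.ext
  change Ideal.comap (ev hA t.asIdeal : A →+* k) (IsLocalRing.maximalIdeal k) = t.asIdeal
  rw [IsLocalRing.maximalIdeal_eq_bot, ← RingHom.ker_eq_comap_bot]
  exact ker_ev hA t.asIdeal

include hA in
/-- **Tube lemma** for a morphism from an affine scheme to a profinite affine scheme. -/
theorem tubeSch {X : Scheme.{u}} [IsAffine X] (q : X ⟶ Spec (CommRingCat.of A))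
    (t₀ : PrimeSpectrum A) (Ω : X.Opens) (h : ∀ x : X, q x = t₀ → x ∈ Ω) :
    ∃ e : A, IsIdempotentElem e ∧ e ∉ t₀.asIdeal ∧
      ∀ x : X, e ∉ (show PrimeSpectrum A from q x).asIdeal → x ∈ Ω := by
  obtain ⟨ψ, hψ⟩ := Spec.map_surjective (X.isoSpec.inv ≫ q)
  obtain ⟨e, he, het, hΩ⟩ := tube hA ψ.hom t₀ (X.isoSpec.inv ⁻¹ᵁ Ω).1
    (X.isoSpec.inv ⁻¹ᵁ Ω).isOpen (by
      intro p hp
      change X.isoSpec.inv p ∈ Ω
      apply h
      rw [← Scheme.Hom.comp_apply, ← hψ]
      exact PrimeSpectrum.ext hp)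
  refine ⟨e, he, het, fun x hx => ?_⟩
  have h1 : X.isoSpec.inv (X.isoSpec.hom x) = x := by
    rw [← Scheme.Hom.comp_apply, Iso.hom_inv_id]; rfl
  have h2 := hΩ (X.isoSpec.hom x) (by
    intro hcon
    apply hx
    have h3 : q x = (Spec.map ψ) (X.isoSpec.hom x) := by
      rw [hψ, Scheme.Hom.comp_apply, h1]
    rw [h3]
    exact hcon)
  change X.isoSpec.inv (X.isoSpec.hom x) ∈ Ω at h2
  rwa [h1] at h2

end Groth.Agent.Lib.Helper70.ProfB
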