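import Mathlib
import Groth.Agent.Lib.Helper70.ProfB
import Groth.Agent.Lib.Helper70.AvoidA
import Groth.Agent.Lib.Helper70.GrpConnE

/-!
# Translating a profinite family of points of the neutral component into an affine open
(helper70)
-/

set_option autoImplicit false

namespace Groth.Agent.Lib.Helper70.ProfC

universe u

open AlgebraicGeometry CategoryTheory Limits TopologicalSpace MonoidalCategory
  CartesianMonoidalCategory MonObj GrpObj
open Groth.Agent.Lib.Helper70.ProfA Groth.Agent.Lib.Helper70.ProfB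
  Groth.Agent.Lib.Helper70.AffPtsA Groth.Agent.Lib.Helper70.AffPtsB
  Groth.Agent.Lib.Helper70.AvoidA Groth.Agent.Lib.Helper70.GrpConnA
  Groth.Agent.Lib.Helper70.GrpConnE

section Cat

variable {C : Type*} [Category C] [CartesianMonoidalCategory C]

/-- the fibre of the second projection over a point. -/
theorem isPullback_lift_point (Y T : C) (p : 𝟙_ C ⟶ T) :
    IsPullback (lift (𝟙 Y) (toUnit Y ≫ p)) (toUnit Y) (snd Y T) p := by
  refine ⟨⟨by rw [lift_snd]⟩, ⟨PullbackCone.IsLimit.mk _ (fun c => c.fst ≫ fst Y T) ?_ ?_ ?_⟩⟩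
  · intro c
    apply CartesianMonoidalCategory.hom_ext
    · rw [Category.assoc, lift_fst, Category.comp_id]
    · rw [Category.assoc, lift_snd, ← Category.assoc, toUnit_unique (_ ≫ toUnit Y) c.snd,
        c.condition]
  · intro c
    exact toUnit_unique _ _
  · intro c m h1 _
    rw [← h1, Category.assoc, lift_fst, Category.comp_id]

end Cat

variable {k : Type u} [Field k] {A : Type u} [CommRing A] [Algebra k A] (hA : ProfAlg k A)
  (G : Over (Spec (CommRingCat.of k))) [GrpObj G]

theorem ept_eq : ept G = η[G].left p0 := rfl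

/-- the value of a morphism at a prime, as a rational point. -/
noncomputable def val (φ : To k A ⟶ G) (t : PrimeSpectrum A) :
    𝟙_ (Over (Spec (CommRingCat.of k))) ⟶ G := pt hA t ≫ φ

theorem val_apply (φ : To k A ⟶ G) (t : PrimeSpectrum A) :
    (val hA G φ t).left p0 = φ.left t := by
  unfold val
  rw [Over.comp_left, Scheme.Hom.comp_apply, pt_apply]

instance (a : 𝟙_ (Over (Spec (CommRingCat.of k))) ⟶ G) : IsIso (rtr G a) :=
  ⟨rtr G a⁻¹, by rw [rtr_comp, mul_inv_cancel, rtr_one], by rw [rtr_comp, inv_mul_cancel, rtr_one]⟩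

instance (a : 𝟙_ (Over (Spec (CommRingCat.of k))) ⟶ G) : IsIso (rtr G a).left :=
  (inferInstance : IsIso ((Over.forget _).map (rtr G a)))

theorem rtr_rtr_inv_apply (a : 𝟙_ (Over (Spec (CommRingCat.of k))) ⟶ G) (x : G.left) :
    (rtr G a).left ((rtr G a⁻¹).left x) = x := by
  rw [← Scheme.Hom.comp_apply, ← Over.comp_left, rtr_comp, inv_mul_cancel, rtr_one]
  rfl

set_option backward.isDefEq.respectTransparency.types false in
/-- the local tube: near `t₀`, every rational point of `U · φ(t₀)⁻¹` translates `φ(t)` into `U`. -/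
theorem exists_idem_translate (φ : To k A ⟶ G) (t₀ : PrimeSpectrum A) (U : G.left.Opens)
    (hU : IsAffineOpen U) :
    ∃ e : A, IsIdempotentElem e ∧ e ∉ t₀.asIdeal ∧
      ∀ (g : 𝟙_ (Over (Spec (CommRingCat.of k))) ⟶ G) (t : PrimeSpectrum A),
        g.left p0 ∈ (rtr G (val hA G φ t₀)⁻¹).left ''ᵁ U → e ∉ t.asIdeal →
        (g * val hA G φ t).left p0 ∈ U := by
  obtain ⟨O, hO⟩ : ∃ O : G.left.Opens, O = (rtr G (val hA G φ t₀)⁻¹).left ''ᵁ U := ⟨_, rfl⟩
  have hOaff : IsAffineOpen O := by rw [hO]; exact hU.image_of_isOpenImmersion _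
  let Oo : Over (Spec (CommRingCat.of k)) := Over.mk (O.ι ≫ G.hom)
  let inclO : Oo ⟶ G := Over.homMk O.ι rfl
  let Φ : Oo ⊗ To k A ⟶ G := (fst Oo (To k A) ≫ inclO) * (snd Oo (To k A) ≫ φ)
  have hOoaff : IsAffine Oo.left := hOaff
  have hXaff : IsAffine (Oo ⊗ To k A).left := by
    change IsAffine (pullback Oo.hom (To k A).hom)
    have h2 : IsAffine (To k A).left := by
      change IsAffine (Spec (CommRingCat.of A)); infer_instance
    have h3 : IsAffine (Spec (CommRingCat.of k)) := inferInstance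
    exact @Scheme.Pullback.isAffine_of_isAffine_isAffine_isAffine _ _ _ Oo.hom (To k A).hom hOoaff h2 h3
  have hfib : ∀ x : (Oo ⊗ To k A).left, (snd Oo (To k A)).left x = t₀ →
      x ∈ Φ.left ⁻¹ᵁ U := by
    intro x hx
    have hpb : IsPullback (lift (𝟙 Oo) (toUnit Oo ≫ pt hA t₀)).left (toUnit Oo).left
        (snd Oo (To k A)).left (pt hA t₀).left :=
      (Over.forget _).map_isPullback (isPullback_lift_point Oo (To k A) (pt hA t₀))
    obtain ⟨o, ho, -⟩ := Scheme.exists_preimage_of_isPullback hpb x p0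
      (by rw [hx]; exact (pt_apply hA t₀).symm)
    have ho' : (lift (𝟙 Oo) (toUnit Oo ≫ pt hA t₀)).left o = x := ho
    change Φ.left x ∈ U
    rw [← ho', ← Scheme.Hom.comp_apply, ← Over.comp_left]
    have e1 : lift (𝟙 Oo) (toUnit Oo ≫ pt hA t₀) ≫ Φ = inclO ≫ rtr G (val hA G φ t₀) := by
      unfold rtr val
      rw [MonObj.comp_mul, MonObj.comp_mul, lift_fst_assoc, lift_snd_assoc, Category.id_comp,
        Category.comp_id, Category.assoc, ← Category.assoc inclO,
        toUnit_unique (inclO ≫ toUnit G) (toUnit Oo)]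
    rw [e1, Over.comp_left, Scheme.Hom.comp_apply]
    have hoO : inclO.left o ∈ O := o.2
    rw [hO] at hoO
    obtain ⟨u, hu, hu'⟩ := hoO
    have h3 : (rtr G (val hA G φ t₀)).left (inclO.left o) = u := by
      rw [← hu']
      exact rtr_rtr_inv_apply G (val hA G φ t₀) u
    rw [h3]
    exact hu
  obtain ⟨e, he, het, htube⟩ := tubeSch hA (snd Oo (To k A)).left t₀ (Φ.left ⁻¹ᵁ U) hfib
  refine ⟨e, he, het, fun g t hg ht => ?_⟩
  rw [← hO] at hg
  have hrange : Set.range g.left ⊆ Set.range O.ι := by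
    rintro _ ⟨q, rfl⟩
    have : q = p0 := @Subsingleton.elim (Spec (CommRingCat.of k)) inferInstance _ _
    rw [this, Scheme.Opens.range_ι]
    exact hg
  let g' : 𝟙_ (Over (Spec (CommRingCat.of k))) ⟶ Oo :=
    Over.homMk (IsOpenImmersion.lift O.ι g.left hrange) (by
      change _ ≫ O.ι ≫ G.hom = _
      rw [← Category.assoc, IsOpenImmersion.lift_fac, Over.w])
  have hg' : g' ≫ inclO = g := by
    ext1
    exact IsOpenImmersion.lift_fac _ _ _
  have h1 := htube ((lift g' (pt hA t)).left p0) (by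
    have : (snd Oo (To k A)).left ((lift g' (pt hA t)).left p0) = t := by
      rw [← Scheme.Hom.comp_apply, ← Over.comp_left, lift_snd, pt_apply]
    rw [this]
    exact ht)
  change Φ.left ((lift g' (pt hA t)).left p0) ∈ U at h1
  rw [← Scheme.Hom.comp_apply, ← Over.comp_left] at h1
  have e2 : lift g' (pt hA t) ≫ Φ = g * val hA G φ t := by
    unfold val
    rw [MonObj.comp_mul, lift_fst_assoc, lift_snd_assoc, hg']
  rwa [e2] at h1

variable [IsAlgClosed k] [JacobsonSpace G.left]

/-- **Translating into an affine open**: a closed subset of `Spec A` mapping into the neutral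
component can be translated into any affine open neighbourhood of the unit by a rational point of
the neutral component. -/
theorem exists_translate
    (hrat : ∀ g : G.left, IsClosed ({g} : Set G.left) →
      ∃ x : Spec (CommRingCat.of k) ⟶ G.left, x ≫ G.hom = 𝟙 _ ∧ x (IsLocalRing.closedPoint k) = g)
    (φ : To k A ⟶ G) (F : Set (PrimeSpectrum A)) (hF : IsClosed F)
    (hφF : ∀ t ∈ F, φ.left t ∈ C0 G) (U : G.left.Opens) (hU : IsAffineOpen U)
    (heU : ept G ∈ U) :
    ∃ g : 𝟙_ (Over (Spec (CommRingCat.of k))) ⟶ G, g.left p0 ∈ C0 G ∧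
      ∀ t ∈ F, (g * val hA G φ t).left p0 ∈ U := by
  classical
  choose e he het htr using fun t₀ : PrimeSpectrum A => exists_idem_translate hA G φ t₀ U hU
  have hFc : IsCompact F := hF.isCompact
  obtain ⟨s, hscov⟩ := hFc.elim_nhds_subcover'
    (fun t _ => ((PrimeSpectrum.basicOpen (e t) : Opens (PrimeSpectrum A)) : Set (PrimeSpectrum A)))
    (fun t _ => (PrimeSpectrum.basicOpen (e t)).isOpen.mem_nhds (het t))
  -- the opens `U · φ(t)⁻¹`
  let O : PrimeSpectrum A → G.left.Opens := fun t => (rtr G (val hA G φ t)⁻¹).left ''ᵁ U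
  have hOmem : ∀ t : PrimeSpectrum A, t ∈ F → ((val hA G φ t)⁻¹).left p0 ∈ C0 G ∩ (O t : Set G.left) := by
    intro t ht
    constructor
    · rw [Hom.inv_def, Over.comp_left, Scheme.Hom.comp_apply, val_apply]
      exact inv_mem_C0 G _ (hφF t ht)
    · refine ⟨ept G, heU, ?_⟩
      change (rtr G (val hA G φ t)⁻¹).left (η[G].left p0) = _
      rw [← Scheme.Hom.comp_apply, ← Over.comp_left, unit_eq_one, pt_rtr, _root_.one_mul]
  have hirr : IsIrreducible (C0 G) := isIrreducible_C0 G
  let Us : Finset (Set G.left) := s.image (fun t => ((O t.1 : G.left.Opens) : Set G.left))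
  have h1 : ∀ u ∈ Us, IsOpen u := by
    intro u hu
    obtain ⟨t, -, rfl⟩ := Finset.mem_image.mp hu
    exact (O t.1).isOpen
  have h2 : ∀ u ∈ Us, (C0 G ∩ u).Nonempty := by
    intro u hu
    obtain ⟨t, -, rfl⟩ := Finset.mem_image.mp hu
    exact ⟨_, hOmem t.1 t.2⟩
  have h3 := (isIrreducible_iff_sInter.mp hirr) Us h1 h2
  have hlc : IsLocallyClosed (C0 G ∩ ⋂₀ (↑Us : Set (Set G.left))) :=
    (isClosed_C0 G).isLocallyClosed.inter (Us.finite_toSet.isOpen_sInter h1).isLocallyClosed
  obtain ⟨x, ⟨hxC, hxU⟩, hxcl⟩ := nonempty_inter_closedPoints h3 hlc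
  obtain ⟨σ, hσ1, hσ2⟩ := hrat x (mem_closedPoints_iff.mp hxcl)
  let g : 𝟙_ (Over (Spec (CommRingCat.of k))) ⟶ G := Over.homMk σ (by simpa using hσ1)
  have hg : g.left p0 = x := hσ2
  refine ⟨g, hg ▸ hxC, fun t ht => ?_⟩
  obtain ⟨t', ht's, htt'⟩ := Set.mem_iUnion₂.mp (hscov ht)
  apply htr t'.1 g t
  · rw [hg]
    have : ((O t'.1 : G.left.Opens) : Set G.left) ∈ (↑Us : Set (Set G.left)) := by
      rw [Finset.mem_coe]
      exact Finset.mem_image.mpr ⟨t', ht's, rfl⟩
    exact Set.mem_sInter.mp hxU _ this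
  · exact htt'

end Groth.Agent.Lib.Helper70.ProfC
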