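import Mathlib
import Groth.Agent.Lib.Helper70.AffComp

/-!
# Connected components of quasi-compact quasi-separated schemes are intersections of clopens;
clopen pieces of affine opens are affine (helper70)
-/

set_option autoImplicit false

namespace Groth.Agent.Lib.Helper70.ProfD

universe u

open AlgebraicGeometry CategoryTheory Limits TopologicalSpace

/-- a compact subset of an open subset of a scheme lies in a compact open subset of it. -/
theorem exists_isCompact_isOpen_between (X : Scheme.{u}) (B : Set X) (hB : IsCompact B)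
    (O : Set X) (hO : IsOpen O) (hBO : B ⊆ O) :
    ∃ V : Set X, IsOpen V ∧ IsCompact V ∧ B ⊆ V ∧ V ⊆ O := by
  have hnb : ∀ y ∈ B, ∃ N : X.Opens, IsAffineOpen N ∧ y ∈ N ∧ (N : Set X) ⊆ O := by
    intro y hy
    obtain ⟨N, hN, hyN, hNO⟩ := Opens.isBasis_iff_nbhd.mp X.isBasis_affineOpens
      (show y ∈ (⟨O, hO⟩ : X.Opens) from hBO hy)
    exact ⟨N, hN, hyN, hNO⟩
  choose N hNaff hyN hNO using hnb
  obtain ⟨s, hs⟩ := hB.elim_nhds_subcover' (fun y hy => ((N y hy : X.Opens) : Set X))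
    (fun y hy => (N y hy).isOpen.mem_nhds (hyN y hy))
  refine ⟨⋃ y ∈ s, ((N y.1 y.2 : X.Opens) : Set X), ?_, ?_, hs, ?_⟩
  · exact isOpen_biUnion fun y _ => (N y.1 y.2).isOpen
  · exact s.isCompact_biUnion fun y _ => (hNaff y.1 y.2).isCompact
  · exact Set.iUnion₂_subset fun y _ => hNO y.1 y.2

/-- In a quasi-compact quasi-separated scheme, the intersection of the clopen neighbourhoods of a
point is connected. -/
theorem iInter_isClopen_subset_connectedComponent (X : Scheme.{u}) [CompactSpace X]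
    [QuasiSeparatedSpace X] (x : X) :
    (⋂ s : {s : Set X // IsClopen s ∧ x ∈ s}, (s : Set X)) ⊆ connectedComponent x := by
  set S : Set X := ⋂ s : {s : Set X // IsClopen s ∧ x ∈ s}, (s : Set X) with hS
  have hxS : x ∈ S := Set.mem_iInter.mpr fun s => s.2.2
  have hSclosed : IsClosed S := isClosed_iInter fun s => s.2.1.isClosed
  have hne : Nonempty {s : Set X // IsClopen s ∧ x ∈ s} := ⟨⟨Set.univ, isClopen_univ, trivial⟩⟩
  have hdir : Directed (· ⊇ ·) (fun s : {s : Set X // IsClopen s ∧ x ∈ s} => (s : Set X)) := by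
    intro s₁ s₂
    exact ⟨⟨s₁.1 ∩ s₂.1, s₁.2.1.inter s₂.2.1, s₁.2.2, s₂.2.2⟩, Set.inter_subset_left,
      Set.inter_subset_right⟩
  suffices hpre : _root_.IsPreconnected S from hpre.subset_connectedComponent hxS
  rw [isPreconnected_closed_iff]
  intro a b ha hb hSab hSa hSb
  by_contra hcon
  rw [Set.not_nonempty_iff_eq_empty] at hcon
  have hBc : IsCompact (S ∩ a) := (hSclosed.inter ha).isCompact
  have hCc : IsCompact (S ∩ b) := (hSclosed.inter hb).isCompact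
  have hBC : S ∩ a ⊆ (S ∩ b)ᶜ := by
    intro y hy hy'
    have : y ∈ S ∩ (a ∩ b) := ⟨hy.1, hy.2, hy'.2⟩
    rw [hcon] at this
    exact this
  have hCB : S ∩ b ⊆ (S ∩ a)ᶜ := fun y hy hy' => hBC hy' hy
  obtain ⟨Ua, hUao, hUac, hBUa, hUaC⟩ := exists_isCompact_isOpen_between X _ hBc _
    (hSclosed.inter hb).isOpen_compl hBC
  obtain ⟨Ub, hUbo, hUbc, hCUb, hUbB⟩ := exists_isCompact_isOpen_between X _ hCc _
    (hSclosed.inter ha).isOpen_compl hCB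
  have hK1 : IsCompact (Ua ∩ Ub) := QuasiSeparatedSpace.inter_isCompact Ua Ub hUao hUac hUbo hUbc
  have hK1S : (Ua ∩ Ub) ∩ ⋂ s : {s : Set X // IsClopen s ∧ x ∈ s}, (s : Set X) = ∅ := by
    rw [Set.eq_empty_iff_forall_notMem]
    rintro y ⟨⟨hya, hyb⟩, hyS⟩
    rcases hSab hyS with h | h
    · exact hUbB hyb ⟨hyS, h⟩
    · exact hUaC hya ⟨hyS, h⟩
  obtain ⟨Z₁, hZ₁⟩ := hK1.elim_directed_family_closed _ (fun s => s.2.1.isClosed) hK1S hdir
  have hK2 : IsCompact (Ua ∪ Ub)ᶜ := (hUao.union hUbo).isClosed_compl.isCompact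
  have hK2S : (Ua ∪ Ub)ᶜ ∩ ⋂ s : {s : Set X // IsClopen s ∧ x ∈ s}, (s : Set X) = ∅ := by
    rw [Set.eq_empty_iff_forall_notMem]
    rintro y ⟨hy, hyS⟩
    apply hy
    rcases hSab hyS with h | h
    · exact Or.inl (hBUa ⟨hyS, h⟩)
    · exact Or.inr (hCUb ⟨hyS, h⟩)
  obtain ⟨Z₂, hZ₂⟩ := hK2.elim_directed_family_closed _ (fun s => s.2.1.isClosed) hK2S hdir
  -- the clopen `Z`
  have hZsub : Z₁.1 ∩ Z₂.1 ⊆ Ua ∪ Ub := by
    intro y hy
    by_contra hy'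
    have : y ∈ (Ua ∪ Ub)ᶜ ∩ Z₂.1 := ⟨hy', hy.2⟩
    rw [hZ₂] at this
    exact this
  have hZdisj : ∀ y, y ∈ Z₁.1 ∩ Z₂.1 → y ∈ Ua → y ∈ Ub → False := by
    intro y hy hya hyb
    have : y ∈ (Ua ∩ Ub) ∩ Z₁.1 := ⟨⟨hya, hyb⟩, hy.1⟩
    rw [hZ₁] at this
    exact this
  have hZclopen : IsClopen (Z₁.1 ∩ Z₂.1) := Z₁.2.1.inter Z₂.2.1
  have hZa : IsClopen ((Z₁.1 ∩ Z₂.1) ∩ Ua) := by
    refine ⟨?_, hZclopen.isOpen.inter hUao⟩
    have : (Z₁.1 ∩ Z₂.1) ∩ Ua = (Z₁.1 ∩ Z₂.1) ∩ Ubᶜ := by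
      ext y
      constructor
      · rintro ⟨hy, hya⟩
        exact ⟨hy, fun hyb => hZdisj y hy hya hyb⟩
      · rintro ⟨hy, hyb⟩
        exact ⟨hy, (hZsub hy).resolve_right hyb⟩
    rw [this]
    exact hZclopen.isClosed.inter hUbo.isClosed_compl
  have hZb : IsClopen ((Z₁.1 ∩ Z₂.1) ∩ Ub) := by
    refine ⟨?_, hZclopen.isOpen.inter hUbo⟩
    have : (Z₁.1 ∩ Z₂.1) ∩ Ub = (Z₁.1 ∩ Z₂.1) ∩ Uaᶜ := by
      ext y
      constructor
      · rintro ⟨hy, hyb⟩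
        exact ⟨hy, fun hya => hZdisj y hy hya hyb⟩
      · rintro ⟨hy, hya⟩
        exact ⟨hy, (hZsub hy).resolve_left hya⟩
    rw [this]
    exact hZclopen.isClosed.inter hUao.isClosed_compl
  have hxZ : x ∈ Z₁.1 ∩ Z₂.1 := ⟨Z₁.2.2, Z₂.2.2⟩
  rcases hZsub hxZ with hxa | hxb
  · have hSsub : S ⊆ (Z₁.1 ∩ Z₂.1) ∩ Ua :=
      Set.iInter_subset _ (⟨_, hZa, hxZ, hxa⟩ : {s : Set X // IsClopen s ∧ x ∈ s})
    obtain ⟨y, hyS, hyb⟩ := hSb
    exact hUaC (hSsub hyS).2 ⟨hyS, hyb⟩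
  · have hSsub : S ⊆ (Z₁.1 ∩ Z₂.1) ∩ Ub :=
      Set.iInter_subset _ (⟨_, hZb, hxZ, hxb⟩ : {s : Set X // IsClopen s ∧ x ∈ s})
    obtain ⟨y, hyS, hya⟩ := hSa
    exact hUbB (hSsub hyS).2 ⟨hyS, hya⟩

/-- a piece of an affine open cut out by two complementary opens is affine. -/
theorem isAffineOpen_inf_of_clopen {X : Scheme.{u}} (V : X.Opens) (hV : IsAffineOpen V)
    (C₁ C₂ : X.Opens) (hcov : V ≤ C₁ ⊔ C₂) (hdisj : V ⊓ C₁ ⊓ C₂ = ⊥) :
    IsAffineOpen (V ⊓ C₁) := by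
  have : IsAffine (V : Scheme.{u}) := hV
  have hs : IsClopen (V.ι ⁻¹' (C₁ : Set X)) := by
    refine ⟨?_, C₁.isOpen.preimage V.ι.continuous⟩
    have : (V.ι ⁻¹' (C₁ : Set X))ᶜ = V.ι ⁻¹' (C₂ : Set X) := by
      ext y
      constructor
      · intro hy
        rcases hcov y.2 with h | h
        · exact absurd h hy
        · exact h
      · intro hy hy'
        have : (V.ι y) ∈ V ⊓ C₁ ⊓ C₂ := ⟨⟨y.2, hy'⟩, hy⟩
        rw [hdisj] at this
        exact this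
    rw [← isOpen_compl_iff, this]
    exact C₂.isOpen.preimage V.ι.continuous
  obtain ⟨ε, hε⟩ := AffComp.exists_section_basicOpen_eq (V : Scheme.{u}) _ hs
  have h1 : IsAffineOpen ((V : Scheme.{u}).basicOpen ε) :=
    (isAffineOpen_top (V : Scheme.{u})).basicOpen ε
  have h2 := h1.image_of_isOpenImmersion V.ι
  have h3 : V.ι ''ᵁ ((V : Scheme.{u}).basicOpen ε) = V ⊓ C₁ := by
    apply Opens.ext
    change V.ι '' (((V : Scheme.{u}).basicOpen ε : (V : Scheme.{u}).Opens) : Set V) = _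
    rw [hε]
    ext y
    constructor
    · rintro ⟨z, hz, rfl⟩
      exact ⟨z.2, hz⟩
    · rintro ⟨hyV, hyC⟩
      exact ⟨⟨y, hyV⟩, hyC, rfl⟩
  rwa [h3] at h2

end Groth.Agent.Lib.Helper70.ProfD
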