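import Mathlib
import Groth.Agent.Lib.Helper70.ProfC
import Groth.Agent.Lib.Helper70.GrpTransC

/-!
# Saturating a quasi-compact open of a group scheme under the neutral component (helper70)
-/

set_option autoImplicit false

namespace Groth.Agent.Lib.Helper70.ProfE

universe u

open AlgebraicGeometry CategoryTheory Limits TopologicalSpace MonoidalCategory
  CartesianMonoidalCategory MonObj GrpObj
open Groth.Agent.Lib.Helper70.AffPtsA Groth.Agent.Lib.Helper70.AffPtsB
  Groth.Agent.Lib.Helper70.AvoidA Groth.Agent.Lib.Helper70.GrpConnA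
  Groth.Agent.Lib.Helper70.GrpConnE

variable {k : Type u} [Field k] (G : Over (Spec (CommRingCat.of k))) [GrpObj G]

/-- the action of the neutral component on `G` by left multiplication. -/
noncomputable def act : G0 G ⊗ G ⟶ G := (fst (G0 G) G ≫ i0 G) * snd (G0 G) G

/-- the shear map. -/
noncomputable def sh : G0 G ⊗ G ⟶ G0 G ⊗ G := lift (fst (G0 G) G) (act G)

/-- the inverse shear map. -/
noncomputable def shInv : G0 G ⊗ G ⟶ G0 G ⊗ G :=
  lift (fst (G0 G) G) ((fst (G0 G) G ≫ i0 G)⁻¹ * snd (G0 G) G)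

theorem sh_shInv : sh G ≫ shInv G = 𝟙 _ := by
  unfold sh shInv act
  apply CartesianMonoidalCategory.hom_ext
  · rw [Category.assoc, lift_fst, lift_fst, Category.id_comp]
  · rw [Category.assoc, lift_snd, MonObj.comp_mul, GrpObj.comp_inv, lift_fst_assoc, lift_snd,
      inv_mul_cancel_left, Category.id_comp]

theorem shInv_sh : shInv G ≫ sh G = 𝟙 _ := by
  unfold sh shInv act
  apply CartesianMonoidalCategory.hom_ext
  · rw [Category.assoc, lift_fst, lift_fst, Category.id_comp]
  · rw [Category.assoc, lift_snd, MonObj.comp_mul, lift_fst_assoc, lift_snd,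
      mul_inv_cancel_left, Category.id_comp]

theorem sh_snd : sh G ≫ snd (G0 G) G = act G := by
  unfold sh
  rw [lift_snd]

instance : IsIso (sh G) := ⟨shInv G, sh_shInv G, shInv_sh G⟩

instance : IsIso (sh G).left := (inferInstance : IsIso ((Over.forget _).map (sh G)))

theorem isOpenMap_act : IsOpenMap (act G).left := by
  rw [← sh_snd, Over.comp_left]
  have h1 : IsOpenMap (sh G).left := (sh G).left.homeomorph.isOpenMap
  have h2 : IsOpenMap (snd (G0 G) G).left := GrpTrans.isOpenMap_snd_left _ _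
  rw [Scheme.Hom.comp_base, TopCat.coe_comp]
  exact h2.comp h1

/-- the saturation `G⁰ · W₀`. -/
def sat (W₀ : Set G.left) : Set G.left := (act G).left '' ((snd (G0 G) G).left ⁻¹' W₀)

theorem isOpen_sat (W₀ : Set G.left) (hW₀ : IsOpen W₀) : IsOpen (sat G W₀) :=
  isOpenMap_act G _ (hW₀.preimage (snd (G0 G) G).left.continuous)

theorem isCompact_sat (W₀ : Set G.left) (hW₀ : IsOpen W₀) (hc : IsCompact W₀) :
    IsCompact (sat G W₀) := by
  have h1 : QuasiCompact (G0 G).hom := by
    have : CompactSpace (G0 G).left := inferInstanceAs (CompactSpace (Z0 G))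
    exact HasAffineProperty.iff_of_isAffine.mpr (by infer_instance)
  have h2 : QuasiCompact (snd (G0 G) G).left := by
    rw [Over.snd_left]
    infer_instance
  exact (QuasiCompact.isCompact_preimage (f := (snd (G0 G) G).left) W₀ hW₀ hc).image
    (act G).left.continuous

theorem exists_unit_lift : ∃ e0 : 𝟙_ (Over (Spec (CommRingCat.of k))) ⟶ G0 G, e0 ≫ i0 G = η[G] := by
  apply exists_lift_i0
  rintro _ ⟨q, rfl⟩
  have : q = p0 := @Subsingleton.elim (Spec (CommRingCat.of k)) inferInstance _ _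
  rw [this]
  exact ept_mem_C0 G

theorem subset_sat (W₀ : Set G.left) : W₀ ⊆ sat G W₀ := by
  intro x hx
  obtain ⟨e0, he0⟩ := exists_unit_lift G
  let s : G ⟶ G0 G ⊗ G := lift (toUnit G ≫ e0) (𝟙 G)
  have h1 : s ≫ act G = 𝟙 G := by
    unfold act
    rw [MonObj.comp_mul, lift_fst_assoc, lift_snd, Category.assoc, he0, ← Hom.one_def,
      _root_.one_mul]
  have h2 : s ≫ snd (G0 G) G = 𝟙 G := lift_snd _ _
  refine ⟨s.left x, ?_, ?_⟩
  · change (snd (G0 G) G).left (s.left x) ∈ W₀
    rw [← Scheme.Hom.comp_apply, ← Over.comp_left, h2]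
    exact hx
  · rw [← Scheme.Hom.comp_apply, ← Over.comp_left, h1]
    rfl

theorem ltr_mem_C0 (g : 𝟙_ (Over (Spec (CommRingCat.of k))) ⟶ G) (hg : g.left p0 ∈ C0 G)
    (c : G.left) (hc : c ∈ C0 G) : (ltr G g).left c ∈ C0 G := by
  have e : ltr G g = lift (toUnit G ≫ g) (𝟙 G) ≫ μ[G] := by
    unfold ltr
    rw [Hom.mul_def]
  rw [e, Over.comp_left, Scheme.Hom.comp_apply]
  apply mul_mem_C0
  · rw [← Scheme.Hom.comp_apply, ← Over.comp_left, lift_fst, Over.comp_left,
      Scheme.Hom.comp_apply]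
    have : (toUnit G).left c = p0 := @Subsingleton.elim (Spec (CommRingCat.of k)) inferInstance _ _
    rw [this]
    exact hg
  · rw [← Scheme.Hom.comp_apply, ← Over.comp_left, lift_snd]
    exact hc

theorem ltr_sat_subset (W₀ : Set G.left) (g : 𝟙_ (Over (Spec (CommRingCat.of k))) ⟶ G)
    (hg : g.left p0 ∈ C0 G) : (ltr G g).left '' sat G W₀ ⊆ sat G W₀ := by
  rintro _ ⟨_, ⟨z, hz, rfl⟩, rfl⟩
  obtain ⟨l1, hl1⟩ := exists_lift_i0 G ((fst (G0 G) G ≫ i0 G) ≫ ltr G g) (by
    rintro _ ⟨q, rfl⟩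
    rw [Over.comp_left, Scheme.Hom.comp_apply]
    apply ltr_mem_C0 G g hg
    rw [Over.comp_left, Scheme.Hom.comp_apply]
    exact incl_mem_C0 G _)
  let l : G0 G ⊗ G ⟶ G0 G ⊗ G := lift l1 (snd (G0 G) G)
  have h1 : l ≫ act G = act G ≫ ltr G g := by
    unfold act ltr
    rw [MonObj.comp_mul, lift_fst_assoc, lift_snd, hl1, MonObj.comp_mul, Category.comp_id]
    unfold ltr
    rw [MonObj.comp_mul, Category.comp_id, ← Category.assoc, ← Category.assoc,
      toUnit_unique ((fst (G0 G) G ≫ i0 G) ≫ toUnit G) (toUnit _),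
      toUnit_unique (((fst (G0 G) G ≫ i0 G) * snd (G0 G) G) ≫ toUnit G) (toUnit _),
      _root_.mul_assoc]
  have h2 : l ≫ snd (G0 G) G = snd (G0 G) G := lift_snd _ _
  refine ⟨l.left z, ?_, ?_⟩
  · change (snd (G0 G) G).left (l.left z) ∈ W₀
    rw [← Scheme.Hom.comp_apply, ← Over.comp_left, h2]
    exact hz
  · rw [← Scheme.Hom.comp_apply, ← Over.comp_left, h1, Over.comp_left, Scheme.Hom.comp_apply]

end Groth.Agent.Lib.Helper70.ProfE
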