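import Mathlib
import Groth.Agent.Lib.Helper70.ProfD

/-!
# Covering a compact subset by an affine open, one connected component at a time (helper70)
-/

set_option autoImplicit false

namespace Groth.Agent.Lib.Helper70.ProfF

universe u

open AlgebraicGeometry CategoryTheory Limits TopologicalSpace
open Groth.Agent.Lib.Helper70.ProfD

/-- In a quasi-compact quasi-separated scheme, a compact subset whose trace on each connected
component lies in an affine open is contained in an affine open. -/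
theorem exists_isAffineOpen_of_connectedComponents (X : Scheme.{u}) [CompactSpace X]
    [QuasiSeparatedSpace X] (R : Set X) (hR : IsCompact R)
    (h : ∀ r ∈ R, ∃ V : X.Opens, IsAffineOpen V ∧ R ∩ connectedComponent r ⊆ (V : Set X)) :
    ∃ V : X.Opens, IsAffineOpen V ∧ R ⊆ (V : Set X) := by
  classical
  have ha : ∀ r ∈ R, ∃ (s : Set X) (V : X.Opens), IsClopen s ∧ r ∈ s ∧ IsAffineOpen V ∧
      R ∩ s ⊆ (V : Set X) := by
    intro r hr
    obtain ⟨V, hV, hRV⟩ := h r hr
    have hK : IsCompact (R \ (V : Set X)) := hR.diff V.isOpen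
    have hdir : Directed (· ⊇ ·) (fun s : {s : Set X // IsClopen s ∧ r ∈ s} => (s : Set X)) := by
      intro s₁ s₂
      exact ⟨⟨s₁.1 ∩ s₂.1, s₁.2.1.inter s₂.2.1, s₁.2.2, s₂.2.2⟩, Set.inter_subset_left,
        Set.inter_subset_right⟩
    have hne : Nonempty {s : Set X // IsClopen s ∧ r ∈ s} := ⟨⟨Set.univ, isClopen_univ, trivial⟩⟩
    have hKS : (R \ (V : Set X)) ∩ ⋂ s : {s : Set X // IsClopen s ∧ r ∈ s}, (s : Set X) = ∅ := by
      rw [Set.eq_empty_iff_forall_notMem]
      rintro y ⟨⟨hyR, hyV⟩, hyS⟩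
      exact hyV (hRV ⟨hyR, iInter_isClopen_subset_connectedComponent X r hyS⟩)
    obtain ⟨s, hs⟩ := hK.elim_directed_family_closed _ (fun s => s.2.1.isClosed) hKS hdir
    refine ⟨s.1, V, s.2.1, s.2.2, hV, ?_⟩
    rintro y ⟨hyR, hys⟩
    by_contra hyV
    have : y ∈ (R \ (V : Set X)) ∩ s.1 := ⟨⟨hyR, hyV⟩, hys⟩
    rw [hs] at this
    exact this
  choose s V hsclopen hrs hVaff hRsV using ha
  obtain ⟨S, hScov⟩ := hR.elim_nhds_subcover' (fun r hr => s r hr)
    (fun r hr => (hsclopen r hr).isOpen.mem_nhds (hrs r hr))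
  have key : ∀ S' : Finset ↥R, ∃ V' : X.Opens, IsAffineOpen V' ∧
      R ∩ ⋃ r ∈ S', s r.1 r.2 ⊆ (V' : Set X) := by
    intro S'
    induction S' using Finset.induction_on with
    | empty => exact ⟨⊥, isAffineOpen_bot _, by simp⟩
    | insert a S' ha ih =>
      obtain ⟨V', hV', hsub⟩ := ih
      have hC : IsClopen (⋃ r ∈ S', s r.1 r.2) :=
        isClopen_biUnion_finset fun r _ => hsclopen r.1 r.2
      obtain ⟨C, hCdef⟩ : ∃ C : Set X, C = ⋃ r ∈ S', s r.1 r.2 := ⟨_, rfl⟩
      rw [← hCdef] at hC hsub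
      have hD : IsClopen (s a.1 a.2 \ C) := (hsclopen a.1 a.2).diff hC
      let Co : X.Opens := ⟨C, hC.isOpen⟩
      let Cc : X.Opens := ⟨Cᶜ, hC.compl.isOpen⟩
      let Do : X.Opens := ⟨s a.1 a.2 \ C, hD.isOpen⟩
      let Dc : X.Opens := ⟨(s a.1 a.2 \ C)ᶜ, hD.compl.isOpen⟩
      have h1 : IsAffineOpen (V' ⊓ Co) := by
        apply isAffineOpen_inf_of_clopen V' hV' Co Cc
        · intro y _
          by_cases hy : y ∈ C
          · exact Or.inl hy
          · exact Or.inr hy
        · apply Opens.ext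
          ext y
          constructor
          · rintro ⟨⟨_, hy1⟩, hy2⟩
            exact hy2 hy1
          · intro hy
            exact absurd hy (Set.notMem_empty y)
      have h2 : IsAffineOpen (V a.1 a.2 ⊓ Do) := by
        apply isAffineOpen_inf_of_clopen _ (hVaff a.1 a.2) Do Dc
        · intro y _
          by_cases hy : y ∈ s a.1 a.2 \ C
          · exact Or.inl hy
          · exact Or.inr hy
        · apply Opens.ext
          ext y
          constructor
          · rintro ⟨⟨_, hy1⟩, hy2⟩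
            exact hy2 hy1
          · intro hy
            exact absurd hy (Set.notMem_empty y)
      have h3 : Disjoint (V' ⊓ Co) (V a.1 a.2 ⊓ Do) := by
        rw [← Opens.coe_disjoint, Set.disjoint_left]
        rintro y ⟨_, hy1⟩ ⟨_, _, hy2⟩
        exact hy2 hy1
      refine ⟨_, h1.sup_of_disjoint h2 h3, ?_⟩
      rintro y ⟨hyR, hy⟩
      rw [Finset.set_biUnion_insert, ← hCdef] at hy
      by_cases hyC : y ∈ C
      · exact Or.inl ⟨hsub ⟨hyR, hyC⟩, hyC⟩
      · rcases hy with hy | hy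
        · exact Or.inr ⟨hRsV a.1 a.2 ⟨hyR, hy⟩, hy, hyC⟩
        · exact absurd hy hyC
  obtain ⟨V', hV', hsub⟩ := key S
  exact ⟨V', hV', fun y hy => hsub ⟨hy, hScov hy⟩⟩

end Groth.Agent.Lib.Helper70.ProfF
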