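import Mathlib
import Groth.Agent.Lib.Helper70.ProfE
import Groth.Agent.Lib.Helper70.ProfF

/-!
# A morphism from a profinite affine scheme to a group scheme over an algebraically closed field
lands in an affine open (helper70)
-/

set_option autoImplicit false

namespace Groth.Agent.Lib.Helper70.ProfG

universe u

open AlgebraicGeometry CategoryTheory Limits TopologicalSpace MonoidalCategory
  CartesianMonoidalCategory MonObj GrpObj
open Groth.Agent.Lib.Helper70.ProfA Groth.Agent.Lib.Helper70.ProfB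
  Groth.Agent.Lib.Helper70.ProfC Groth.Agent.Lib.Helper70.ProfD
  Groth.Agent.Lib.Helper70.ProfE Groth.Agent.Lib.Helper70.ProfF
  Groth.Agent.Lib.Helper70.AffPtsA Groth.Agent.Lib.Helper70.AffPtsB
  Groth.Agent.Lib.Helper70.AvoidA Groth.Agent.Lib.Helper70.GrpConnA
  Groth.Agent.Lib.Helper70.GrpConnC Groth.Agent.Lib.Helper70.GrpConnE

variable {k : Type u} [Field k] [IsAlgClosed k] {A : Type u} [CommRing A] [Algebra k A]
  (hA : ProfAlg k A) (G : Over (Spec (CommRingCat.of k))) [GrpObj G] [JacobsonSpace G.left]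

include hA in
/-- the part of the image lying in one connected component lies in an affine open inside `W`. -/
theorem exists_affine_component
    (hrat : ∀ g : G.left, IsClosed ({g} : Set G.left) →
      ∃ x : Spec (CommRingCat.of k) ⟶ G.left, x ≫ G.hom = 𝟙 _ ∧ x (IsLocalRing.closedPoint k) = g)
    (fo : To k A ⟶ G) (W : Set G.left) (hWo : IsOpen W)
    (hfW : ∀ t : PrimeSpectrum A, fo.left t ∈ W)
    (hinv : ∀ g : 𝟙_ (Over (Spec (CommRingCat.of k))) ⟶ G, g.left p0 ∈ C0 G →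
      (ltr G g).left '' W ⊆ W) (t₀ : PrimeSpectrum A) :
    ∃ V : G.left.Opens, IsAffineOpen V ∧ (V : Set G.left) ⊆ W ∧
      ∀ t : PrimeSpectrum A, fo.left t ∈ connectedComponent (fo.left t₀) → fo.left t ∈ V := by
  obtain ⟨g₀, hg₀⟩ : ∃ g₀, g₀ = val hA G fo t₀ := ⟨_, rfl⟩
  have hg₀p : g₀.left p0 = fo.left t₀ := by rw [hg₀]; exact val_apply hA G fo t₀
  obtain ⟨φ, hφ⟩ : ∃ φ : To k A ⟶ G, φ = fo ≫ rtr G g₀⁻¹ := ⟨_, rfl⟩
  let F : Set (PrimeSpectrum A) := {t | fo.left t ∈ connectedComponent (fo.left t₀)}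
  have hF : IsClosed F := isClosed_connectedComponent.preimage fo.left.continuous
  have h_e : (rtr G g₀⁻¹).left (fo.left t₀) = ept G := by
    rw [← hg₀p, ← Scheme.Hom.comp_apply, ← Over.comp_left, pt_rtr, mul_inv_cancel, ← unit_eq_one]
    rfl
  have hφF : ∀ t ∈ F, φ.left t ∈ C0 G := by
    intro t ht
    rw [← connectedComponent_ept, ← h_e, hφ, Over.comp_left, Scheme.Hom.comp_apply]
    exact (rtr G g₀⁻¹).left.continuous.image_connectedComponent_subset _ ⟨_, ht, rfl⟩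
  have h_g0 : (rtr G g₀).left (ept G) = fo.left t₀ := by
    rw [ept_eq, ← Scheme.Hom.comp_apply, ← Over.comp_left, unit_eq_one, pt_rtr, _root_.one_mul,
      hg₀p]
  obtain ⟨U, hU, heU, hUW⟩ := exists_isAffineOpen_mem_and_subset (X := G.left) (x := ept G)
    (U := (rtr G g₀).left ⁻¹ᵁ ⟨W, hWo⟩) (by
      change (rtr G g₀).left (ept G) ∈ W
      rw [h_g0]
      exact hfW t₀)
  obtain ⟨g, hgC, hgU⟩ := exists_translate hA G hrat φ F hF hφF U hU heU
  obtain ⟨Θ, hΘ⟩ : ∃ Θ : G ⟶ G, Θ = rtr G g₀ ≫ ltr G g⁻¹ := ⟨_, rfl⟩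
  have hΘiso : IsIso Θ := by rw [hΘ]; infer_instance
  have hΘiso' : IsIso Θ.left := (inferInstance : IsIso ((Over.forget _).map Θ))
  refine ⟨Θ.left ''ᵁ U, hU.image_of_isOpenImmersion _, ?_, ?_⟩
  · rintro _ ⟨u, hu, rfl⟩
    change Θ.left u ∈ W
    rw [hΘ, Over.comp_left, Scheme.Hom.comp_apply]
    refine hinv g⁻¹ ?_ ⟨_, hUW hu, rfl⟩
    rw [Hom.inv_def, Over.comp_left, Scheme.Hom.comp_apply]
    exact inv_mem_C0 G _ hgC
  · intro t ht
    have h1 := hgU t ht
    have e1 : val hA G φ t = val hA G fo t * g₀⁻¹ := by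
      unfold val
      rw [hφ, ← Category.assoc, pt_rtr]
    have e2 : (g * (val hA G fo t * g₀⁻¹)) ≫ Θ = val hA G fo t := by
      rw [hΘ, ← Category.assoc, pt_rtr, pt_ltr]
      group
    refine ⟨(g * val hA G φ t).left p0, h1, ?_⟩
    change Θ.left ((g * val hA G φ t).left p0) = fo.left t
    rw [e1, ← Scheme.Hom.comp_apply, ← Over.comp_left, e2, val_apply]

include hA in
theorem main
    (hrat : ∀ g : G.left, IsClosed ({g} : Set G.left) →
      ∃ x : Spec (CommRingCat.of k) ⟶ G.left, x ≫ G.hom = 𝟙 _ ∧ x (IsLocalRing.closedPoint k) = g)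
    (f : Spec (CommRingCat.of A) ⟶ G.left)
    (hf : f ≫ G.hom = Spec.map (CommRingCat.ofHom (algebraMap k A))) :
    ∃ U : G.left.Opens, IsAffineOpen U ∧ Set.range ⇑f ⊆ (U : Set G.left) := by
  let fo : To k A ⟶ G := Over.homMk f hf
  have hfo : fo.left = f := rfl
  have hRc : IsCompact (Set.range f) := isCompact_range f.continuous
  obtain ⟨W₀, hW₀o, hW₀c, hRW₀, -⟩ := exists_isCompact_isOpen_between G.left _ hRc Set.univ
    isOpen_univ (Set.subset_univ _)
  let Wo : G.left.Opens := ⟨sat G W₀, isOpen_sat G W₀ hW₀o⟩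
  have hWc : IsCompact (Wo : Set G.left) := isCompact_sat G W₀ hW₀o hW₀c
  have hRW : Set.range f ⊆ (Wo : Set G.left) := hRW₀.trans (subset_sat G W₀)
  have hcs : CompactSpace ↥(Wo : Scheme.{u}) := isCompact_iff_compactSpace.mp hWc
  have hqs : QuasiSeparatedSpace ↥(Wo : Scheme.{u}) :=
    QuasiSeparatedSpace.of_isOpenEmbedding Wo.ι.isOpenEmbedding
  let R : Set ↥(Wo : Scheme.{u}) := Wo.ι ⁻¹' Set.range f
  have hR : IsCompact R := Wo.ι.isOpenEmbedding.isInducing.isCompact_preimage' hRc (by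
    rw [Scheme.Opens.range_ι]
    exact hRW)
  obtain ⟨V, hV, hRV⟩ := exists_isAffineOpen_of_connectedComponents (Wo : Scheme.{u}) R hR (by
    intro r hr
    obtain ⟨t₀, ht₀⟩ := hr
    obtain ⟨V, hV, hVW, hVc⟩ := exists_affine_component hA G hrat fo (Wo : Set G.left) Wo.isOpen
      (fun t => hRW ⟨t, rfl⟩) (ltr_sat_subset G W₀) t₀
    refine ⟨Wo.ι ⁻¹ᵁ V, hV.preimage_of_isOpenImmersion _ (by
      rw [Scheme.Opens.opensRange_ι]
      exact hVW), ?_⟩
    rintro y ⟨⟨t, ht⟩, hy⟩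
    change Wo.ι y ∈ V
    rw [← ht]
    apply hVc t
    change f t ∈ connectedComponent (f t₀)
    rw [ht, ht₀]
    exact Wo.ι.continuous.image_connectedComponent_subset r ⟨y, hy, rfl⟩)
  refine ⟨Wo.ι ''ᵁ V, hV.image_of_isOpenImmersion _, ?_⟩
  rintro _ ⟨t, rfl⟩
  have h1 : f t ∈ Wo := hRW ⟨t, rfl⟩
  exact ⟨⟨f t, h1⟩, hRV (show (⟨f t, h1⟩ : ↥(Wo : Scheme.{u})) ∈ R from ⟨t, rfl⟩), rfl⟩

end Groth.Agent.Lib.Helper70.ProfG
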