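import Mathlib

/-!
# Noetherian approximation relative to a quasi-compact open: the open-immersion form

`RelApprox DV cV T v`: the scheme `T`, which contains `cV.pt = lim DV` as an open subscheme through
`v`, is the limit of an inverse system `DS` of schemes of finite type over `ℤ` with affine
transitions, containing the system `DV` (reindexed along `α`) as a compatible system of open
subschemes `ψ j`, cartesian over the transition maps and over the projections.
-/

set_option autoImplicit false
universe u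

open CategoryTheory Limits AlgebraicGeometry Opposite

namespace Groth.Agent.Lib.Helper70.RelApx

/-- Relative approximation data (open-immersion form). -/
def RelApprox {I : Type u} [Preorder I] (DV : Iᵒᵖ ⥤ Scheme.{u}) (cV : Cone DV)
    (T : Scheme.{u}) (v : cV.pt ⟶ T) : Prop :=
  ∃ (J : Type u) (_ : Preorder J) (_ : IsDirected J (fun a b => a ≤ b)) (_ : Nonempty J)
    (DS : Jᵒᵖ ⥤ Scheme.{u}) (cS : Cone DS) (_ : IsLimit cS) (eS : cS.pt ≅ T)
    (α : J →o I) (ψ : ∀ j : J, DV.obj (op (α j)) ⟶ DS.obj (op j)),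
    (∀ (j j' : Jᵒᵖ) (a : j ⟶ j'), IsAffineHom (DS.map a)) ∧
    (∀ j, CompactSpace (DS.obj j) ∧
      LocallyOfFiniteType (IsTerminal.from specULiftZIsTerminal (DS.obj j))) ∧
    (∀ j, IsOpenImmersion (ψ j)) ∧
    (∀ (j j' : J) (h : j' ≤ j),
      ψ j ≫ DS.map (homOfLE h).op = DV.map (homOfLE (α.mono h)).op ≫ ψ j') ∧
    (∀ (j j' : J) (h : j' ≤ j) (x : DS.obj (op j)),
      DS.map (homOfLE h).op x ∈ Set.range (ψ j') → x ∈ Set.range (ψ j)) ∧
    (∀ j, v ≫ eS.inv ≫ cS.π.app (op j) = cV.π.app (op (α j)) ≫ ψ j) ∧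
    (∀ j (x : T), (eS.inv ≫ cS.π.app (op j)) x ∈ Set.range (ψ j) → x ∈ Set.range v)

end Groth.Agent.Lib.Helper70.RelApx
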