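import Mathlib
import Groth.Agent.Lib.Helper70.AbsApproxL
import Groth.Agent.Lib.Helper70.RelApxA

/-!
# Relative Noetherian approximation: the core of the inductive step
-/

set_option autoImplicit false
set_option linter.style.haveILetI false
universe u

open CategoryTheory Limits AlgebraicGeometry Opposite

namespace Groth.Agent.Lib.Helper70.AbsApproxA

open Groth.Agent.Lib.Helper23

variable {K : Type*} [Category K]
  {E F G : K ⥤ Scheme.{u}} (α : G ⟶ E) (β : G ⟶ F)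
  [∀ k, IsOpenImmersion (α.app k)] [∀ k, IsOpenImmersion (β.app k)]

lemma mem_range_comp_inl_of_map
    (hβ : ∀ {k k' : K} (φ : k ⟶ k') (x : F.obj k),
      F.map φ x ∈ Set.range (β.app k') → x ∈ Set.range (β.app k))
    {k k' : K} (φ : k ⟶ k') {Z Z' : Scheme.{u}} (ψ : Z ⟶ E.obj k) (ψ' : Z' ⟶ E.obj k')
    (hcart : ∀ y : E.obj k, E.map φ y ∈ Set.range ψ' → y ∈ Set.range ψ)
    (x : (P α β).obj k) (hx : (P α β).map φ x ∈ Set.range (ψ' ≫ inl α β k')) :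
    x ∈ Set.range (ψ ≫ inl α β k) := by
  obtain ⟨z, hz⟩ := hx
  rw [Scheme.Hom.comp_apply] at hz
  have hx1 : (P α β).map φ x ∈ Set.range (inl α β k') := ⟨ψ' z, hz⟩
  obtain ⟨y, rfl⟩ := (map_mem_range_inl_iff α β hβ φ x).mp hx1
  rw [inl_map_apply] at hz
  have hz' : ψ' z = E.map φ y := (inl α β k').isOpenEmbedding.injective hz
  obtain ⟨w, rfl⟩ := hcart y ⟨z, hz'⟩
  exact ⟨w, rfl⟩

variable (e : Cone E) (f : Cone F) (g : Cone G) (a : g.pt ⟶ e.pt) (b : g.pt ⟶ f.pt)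
  [IsOpenImmersion a] [IsOpenImmersion b]
  (hae : ∀ k, a ≫ e.π.app k = g.π.app k ≫ α.app k)
  (hbf : ∀ k, b ≫ f.π.app k = g.π.app k ≫ β.app k)

lemma mem_range_comp_inl_of_pm
    (hb : ∀ k (x : f.pt), f.π.app k x ∈ Set.range (β.app k) → x ∈ Set.range b)
    (k : K) {Z Z' : Scheme.{u}} (v : Z ⟶ e.pt) (ψ' : Z' ⟶ E.obj k)
    (hpc : ∀ y : e.pt, e.π.app k y ∈ Set.range ψ' → y ∈ Set.range v)
    (x : ↥(pushout a b)) (hx : pm α β e f g a b hae hbf k x ∈ Set.range (ψ' ≫ inl α β k)) :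
    x ∈ Set.range (v ≫ pushout.inl a b) := by
  obtain ⟨z, hz⟩ := hx
  rw [Scheme.Hom.comp_apply] at hz
  have hx1 : pm α β e f g a b hae hbf k x ∈ Set.range (inl α β k) := ⟨ψ' z, hz⟩
  obtain ⟨y, rfl⟩ := (pm_mem_range_inl_iff α β e f g a b hae hbf hb k x).mp hx1
  have h2 : pm α β e f g a b hae hbf k (pushout.inl a b y) = inl α β k (e.π.app k y) :=
    congr($(inl_pm α β e f g a b hae hbf k) y)
  rw [h2] at hz
  have hz' : ψ' z = e.π.app k y := (inl α β k).isOpenEmbedding.injective hz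
  obtain ⟨w, rfl⟩ := hpc y ⟨z, hz'⟩
  exact ⟨w, rfl⟩

end Groth.Agent.Lib.Helper70.AbsApproxA

namespace Groth.Agent.Lib.Helper70.AbsApproxE

open Groth.Agent.Lib.Helper70.AbsApproxC Groth.Agent.Lib.Helper70.AbsApproxD
  Groth.Agent.Lib.Helper70.AbsApproxA Groth.Agent.Lib.Helper70.RelApx

variable {I : Type u} [Preorder I] [OrderBot I]
  {D : Iᵒᵖ ⥤ Scheme.{u}} {c : Cone D} {W₁ : (D.obj (op ⊥)).Opens}
  {B : CommRingCat.{u}} {s : B ⟶ Γ((gcone D c W₁).pt, ⊤)}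
  {κ : Type} {g : κ → B} {f : κ → R D W₁ ⊥}

variable (D c W₁ s g f) in
/-- The projection `J → I` as an order homomorphism. -/
def projHom : J D c W₁ s g f →o I := ⟨fun j => j.i, fun _ _ h => h.fst⟩

variable [Finite κ] [IsDirected I (· ≤ ·)]

theorem core_rel (H : Hyp D c W₁ s g f) (hc : IsLimit c) [IsOpenImmersion (toSpec s)]
    (haff : ∀ (i j : Iᵒᵖ) (φ : i ⟶ j), IsAffineHom (D.map φ))
    (hD : ∀ i, CompactSpace (D.obj i) ∧
      LocallyOfFiniteType (IsTerminal.from specULiftZIsTerminal (D.obj i)))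
    {I₀ : Type u} [Preorder I₀] (DV : I₀ᵒᵖ ⥤ Scheme.{u}) (cV : Cone DV) (v₁ : cV.pt ⟶ c.pt)
    (α₁ : I →o I₀) (ψ₁ : ∀ i, DV.obj (op (α₁ i)) ⟶ D.obj (op i))
    (hψ : ∀ i, IsOpenImmersion (ψ₁ i))
    (hnat : ∀ (i i' : I) (h : i' ≤ i),
      ψ₁ i ≫ D.map (homOfLE h).op = DV.map (homOfLE (α₁.mono h)).op ≫ ψ₁ i')
    (hcart : ∀ (i i' : I) (h : i' ≤ i) (x : D.obj (op i)),
      D.map (homOfLE h).op x ∈ Set.range (ψ₁ i') → x ∈ Set.range (ψ₁ i))
    (hproj : ∀ i, v₁ ≫ c.π.app (op i) = cV.π.app (op (α₁ i)) ≫ ψ₁ i)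
    (hpc : ∀ i (x : c.pt), c.π.app (op i) x ∈ Set.range (ψ₁ i) → x ∈ Set.range v₁) :
    RelApprox DV cV (pushout (aJ D c W₁ s g f) (bJ D c W₁ s g f))
      (v₁ ≫ pushout.inl (aJ D c W₁ s g f) (bJ D c W₁ s g f)) := by
  haveI := J.isDirected H
  haveI := J.nonempty H
  haveI : ∀ X, IsOpenImmersion ((βJ D c W₁ s g f).app X) :=
    fun X => (J.toSpec_sndHom H X.unop).1
  haveI := hψ
  obtain ⟨he⟩ := nonempty_isLimit_econe H hc
  obtain ⟨hf⟩ := nonempty_isLimit_fcone H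
  have hα : ∀ {X Y : (J D c W₁ s g f)ᵒᵖ} (φ : X ⟶ Y) (x : (Efun D c W₁ s g f).obj X),
      (Efun D c W₁ s g f).map φ x ∈ Set.range ((αJ D c W₁ s g f).app Y) →
        x ∈ Set.range ((αJ D c W₁ s g f).app X) := fun φ x hx => αJ_cart φ x hx
  have hβ : ∀ {X Y : (J D c W₁ s g f)ᵒᵖ} (φ : X ⟶ Y) (x : (Ffun D c W₁ s g f).obj X),
      (Ffun D c W₁ s g f).map φ x ∈ Set.range ((βJ D c W₁ s g f).app Y) →
        x ∈ Set.range ((βJ D c W₁ s g f).app X) := fun φ x hx => βJ_cart H φ x hx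
  obtain ⟨hl⟩ := nonempty_isLimit_pcone (αJ D c W₁ s g f) (βJ D c W₁ s g f)
    (econe D c W₁ s g f) (fcone D c W₁ s g f) (gconeJ D c W₁ s g f) (aJ D c W₁ s g f)
    (bJ D c W₁ s g f) (hae D c W₁ s g f) (hbf D c W₁ s g f) hα hβ ha (hb H) he hf
  obtain ⟨ψE, hψE⟩ : ∃ ψE : ∀ j : J D c W₁ s g f,
      DV.obj (op (α₁ j.i)) ⟶ (Efun D c W₁ s g f).obj (op j), ∀ j, ψE j = ψ₁ j.i :=
    ⟨fun j => ψ₁ j.i, fun _ => rfl⟩
  haveI : ∀ j, IsOpenImmersion (ψE j) := fun j => by rw [hψE]; exact hψ j.i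
  have hnatE : ∀ (j j' : J D c W₁ s g f) (h : j' ≤ j),
      ψE j ≫ (Efun D c W₁ s g f).map (homOfLE h).op =
        DV.map (homOfLE (α₁.mono h.fst)).op ≫ ψE j' := by
    intro j j' h
    rw [hψE, hψE]
    exact hnat j.i j'.i h.fst
  have hprojE : ∀ j : J D c W₁ s g f,
      v₁ ≫ (econe D c W₁ s g f).π.app (op j) = cV.π.app (op (α₁ j.i)) ≫ ψE j := by
    intro j
    rw [hψE]
    exact hproj j.i
  refine ⟨J D c W₁ s g f, inferInstance, inferInstance, inferInstance,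
    P (αJ D c W₁ s g f) (βJ D c W₁ s g f), _, hl, Iso.refl _, α₁.comp (projHom D c W₁ s g f),
    fun j => ψE j ≫ inl (αJ D c W₁ s g f) (βJ D c W₁ s g f) (op j), ?_, ?_, ?_, ?_, ?_, ?_, ?_⟩
  · intro X Y φ
    haveI : IsAffineHom ((Efun D c W₁ s g f).map φ) := haff _ _ _
    haveI : IsAffineHom ((Ffun D c W₁ s g f).map φ) :=
      inferInstanceAs (IsAffineHom (Spec.map ((Afun D c W₁ s g f).map φ.unop)))
    exact isAffineHom_map _ _ hα hβ φ
  · intro X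
    haveI : CompactSpace ((Efun D c W₁ s g f).obj X) := (hD _).1
    haveI : CompactSpace ((Ffun D c W₁ s g f).obj X) :=
      inferInstanceAs (CompactSpace (Spec ((Afun D c W₁ s g f).obj X.unop)))
    haveI : LocallyOfFiniteType
        (IsTerminal.from specULiftZIsTerminal ((Efun D c W₁ s g f).obj X)) := (hD _).2
    haveI : LocallyOfFiniteType
        (IsTerminal.from specULiftZIsTerminal ((Ffun D c W₁ s g f).obj X)) := by
      obtain ⟨S, hS⟩ := X.unop.good.fg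
      exact Groth.Agent.Lib.Helper70.AbsApproxK.lft_Spec_of_closure X.unop.A S hS
    exact ⟨compactSpace_obj _ _ X, locallyOfFiniteType_obj _ _ specULiftZIsTerminal X⟩
  · intro j
    exact IsOpenImmersion.comp (ψE j) (inl (αJ D c W₁ s g f) (βJ D c W₁ s g f) (op j))
  · intro j j' h
    change (ψE j ≫ inl (αJ D c W₁ s g f) (βJ D c W₁ s g f) (op j)) ≫ (P (αJ D c W₁ s g f) (βJ D c W₁ s g f)).map (homOfLE h).op =
      DV.map (homOfLE (α₁.mono h.fst)).op ≫ (ψE j' ≫ inl (αJ D c W₁ s g f) (βJ D c W₁ s g f) (op j'))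
    rw [Category.assoc, inl_map, ← Category.assoc, ← Category.assoc, hnatE j j' h]
  · intro j j' h x hx
    exact mem_range_comp_inl_of_map _ _ hβ (homOfLE h).op (ψE j) (ψE j')
      (fun y hy => by rw [hψE] at hy ⊢; exact hcart j.i j'.i h.fst y hy) x hx
  · intro j
    change (v₁ ≫ pushout.inl (aJ D c W₁ s g f) (bJ D c W₁ s g f)) ≫ 𝟙 _ ≫
      pm (αJ D c W₁ s g f) (βJ D c W₁ s g f) (econe D c W₁ s g f) (fcone D c W₁ s g f)
        (gconeJ D c W₁ s g f) (aJ D c W₁ s g f) (bJ D c W₁ s g f) (hae D c W₁ s g f)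
        (hbf D c W₁ s g f) (op j) = cV.π.app (op (α₁ j.i)) ≫ (ψE j ≫ inl (αJ D c W₁ s g f) (βJ D c W₁ s g f) (op j))
    have h1 := inl_pm (αJ D c W₁ s g f) (βJ D c W₁ s g f) (econe D c W₁ s g f)
      (fcone D c W₁ s g f) (gconeJ D c W₁ s g f) (aJ D c W₁ s g f) (bJ D c W₁ s g f)
      (hae D c W₁ s g f) (hbf D c W₁ s g f) (op j)
    rw [Category.id_comp, Category.assoc]
    refine (congrArg (fun t => v₁ ≫ t) h1).trans ?_
    change (v₁ ≫ (econe D c W₁ s g f).π.app (op j)) ≫ _ = _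
    rw [hprojE j, Category.assoc]
  · intro j x hx
    exact mem_range_comp_inl_of_pm (αJ D c W₁ s g f) (βJ D c W₁ s g f) (econe D c W₁ s g f)
      (fcone D c W₁ s g f) (gconeJ D c W₁ s g f) (aJ D c W₁ s g f) (bJ D c W₁ s g f)
      (hae D c W₁ s g f) (hbf D c W₁ s g f) (hb H) (op j) v₁ (ψE j)
      (fun y hy => by rw [hψE] at hy; exact hpc j.i y hy) x hx

end Groth.Agent.Lib.Helper70.AbsApproxE
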