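import Mathlib
import Groth.Agent.Lib.Helper70.AbsApproxQ
import Groth.Agent.Lib.Helper70.AbsApproxR0
import Groth.Agent.Lib.Helper70.RelApxB

/-!
# Relative Noetherian approximation: the inductive step
-/

set_option autoImplicit false
set_option linter.style.haveILetI false
universe u

open CategoryTheory Limits AlgebraicGeometry Opposite

namespace Groth.Agent.Lib.Helper70.RelApx

open Groth.Agent.Lib.Helper70.AbsApproxE Groth.Agent.Lib.Helper70.AbsApproxP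
  Groth.Agent.Lib.Helper70.AbsApproxD Groth.Agent.Lib.Helper70.AbsApproxQ
  Groth.Agent.Lib.Helper70.AbsApproxR Groth.Agent.Lib.Helper23

theorem RelApprox.of_iso {I₀ : Type u} [Preorder I₀] {DV : I₀ᵒᵖ ⥤ Scheme.{u}} {cV : Cone DV}
    {T T' : Scheme.{u}} {v : cV.pt ⟶ T} (h : RelApprox DV cV T v) (e : T ≅ T') :
    RelApprox DV cV T' (v ≫ e.hom) := by
  obtain ⟨J, i1, i2, i3, DS, cS, hcS, eS, α, ψ, h1, h2, h3, h4, h5, h6, h7⟩ := h
  refine ⟨J, i1, i2, i3, DS, cS, hcS, eS ≪≫ e, α, ψ, h1, h2, h3, h4, h5, ?_, ?_⟩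
  · intro j
    rw [Iso.trans_inv, Category.assoc, Category.assoc, Iso.hom_inv_id_assoc]
    exact h6 j
  · intro j x hx
    have hx' : (eS.inv ≫ cS.π.app (op j)) (e.inv x) ∈ Set.range (ψ j) := by
      rw [Iso.trans_inv, Category.assoc] at hx
      exact hx
    obtain ⟨w, hw⟩ := h7 j (e.inv x) hx'
    refine ⟨w, ?_⟩
    rw [Scheme.Hom.comp_apply, hw, ← Scheme.Hom.comp_apply, Iso.inv_hom_id]
    rfl

lemma relApprox_pushout_congr {I₀ : Type u} [Preorder I₀] {DV : I₀ᵒᵖ ⥤ Scheme.{u}} {cV : Cone DV}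
    {X Y Z : Scheme.{u}} (a : X ⟶ Y) (b b' : X ⟶ Z)
    [IsOpenImmersion a] [IsOpenImmersion b] [IsOpenImmersion b'] (h : b = b') (v : cV.pt ⟶ Y)
    (H : RelApprox DV cV (pushout a b) (v ≫ pushout.inl a b)) :
    RelApprox DV cV (pushout a b') (v ≫ pushout.inl a b') := by
  subst h
  exact H

variable {I : Type u} [Preorder I] [IsDirected I (· ≤ ·)]
  (D : Iᵒᵖ ⥤ Scheme.{u}) (c : Cone D) (hc : IsLimit c)
  [∀ {i j : Iᵒᵖ} (φ : i ⟶ j), IsAffineHom (D.map φ)]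
  [∀ i, QuasiSeparatedSpace (D.obj i)] [∀ i, CompactSpace (D.obj i)]
  (hD : ∀ i, LocallyOfFiniteType (IsTerminal.from specULiftZIsTerminal (D.obj i)))

include hc hD in
theorem exists_hyp (i₃ : I) (W₃ : (D.obj (op i₃)).Opens)
    (hW₃c : IsCompact (W₃ : Set (D.obj (op i₃))))
    {B : CommRingCat.{u}} (b : (c.π.app (op i₃) ⁻¹ᵁ W₃).toScheme ⟶ Spec B) [IsOpenImmersion b]
    {n : ℕ} (g : Fin n → B)
    (hg : Set.range b = ⋃ k, (PrimeSpectrum.basicOpen (g k) : Set (PrimeSpectrum B)))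
    (F : Fin n → Γ(W₃.toScheme, ⊤))
    (hF : ∀ k, ((c.π.app (op i₃)).resLE W₃ (c.π.app (op i₃) ⁻¹ᵁ W₃) le_rfl).appTop (F k) =
      b.appTop ((Scheme.ΓSpecIso B).inv (g k)))
    (haff : ∀ k, IsAffineOpen (W₃.toScheme.basicOpen (F k)))
    (hcov : ∀ x : W₃.toScheme, ∃ k, x ∈ W₃.toScheme.basicOpen (F k)) :
    ∃ (s : B ⟶ Γ((gcone (D' i₃ D) (c' i₃ D c) W₃).pt, ⊤)) (f : Fin n → R (D' i₃ D) W₃ ⊥),
      toSpec s = b ∧ Hyp (D' i₃ D) (c' i₃ D c) W₃ s g f := by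
  classical
  obtain ⟨s, hs⟩ : ∃ s : B ⟶ Γ((gcone (D' i₃ D) (c' i₃ D c) W₃).pt, ⊤),
    s = (Scheme.ΓSpecIso B).inv ≫ b.appTop := ⟨_, rfl⟩
  have hbs : toSpec s = b := by rw [hs]; exact (eq_toSpec b).symm
  have hbI : IsOpenImmersion b := inferInstance
  haveI : IsOpenImmersion (toSpec s) := @isOpenImmersion_toSpec_of_eq _ _ s b hbI hbs
  have hmap : (D' i₃ D).map (homOfLE (bot_le : (⊥ : ↥(Set.Ici i₃)) ≤ ⊥)).op = 𝟙 _ := by
    have : (homOfLE (bot_le : (⊥ : ↥(Set.Ici i₃)) ≤ ⊥)).op = 𝟙 (op ⊥) := Subsingleton.elim _ _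
    rw [this, (D' i₃ D).map_id]
  haveI : IsIso ((D' i₃ D).map (homOfLE (bot_le : (⊥ : ↥(Set.Ici i₃)) ≤ ⊥)).op) := by
    rw [hmap]; infer_instance
  let ε : (Gfun (D' i₃ D) W₃).obj (op ⊥) ⟶ W₃.toScheme :=
    ((D' i₃ D).map (homOfLE (bot_le : (⊥ : ↥(Set.Ici i₃)) ≤ ⊥)).op).resLE W₃
      (Wi (D' i₃ D) W₃ ⊥) le_rfl
  have hε : ε ≫ W₃.ι = (Wi (D' i₃ D) W₃ ⊥).ι :=
    (Scheme.Hom.resLE_comp_ι _ _).trans (by rw [hmap]; exact Category.comp_id _)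
  haveI : IsIso ε := by
    change IsIso (Scheme.Hom.resLE _ _ _ _)
    rw [Scheme.Hom.resLE]
    haveI : IsIso (((D' i₃ D).obj (op ⊥)).homOfLE (le_refl (Wi (D' i₃ D) W₃ ⊥))) := by
      rw [Scheme.homOfLE_rfl]; infer_instance
    infer_instance
  let f : Fin n → R (D' i₃ D) W₃ ⊥ := fun k => ε.appTop (F k)
  have hbo : ∀ k, ((Gfun (D' i₃ D) W₃).obj (op ⊥)).basicOpen (f k) =
      ε ⁻¹ᵁ W₃.toScheme.basicOpen (F k) := fun k => (Scheme.preimage_basicOpen_top ε (F k)).symm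
  have tf : ∀ k, (t (D' i₃ D) (c' i₃ D c) W₃ ⊥).hom (f k) = s.hom (g k) := by
    intro k
    have e1 : (gcone (D' i₃ D) (c' i₃ D c) W₃).π.app (op ⊥) ≫ ε =
        (c.π.app (op i₃)).resLE W₃ (c.π.app (op i₃) ⁻¹ᵁ W₃) le_rfl := by
      apply (cancel_mono W₃.ι).mp
      rw [Category.assoc, hε]
      exact (gcone_comm (D' i₃ D) (c' i₃ D c) W₃ (op ⊥)).trans
        (Scheme.Hom.resLE_comp_ι _ _).symm
    have := hF k
    rw [← e1] at this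
    rw [hs]
    exact this
  have hcov' : ∀ x : (Gfun (D' i₃ D) W₃).obj (op ⊥),
      ∃ k, x ∈ ((Gfun (D' i₃ D) W₃).obj (op ⊥)).basicOpen (f k) := by
    intro x
    obtain ⟨k, hk⟩ := hcov (ε x)
    exact ⟨k, by rw [hbo]; exact hk⟩
  have haff' : ∀ k, IsAffineOpen (((Gfun (D' i₃ D) W₃).obj (op ⊥)).basicOpen (f k)) := by
    intro k
    rw [hbo]
    exact (haff k).preimage_of_isIso ε
  have hgb : ∀ k, (PrimeSpectrum.basicOpen (g k) : Set (PrimeSpectrum B)) ⊆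
      Set.range (toSpec s) := by
    intro k x hx
    have h2 : x ∈ Set.range b := by rw [hg]; exact Set.mem_iUnion.mpr ⟨k, hx⟩
    rw [hbs]; exact h2
  have H : Hyp (D' i₃ D) (c' i₃ D c) W₃ s g f :=
    hyp_of_bot (D' i₃ D) (c' i₃ D c) W₃ s g f hW₃c (isLimitC' i₃ D c hc) (fun i => hD _)
      tf hcov' haff' hgb
  exact ⟨s, f, hbs, H⟩

end Groth.Agent.Lib.Helper70.RelApx
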