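import Mathlib
import Groth.Agent.Lib.Helper70.RelApxC

/-!
# Relative Noetherian approximation: the inductive step, assembled
-/

set_option autoImplicit false
set_option linter.style.haveILetI false
universe u

open CategoryTheory Limits AlgebraicGeometry Opposite

namespace Groth.Agent.Lib.Helper70.RelApx

open Groth.Agent.Lib.Helper70.AbsApproxE Groth.Agent.Lib.Helper70.AbsApproxP
  Groth.Agent.Lib.Helper70.AbsApproxD Groth.Agent.Lib.Helper70.AbsApproxQ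
  Groth.Agent.Lib.Helper70.AbsApproxR Groth.Agent.Lib.Helper23

section Aux

variable {I : Type u} [Preorder I] [IsDirected I (· ≤ ·)]
  (D : Iᵒᵖ ⥤ Scheme.{u}) (c : Cone D) (hc : IsLimit c)
  [∀ {i j : Iᵒᵖ} (φ : i ⟶ j), IsAffineHom (D.map φ)]
  [∀ i, QuasiSeparatedSpace (D.obj i)] [∀ i, CompactSpace (D.obj i)]
  (hD : ∀ i, LocallyOfFiniteType (IsTerminal.from specULiftZIsTerminal (D.obj i)))
  {I₀ : Type u} [Preorder I₀] (DV : I₀ᵒᵖ ⥤ Scheme.{u}) (cV : Cone DV) (v₁ : cV.pt ⟶ c.pt)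
  (α₁ : I →o I₀) (ψ₁ : ∀ i, DV.obj (op (α₁ i)) ⟶ D.obj (op i))
  (hψ : ∀ i, IsOpenImmersion (ψ₁ i))
  (hnat : ∀ (i i' : I) (h : i' ≤ i),
    ψ₁ i ≫ D.map (homOfLE h).op = DV.map (homOfLE (α₁.mono h)).op ≫ ψ₁ i')
  (hcart : ∀ (i i' : I) (h : i' ≤ i) (x : D.obj (op i)),
    D.map (homOfLE h).op x ∈ Set.range (ψ₁ i') → x ∈ Set.range (ψ₁ i))
  (hproj : ∀ i, v₁ ≫ c.π.app (op i) = cV.π.app (op (α₁ i)) ≫ ψ₁ i)
  (hpc : ∀ i (x : c.pt), c.π.app (op i) x ∈ Set.range (ψ₁ i) → x ∈ Set.range v₁)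

/-- The inclusion `Set.Ici i₃ → I` as an order homomorphism. -/
def inclHom (i₃ : I) : ↥(Set.Ici i₃) →o I := ⟨fun i => (i : I), fun _ _ h => h⟩

include hc hD hψ hnat hcart hproj hpc in
theorem relApprox_pushout (i₃ : I) (W₃ : (D.obj (op i₃)).Opens)
    (hW₃c : IsCompact (W₃ : Set (D.obj (op i₃))))
    {B : CommRingCat.{u}} (b : (c.π.app (op i₃) ⁻¹ᵁ W₃).toScheme ⟶ Spec B) [IsOpenImmersion b]
    {n : ℕ} (g : Fin n → B)
    (hg : Set.range b = ⋃ k, (PrimeSpectrum.basicOpen (g k) : Set (PrimeSpectrum B)))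
    (F : Fin n → Γ(W₃.toScheme, ⊤))
    (hF : ∀ k, ((c.π.app (op i₃)).resLE W₃ (c.π.app (op i₃) ⁻¹ᵁ W₃) le_rfl).appTop (F k) =
      b.appTop ((Scheme.ΓSpecIso B).inv (g k)))
    (haff : ∀ k, IsAffineOpen (W₃.toScheme.basicOpen (F k)))
    (hcov : ∀ x : W₃.toScheme, ∃ k, x ∈ W₃.toScheme.basicOpen (F k)) :
    RelApprox DV cV (pushout (c.π.app (op i₃) ⁻¹ᵁ W₃).ι b)
      (v₁ ≫ pushout.inl (c.π.app (op i₃) ⁻¹ᵁ W₃).ι b) := by
  obtain ⟨s, f, hbs, H⟩ := exists_hyp D c hc hD i₃ W₃ hW₃c b g hg F hF haff hcov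
  have hbI : IsOpenImmersion b := inferInstance
  haveI : IsOpenImmersion (toSpec s) := @isOpenImmersion_toSpec_of_eq _ _ s b hbI hbs
  have h1 := core_rel H (isLimitC' i₃ D c hc) (fun i j φ => inferInstance)
    (fun i => ⟨inferInstance, hD _⟩) DV cV v₁ (α₁.comp (inclHom i₃)) (fun i => ψ₁ (i : I))
    (fun i => hψ i) (fun i i' h => hnat i i' h) (fun i i' h x hx => hcart i i' h x hx)
    (fun i => hproj i) (fun i x hx => hpc i x hx)
  have i1 : IsOpenImmersion (aJ (D' i₃ D) (c' i₃ D c) W₃ s g f) := inferInstance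
  have i2 : IsOpenImmersion (bJ (D' i₃ D) (c' i₃ D c) W₃ s g f) := inferInstance
  exact @relApprox_pushout_congr _ _ DV cV _ _ _ (aJ (D' i₃ D) (c' i₃ D c) W₃ s g f)
    (bJ (D' i₃ D) (c' i₃ D c) W₃ s g f) b i1 i2 hbI hbs v₁ h1

end Aux

end Groth.Agent.Lib.Helper70.RelApx
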