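import Mathlib
import Groth.Agent.Lib.Helper70.RelApxD

/-!
# Relative Noetherian approximation: the inductive step
-/

set_option autoImplicit false
set_option linter.style.haveILetI false
universe u

open CategoryTheory Limits AlgebraicGeometry Opposite

namespace Groth.Agent.Lib.Helper70.RelApx

open Groth.Agent.Lib.Helper70.AbsApproxE Groth.Agent.Lib.Helper70.AbsApproxP
  Groth.Agent.Lib.Helper70.AbsApproxD Groth.Agent.Lib.Helper70.AbsApproxQ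
  Groth.Agent.Lib.Helper70.AbsApproxR Groth.Agent.Lib.Helper23

section Aux

variable {S : Scheme.{u}} {U : S.Opens} (hU : IsAffineOpen U)
  {I : Type u} [Preorder I] [IsDirected I (· ≤ ·)]
  (D : Iᵒᵖ ⥤ Scheme.{u}) (c : Cone D) (hc : IsLimit c)
  [∀ {i j : Iᵒᵖ} (φ : i ⟶ j), IsAffineHom (D.map φ)]
  [∀ i, QuasiSeparatedSpace (D.obj i)] [∀ i, CompactSpace (D.obj i)]
  (hD : ∀ i, LocallyOfFiniteType (IsTerminal.from specULiftZIsTerminal (D.obj i)))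
  {I₀ : Type u} [Preorder I₀] (DV : I₀ᵒᵖ ⥤ Scheme.{u}) (cV : Cone DV) (v₁ : cV.pt ⟶ c.pt)
  (α₁ : I →o I₀) (ψ₁ : ∀ i, DV.obj (op (α₁ i)) ⟶ D.obj (op i))
  (hψ : ∀ i, IsOpenImmersion (ψ₁ i))
  (hnat : ∀ (i i' : I) (h : i' ≤ i),
    ψ₁ i ≫ D.map (homOfLE h).op = DV.map (homOfLE (α₁.mono h)).op ≫ ψ₁ i')
  (hcart : ∀ (i i' : I) (h : i' ≤ i) (x : D.obj (op i)),
    D.map (homOfLE h).op x ∈ Set.range (ψ₁ i') → x ∈ Set.range (ψ₁ i))
  (hproj : ∀ i, v₁ ≫ c.π.app (op i) = cV.π.app (op (α₁ i)) ≫ ψ₁ i)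
  (hpc : ∀ i (x : c.pt), c.π.app (op i) x ∈ Set.range (ψ₁ i) → x ∈ Set.range v₁)

include hc hD hψ hnat hcart hproj hpc in
theorem step_aux_rel (v : c.pt ⟶ S) [IsOpenImmersion v]
    (hUv : ∀ x : S, x ∈ U ∨ x ∈ Set.range v)
    (W : c.pt.Opens) (hWdef : W = v ⁻¹ᵁ U)
    (bW : W.toScheme ⟶ Spec Γ(S, U)) [IsOpenImmersion bW] (hbW : bW ≫ hU.fromSpec = W.ι ≫ v)
    {n : ℕ} (g : Fin n → Γ(S, U))
    (hg : Set.range bW = ⋃ k, (PrimeSpectrum.basicOpen (g k) : Set (PrimeSpectrum Γ(S, U))))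
    (i₃ : I) (W₃ : (D.obj (op i₃)).Opens) (hW₃ : c.π.app (op i₃) ⁻¹ᵁ W₃ = W)
    (hW₃c : IsCompact (W₃ : Set (D.obj (op i₃))))
    (F : Fin n → Γ(W₃.toScheme, ⊤))
    (hF : ∀ k, ((c.π.app (op i₃)).resLE W₃ W hW₃.ge).appTop (F k) =
      bW.appTop ((Scheme.ΓSpecIso Γ(S, U)).inv (g k)))
    (haff : ∀ k, IsAffineOpen (W₃.toScheme.basicOpen (F k)))
    (hcov : ∀ x : W₃.toScheme, ∃ k, x ∈ W₃.toScheme.basicOpen (F k)) :
    RelApprox DV cV S (v₁ ≫ v) := by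
  subst hW₃
  have h1 := relApprox_pushout D c hc hD DV cV v₁ α₁ ψ₁ hψ hnat hcart hproj hpc i₃ W₃ hW₃c bW g hg
    F hF haff hcov
  have comm : (c.π.app (op i₃) ⁻¹ᵁ W₃).ι ≫ v = bW ≫ hU.fromSpec := hbW.symm
  haveI : IsIso (pushout.desc v hU.fromSpec comm) := by
    refine isIso_pushout_desc _ _ v hU.fromSpec comm ?_ ?_
    · intro x
      rcases hUv x with h | h
      · right; rw [hU.range_fromSpec]; exact h
      · left; exact h
    · intro y z h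
      have hy : y ∈ c.π.app (op i₃) ⁻¹ᵁ W₃ := by
        rw [hWdef]
        change v y ∈ U
        rw [h]
        have : hU.fromSpec z ∈ Set.range hU.fromSpec := ⟨z, rfl⟩
        rwa [hU.range_fromSpec] at this
      refine ⟨⟨y, hy⟩, rfl, ?_⟩
      apply hU.fromSpec.isOpenEmbedding.injective
      rw [← Scheme.Hom.comp_apply, hbW, Scheme.Hom.comp_apply]
      exact h
  have h2 := h1.of_iso (asIso (pushout.desc v hU.fromSpec comm))
  have h3 : (v₁ ≫ pushout.inl (c.π.app (op i₃) ⁻¹ᵁ W₃).ι bW) ≫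
      (asIso (pushout.desc v hU.fromSpec comm)).hom = v₁ ≫ v := by
    rw [asIso_hom, Category.assoc, pushout.inl_desc]
  rw [h3] at h2
  exact h2

end Aux

/-- The inductive step of relative Noetherian approximation. -/
theorem step_rel {I₀ : Type u} [Preorder I₀] (DV : I₀ᵒᵖ ⥤ Scheme.{u}) (cV : Cone DV)
    (S : Scheme.{u}) [CompactSpace S] [QuasiSeparatedSpace S] (U V : S.Opens)
    (hU : IsAffineOpen U) (hV : IsCompact (V : Set S)) (hUV : U ⊔ V = ⊤)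
    (w₁ : cV.pt ⟶ V.toScheme) (hVA : RelApprox DV cV V.toScheme w₁) :
    RelApprox DV cV S (w₁ ≫ V.ι) := by
  obtain ⟨I, _, _, _, D, c, hc, e, α₁, ψ₁, haffD, hD, hψ, hnat, hcart, hproj, hpc⟩ := hVA
  haveI : ∀ {i j : Iᵒᵖ} (φ : i ⟶ j), IsAffineHom (D.map φ) := fun φ => haffD _ _ φ
  haveI : ∀ i, CompactSpace (D.obj i) := fun i => (hD i).1
  haveI : ∀ i, QuasiSeparatedSpace (D.obj i) := fun i => by
    haveI := (hD i).2
    exact qs_of_lft _
  obtain ⟨v, hv⟩ : ∃ v : c.pt ⟶ S, v = e.hom ≫ V.ι := ⟨_, rfl⟩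
  haveI : IsOpenImmersion v := by rw [hv]; infer_instance
  have hrv : Set.range v = (V : Set S) := by
    rw [hv, Scheme.Hom.comp_base, TopCat.coe_comp, Set.range_comp,
      Set.range_eq_univ.mpr e.hom.surjective, Set.image_univ, Scheme.Opens.range_ι]
  have hUv : ∀ x : S, x ∈ U ∨ x ∈ Set.range v := by
    intro x
    have hx : x ∈ U ⊔ V := by rw [hUV]; trivial
    rw [hrv]
    exact hx
  obtain ⟨W, hWdef⟩ : ∃ W : c.pt.Opens, W = v ⁻¹ᵁ U := ⟨_, rfl⟩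
  have hWc : IsCompact (W : Set c.pt) := by
    rw [hWdef, v.isOpenEmbedding.isInducing.isCompact_iff]
    have : v '' ((v ⁻¹ᵁ U : c.pt.Opens) : Set c.pt) = (U : Set S) ∩ (V : Set S) := by
      rw [← hrv]
      exact Set.image_preimage_eq_inter_range
    rw [this]
    exact QuasiSeparatedSpace.inter_isCompact (U : Set S) (V : Set S) U.isOpen hU.isCompact
      V.isOpen hV
  haveI : CompactSpace W.toScheme := isCompact_iff_compactSpace.mp hWc
  have hr : Set.range (W.ι ≫ v) ⊆ Set.range hU.fromSpec := by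
    rw [hU.range_fromSpec]
    rintro _ ⟨x, rfl⟩
    have : W.ι x ∈ v ⁻¹ᵁ U := by rw [← hWdef]; exact x.2
    exact this
  obtain ⟨bW, hbW⟩ : ∃ bW : W.toScheme ⟶ Spec Γ(S, U), bW ≫ hU.fromSpec = W.ι ≫ v :=
    ⟨IsOpenImmersion.lift hU.fromSpec (W.ι ≫ v) hr, IsOpenImmersion.lift_fac _ _ _⟩
  haveI : IsOpenImmersion bW := by
    haveI : IsOpenImmersion (bW ≫ hU.fromSpec) := by rw [hbW]; infer_instance
    exact IsOpenImmersion.of_comp bW hU.fromSpec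
  obtain ⟨n, g, hg⟩ := exists_basicOpen_cover bW.opensRange (isCompact_range bW.continuous)
  have hg' : Set.range bW =
      ⋃ k, (PrimeSpectrum.basicOpen (g k) : Set (PrimeSpectrum Γ(S, U))) := hg
  -- the ring map
  obtain ⟨s, hs⟩ : ∃ s : Γ(S, U) ⟶ Γ(W.toScheme, ⊤),
    s = (Scheme.ΓSpecIso Γ(S, U)).inv ≫ bW.appTop := ⟨_, rfl⟩
  have hbs : toSpec s = bW := by rw [hs]; exact (eq_toSpec bW).symm
  haveI : IsOpenImmersion (W.toScheme.toSpecΓ ≫ Spec.map s) := by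
    change IsOpenImmersion (toSpec s)
    rw [hbs]; infer_instance
  have hgk : ∀ k, (PrimeSpectrum.basicOpen (g k) : Set (PrimeSpectrum Γ(S, U))) ⊆
      Set.range (W.toScheme.toSpecΓ ≫ Spec.map s) := by
    intro k x hx
    change x ∈ Set.range (toSpec s)
    rw [hbs, hg']
    exact Set.mem_iUnion.mpr ⟨k, hx⟩
  have haffσ : ∀ k, IsAffineOpen (W.toScheme.basicOpen
      (bW.appTop ((Scheme.ΓSpecIso Γ(S, U)).inv (g k)))) := by
    intro k
    have := isAffineOpen_basicOpen_of_toSpec s (g k) (hgk k)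
    rw [hs] at this
    exact this
  have hcovσ : ∀ x : W.toScheme, ∃ k, x ∈ W.toScheme.basicOpen
      (bW.appTop ((Scheme.ΓSpecIso Γ(S, U)).inv (g k))) := by
    intro x
    have hx : bW x ∈ Set.range bW := ⟨x, rfl⟩
    rw [hg'] at hx
    obtain ⟨k, hk⟩ := Set.mem_iUnion.mp hx
    refine ⟨k, ?_⟩
    have h1 := toSpec_preimage_basicOpen s (g k)
    rw [hbs, hs] at h1
    have h2 : x ∈ bW ⁻¹ᵁ PrimeSpectrum.basicOpen (g k) := hk
    rw [h1] at h2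
    exact h2
  obtain ⟨i₃, W₃, hW₃, F, hW₃c, hF, haff, hcov⟩ := exists_stage' D c hc W hWc
    (fun k => bW.appTop ((Scheme.ΓSpecIso Γ(S, U)).inv (g k))) haffσ hcovσ
  have hproj' : ∀ i, (w₁ ≫ e.inv) ≫ c.π.app (op i) = cV.π.app (op (α₁ i)) ≫ ψ₁ i := by
    intro i
    rw [Category.assoc]
    exact hproj i
  have hpc' : ∀ i (x : c.pt), c.π.app (op i) x ∈ Set.range (ψ₁ i) → x ∈ Set.range (w₁ ≫ e.inv) := by
    intro i x hx
    have hx' : (e.inv ≫ c.π.app (op i)) (e.hom x) ∈ Set.range (ψ₁ i) := by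
      rw [← Scheme.Hom.comp_apply, Iso.hom_inv_id_assoc]
      exact hx
    obtain ⟨w, hw⟩ := hpc i (e.hom x) hx'
    refine ⟨w, ?_⟩
    rw [Scheme.Hom.comp_apply, hw, ← Scheme.Hom.comp_apply, Iso.hom_inv_id]
    rfl
  have key := step_aux_rel hU D c hc (fun i => (hD i).2) DV cV (w₁ ≫ e.inv) α₁ ψ₁ hψ hnat hcart
    hproj' hpc' v hUv W hWdef bW hbW g hg' i₃ W₃ hW₃ hW₃c F hF haff hcov
  have h4 : (w₁ ≫ e.inv) ≫ v = w₁ ≫ V.ι := by
    rw [hv, Category.assoc, Iso.inv_hom_id_assoc]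
  rw [h4] at key
  exact key

end Groth.Agent.Lib.Helper70.RelApx
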