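import Mathlib
import Groth.Agent.Lib.Helper70.RelApxE

/-!
# Relative Noetherian approximation: the induction over a finite affine cover
-/

set_option autoImplicit false
set_option linter.style.haveILetI false
universe u

open CategoryTheory Limits AlgebraicGeometry Opposite TopologicalSpace

namespace Groth.Agent.Lib.Helper70.RelApx

/-- The system `DV` approximates its own limit relative to itself. -/
theorem relApprox_refl {I : Type u} [Preorder I] [IsDirected I (· ≤ ·)] [Nonempty I]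
    (DV : Iᵒᵖ ⥤ Scheme.{u}) (cV : Cone DV) (hcV : IsLimit cV)
    (haff : ∀ (i i' : Iᵒᵖ) (a : i ⟶ i'), IsAffineHom (DV.map a))
    (hft : ∀ i, CompactSpace (DV.obj i) ∧
      LocallyOfFiniteType (IsTerminal.from specULiftZIsTerminal (DV.obj i))) :
    RelApprox DV cV cV.pt (𝟙 _) := by
  refine ⟨I, inferInstance, inferInstance, inferInstance, DV, cV, hcV, Iso.refl _, OrderHom.id,
    fun j => 𝟙 (DV.obj (op j)), haff, hft, ?_, ?_, ?_, ?_, ?_⟩
  · intro j
    change IsOpenImmersion (𝟙 (DV.obj (op j)))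
    infer_instance
  · intro j j' h
    change 𝟙 (DV.obj (op j)) ≫ DV.map (homOfLE h).op =
      DV.map (homOfLE h).op ≫ 𝟙 (DV.obj (op j'))
    rw [Category.id_comp, Category.comp_id]
  · intro j j' h x _
    exact ⟨x, rfl⟩
  · intro j
    change 𝟙 cV.pt ≫ (Iso.refl cV.pt).inv ≫ cV.π.app (op j) =
      cV.π.app (op j) ≫ 𝟙 (DV.obj (op j))
    rw [Iso.refl_inv, Category.id_comp, Category.id_comp, Category.comp_id]
  · intro j x _
    exact ⟨x, rfl⟩

/-- The step of the induction, in a form free of dependent-type trouble. -/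
theorem step_general {I₀ : Type u} [Preorder I₀] (DV : I₀ᵒᵖ ⥤ Scheme.{u}) (cV : Cone DV)
    (S : Scheme.{u}) [QuasiSeparatedSpace S] (V : S.Opens) (eV : cV.pt ≅ V.toScheme)
    (T W₁ : S.Opens) (U : S.affineOpens) (hT : T = W₁ ⊔ U.1) (hVW : V ≤ W₁) (hVT : V ≤ T)
    (hW₁c : IsCompact (W₁ : Set S))
    (h : RelApprox DV cV W₁.toScheme (eV.hom ≫ S.homOfLE hVW)) :
    RelApprox DV cV T.toScheme (eV.hom ≫ S.homOfLE hVT) := by
  have hWT : W₁ ≤ T := hT ▸ le_sup_left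
  have hUT : U.1 ≤ T := hT ▸ le_sup_right
  haveI : CompactSpace T.toScheme := by
    have h1 : IsCompact (T : Set S) := by rw [hT]; exact hW₁c.union U.2.isCompact
    exact isCompact_iff_compactSpace.mp h1
  haveI : QuasiSeparatedSpace T.toScheme := T.ι.isOpenEmbedding.quasiSeparatedSpace
  have himg : ∀ V : S.Opens, V ≤ T → T.ι ''ᵁ (T.ι ⁻¹ᵁ V) = V := fun V hV => by
    rw [Scheme.Hom.image_preimage_eq_opensRange_inf, Scheme.Opens.opensRange_ι]
    exact inf_eq_right.mpr hV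
  have hUaff : IsAffineOpen (T.ι ⁻¹ᵁ U.1) := by
    have h1 : IsAffineOpen (T.ι ''ᵁ (T.ι ⁻¹ᵁ U.1)) := by rw [himg _ hUT]; exact U.2
    exact (T.ι.isAffineOpen_iff_of_isOpenImmersion).mp h1
  have hWcomp : IsCompact ((T.ι ⁻¹ᵁ W₁ : T.toScheme.Opens) : Set T.toScheme) := by
    have h1 : IsCompact ((T.ι ''ᵁ (T.ι ⁻¹ᵁ W₁) : S.Opens) : Set S) := by
      rw [himg _ hWT]; exact hW₁c
    rw [Scheme.Hom.coe_image] at h1
    exact T.ι.isOpenEmbedding.isInducing.isCompact_iff.mpr h1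
  have hsup : T.ι ⁻¹ᵁ U.1 ⊔ T.ι ⁻¹ᵁ W₁ = ⊤ := by
    rw [← Scheme.Hom.preimage_sup, sup_comm, ← hT]
    apply SetLike.coe_injective
    ext x
    simp only [Scheme.Hom.coe_preimage, Set.mem_preimage, SetLike.mem_coe, Opens.coe_top,
      Set.mem_univ, iff_true]
    exact x.2
  have hrange : Set.range W₁.ι = Set.range ((T.ι ⁻¹ᵁ W₁).ι ≫ T.ι) := by
    rw [Scheme.Hom.comp_base, TopCat.coe_comp, Set.range_comp, Scheme.Opens.range_ι,
      Scheme.Opens.range_ι]
    have := congrArg (fun V : S.Opens => (V : Set S)) (himg W₁ hWT)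
    simpa using this.symm
  obtain ⟨ι₁, hι₁⟩ : ∃ e : W₁.toScheme ≅ (T.ι ⁻¹ᵁ W₁).toScheme,
      e.hom ≫ (T.ι ⁻¹ᵁ W₁).ι ≫ T.ι = W₁.ι :=
    ⟨IsOpenImmersion.isoOfRangeEq W₁.ι ((T.ι ⁻¹ᵁ W₁).ι ≫ T.ι) hrange,
      IsOpenImmersion.isoOfRangeEq_hom_fac _ _ _⟩
  have h1 := h.of_iso ι₁
  have h2 := step_rel DV cV T.toScheme (T.ι ⁻¹ᵁ U.1) (T.ι ⁻¹ᵁ W₁) hUaff hWcomp hsup _ h1
  have h3 : ((eV.hom ≫ S.homOfLE hVW) ≫ ι₁.hom) ≫ (T.ι ⁻¹ᵁ W₁).ι = eV.hom ≫ S.homOfLE hVT := by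
    apply (cancel_mono T.ι).mp
    simp only [Category.assoc]
    rw [hι₁, Scheme.homOfLE_ι, Scheme.homOfLE_ι]
  rw [h3] at h2
  exact h2

/-- Relative Noetherian approximation, open-immersion form. -/
theorem relApprox_main {I : Type u} [Preorder I] [IsDirected I (· ≤ ·)] [Nonempty I]
    (DV : Iᵒᵖ ⥤ Scheme.{u}) (cV : Cone DV) (hcV : IsLimit cV)
    (haff : ∀ (i i' : Iᵒᵖ) (a : i ⟶ i'), IsAffineHom (DV.map a))
    (hft : ∀ i, CompactSpace (DV.obj i) ∧
      LocallyOfFiniteType (IsTerminal.from specULiftZIsTerminal (DV.obj i)))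
    (S : Scheme.{u}) [CompactSpace S] [QuasiSeparatedSpace S] (V : S.Opens)
    (hV : IsCompact (V : Set S)) (eV : cV.pt ≅ V.toScheme) :
    RelApprox DV cV S (eV.hom ≫ V.ι) := by
  have key : RelApprox DV cV (V ⊔ ⊤ : S.Opens).toScheme (eV.hom ≫ S.homOfLE le_sup_left) := by
    refine compact_open_induction_on
      (P := fun W : S.Opens => RelApprox DV cV (V ⊔ W : S.Opens).toScheme
        (eV.hom ≫ S.homOfLE le_sup_left)) ⊤ (by simpa using isCompact_univ) ?_ ?_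
    · have h0 := (relApprox_refl DV cV hcV haff hft).of_iso
        (eV ≪≫ S.isoOfEq (sup_bot_eq V).symm)
      have h1 : 𝟙 cV.pt ≫ (eV ≪≫ S.isoOfEq (sup_bot_eq V).symm).hom =
          eV.hom ≫ S.homOfLE le_sup_left := by
        rw [Category.id_comp, Iso.trans_hom]
        rfl
      rw [h1] at h0
      exact h0
    · intro W hW U hP
      exact step_general DV cV S V eV (V ⊔ (W ⊔ U.1)) (V ⊔ W) U (sup_assoc V W U.1).symm
        le_sup_left le_sup_left (hV.union hW) hP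
  have htop : (V ⊔ ⊤ : S.Opens) = ⊤ := sup_top_eq V
  have h0 := key.of_iso (S.isoOfEq htop ≪≫ S.topIso)
  have h1 : (eV.hom ≫ S.homOfLE le_sup_left) ≫ (S.isoOfEq htop ≪≫ S.topIso).hom =
      eV.hom ≫ V.ι := by
    have h2 : (S.isoOfEq htop).hom = S.homOfLE htop.le := rfl
    rw [Iso.trans_hom, Scheme.topIso_hom, h2, Category.assoc,
      Scheme.homOfLE_ι, Scheme.homOfLE_ι]
  rw [h1] at h0
  exact h0

end Groth.Agent.Lib.Helper70.RelApx
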