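import Mathlib
import Groth.Agent.Lib.Helper70.RelApxF

/-!
# Relative Noetherian approximation: from the open-immersion form to the form with open subschemes
-/

set_option autoImplicit false
set_option linter.style.haveILetI false
universe u

open CategoryTheory Limits AlgebraicGeometry Opposite TopologicalSpace

namespace Groth.Agent.Lib.Helper70.RelApx

theorem relApprox_convert {I : Type u} [Preorder I]
    (DV : Iᵒᵖ ⥤ Scheme.{u}) (cV : Cone DV)
    (S : Scheme.{u}) (V : S.Opens) (eV : cV.pt ≅ V.toScheme)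
    (H : RelApprox DV cV S (eV.hom ≫ V.ι)) :
    ∃ (J : Type u) (_ : Preorder J) (_ : IsDirected J (fun a b => a ≤ b)) (_ : Nonempty J)
      (DS : Jᵒᵖ ⥤ Scheme.{u}) (cS : Limits.Cone DS) (_ : Limits.IsLimit cS) (eS : cS.pt ≅ S)
      (α : J →o I) (V' : ∀ j : J, (DS.obj (op j)).Opens)
      (φ : ∀ j : J, (V' j : Scheme.{u}) ≅ DV.obj (op (α j))),
      (∀ (j j' : Jᵒᵖ) (a : j ⟶ j'), IsAffineHom (DS.map a)) ∧
      (∀ j, CompactSpace (DS.obj j) ∧
        LocallyOfFiniteType (Limits.IsTerminal.from specULiftZIsTerminal (DS.obj j))) ∧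
      (∀ (j j' : J) (h : j' ≤ j), (DS.map (homOfLE h).op) ⁻¹ᵁ (V' j') = V' j) ∧
      (∀ j : J, (eS.inv ≫ cS.π.app (op j)) ⁻¹ᵁ (V' j) = V) ∧
      (∀ j : J, ∃ ρ : (V : Scheme.{u}) ⟶ (V' j : Scheme.{u}),
        ρ ≫ (V' j).ι = V.ι ≫ eS.inv ≫ cS.π.app (op j) ∧
          ρ ≫ (φ j).hom = eV.inv ≫ cV.π.app (op (α j))) ∧
      (∀ (j j' : J) (h : j' ≤ j), ∃ τ : (V' j : Scheme.{u}) ⟶ (V' j' : Scheme.{u}),
        τ ≫ (V' j').ι = (V' j).ι ≫ DS.map (homOfLE h).op ∧
        (φ j).hom ≫ DV.map (homOfLE (α.mono h)).op = τ ≫ (φ j').hom) := by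
  obtain ⟨J, i1, i2, i3, DS, cS, hcS, eS, α, ψ, h1, h2, h3, h4, h5, h6, h7⟩ := H
  haveI : ∀ j, IsOpenImmersion (ψ j) := h3
  refine ⟨J, i1, i2, i3, DS, cS, hcS, eS, α, fun j => (ψ j).opensRange,
    fun j => (ψ j).isoOpensRange.symm, h1, h2, ?_, ?_, ?_, ?_⟩
  · intro j j' h
    apply SetLike.coe_injective
    ext x
    constructor
    · intro hx
      exact h5 j j' h x hx
    · rintro ⟨y, rfl⟩
      change DS.map (homOfLE h).op (ψ j y) ∈ Set.range (ψ j')
      rw [← Scheme.Hom.comp_apply, h4 j j' h, Scheme.Hom.comp_apply]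
      exact ⟨_, rfl⟩
  · intro j
    apply SetLike.coe_injective
    ext x
    constructor
    · intro hx
      obtain ⟨w, hw⟩ := h7 j x hx
      rw [← hw, Scheme.Hom.comp_apply]
      exact (eV.hom w).2
    · intro hx
      change (eS.inv ≫ cS.π.app (op j)) x ∈ Set.range (ψ j)
      have hx' : x = (eV.hom ≫ V.ι) (eV.inv ⟨x, hx⟩) := by
        rw [← Scheme.Hom.comp_apply, Iso.inv_hom_id_assoc]
        rfl
      rw [hx', ← Scheme.Hom.comp_apply, h6 j, Scheme.Hom.comp_apply]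
      exact ⟨_, rfl⟩
  · intro j
    refine ⟨eV.inv ≫ cV.π.app (op (α j)) ≫ (ψ j).isoOpensRange.hom, ?_, ?_⟩
    · rw [Category.assoc, Category.assoc, Scheme.Hom.isoOpensRange_hom_ι, ← h6 j,
        Category.assoc, Iso.inv_hom_id_assoc]
    · rw [Category.assoc, Category.assoc, Iso.symm_hom, Iso.hom_inv_id, Category.comp_id]
  · intro j j' h
    refine ⟨(ψ j).isoOpensRange.inv ≫ DV.map (homOfLE (α.mono h)).op ≫
      (ψ j').isoOpensRange.hom, ?_, ?_⟩
    · rw [Category.assoc, Category.assoc, Scheme.Hom.isoOpensRange_hom_ι, ← h4 j j' h,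
        Scheme.Hom.isoOpensRange_inv_comp_assoc]
    · rw [Category.assoc, Category.assoc, Iso.symm_hom, Iso.symm_hom, Iso.hom_inv_id,
        Category.comp_id]

end Groth.Agent.Lib.Helper70.RelApx
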