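import Mathlib
import Groth.Agent.Lib.Helper70.SpecUnivHomeo

/-!
# Residue degrees of a finite universal homeomorphism onto a quasi-compact scheme are bounded
powers of the exponential characteristic (helper70)
-/

universe u

namespace Groth.Agent.Lib.Helper70

open CategoryTheory AlgebraicGeometry Limits

namespace SpecUH

theorem finrank_le_of_span_of_frac {k K A B : Type*} [Field k] [Field K] [Algebra k K]
    [CommRing A] [CommRing B]
    (φ : A →+* B) (evA : A →+* k) (evB : B →+* K)
    (hcompat : (algebraMap k K).comp evA = evB.comp φ)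
    (n : ℕ) (b : Fin n → B) (hb : ∀ x : B, ∃ c : Fin n → A, x = ∑ i, φ (c i) * b i)
    (hfrac : ∀ y : K, ∃ u v : B, evB v ≠ 0 ∧ y = evB u / evB v) :
    FiniteDimensional k K ∧ Module.finrank k K ≤ n := by
  let V : Submodule k K := Submodule.span k (Set.range (evB ∘ b))
  have h1 : ∀ x : B, evB x ∈ V := by
    intro x
    obtain ⟨c, rfl⟩ := hb x
    rw [map_sum]
    refine Submodule.sum_mem _ fun i _ => ?_
    rw [map_mul]
    have : evB (φ (c i)) = algebraMap k K (evA (c i)) :=
      (congrFun (congrArg DFunLike.coe hcompat) (c i)).symm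
    rw [this, ← Algebra.smul_def]
    exact Submodule.smul_mem _ _ (Submodule.subset_span ⟨i, rfl⟩)
  have hmul : ∀ x y : K, x ∈ V → y ∈ V → x * y ∈ V := by
    intro x y hx hy
    have hle : V * V ≤ V := by
      change Submodule.span k _ * Submodule.span k _ ≤ V
      rw [Submodule.span_mul_span, Submodule.span_le]
      rintro _ ⟨_, ⟨i, rfl⟩, _, ⟨j, rfl⟩, rfl⟩
      simp only [Function.comp_apply, ← map_mul]
      exact h1 _
    exact hle (Submodule.mul_mem_mul hx hy)
  have hone : (1 : K) ∈ V := by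
    have := h1 1
    rwa [map_one] at this
  let S : Subalgebra k K := V.toSubalgebra hone hmul
  have hfg : S.toSubmodule.FG := by
    change V.FG
    exact Submodule.fg_span (Set.finite_range _)
  have htop : V = ⊤ := by
    rw [eq_top_iff]
    intro y _
    obtain ⟨u, v, hv, rfl⟩ := hfrac y
    have hvS : evB v ∈ S := h1 v
    have hint : IsIntegral k (evB v) := IsIntegral.of_mem_of_fg S hfg _ hvS
    have hinv : (evB v)⁻¹ ∈ S := S.inv_mem_of_algebraic (x := ⟨evB v, hvS⟩) hint.isAlgebraic
    rw [div_eq_mul_inv]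
    exact hmul _ _ (h1 u) hinv
  have hfin : FiniteDimensional k K := by
    rw [FiniteDimensional, Module.finite_def, ← htop]
    exact Submodule.fg_span (Set.finite_range _)
  refine ⟨hfin, ?_⟩
  calc Module.finrank k K = Module.finrank k (⊤ : Submodule k K) := (finrank_top k K).symm
    _ = Module.finrank k V := by rw [htop]
    _ ≤ Fintype.card (Fin n) := finrank_range_le_card (evB ∘ b)
    _ = n := Fintype.card_fin n

theorem exists_evaluation_div {X : Scheme.{u}} {W : X.Opens} (hW : IsAffineOpen W) (x : X)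
    (hx : x ∈ W) (y : X.residueField x) :
    ∃ u v : Γ(X, W), (X.evaluation W x hx).hom v ≠ 0 ∧
      y = (X.evaluation W x hx).hom u / (X.evaluation W x hx).hom v := by
  obtain ⟨s, rfl⟩ := X.residue_surjective x y
  let _ : Algebra Γ(X, W) (X.presheaf.stalk x) :=
    TopCat.Presheaf.algebra_section_stalk X.presheaf (⟨x, hx⟩ : W)
  have hloc : IsLocalization.AtPrime (X.presheaf.stalk x)
      (hW.primeIdealOf ⟨x, hx⟩).asIdeal := hW.isLocalization_stalk ⟨x, hx⟩
  obtain ⟨u, v, rfl⟩ := IsLocalization.exists_mk'_eq (hW.primeIdealOf ⟨x, hx⟩).asIdeal.primeCompl s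
  have hspec := IsLocalization.mk'_spec (X.presheaf.stalk x) u v
  have hunit : IsUnit (algebraMap Γ(X, W) (X.presheaf.stalk x) v) :=
    IsLocalization.map_units (X.presheaf.stalk x) v
  have hev : ∀ a : Γ(X, W), (X.evaluation W x hx).hom a =
      (X.residue x).hom (algebraMap Γ(X, W) (X.presheaf.stalk x) a) := fun a => rfl
  have hne : (X.evaluation W x hx).hom v ≠ 0 := by
    rw [hev]
    exact (hunit.map (X.residue x).hom).ne_zero
  refine ⟨u, v, hne, ?_⟩
  rw [eq_div_iff hne, hev, hev, ← map_mul, hspec]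

theorem finrank_residue_le {X Y : Scheme.{u}} (f : X ⟶ Y) (V : Y.Opens)
    (hW : IsAffineOpen (f ⁻¹ᵁ V)) (n : ℕ) (b : Fin n → Γ(X, f ⁻¹ᵁ V))
    (hb : ∀ x : Γ(X, f ⁻¹ᵁ V), ∃ c : Fin n → Γ(Y, V), x = ∑ i, (f.app V).hom (c i) * b i)
    (x : X) (hx : f x ∈ V) :
    @FiniteDimensional (Y.residueField (f x)) (X.residueField x) _ _
      (f.residueFieldMap x).hom.toAlgebra.toModule ∧
    @Module.finrank (Y.residueField (f x)) (X.residueField x) _ _
      (f.residueFieldMap x).hom.toAlgebra.toModule ≤ n := by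
  let _ := (f.residueFieldMap x).hom.toAlgebra
  refine finrank_le_of_span_of_frac (f.app V).hom (Y.evaluation V (f x) hx).hom
    (X.evaluation (f ⁻¹ᵁ V) x hx).hom ?_ n b hb (exists_evaluation_div hW x hx)
  have := Scheme.evaluation_naturality f x hx
  exact congrArg CommRingCat.Hom.hom this

theorem exists_fin_span_of_finite {A B : Type*} [CommRing A] [CommRing B] (φ : A →+* B)
    (h : φ.Finite) :
    ∃ (n : ℕ) (b : Fin n → B), ∀ x : B, ∃ c : Fin n → A, x = ∑ i, φ (c i) * b i := by
  let _ := φ.toAlgebra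
  have hfin : Module.Finite A B := h
  obtain ⟨n, b, hb⟩ := Module.Finite.exists_fin (R := A) (M := B)
  refine ⟨n, b, fun x => ?_⟩
  have hx : x ∈ Submodule.span A (Set.range b) := hb ▸ Submodule.mem_top
  obtain ⟨c, hc⟩ := (Submodule.mem_span_range_iff_exists_fun A).mp hx
  refine ⟨c, ?_⟩
  rw [← hc]
  refine Finset.sum_congr rfl fun i _ => ?_
  rw [Algebra.smul_def]
  rfl

/-- S13831 -/
theorem residue_degree_pow_expChar_and_dvd {T' T : Scheme.{u}} (p : T' ⟶ T) [IsFinite p]
    (hp : FlatMor.IsUnivHomeo p) [CompactSpace T] :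
    ∃ d : ℕ, 0 < d ∧ ∀ t' : T', ∃ e : ℕ,
      @Module.finrank (T.residueField (p t')) (T'.residueField t') _ _
          (p.residueFieldMap t').hom.toAlgebra.toModule =
        ringExpChar (T.residueField (p t')) ^ e ∧
      ringExpChar (T.residueField (p t')) ^ e ∣ d := by
  obtain ⟨hUI, -, -⟩ := (isUnivHomeo_iff p).mp hp
  have hpi0 := ((tfae_universallyInjective p).out 0 2).mp hUI
  have hpi := hpi0.2
  let 𝒰 := T.affineCover.finiteSubcover
  have haff : ∀ i, IsAffineOpen (𝒰.f i).opensRange := fun i => by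
    have : IsAffine (𝒰.X i) := by dsimp [𝒰]; infer_instance
    exact isAffineOpen_opensRange (𝒰.f i)
  have hfin : ∀ i, ((p.app (𝒰.f i).opensRange).hom).Finite :=
    fun i => IsFinite.finite_app p _ (haff i)
  choose n b hb using fun i => exists_fin_span_of_finite _ (hfin i)
  refine ⟨(∑ i, n i).factorial, Nat.factorial_pos _, fun t' => ?_⟩
  have hmem : p t' ∈ (𝒰.f (𝒰.idx (p t'))).opensRange := 𝒰.covers (p t')
  have hW : IsAffineOpen (p ⁻¹ᵁ (𝒰.f (𝒰.idx (p t'))).opensRange) := (haff _).preimage p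
  obtain ⟨hfd, hle⟩ := finrank_residue_le p _ hW (n _) (b _) (hb _) t' hmem
  let _ := (p.residueFieldMap t').hom.toAlgebra
  have hpur : IsPurelyInseparable (T.residueField (p t')) (T'.residueField t') := hpi t'
  obtain ⟨e, he⟩ := IsPurelyInseparable.finrank_eq_pow (F := T.residueField (p t'))
    (T'.residueField t') (ringExpChar (T.residueField (p t')))
  refine ⟨e, he, ?_⟩
  rw [← he]
  apply Nat.dvd_factorial
  · exact Module.finrank_pos
  · exact hle.trans (Finset.single_le_sum (f := n) (fun _ _ => Nat.zero_le _)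
      (Finset.mem_univ (𝒰.idx (p t'))))

end SpecUH

end Groth.Agent.Lib.Helper70
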