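import Mathlib

/-!
# Rigidity lemma for morphisms whose fibres have only constant global functions (helper70)

Generalisation of `Groth.Agent.Lib.Helper75.Rigidity` (same proof): instead of geometrically
integral fibres we only ask that every geometric fibre `P → Spec K` of `π` induces a bijection on
global sections.
-/

set_option autoImplicit false
universe u
open CategoryTheory Limits AlgebraicGeometry

namespace Groth.Agent.Lib.Helper70.RigA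

/-- every base change of `π` to the spectrum of a field has only constant global functions. -/
def H0Fib {Q T : Scheme.{u}} (π : Q ⟶ T) : Prop :=
  ∀ (K : Type u) [Field K] (x : Spec (.of K) ⟶ T) (P : Scheme.{u}) (fst : P ⟶ Q)
    (snd : P ⟶ Spec (.of K)), IsPullback fst snd π x → Function.Bijective snd.appTop

theorem H0Fib.restrict {Q T : Scheme.{u}} {π : Q ⟶ T} (h : H0Fib π) (T' : T.Opens) :
    H0Fib (π ∣_ T') := by
  intro K _ x P fst snd hP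
  have h1 : IsPullback (π ⁻¹ᵁ T').ι (π ∣_ T') π T'.ι := (isPullback_morphismRestrict π T').flip
  exact h K (x ≫ T'.ι) P (fst ≫ (π ⁻¹ᵁ T').ι) snd (hP.paste_horiz h1)

/-- Lemma A: every global function on `Q` is pulled back from `T`. -/
theorem appTop_eq_of_section {Q T : Scheme.{u}} (π : Q ⟶ T) (σ : T ⟶ Q) (hσ : σ ≫ π = 𝟙 T)
    [IsReduced Q] (h : H0Fib π) (s : Γ(Q, ⊤)) :
    π.appTop (σ.appTop s) = s := by
  set d : Γ(Q, ⊤) := s - π.appTop (σ.appTop s) with hd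
  suffices hd0 : d = 0 by
    rw [hd, sub_eq_zero] at hd0; exact hd0.symm
  rw [← basicOpen_eq_bot_iff]
  rw [eq_bot_iff]
  intro p hp
  exfalso
  set t : T := π p with ht
  -- the fibre
  let ι := π.fiberι t
  let q := π.fiberToSpecResidueField t
  let j := T.fromSpecResidueField t
  have hcond : ι ≫ π = q ≫ j := pullback.condition
  let σt : Spec (T.residueField t) ⟶ π.fiber t :=
    pullback.lift (j ≫ σ) (𝟙 _) (by rw [Category.assoc, hσ, Category.comp_id, Category.id_comp])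
  have hσt1 : σt ≫ ι = j ≫ σ := pullback.lift_fst _ _ _
  have hσt2 : σt ≫ q = 𝟙 _ := pullback.lift_snd _ _ _
  have hbij : Function.Bijective q.appTop :=
    h (T.residueField t) j (π.fiber t) ι q (IsPullback.of_hasPullback _ _)
  -- key identity on the fibre
  have key : ∀ ℓ : Γ(π.fiber t, ⊤), q.appTop (σt.appTop ℓ) = ℓ := by
    intro ℓ
    obtain ⟨m, rfl⟩ := hbij.2 ℓ
    have : q.appTop ≫ σt.appTop = 𝟙 _ := by
      rw [← Scheme.Hom.comp_appTop, hσt2]; simp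
    have h2 : σt.appTop (q.appTop m) = m := congr($this m)
    rw [h2]
  have hzero : ι.appTop d = 0 := by
    rw [hd, map_sub, sub_eq_zero]
    have h1 : ι.appTop (π.appTop (σ.appTop s)) = q.appTop (σt.appTop (ι.appTop s)) := by
      have e1 : σ.appTop ≫ π.appTop ≫ ι.appTop = ι.appTop ≫ σt.appTop ≫ q.appTop := by
        rw [← Scheme.Hom.comp_appTop, ← Scheme.Hom.comp_appTop, ← Scheme.Hom.comp_appTop,
          ← Scheme.Hom.comp_appTop, hcond, Category.assoc, Category.assoc, hσt1]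
      exact congr($e1 s)
    rw [h1, key]
  obtain ⟨p', hp'⟩ : p ∈ Set.range ι := by
    rw [Scheme.Hom.range_fiberι]; rfl
  have : p' ∈ ι ⁻¹ᵁ (Q.basicOpen d) := by
    show ι p' ∈ Q.basicOpen d
    rw [hp']; exact hp
  rw [Scheme.preimage_basicOpen_top, hzero] at this
  simp at this

/-- Lemma B: maps to affine schemes factor through `π`. -/
theorem eq_comp_of_isAffine {Q T Z : Scheme.{u}} (π : Q ⟶ T) (σ : T ⟶ Q) (hσ : σ ≫ π = 𝟙 T)
    [IsReduced Q] (h : H0Fib π) [IsAffine Z] (φ : Q ⟶ Z) :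
    φ = π ≫ σ ≫ φ := by
  apply ext_of_isAffine
  ext a
  rw [Scheme.Hom.comp_appTop, Scheme.Hom.comp_appTop]
  exact (appTop_eq_of_section π σ hσ h _).symm

/-- Lemma R: local rigidity. -/
theorem exists_open_eq {Q T Z : Scheme.{u}} (π : Q ⟶ T) (σ : T ⟶ Q) (hσ : σ ≫ π = 𝟙 T)
    [IsReduced Q] (hcl : IsClosedMap π) (h : H0Fib π) (φ : Q ⟶ Z) (t : T) (z : Z)
    (hz : ∀ p : Q, π p = t → φ p = z) :
    ∃ T' : T.Opens, t ∈ T' ∧ (π ⁻¹ᵁ T').ι ≫ φ = (π ⁻¹ᵁ T').ι ≫ π ≫ σ ≫ φ := by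
  obtain ⟨U₀, hU₀, hzU⟩ : ∃ U₀ : Z.Opens, IsAffineOpen U₀ ∧ z ∈ U₀ := by
    obtain ⟨_, ⟨U₀, hU₀, rfl⟩, hzU, -⟩ :=
      Z.isBasis_affineOpens.exists_subset_of_mem_open (Set.mem_univ z) isOpen_univ
    exact ⟨U₀, hU₀, hzU⟩
  have hC : IsClosed ((φ ⁻¹ᵁ U₀ : Set Q)ᶜ) := (φ ⁻¹ᵁ U₀).isOpen.isClosed_compl
  have hG : IsClosed (π '' ((φ ⁻¹ᵁ U₀ : Set Q)ᶜ)) := hcl _ hC
  let T' : T.Opens := ⟨(π '' ((φ ⁻¹ᵁ U₀ : Set Q)ᶜ))ᶜ, hG.isOpen_compl⟩
  have htT' : t ∈ T' := by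
    rintro ⟨p, hp, hpt⟩
    apply hp
    show φ p ∈ U₀
    rw [hz p hpt]; exact hzU
  have hle : π ⁻¹ᵁ T' ≤ φ ⁻¹ᵁ U₀ := by
    intro p hp
    by_contra hpn
    exact hp ⟨p, hpn, rfl⟩
  refine ⟨T', htT', ?_⟩
  have hrange : Set.range (T'.ι ≫ σ) ⊆ Set.range (π ⁻¹ᵁ T').ι := by
    rintro _ ⟨x, rfl⟩
    rw [Scheme.Opens.range_ι]
    show π ((T'.ι ≫ σ) x) ∈ T'
    rw [← Scheme.Hom.comp_apply, Category.assoc, hσ, Category.comp_id]
    exact x.2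
  let σ' : (T' : Scheme) ⟶ (π ⁻¹ᵁ T' : Scheme) := IsOpenImmersion.lift (π ⁻¹ᵁ T').ι (T'.ι ≫ σ) hrange
  have hσ'1 : σ' ≫ (π ⁻¹ᵁ T').ι = T'.ι ≫ σ := IsOpenImmersion.lift_fac _ _ _
  have hσ'2 : σ' ≫ (π ∣_ T') = 𝟙 _ := by
    rw [← cancel_mono T'.ι, Category.assoc, morphismRestrict_ι, reassoc_of% hσ'1, hσ,
      Category.comp_id, Category.id_comp]
  have hrange2 : Set.range ((π ⁻¹ᵁ T').ι ≫ φ) ⊆ Set.range U₀.ι := by
    rintro _ ⟨x, rfl⟩
    rw [Scheme.Opens.range_ι]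
    exact hle x.2
  let ψ : (π ⁻¹ᵁ T' : Scheme) ⟶ (U₀ : Scheme) := IsOpenImmersion.lift U₀.ι ((π ⁻¹ᵁ T').ι ≫ φ) hrange2
  have hψ : ψ ≫ U₀.ι = (π ⁻¹ᵁ T').ι ≫ φ := IsOpenImmersion.lift_fac _ _ _
  have : IsAffine (U₀ : Scheme) := hU₀
  have hB := eq_comp_of_isAffine (π ∣_ T') σ' hσ'2 (h.restrict T') ψ
  calc (π ⁻¹ᵁ T').ι ≫ φ = ψ ≫ U₀.ι := hψ.symm
    _ = ((π ∣_ T') ≫ σ' ≫ ψ) ≫ U₀.ι := by rw [← hB]
    _ = (π ⁻¹ᵁ T').ι ≫ π ≫ σ ≫ φ := by
      rw [Category.assoc, Category.assoc, hψ, reassoc_of% hσ'1, ← morphismRestrict_ι_assoc]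

end Groth.Agent.Lib.Helper70.RigA
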