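import Mathlib
import Groth.Agent.Lib.Helper70.RigA
import Groth.Agent.Lib.Helper38.GammaBC

/-!
# Constant global functions and the fibre condition of rigidity (helper70)
-/

set_option autoImplicit false
universe u
open CategoryTheory Limits AlgebraicGeometry Polynomial

namespace Groth.Agent.Lib.Helper70.RigB

open Groth.Agent.Lib.Helper70.RigA

/-- A reduced algebra with only trivial idempotents which is integral over a field `k` and has a
`k`-point consists of constants. -/
theorem algebraMap_surjective_of_idem_of_point {k B : Type*} [Field k] [CommRing B]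
    [Algebra k B] [IsReduced B] [Algebra.IsIntegral k B]
    (hidem : ∀ e : B, IsIdempotentElem e → e = 0 ∨ e = 1) (ε : B →ₐ[k] k) :
    Function.Surjective (algebraMap k B) := by
  intro a
  refine ⟨ε a, ?_⟩
  set d : B := a - algebraMap k B (ε a) with hd
  have hεd : ε d = 0 := by
    rw [hd, map_sub, AlgHom.commutes]
    simp
  suffices hd0 : d = 0 by
    rw [hd, sub_eq_zero] at hd0
    exact hd0.symm
  obtain ⟨p, hpm, hp⟩ := Algebra.IsIntegral.isIntegral (R := k) d
  have hp' : aeval d p = 0 := by rw [Polynomial.aeval_def]; exact hp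
  have hp0 : p ≠ 0 := hpm.ne_zero
  have hroot : p.IsRoot 0 := by
    have h1 : ε (aeval d p) = aeval (ε d) p := (Polynomial.aeval_algHom_apply ε d p).symm
    rw [hp', map_zero, hεd] at h1
    rw [Polynomial.IsRoot.def, ← Polynomial.coe_aeval_eq_eval]
    exact h1.symm
  obtain ⟨q, hq, hnd⟩ := Polynomial.exists_eq_pow_rootMultiplicity_mul_and_not_dvd p hp0 0
  set m := p.rootMultiplicity 0 with hm
  have hmpos : 0 < m := (Polynomial.rootMultiplicity_pos hp0).mpr hroot
  have hcop : IsCoprime ((X - C (0 : k)) ^ m) q :=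
    (((Polynomial.irreducible_X_sub_C (0 : k)).coprime_iff_not_dvd).mpr hnd).pow_left
  obtain ⟨u, v, huv⟩ := hcop
  set e : B := aeval d (u * (X - C (0 : k)) ^ m) with he
  have he1 : e + aeval d (v * q) = 1 := by
    rw [he, ← map_add, huv, map_one]
  have he2 : e * aeval d (v * q) = 0 := by
    rw [he, ← map_mul]
    have : u * (X - C (0 : k)) ^ m * (v * q) = u * v * p := by rw [hq]; ring
    rw [this, map_mul, hp', mul_zero]
  have hidem_e : IsIdempotentElem e := by
    have : e * e = e * (e + aeval d (v * q)) := by rw [mul_add, he2, add_zero]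
    rw [IsIdempotentElem, this, he1, mul_one]
  have hεe : ε e = 0 := by
    rw [he, ← Polynomial.aeval_algHom_apply, hεd, Polynomial.coe_aeval_eq_eval]
    simp [zero_pow hmpos.ne']
  have he0 : e = 0 := by
    rcases hidem e hidem_e with h | h
    · exact h
    · rw [h, map_one] at hεe
      exact absurd hεe one_ne_zero
  have hunit : aeval d (v * q) = 1 := by rwa [he0, zero_add] at he1
  have hdm : d ^ m = 0 := by
    have h2 : aeval d p = d ^ m * aeval d q := by
      rw [hq, map_mul, map_pow, map_sub, Polynomial.aeval_X, Polynomial.aeval_C, map_zero, sub_zero]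
    have h3 : d ^ m * aeval d q * aeval d v = 0 := by rw [← h2, hp', zero_mul]
    have h4 : aeval d q * aeval d v = 1 := by rw [← map_mul, mul_comm q v]; exact hunit
    rw [mul_assoc, h4, mul_one] at h3
    exact h3
  exact IsReduced.eq_zero _ ⟨m, hdm⟩

/-- On a connected reduced scheme the only idempotent global functions are `0` and `1`
(same proof as `Groth.Agent.Lib.Helper38.H0Const.eq_zero_or_eq_one_of_isIdempotentElem`). -/
theorem eq_zero_or_eq_one_of_isIdempotentElem {Y : Scheme.{u}} [IsReduced Y] [PreconnectedSpace Y]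
    (e : Γ(Y, ⊤)) (he : IsIdempotentElem e) : e = 0 ∨ e = 1 := by
  have hdisj : Y.basicOpen e ⊓ Y.basicOpen (1 - e) = ⊥ := by
    rw [← Scheme.basicOpen_mul]
    have : e * (1 - e) = 0 := by rw [mul_sub, mul_one, he.eq, sub_self]
    rw [this, Scheme.basicOpen_zero]
  have hcov : ∀ y : Y, y ∈ Y.basicOpen e ∨ y ∈ Y.basicOpen (1 - e) := by
    intro y
    rw [Scheme.mem_basicOpen _ _ _ (Set.mem_univ y), Scheme.mem_basicOpen _ _ _ (Set.mem_univ y)]
    apply IsLocalRing.isUnit_or_isUnit_of_add_one
    rw [← map_add, add_sub_cancel, map_one]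
  have hcompl : ((Y.basicOpen e : Y.Opens) : Set Y)ᶜ = (Y.basicOpen (1 - e) : Set Y) := by
    ext y
    constructor
    · intro hy
      exact (hcov y).resolve_left hy
    · intro hy hy'
      have : y ∈ Y.basicOpen e ⊓ Y.basicOpen (1 - e) := ⟨hy', hy⟩
      rw [hdisj] at this
      exact this
  have hclopen : IsClopen ((Y.basicOpen e : Y.Opens) : Set Y) :=
    ⟨by rw [← isOpen_compl_iff, hcompl]; exact (Y.basicOpen (1 - e)).isOpen,
      (Y.basicOpen e).isOpen⟩
  rcases isClopen_iff.mp hclopen with h | h
  · left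
    have : Y.basicOpen e = ⊥ := by ext1; simpa using h
    exact (basicOpen_eq_bot_iff e).mp this
  · right
    have h' : ((Y.basicOpen (1 - e) : Y.Opens) : Set Y) = ∅ := by
      rw [← hcompl, h, Set.compl_univ]
    have : Y.basicOpen (1 - e) = ⊥ := by ext1; simpa using h'
    have := (basicOpen_eq_bot_iff (1 - e)).mp this
    exact (sub_eq_zero.mp this).symm

/-- Global functions on a connected reduced scheme which is universally closed over a field and
has a rational point are constant. -/
theorem bijective_appTop_of_point (k : Type u) [Field k] {F : Scheme.{u}}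
    (g : F ⟶ Spec (.of k)) [UniversallyClosed g] [IsReduced F] [PreconnectedSpace F]
    (b : Spec (.of k) ⟶ F) (hb : b ≫ g = 𝟙 _) :
    Function.Bijective g.appTop := by
  let G : CommRingCat.of k ⟶ Γ(F, ⊤) := (Scheme.ΓSpecIso (.of k)).inv ≫ g.appTop
  have hG : G.hom.IsIntegral := by
    apply RingHom.isIntegral_respectsIso.2 (e := (Scheme.ΓSpecIso _).symm.commRingCatIsoToRingEquiv)
    exact isIntegral_appTop_of_universallyClosed g
  have hcomp : g.appTop ≫ b.appTop = 𝟙 _ := by
    rw [← Scheme.Hom.comp_appTop, hb]; simp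
  suffices hGb : Function.Bijective G.hom by
    have h1 : g.appTop = (Scheme.ΓSpecIso (.of k)).hom ≫ G := by
      simp [G]
    rw [h1]
    have h2 : Function.Bijective (Scheme.ΓSpecIso (.of k)).hom :=
      ConcreteCategory.bijective_of_isIso _
    simpa using hGb.comp h2
  algebraize [G.hom]
  let ε₀ : Γ(F, ⊤) →+* k := (b.appTop ≫ (Scheme.ΓSpecIso (.of k)).hom).hom
  have hε₀ : ∀ c : k, ε₀ (algebraMap k Γ(F, ⊤) c) = c := by
    intro c
    have h3 : G ≫ b.appTop ≫ (Scheme.ΓSpecIso (.of k)).hom = 𝟙 _ := by
      simp only [G, Category.assoc]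
      rw [reassoc_of% hcomp]
      simp
    exact congr($h3 c)
  let ε : Γ(F, ⊤) →ₐ[k] k := { ε₀ with commutes' := hε₀ }
  refine ⟨fun c c' hcc' => ?_, ?_⟩
  · have := congrArg ε₀ hcc'
    change ε₀ (algebraMap k Γ(F, ⊤) c) = ε₀ (algebraMap k Γ(F, ⊤) c') at this
    rwa [hε₀, hε₀] at this
  · exact algebraMap_surjective_of_idem_of_point
      (fun e he => eq_zero_or_eq_one_of_isIdempotentElem e he) ε

/-- If `F` is qcqs over a field `k` with only constant global functions, then the projection
`F ×ₖ X ⟶ X` satisfies the fibre condition of the rigidity lemma. -/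
theorem h0Fib_snd (k : Type u) [Field k] {F X : Scheme.{u}} (g : F ⟶ Spec (.of k))
    (hX : X ⟶ Spec (.of k)) [CompactSpace F] [QuasiSeparatedSpace F]
    (hg : Function.Bijective g.appTop) : H0Fib (pullback.snd g hX) := by
  intro K _ x P fst snd hP
  let φ : CommRingCat.of k ⟶ CommRingCat.of K := Spec.preimage (x ≫ hX)
  have hφ : Spec.map φ = x ≫ hX := Spec.map_preimage _
  have hflat : Flat (Spec.map φ) := by
    rw [HasRingHomProperty.Spec_iff (P := @Flat)]
    let _ := φ.hom.toAlgebra
    exact (inferInstance : Module.Flat k K)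
  have h1 : IsPullback (fst ≫ pullback.fst g hX) snd g (Spec.map φ) := by
    rw [hφ]; exact hP.paste_horiz (IsPullback.of_hasPullback g hX)
  have hpo := Groth.Agent.Lib.Helper38.GammaBC.isPushout_appTop g φ
  have : IsIso g.appTop := (ConcreteCategory.isIso_iff_bijective _).mpr hg
  have hiso : IsIso (pullback.snd g (Spec.map φ)).appTop := hpo.isIso_inr_of_isIso
  have h2 : snd = h1.isoPullback.hom ≫ pullback.snd g (Spec.map φ) := by simp
  rw [h2, Scheme.Hom.comp_appTop]
  have hiso2 : IsIso (h1.isoPullback.hom).appTop := by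
    have h3 : IsIso (Scheme.Γ.map h1.isoPullback.hom.op) := inferInstance
    exact h3
  have hiso3 : IsIso ((pullback.snd g (Spec.map φ)).appTop ≫ (h1.isoPullback.hom).appTop) :=
    IsIso.comp_isIso
  exact ConcreteCategory.bijective_of_isIso _

end Groth.Agent.Lib.Helper70.RigB
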