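import Mathlib
import Groth.Agent.Lib.Helper70.RigB

/-!
# Rigidity over a field: global form (helper70)
-/

set_option autoImplicit false
universe u
open CategoryTheory Limits AlgebraicGeometry

namespace Groth.Agent.Lib.Helper70.RigC

open Groth.Agent.Lib.Helper70.RigA Groth.Agent.Lib.Helper70.RigB

/-- Rigidity: `F` reduced, connected, universally closed over a field `k` with a rational point
`b`; `X` geometrically reduced and irreducible over `k`; `Φ : F ×ₖ X ⟶ Y` a `k`-morphism to a
separated `k`-scheme which collapses the fibre over one point `t₀` of `X`. Then `Φ` factors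
through the projection to `X`. -/
theorem rigidity (k : Type u) [Field k] {F X Y : Scheme.{u}}
    (gF : F ⟶ Spec (.of k)) (hX : X ⟶ Spec (.of k)) (q : Y ⟶ Spec (.of k))
    [UniversallyClosed gF] [QuasiSeparatedSpace F] [IsReduced F] [PreconnectedSpace F]
    [IsLocallyNoetherian F] (b : Spec (.of k) ⟶ F) (hb : b ≫ gF = 𝟙 _)
    [GeometricallyReduced hX] [Flat hX] [IrreducibleSpace X] [IsSeparated q]
    (Φ : pullback gF hX ⟶ Y) (hΦ : Φ ≫ q = pullback.snd gF hX ≫ hX)
    (t₀ : X) (y₀ : Y) (hz : ∀ w : ↥(pullback gF hX), pullback.snd gF hX w = t₀ → Φ w = y₀) :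
    Φ = pullback.snd gF hX ≫ pullback.lift (hX ≫ b) (𝟙 X)
      (by rw [Category.assoc, hb, Category.comp_id, Category.id_comp]) ≫ Φ := by
  let π : pullback gF hX ⟶ X := pullback.snd gF hX
  let σ : X ⟶ pullback gF hX := pullback.lift (hX ≫ b) (𝟙 X)
      (by rw [Category.assoc, hb, Category.comp_id, Category.id_comp])
  have hσ : σ ≫ π = 𝟙 X := pullback.lift_snd _ _ _
  have hcpt : CompactSpace F := (quasiCompact_iff_compactSpace gF).mp inferInstance
  have hred : IsReduced (pullback gF hX) := inferInstance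
  have hcl : IsClosedMap π := π.isClosedMap
  have h0 : H0Fib π := h0Fib_snd k gF hX (bijective_appTop_of_point k gF b hb)
  obtain ⟨T', htT', hT'⟩ := exists_open_eq π σ hσ hcl h0 Φ t₀ y₀ hz
  have hopen : IsOpenMap π := π.isOpenMap
  have hdom : IsDominant (π ⁻¹ᵁ T').ι := by
    constructor
    rw [DenseRange, Scheme.Opens.range_ι]
    have hd : Dense (T' : Set X) := T'.isOpen.dense ⟨t₀, htT'⟩
    exact hd.preimage hopen
  change Φ = π ≫ σ ≫ Φ
  refine ext_of_isDominant_of_isSeparated q ?_ (π ⁻¹ᵁ T').ι hT'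
  rw [Category.assoc, Category.assoc, hΦ, ← Category.assoc σ, hσ, Category.id_comp]

end Groth.Agent.Lib.Helper70.RigC
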