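import Mathlib
import Groth.Agent.Lib.Helper70.RigC

/-!
# Translating connected components of fibres (helper70)

`X` a proper geometrically integral `k`-scheme with a "multiplication" `μ : X ×ₖ X ⟶ X` having a
left unit `e₀`; `f : X ⟶ Y` a `k`-morphism to a separated `k`-scheme.  For rational points
`y, z, w` with `z · y = w`, left translation by `z` maps the connected component of `y` in its
fibre of `f` into the connected component of `w` in its fibre.
-/

set_option autoImplicit false
universe u
open CategoryTheory Limits AlgebraicGeometry TopologicalSpace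

namespace Groth.Agent.Lib.Helper70.RigD

open Groth.Agent.Lib.Helper70.RigC

section RedInduced

variable {X : Scheme.{u}} (C : Closeds X)

/-- The reduced induced closed subscheme structure is reduced
(as in `Groth.Agent.H72.NormalBir.isReduced_vanishingIdeal_subscheme`). -/
theorem isReduced_vanishingIdeal_subscheme :
    IsReduced (Scheme.IdealSheafData.vanishingIdeal C).subscheme := by
  have : ∀ W, IsReduced ((Scheme.IdealSheafData.vanishingIdeal C).subschemeCover.openCover.X W) := by
    intro (W : X.affineOpens)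
    show IsReduced (Spec (.of (Γ(X, W.1) ⧸ (Scheme.IdealSheafData.vanishingIdeal C).ideal W)))
    rw [affine_isReduced_iff]
    show _root_.IsReduced (Γ(X, W.1) ⧸ (Scheme.IdealSheafData.vanishingIdeal C).ideal W)
    rw [← Ideal.isRadical_iff_quotient_reduced, Scheme.IdealSheafData.vanishingIdeal_ideal]
    exact PrimeSpectrum.isRadical_vanishingIdeal _
  exact IsReduced.of_openCover _ (Scheme.IdealSheafData.vanishingIdeal C).subschemeCover.openCover

/-- A morphism from a reduced scheme factors through the reduced induced structure on any closed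
subset containing its image (as in `Groth.Agent.H72.NormalBir.vanishingIdeal_le_ker`). -/
theorem vanishingIdeal_le_ker {U X : Scheme.{u}} [IsReduced U] (s : U ⟶ X) (C : Closeds X)
    (hC : Set.range s ⊆ (C : Set X)) : Scheme.IdealSheafData.vanishingIdeal C ≤ s.ker := by
  refine Scheme.IdealSheafData.le_ofIdeals_iff.mpr fun W f hf => ?_
  rw [Scheme.IdealSheafData.vanishingIdeal_ideal] at hf
  rw [RingHom.mem_ker, ← basicOpen_eq_bot_iff, ← Scheme.preimage_basicOpen, eq_bot_iff]
  intro x hx
  exfalso
  have hx' : s x ∈ X.basicOpen f := hx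
  have hxW : s x ∈ W.1 := X.basicOpen_le f hx'
  let 𝔭 := W.2.primeIdealOf ⟨s x, hxW⟩
  have h𝔭 : W.2.fromSpec 𝔭 = s x := W.2.fromSpec_primeIdealOf ⟨s x, hxW⟩
  have h1 : 𝔭 ∈ W.2.fromSpec ⁻¹' (C : Set X) := by
    show W.2.fromSpec 𝔭 ∈ (C : Set X)
    rw [h𝔭]; exact hC ⟨x, rfl⟩
  have h2 : f ∈ 𝔭.asIdeal := (PrimeSpectrum.mem_vanishingIdeal _ _).mp hf 𝔭 h1
  have h3 : 𝔭 ∈ W.2.fromSpec ⁻¹ᵁ X.basicOpen f := by
    show W.2.fromSpec 𝔭 ∈ X.basicOpen f
    rw [h𝔭]; exact hx'
  rw [W.2.fromSpec_preimage_basicOpen] at h3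
  exact h3 h2

theorem preconnectedSpace_vanishingIdeal_subscheme (hC : _root_.IsPreconnected (C : Set X)) :
    PreconnectedSpace (Scheme.IdealSheafData.vanishingIdeal C).subscheme := by
  let ι := (Scheme.IdealSheafData.vanishingIdeal C).subschemeι
  have hemb : Topology.IsEmbedding ι := ι.isEmbedding
  have hr : Set.range ι = (C : Set X) := by
    rw [Scheme.IdealSheafData.range_subschemeι, Scheme.IdealSheafData.coe_support_vanishingIdeal]
  constructor
  have h1 : _root_.IsPreconnected (ι ⁻¹' (C : Set X)) :=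
    hemb.isInducing.isPreconnected_image.mp (by
      rw [Set.image_preimage_eq_inter_range, hr, Set.inter_self]; exact hC)
  have h2 : ι ⁻¹' (C : Set X) = Set.univ := by
    rw [← hr]; exact Set.preimage_range ι
  rwa [h2] at h1

end RedInduced

theorem isClosed_connectedComponentIn {α : Type*} [TopologicalSpace α] {A : Set α}
    (hA : IsClosed A) (p : α) : IsClosed (connectedComponentIn A p) := by
  by_cases hp : p ∈ A
  · rw [connectedComponentIn_eq_image hp]
    exact hA.isClosedEmbedding_subtypeVal.isClosedMap _ isClosed_connectedComponent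
  · rw [connectedComponentIn_eq_empty hp]
    exact isClosed_empty

section Main

variable (k : Type u) [Field k] {X Y : Scheme.{u}} (hX : X ⟶ Spec (.of k)) (q : Y ⟶ Spec (.of k))

/-- left translation by a rational point for a "multiplication" `μ`. -/
noncomputable def tr (μ : pullback hX hX ⟶ X) (z : Spec (.of k) ⟶ X) (hz : z ≫ hX = 𝟙 _) : X ⟶ X :=
  pullback.lift (hX ≫ z) (𝟙 X) (by rw [Category.assoc, hz, Category.comp_id, Category.id_comp]) ≫ μ

theorem isClosed_singleton_of_section (s : Spec (.of k) ⟶ Y) (hs : s ≫ q = 𝟙 _)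
    (pt : ↥(Spec (.of k))) : IsClosed ({s pt} : Set Y) := by
  have : IsClosedImmersion s := isClosedImmersion_of_comp_eq_id q s hs
  have hr : Set.range s = {s pt} := by
    ext a
    constructor
    · rintro ⟨b, rfl⟩
      rw [Subsingleton.elim b pt]; rfl
    · rintro rfl
      exact ⟨pt, rfl⟩
  rw [← hr]
  exact s.isClosedEmbedding.isClosed_range

/-- Left translation by `z` maps the connected component of `y` in its fibre of `f` into the
connected component of `w = z · y` in its fibre. -/
theorem image_tr_subset [IsProper hX] [GeometricallyIntegral hX] [IsSeparated q]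
    (f : X ⟶ Y) (hf : f ≫ q = hX)
    (μ : pullback hX hX ⟶ X) (hμ : μ ≫ hX = pullback.fst hX hX ≫ hX)
    (e₀ : Spec (.of k) ⟶ X) (he₀ : e₀ ≫ hX = 𝟙 _) (hunit : tr k hX μ e₀ he₀ = 𝟙 X)
    (y z w : Spec (.of k) ⟶ X) (hy : y ≫ hX = 𝟙 _) (hz : z ≫ hX = 𝟙 _)
    (hw : y ≫ tr k hX μ z hz = w) (pt : ↥(Spec (.of k))) :
    (tr k hX μ z hz) '' connectedComponentIn (f ⁻¹' {f (y pt)}) (y pt) ⊆
      connectedComponentIn (f ⁻¹' {f (w pt)}) (w pt) := by
  -- the closed set `A` and the component `C`
  set p : X := y pt with hp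
  have hAcl : IsClosed (f ⁻¹' {f p}) := by
    have h1 : IsClosed ({(y ≫ f) pt} : Set Y) :=
      isClosed_singleton_of_section k q (y ≫ f) (by rw [Category.assoc, hf, hy]) pt
    exact h1.preimage f.continuous
  have hpA : p ∈ f ⁻¹' {f p} := rfl
  have hCcl : IsClosed (connectedComponentIn (f ⁻¹' {f p}) p) := isClosed_connectedComponentIn hAcl p
  let C : Closeds X := ⟨connectedComponentIn (f ⁻¹' {f p}) p, hCcl⟩
  have hCA : (C : Set X) ⊆ f ⁻¹' {f p} := connectedComponentIn_subset _ _
  have hpC : p ∈ (C : Set X) := mem_connectedComponentIn hpA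
  have hCconn : _root_.IsPreconnected (C : Set X) := isPreconnected_connectedComponentIn
  -- the reduced closed subscheme `F`
  let I := Scheme.IdealSheafData.vanishingIdeal C
  let F : Scheme.{u} := I.subscheme
  let ι : F ⟶ X := I.subschemeι
  have hrange : Set.range ι = (C : Set X) := by
    rw [Scheme.IdealSheafData.range_subschemeι, Scheme.IdealSheafData.coe_support_vanishingIdeal]
  have hFred : IsReduced F := isReduced_vanishingIdeal_subscheme C
  have hFconn : PreconnectedSpace F := preconnectedSpace_vanishingIdeal_subscheme C hCconn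
  obtain ⟨gF, hgF⟩ : ∃ g : F ⟶ Spec (.of k), g = ι ≫ hX := ⟨_, rfl⟩
  have hgFproper : IsProper gF := by rw [hgF]; infer_instance
  have hFnoeth : IsLocallyNoetherian F := LocallyOfFiniteType.isLocallyNoetherian gF
  have hFqs : QuasiSeparatedSpace F := (quasiSeparated_iff_quasiSeparatedSpace gF).mp inferInstance
  -- the rational point `b` of `F`
  have hyker : ι.ker ≤ y.ker := by
    rw [Scheme.IdealSheafData.ker_subschemeι]
    refine vanishingIdeal_le_ker y C ?_
    rintro _ ⟨a, rfl⟩
    rw [Subsingleton.elim a pt]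
    exact hpC
  obtain ⟨b, hbι⟩ : ∃ b : Spec (.of k) ⟶ F, b ≫ ι = y :=
    ⟨IsClosedImmersion.lift ι y hyker, IsClosedImmersion.lift_fac _ _ _⟩
  have hb : b ≫ gF = 𝟙 _ := by rw [hgF, ← Category.assoc, hbι, hy]
  -- instances on `X`
  have hXint : IsIntegral X := GeometricallyIntegral.isIntegral_of_subsingleton hX
  have hXflat : Flat hX := inferInstance
  -- the morphism `Φ (c, a) = f (a · c)`
  obtain ⟨sw, hsw1, hsw2⟩ : ∃ sw : pullback gF hX ⟶ pullback hX hX,
      sw ≫ pullback.fst hX hX = pullback.snd gF hX ∧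
      sw ≫ pullback.snd hX hX = pullback.fst gF hX ≫ ι :=
    ⟨pullback.lift (pullback.snd gF hX) (pullback.fst gF hX ≫ ι)
      (by rw [Category.assoc, ← hgF]; exact pullback.condition.symm),
      pullback.lift_fst _ _ _, pullback.lift_snd _ _ _⟩
  obtain ⟨Φ, hΦdef⟩ : ∃ Φ : pullback gF hX ⟶ Y, Φ = sw ≫ μ ≫ f := ⟨_, rfl⟩
  have hΦ : Φ ≫ q = pullback.snd gF hX ≫ hX := by
    rw [hΦdef, Category.assoc, Category.assoc, hf, hμ, ← Category.assoc, hsw1]
  -- translation by a rational point restricted to `F`
  have hslice : ∀ (v : Spec (.of k) ⟶ X) (hv : v ≫ hX = 𝟙 _),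
      pullback.lift (𝟙 F) (gF ≫ v) (by rw [Category.assoc, hv, Category.comp_id, Category.id_comp]) ≫
        sw = ι ≫ pullback.lift (hX ≫ v) (𝟙 X)
          (by rw [Category.assoc, hv, Category.comp_id, Category.id_comp]) := by
    intro v hv
    apply pullback.hom_ext
    · simp only [Category.assoc, hsw1, pullback.lift_snd, pullback.lift_fst, hgF]
    · simp only [Category.assoc, hsw2, pullback.lift_snd, Category.comp_id]
      rw [← Category.assoc, pullback.lift_fst, Category.id_comp]
  have hsliceΦ : ∀ (v : Spec (.of k) ⟶ X) (hv : v ≫ hX = 𝟙 _),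
      pullback.lift (𝟙 F) (gF ≫ v) (by rw [Category.assoc, hv, Category.comp_id, Category.id_comp]) ≫
        Φ = ι ≫ tr k hX μ v hv ≫ f := by
    intro v hv
    rw [hΦdef, ← Category.assoc, hslice v hv]
    simp only [tr, Category.assoc]
  -- the fibre over `e₀` is collapsed
  have hcollapse : ∀ w' : ↥(pullback gF hX), pullback.snd gF hX w' = e₀ pt → Φ w' = f p := by
    intro w' hw'
    have hpb : IsPullback (pullback.lift (𝟙 F) (gF ≫ e₀)
        (by rw [Category.assoc, he₀, Category.comp_id, Category.id_comp])) gF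
        (pullback.snd gF hX) e₀ := by
      refine IsPullback.of_right ?_ (pullback.lift_snd _ _ _) (IsPullback.of_hasPullback gF hX)
      rw [pullback.lift_fst, he₀]
      exact IsPullback.id_horiz gF
    obtain ⟨c, hc1, -⟩ := Scheme.exists_preimage_of_isPullback hpb w' pt hw'
    rw [← hc1, ← Scheme.Hom.comp_apply, hsliceΦ e₀ he₀, hunit, Category.id_comp]
    have hιc : ι c ∈ (C : Set X) := hrange ▸ ⟨c, rfl⟩
    exact hCA hιc
  -- rigidity
  have hrig := rigidity k gF hX q b hb Φ hΦ (e₀ pt) (f p) hcollapse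
  -- specialise at `z`
  have hzσ : z ≫ pullback.lift (hX ≫ b) (𝟙 X)
      (by rw [Category.assoc, hb, Category.comp_id, Category.id_comp]) =
      b ≫ pullback.lift (𝟙 F) (gF ≫ z)
        (by rw [Category.assoc, hz, Category.comp_id, Category.id_comp]) := by
    apply pullback.hom_ext
    · simp only [Category.assoc, pullback.lift_fst, Category.comp_id]
      rw [← Category.assoc z, hz, Category.id_comp]
    · simp only [Category.assoc, pullback.lift_snd, Category.comp_id]
      rw [← Category.assoc b, hb, Category.id_comp]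
  have hspec : ι ≫ tr k hX μ z hz ≫ f = gF ≫ w ≫ f := by
    calc ι ≫ tr k hX μ z hz ≫ f
        = pullback.lift (𝟙 F) (gF ≫ z)
            (by rw [Category.assoc, hz, Category.comp_id, Category.id_comp]) ≫ Φ :=
          (hsliceΦ z hz).symm
      _ = pullback.lift (𝟙 F) (gF ≫ z)
            (by rw [Category.assoc, hz, Category.comp_id, Category.id_comp]) ≫
            pullback.snd gF hX ≫ pullback.lift (hX ≫ b) (𝟙 X)
              (by rw [Category.assoc, hb, Category.comp_id, Category.id_comp]) ≫ Φ :=
          congrArg (_ ≫ ·) hrig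
      _ = gF ≫ (z ≫ pullback.lift (hX ≫ b) (𝟙 X)
              (by rw [Category.assoc, hb, Category.comp_id, Category.id_comp])) ≫ Φ := by
          simp only [← Category.assoc, pullback.lift_snd]
      _ = gF ≫ (b ≫ pullback.lift (𝟙 F) (gF ≫ z)
            (by rw [Category.assoc, hz, Category.comp_id, Category.id_comp])) ≫ Φ := by
          rw [hzσ]
      _ = gF ≫ b ≫ ι ≫ tr k hX μ z hz ≫ f := by
          rw [Category.assoc, hsliceΦ z hz]
      _ = gF ≫ w ≫ f := by
          rw [← Category.assoc b, hbι, ← Category.assoc y, hw]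
  -- conclusion
  refine IsPreconnected.subset_connectedComponentIn ?_ ?_ ?_
  · exact hCconn.image _ (tr k hX μ z hz).continuous.continuousOn
  · refine ⟨p, hpC, ?_⟩
    rw [hp, ← Scheme.Hom.comp_apply, hw]
  · rintro _ ⟨a, ha, rfl⟩
    obtain ⟨c, rfl⟩ : a ∈ Set.range ι := hrange ▸ ha
    show f (tr k hX μ z hz (ι c)) = f (w pt)
    have h1 : f (tr k hX μ z hz (ι c)) = (ι ≫ tr k hX μ z hz ≫ f) c := by
      simp only [Scheme.Hom.comp_apply]
    rw [h1, hspec]
    simp only [Scheme.Hom.comp_apply]
    rw [Subsingleton.elim (gF c) pt]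

end Main

end Groth.Agent.Lib.Helper70.RigD
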