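import Mathlib
import Groth.Agent.Lib.Helper70.RigD

/-!
# Connected components of fibres of a morphism from an abelian variety (helper70)
-/

set_option autoImplicit false
universe u
open CategoryTheory Limits AlgebraicGeometry TopologicalSpace MonoidalCategory
  CartesianMonoidalCategory MonObj

namespace Groth.Agent.Lib.Helper70.RigE

open Groth.Agent.Lib.Helper70.RigD

variable (k : Type u) [Field k] (X : Over (Spec (CommRingCat.of k))) [GrpObj X]

/-- left translation by a rational point -/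
noncomputable def T (v : 𝟙_ (Over (Spec (CommRingCat.of k))) ⟶ X) : X ⟶ X :=
  lift (toUnit X ≫ v) (𝟙 X) ≫ μ[X]

theorem T_eq_mul (v : 𝟙_ (Over (Spec (CommRingCat.of k))) ⟶ X) :
    T k X v = (toUnit X ≫ v) * 𝟙 X := by
  rw [T, Hom.mul_def]

theorem one_comp_T (v : 𝟙_ (Over (Spec (CommRingCat.of k))) ⟶ X) : η[X] ≫ T k X v = v := by
  rw [T_eq_mul, MonObj.comp_mul, Category.comp_id, ← Category.assoc,
    toUnit_unique (η[X] ≫ toUnit X) (𝟙 _), Category.id_comp]
  have : η[X] = 1 := by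
    rw [Hom.one_def, toUnit_unique (toUnit (𝟙_ (Over (Spec (CommRingCat.of k))))) (𝟙 _),
      Category.id_comp]
  rw [this, _root_.mul_one]

theorem comp_T_inv (v : 𝟙_ (Over (Spec (CommRingCat.of k))) ⟶ X) : v ≫ T k X v⁻¹ = η[X] := by
  rw [T_eq_mul, MonObj.comp_mul, Category.comp_id, ← Category.assoc,
    toUnit_unique (v ≫ toUnit X) (𝟙 _), Category.id_comp, inv_mul_cancel]
  rw [Hom.one_def, toUnit_unique (toUnit (𝟙_ (Over (Spec (CommRingCat.of k))))) (𝟙 _),
      Category.id_comp]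

theorem T_inv_comp_T (v : 𝟙_ (Over (Spec (CommRingCat.of k))) ⟶ X) :
    T k X v⁻¹ ≫ T k X v = 𝟙 X := by
  rw [T_eq_mul k X v, MonObj.comp_mul, Category.comp_id, ← Category.assoc,
    toUnit_unique (T k X v⁻¹ ≫ toUnit X) (toUnit X), T_eq_mul, ← _root_.mul_assoc,
    ← MonObj.comp_mul, mul_inv_cancel, MonObj.comp_one, _root_.one_mul]

omit [GrpObj X] in
theorem w_left (v : 𝟙_ (Over (Spec (CommRingCat.of k))) ⟶ X) :
    (v.left : Spec (CommRingCat.of k) ⟶ X.left) ≫ X.hom = 𝟙 _ :=
  Over.w v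

theorem mul_left_comp :
    (μ[X].left : pullback X.hom X.hom ⟶ X.left) ≫ X.hom = pullback.fst X.hom X.hom ≫ X.hom :=
  Over.w μ[X]

theorem T_left (v : 𝟙_ (Over (Spec (CommRingCat.of k))) ⟶ X) :
    (T k X v).left = tr k X.hom (μ[X].left : pullback X.hom X.hom ⟶ X.left) v.left
      (w_left k X v) := by
  unfold T tr
  rw [Over.comp_left]
  congr 1

theorem T_one : T k X η[X] = 𝟙 X := by
  rw [T_eq_mul, ← Hom.one_def, _root_.one_mul]

theorem main [IsProper X.hom] [GeometricallyIntegral X.hom]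
    {Y : Scheme.{u}} (q : Y ⟶ Spec (CommRingCat.of k)) [IsSeparated q] (f : X.left ⟶ Y)
    (hf : f ≫ q = X.hom) (x : 𝟙_ (Over (Spec (CommRingCat.of k))) ⟶ X)
    (pt : ↥(Spec (CommRingCat.of k))) :
    (T k X x).left '' connectedComponentIn (f ⁻¹' {f (η[X].left pt)}) (η[X].left pt) =
      connectedComponentIn (f ⁻¹' {f (x.left pt)}) (x.left pt) := by
  have hunit : tr k X.hom (μ[X].left : pullback X.hom X.hom ⟶ X.left) η[X].left
      (w_left k X η[X]) = 𝟙 X.left := by
    rw [← T_left, T_one]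
    rfl
  apply Set.Subset.antisymm
  · rw [T_left]
    refine image_tr_subset k X.hom q f hf _ (mul_left_comp k X) η[X].left (w_left k X η[X]) hunit
      η[X].left x.left x.left (w_left k X η[X]) (w_left k X x) ?_ pt
    rw [← T_left, ← Over.comp_left, one_comp_T]
  · intro a ha
    have h1 := image_tr_subset k X.hom q f hf _ (mul_left_comp k X) η[X].left (w_left k X η[X])
      hunit x.left x⁻¹.left η[X].left (w_left k X x) (w_left k X x⁻¹)
      (by rw [← T_left, ← Over.comp_left, comp_T_inv]) pt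
    refine ⟨(T k X x⁻¹).left a, h1 ⟨a, ha, by rw [T_left]⟩, ?_⟩
    rw [← Scheme.Hom.comp_apply, ← Over.comp_left, T_inv_comp_T]
    rfl

end Groth.Agent.Lib.Helper70.RigE
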