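import Mathlib
import Groth.Agent.Lib.Helper70.SubGrpB

/-!
# Centrality and monoidal functors
-/

set_option autoImplicit false
universe v₁ u₁ v₂ u₂

open CategoryTheory MonoidalCategory CartesianMonoidalCategory MonObj GrpObj Functor.Monoidal

namespace Groth.Agent.Lib.Helper70.SubGrp

variable {C : Type u₁} [Category.{v₁} C] [CartesianMonoidalCategory C]
  {D : Type u₂} [Category.{v₂} D] [CartesianMonoidalCategory D]
  (F : C ⥤ D) [F.Monoidal]

open scoped Obj

variable {G₀ H₀ : C} [GrpObj G₀] (i₀ : H₀ ⟶ G₀)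

/-- The universal product `g * n`. -/
noncomputable def phiL : G₀ ⊗ H₀ ⟶ G₀ := fst G₀ H₀ * (snd G₀ H₀ ≫ i₀)

/-- The universal product `n * g`. -/
noncomputable def phiR : G₀ ⊗ H₀ ⟶ G₀ := (snd G₀ H₀ ≫ i₀) * fst G₀ H₀

/-- Centrality in terms of points. -/
def IsCentralPts {N G : D} [GrpObj G] (i : N ⟶ G) : Prop :=
  ∀ (T : D) (g : T ⟶ G) (n : T ⟶ N), g * (n ≫ i) = (n ≫ i) * g

theorem isCentralPts_iff_map_eq : IsCentralPts (F.map i₀) ↔ F.map (phiL i₀) = F.map (phiR i₀) := by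
  have keyL : F.map (phiL i₀) = F.map (fst G₀ H₀) * (F.map (snd G₀ H₀) ≫ F.map i₀) := by
    rw [phiL, Functor.map_mul, F.map_comp]
  have keyR : F.map (phiR i₀) = (F.map (snd G₀ H₀) ≫ F.map i₀) * F.map (fst G₀ H₀) := by
    rw [phiR, Functor.map_mul, F.map_comp]
  constructor
  · intro h
    rw [keyL, keyR]
    exact h _ _ _
  · intro h T g n
    have h1 := congrArg (fun k => (lift g n ≫ Functor.LaxMonoidal.μ F G₀ H₀) ≫ k) h
    simp only [keyL, keyR, comp_mul, Category.assoc, μ_fst, μ_snd_assoc, lift_fst,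
      lift_snd_assoc] at h1
    exact h1

end Groth.Agent.Lib.Helper70.SubGrp
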