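import Mathlib
import Groth.Agent.Lib.Helper70.FinFixA

/-!
# The locus over which a finitely generated ideal of a finite projective algebra dies (helper70)
-/

set_option autoImplicit false
universe u
open TensorProduct

namespace Groth.Agent.Lib.Helper70.TranspA

variable {R : Type u} [CommRing R] {A : Type u} [CommRing A] [Algebra R A]
  [Module.Finite R A] [Module.Projective R A]

/-- a finitely generated ideal `I` of a finite projective `R`-algebra `A` dies in `A ⊗ R'` iff a
finitely generated ideal of `R` dies in `R'`. -/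
theorem exists_ideal (I : Ideal A) (hI : I.FG) :
    ∃ c : Ideal R, c.FG ∧ ∀ (R' : Type u) [CommRing R'] [Algebra R R'],
      c ≤ RingHom.ker (algebraMap R R') ↔ ∀ x ∈ I, x ⊗ₜ[R] (1 : R') = 0 := by
  classical
  obtain ⟨n, f, g, -, -, hfg⟩ := Module.Finite.exists_comp_eq_id_of_projective R A
  obtain ⟨s, hs⟩ := hI
  refine ⟨Ideal.span (((s ×ˢ (Finset.univ : Finset (Fin n))).image
    (fun q => g q.1 q.2) : Finset R) : Set R), ⟨_, rfl⟩, fun R' _ _ => ?_⟩
  constructor
  · intro h
    have key : ∀ x ∈ s, x ⊗ₜ[R] (1 : R') = 0 := by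
      intro x hx
      have hz : x = f (g x) := by
        have := LinearMap.congr_fun hfg x
        simpa using this.symm
      rw [hz, LinearMap.pi_apply_eq_sum_univ, TensorProduct.sum_tmul]
      apply Finset.sum_eq_zero
      intro j _
      have hmem : g x j ∈ RingHom.ker (algebraMap R R') := by
        apply h
        apply Ideal.subset_span
        rw [Finset.mem_coe]
        exact Finset.mem_image.mpr ⟨(x, j), Finset.mem_product.mpr ⟨hx, Finset.mem_univ _⟩, rfl⟩
      rw [RingHom.mem_ker] at hmem
      rw [TensorProduct.smul_tmul, Algebra.smul_def, mul_one, hmem, TensorProduct.tmul_zero]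
    intro x hx
    rw [← hs] at hx
    induction hx using Submodule.span_induction with
    | mem y hy => exact key y hy
    | zero => exact TensorProduct.zero_tmul _ _
    | add y z _ _ hy hz => rw [TensorProduct.add_tmul, hy, hz, add_zero]
    | smul a y _ hy =>
      have : (a • y) ⊗ₜ[R] (1 : R') = (a ⊗ₜ[R] (1 : R')) * (y ⊗ₜ[R] (1 : R')) := by
        rw [Algebra.TensorProduct.tmul_mul_tmul, mul_one, smul_eq_mul]
      rw [this, hy, mul_zero]
  · intro h
    rw [Ideal.span_le]
    intro r hr
    rw [Finset.mem_coe] at hr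
    obtain ⟨⟨x, j⟩, hxj, rfl⟩ := Finset.mem_image.mp hr
    rw [SetLike.mem_coe, RingHom.mem_ker]
    have hxs : x ∈ s := (Finset.mem_product.mp hxj).1
    have h1 := h x (by rw [← hs]; exact Ideal.subset_span hxs)
    rw [FinFixA.tmul_one_eq_zero_iff] at h1
    exact h1 ((LinearMap.proj j).comp g)

end Groth.Agent.Lib.Helper70.TranspA
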