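import Mathlib
import Groth.Agent.Lib.Helper70.TranspA

/-!
# The locus over which a finite locally free scheme lies in a closed subscheme of finite
presentation: affine case (helper70)
-/

set_option autoImplicit false
universe u
open CategoryTheory Limits AlgebraicGeometry TensorProduct

namespace Groth.Agent.Lib.Helper70.TranspB

open Groth.Agent.Lib.Helper70.TranspA

/-- the case of spectra. -/
theorem spec_core (R A C : CommRingCat.{u}) (φ : R ⟶ A) (π : A ⟶ C)
    (hπ : Function.Surjective π.hom) (hker : (RingHom.ker π.hom).FG)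
    (hfin : letI := φ.hom.toAlgebra; Module.Finite R A)
    (hproj : letI := φ.hom.toAlgebra; Module.Projective R A) :
    ∃ c : Ideal R, c.FG ∧ ∀ (R' : CommRingCat.{u}) (ψ : R ⟶ R'),
      (∃ m : pullback (Spec.map φ) (Spec.map ψ) ⟶ Spec C,
        m ≫ Spec.map π = pullback.fst (Spec.map φ) (Spec.map ψ)) ↔ c ≤ RingHom.ker ψ.hom := by
  let algA : Algebra R A := φ.hom.toAlgebra
  have : Module.Finite R A := hfin
  have : Module.Projective R A := hproj
  obtain ⟨c, hcfg, hc⟩ := exists_ideal (R := R) (RingHom.ker π.hom) hker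
  refine ⟨c, hcfg, fun R' ψ => ?_⟩
  let algR' : Algebra R R' := ψ.hom.toAlgebra
  have hPB : IsPullback
      (Spec.map (CommRingCat.ofHom (S := A ⊗[R] R') Algebra.TensorProduct.includeLeftRingHom))
      (Spec.map (CommRingCat.ofHom (S := A ⊗[R] R') Algebra.TensorProduct.includeRight.toRingHom))
      (Spec.map φ) (Spec.map ψ) :=
    isPullback_SpecMap_of_isPushout _ _ _ _ (CommRingCat.isPushout_tensorProduct R A R')
  have h1 : (∃ m : pullback (Spec.map φ) (Spec.map ψ) ⟶ Spec C,
      m ≫ Spec.map π = pullback.fst (Spec.map φ) (Spec.map ψ)) ↔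
      ∃ μ : C ⟶ CommRingCat.of (A ⊗[R] R'), π ≫ μ =
        CommRingCat.ofHom (S := A ⊗[R] R') Algebra.TensorProduct.includeLeftRingHom := by
    constructor
    · rintro ⟨m, hm⟩
      refine ⟨Spec.preimage (hPB.isoPullback.hom ≫ m), ?_⟩
      apply Spec.map_injective
      rw [Spec.map_comp, Spec.map_preimage, Category.assoc, hm, IsPullback.isoPullback_hom_fst]
    · rintro ⟨μ, hμ⟩
      refine ⟨hPB.isoPullback.inv ≫ Spec.map μ, ?_⟩
      rw [Category.assoc, ← Spec.map_comp, hμ, IsPullback.isoPullback_inv_fst]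
  rw [h1, show RingHom.ker ψ.hom = RingHom.ker (algebraMap R R') from rfl, hc R']
  constructor
  · rintro ⟨μ, hμ⟩ x hx
    have h2 := congrArg (fun f => f.hom x) hμ
    change μ.hom (π.hom x) = x ⊗ₜ[R] (1 : R') at h2
    rw [← h2, (RingHom.mem_ker).mp hx, map_zero]
  · intro h
    let g : {g : A →+* A ⊗[R] R' // RingHom.ker π.hom ≤ RingHom.ker g} :=
      ⟨Algebra.TensorProduct.includeLeftRingHom, fun x hx => (RingHom.mem_ker).mpr (h x hx)⟩
    refine ⟨CommRingCat.ofHom (π.hom.liftOfSurjective hπ g), ?_⟩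
    ext x
    exact RingHom.liftOfRightInverse_comp_apply _ _ (Function.rightInverse_surjInv hπ) g x

/-- the case of affine schemes. -/
theorem affine_core {R : CommRingCat.{u}} {P W : Scheme.{u}} [IsAffine P]
    (p : P ⟶ Spec R) [IsFinite p] [Flat p] [LocallyOfFinitePresentation p]
    (j : W ⟶ P) [IsClosedImmersion j] [LocallyOfFinitePresentation j] :
    ∃ c : Ideal R, c.FG ∧ ∀ (R' : CommRingCat.{u}) (ψ : R ⟶ R'),
      (∃ m : pullback p (Spec.map ψ) ⟶ W, m ≫ j = pullback.fst p (Spec.map ψ)) ↔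
        c ≤ RingHom.ker ψ.hom := by
  have hW : IsAffine W := (IsClosedImmersion.isAffine_surjective_of_isAffine j).1
  have hsurj : Function.Surjective j.appTop.hom :=
    (IsClosedImmersion.isAffine_surjective_of_isAffine j).2
  obtain ⟨φ, hφ⟩ : ∃ φ : R ⟶ Γ(P, ⊤), Spec.map φ = P.isoSpec.inv ≫ p :=
    ⟨Spec.preimage _, Spec.map_preimage _⟩
  have hj : Spec.map j.appTop = W.isoSpec.inv ≫ j ≫ P.isoSpec.hom := by
    rw [← Scheme.isoSpec_hom_naturality, Iso.inv_hom_id_assoc]
  have hfin : IsFinite (Spec.map φ) := by rw [hφ]; infer_instance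
  have hflat : Flat (Spec.map φ) := by rw [hφ]; infer_instance
  have hfp : LocallyOfFinitePresentation (Spec.map φ) := by rw [hφ]; infer_instance
  have hjfp : LocallyOfFinitePresentation (Spec.map j.appTop) := by rw [hj]; infer_instance
  rw [IsFinite.SpecMap_iff] at hfin
  rw [Flat.SpecMap_iff] at hflat
  rw [LocallyOfFinitePresentation.SpecMap_iff] at hfp hjfp
  have hproj : letI := φ.hom.toAlgebra; Module.Projective R Γ(P, ⊤) := by
    let _ := φ.hom.toAlgebra
    have : Module.Finite R Γ(P, ⊤) := hfin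
    have : Module.Flat R Γ(P, ⊤) := hflat
    have : Algebra.FinitePresentation R Γ(P, ⊤) := hfp
    have : Module.FinitePresentation R Γ(P, ⊤) :=
      Module.FinitePresentation.of_finite_of_finitePresentation R Γ(P, ⊤)
    exact Module.Flat.projective_of_finitePresentation
  have hker : (RingHom.ker j.appTop.hom).FG := by
    let _ : Algebra Γ(P, ⊤) Γ(W, ⊤) := j.appTop.hom.toAlgebra
    have : Algebra.FinitePresentation Γ(P, ⊤) Γ(W, ⊤) := hjfp
    exact Algebra.FinitePresentation.ker_fG_of_surjective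
      (Algebra.ofId Γ(P, ⊤) Γ(W, ⊤)) hsurj
  obtain ⟨c, hcfg, hc⟩ := spec_core R Γ(P, ⊤) Γ(W, ⊤) φ j.appTop hsurj hker hfin hproj
  refine ⟨c, hcfg, fun R' ψ => ?_⟩
  rw [← hc R' ψ]
  have hp : p = P.isoSpec.hom ≫ Spec.map φ := by rw [hφ, Iso.hom_inv_id_assoc]
  have hj' : j ≫ P.isoSpec.hom = W.isoSpec.hom ≫ Spec.map j.appTop := by
    rw [hj, Iso.hom_inv_id_assoc]
  constructor
  · rintro ⟨m, hm⟩
    obtain ⟨l, hl⟩ : ∃ l : pullback (Spec.map φ) (Spec.map ψ) ⟶ pullback p (Spec.map ψ),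
        l ≫ pullback.fst p (Spec.map ψ) =
          pullback.fst (Spec.map φ) (Spec.map ψ) ≫ P.isoSpec.inv :=
      ⟨pullback.lift (pullback.fst _ _ ≫ P.isoSpec.inv) (pullback.snd _ _) (by
        rw [Category.assoc, ← hφ, pullback.condition]), pullback.lift_fst _ _ _⟩
    refine ⟨l ≫ m ≫ W.isoSpec.hom, ?_⟩
    rw [Category.assoc, Category.assoc, ← hj', ← Category.assoc m, hm, ← Category.assoc, hl,
      Category.assoc, Iso.inv_hom_id, Category.comp_id]
  · rintro ⟨m, hm⟩
    obtain ⟨l, hl⟩ : ∃ l : pullback p (Spec.map ψ) ⟶ pullback (Spec.map φ) (Spec.map ψ),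
        l ≫ pullback.fst (Spec.map φ) (Spec.map ψ) =
          pullback.fst p (Spec.map ψ) ≫ P.isoSpec.hom :=
      ⟨pullback.lift (pullback.fst _ _ ≫ P.isoSpec.hom) (pullback.snd _ _) (by
        rw [Category.assoc, ← hp, pullback.condition]), pullback.lift_fst _ _ _⟩
    refine ⟨l ≫ m ≫ W.isoSpec.inv, ?_⟩
    have e : W.isoSpec.inv ≫ j = Spec.map j.appTop ≫ P.isoSpec.inv := by
      rw [hj]; simp
    rw [Category.assoc, Category.assoc, e, ← Category.assoc m, hm, ← Category.assoc, hl,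
      Category.assoc, Iso.hom_inv_id, Category.comp_id]

end Groth.Agent.Lib.Helper70.TranspB
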