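import Mathlib
import Groth.Agent.Lib.Helper70.WeilK
import Groth.Agent.Lib.Helper70.TranspB

/-!
# The locus over which a finite locally free scheme lies in a closed subscheme of finite
presentation is a closed subscheme of finite presentation (helper70)
-/

set_option autoImplicit false
universe u
open CategoryTheory Limits AlgebraicGeometry

namespace Groth.Agent.Lib.Helper70.TranspC

open Groth.Agent.Lib.Helper70.WeilG Groth.Agent.Lib.Helper70.WeilK Groth.Agent.Lib.Helper70.TranspB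

variable {B P W : Scheme.{u}} (p : P ⟶ B) (j : W ⟶ P)

/-- the base change of `P` along `t` lies in `W`. -/
def Good ⦃T : Scheme.{u}⦄ (t : T ⟶ B) : Prop :=
  ∃ m : pullback p t ⟶ W, m ≫ j = pullback.fst p t

variable {p j}

theorem Good.comp {T T' : Scheme.{u}} {t : T ⟶ B} (h : Good p j t) (g : T' ⟶ T) :
    Good p j (g ≫ t) := by
  obtain ⟨m, hm⟩ : ∃ m : pullback p (g ≫ t) ⟶ pullback p t,
      m ≫ pullback.fst p t = pullback.fst p (g ≫ t) :=
    ⟨pullback.lift (pullback.fst _ _) (pullback.snd _ _ ≫ g)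
      (by rw [Category.assoc]; exact pullback.condition), pullback.lift_fst _ _ _⟩
  obtain ⟨l, hl⟩ := h
  exact ⟨m ≫ l, by rw [Category.assoc, hl, hm]⟩

theorem factor_local [Mono j] {Q : Scheme.{u}} (h : Q ⟶ P) (𝒱 : Scheme.OpenCover.{u} Q)
    (H : ∀ i, ∃ l : 𝒱.X i ⟶ W, l ≫ j = 𝒱.f i ≫ h) : ∃ l : Q ⟶ W, l ≫ j = h := by
  choose l hl using H
  refine ⟨𝒱.glueMorphisms l ?_, ?_⟩
  · intro a b
    rw [← cancel_mono j, Category.assoc, Category.assoc, hl a, hl b,
      ← Category.assoc, ← Category.assoc, pullback.condition]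
  · apply 𝒱.hom_ext
    intro i
    rw [← Category.assoc, Scheme.Cover.ι_glueMorphisms, hl i]

theorem Good.of_openCover [Mono j] {T : Scheme.{u}} (t : T ⟶ B) (𝒰 : Scheme.OpenCover.{u} T)
    (h : ∀ i, Good p j (𝒰.f i ≫ t)) : Good p j t := by
  apply factor_local (pullback.fst p t) (𝒰.pullback₁ (pullback.snd p t))
  intro (i : 𝒰.I₀)
  change ∃ l : pullback (pullback.snd p t) (𝒰.f i) ⟶ W,
    l ≫ j = pullback.fst (pullback.snd p t) (𝒰.f i) ≫ pullback.fst p t
  obtain ⟨l, hl⟩ := h i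
  obtain ⟨m, hm⟩ : ∃ m : pullback (pullback.snd p t) (𝒰.f i) ⟶ pullback p (𝒰.f i ≫ t),
      m ≫ pullback.fst p (𝒰.f i ≫ t) =
        pullback.fst (pullback.snd p t) (𝒰.f i) ≫ pullback.fst p t :=
    ⟨pullback.lift (pullback.fst _ _ ≫ pullback.fst p t) (pullback.snd _ _) (by
      rw [Category.assoc, pullback.condition, ← Category.assoc, pullback.condition,
        Category.assoc]), pullback.lift_fst _ _ _⟩
  exact ⟨m ≫ l, by rw [Category.assoc, hl, hm]⟩

section Affine

variable (p j) [IsFinite p] [Flat p] [LocallyOfFinitePresentation p] [IsClosedImmersion j]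
  [LocallyOfFinitePresentation j] (U : B.affineOpens)

theorem affine_rep : ∃ c : Ideal Γ(B, U), c.FG ∧
    ∀ (R' : CommRingCat.{u}) (ψ : Γ(B, U) ⟶ R'),
      Good p j (Spec.map ψ ≫ U.2.fromSpec) ↔ c ≤ RingHom.ker ψ.hom := by
  obtain ⟨u, hu⟩ : ∃ u : Spec Γ(B, U) ⟶ B, u = U.2.fromSpec := ⟨_, rfl⟩
  rw [← hu]
  obtain ⟨pU, hpU⟩ : ∃ pU : pullback p u ⟶ Spec Γ(B, U), pU = pullback.snd p u := ⟨_, rfl⟩
  obtain ⟨jU, hjU⟩ : ∃ jU : pullback j (pullback.fst p u) ⟶ pullback p u,
      jU = pullback.snd j (pullback.fst p u) := ⟨_, rfl⟩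
  have i1 : IsFinite pU := by rw [hpU]; infer_instance
  have i2 : Flat pU := by rw [hpU]; infer_instance
  have i3 : LocallyOfFinitePresentation pU := by rw [hpU]; infer_instance
  have i4 : IsClosedImmersion jU := by rw [hjU]; infer_instance
  have i5 : LocallyOfFinitePresentation jU := by rw [hjU]; infer_instance
  have i6 : IsAffine (pullback p u) := isAffine_of_isAffineHom pU
  have hcP : pullback.fst p u ≫ p = pU ≫ u := by rw [hpU]; exact pullback.condition
  obtain ⟨c, hcfg, hc⟩ := affine_core pU jU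
  refine ⟨c, hcfg, fun R' ψ => ?_⟩
  rw [← hc R' ψ]
  unfold Good
  constructor
  · rintro ⟨m, hm⟩
    obtain ⟨n, hn⟩ : ∃ n : pullback pU (Spec.map ψ) ⟶ pullback p (Spec.map ψ ≫ u),
        n ≫ pullback.fst p (Spec.map ψ ≫ u) = pullback.fst pU (Spec.map ψ) ≫ pullback.fst p u :=
      ⟨pullback.lift (pullback.fst _ _ ≫ pullback.fst p u) (pullback.snd _ _) (by
        rw [Category.assoc, hcP, ← Category.assoc, pullback.condition, Category.assoc]),
        pullback.lift_fst _ _ _⟩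
    refine ⟨pullback.lift (n ≫ m) (pullback.fst pU (Spec.map ψ)) (by
      rw [Category.assoc, hm, hn]), ?_⟩
    rw [hjU, pullback.lift_snd]
  · rintro ⟨m, hm⟩
    obtain ⟨n₀, hn₀1, hn₀2⟩ : ∃ n₀ : pullback p (Spec.map ψ ≫ u) ⟶ pullback p u,
        n₀ ≫ pullback.fst p u = pullback.fst p (Spec.map ψ ≫ u) ∧
        n₀ ≫ pU = pullback.snd p (Spec.map ψ ≫ u) ≫ Spec.map ψ := by
      refine ⟨pullback.lift (pullback.fst _ _) (pullback.snd _ _ ≫ Spec.map ψ) (by
        rw [Category.assoc]; exact pullback.condition), pullback.lift_fst _ _ _, ?_⟩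
      rw [hpU]; exact pullback.lift_snd _ _ _
    obtain ⟨n, hn⟩ : ∃ n : pullback p (Spec.map ψ ≫ u) ⟶ pullback pU (Spec.map ψ),
        n ≫ pullback.fst pU (Spec.map ψ) = n₀ :=
      ⟨pullback.lift n₀ (pullback.snd _ _) hn₀2, pullback.lift_fst _ _ _⟩
    refine ⟨n ≫ m ≫ pullback.fst j (pullback.fst p u), ?_⟩
    rw [Category.assoc, Category.assoc, pullback.condition, ← hjU, ← Category.assoc m, hm,
      ← Category.assoc, hn, hn₀1]

end Affine

/-- **The locus over which a finite locally free scheme lies in a closed subscheme.** -/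
theorem exists_closed_factor (p : P ⟶ B) (j : W ⟶ P)
    [IsFinite p] [Flat p] [LocallyOfFinitePresentation p] [IsClosedImmersion j]
    [LocallyOfFinitePresentation j] :
    ∃ (Z : Scheme.{u}) (i : Z ⟶ B), IsClosedImmersion i ∧ LocallyOfFinitePresentation i ∧
      ∀ ⦃T : Scheme.{u}⦄ (t : T ⟶ B), (∃ l : T ⟶ Z, l ≫ i = t) ↔ Good p j t :=
  exists_closed_fp (Good p j) (fun _ _ _ g h => h.comp g)
    (fun _ t 𝒰 h => Good.of_openCover t 𝒰 h) (affine_rep p j)

end Groth.Agent.Lib.Helper70.TranspC
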