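import Mathlib
import Groth.Agent.Lib.Helper70.TranspC

/-!
# `Over S` form: the locus in `G` over which `u : G ⊗ Y ⟶ X` lands in a closed subscheme `Y'` of
`X`, `Y` finite locally free (helper70)
-/

set_option autoImplicit false
universe u
open CategoryTheory Limits AlgebraicGeometry MonoidalCategory CartesianMonoidalCategory

namespace Groth.Agent.Lib.Helper70.TranspD

open Groth.Agent.Lib.Helper70.TranspC

variable {S : Scheme.{u}} {G Y X Y' : Over S}

theorem exists_closed_over (u : G ⊗ Y ⟶ X) (y' : Y' ⟶ X)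
    [IsFinite Y.hom] [Flat Y.hom] [LocallyOfFinitePresentation Y.hom]
    [IsClosedImmersion y'.left] [LocallyOfFinitePresentation y'.left] :
    ∃ (Z : Over S) (i : Z ⟶ G), IsClosedImmersion i.left ∧ LocallyOfFinitePresentation i.left ∧
      ∀ (T : Over S) (g : T ⟶ G), (∃ z : T ⟶ Z, z ≫ i = g) ↔
        ∀ (T' : Over S) (t : T' ⟶ T) (a : T' ⟶ Y), ∃ a' : T' ⟶ Y',
          lift (t ≫ g) a ≫ u = a' ≫ y' := by
  obtain ⟨p, hp⟩ : ∃ p : (G ⊗ Y).left ⟶ G.left, p = (fst G Y).left := ⟨_, rfl⟩
  have hp' : p = pullback.fst G.hom Y.hom := hp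
  have i1 : IsFinite p := by
    rw [hp']; exact MorphismProperty.pullback_fst (P := @IsFinite) _ _ inferInstance
  have i2 : Flat p := by
    rw [hp']; exact MorphismProperty.pullback_fst (P := @Flat) _ _ inferInstance
  have i3 : LocallyOfFinitePresentation p := by
    rw [hp']
    exact MorphismProperty.pullback_fst (P := @LocallyOfFinitePresentation) _ _ inferInstance
  obtain ⟨j, hj⟩ : ∃ j : pullback y'.left u.left ⟶ (G ⊗ Y).left,
      j = pullback.snd y'.left u.left := ⟨_, rfl⟩
  have i4 : IsClosedImmersion j := by rw [hj]; infer_instance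
  have i5 : LocallyOfFinitePresentation j := by rw [hj]; infer_instance
  obtain ⟨Z₀, i₀, hi1, hi2, hi3⟩ := exists_closed_factor p j
  refine ⟨Over.mk (i₀ ≫ G.hom), Over.homMk i₀ rfl, hi1, hi2, fun T g => ?_⟩
  have e1 : (∃ z : T ⟶ Over.mk (i₀ ≫ G.hom),
      z ≫ (Over.homMk i₀ rfl : Over.mk (i₀ ≫ G.hom) ⟶ G) = g) ↔
      ∃ l : T.left ⟶ Z₀, l ≫ i₀ = g.left := by
    constructor
    · rintro ⟨z, rfl⟩
      exact ⟨z.left, rfl⟩
    · rintro ⟨l, hl⟩
      refine ⟨Over.homMk l ?_, ?_⟩
      · change l ≫ i₀ ≫ G.hom = T.hom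
        rw [← Category.assoc, hl, Over.w]
      · ext1
        exact hl
  rw [e1, hi3 g.left]
  unfold Good
  constructor
  · rintro ⟨m, hm⟩ T' t a
    have hq : (lift (t ≫ g) a).left ≫ p = t.left ≫ g.left := by
      rw [hp, ← Over.comp_left, lift_fst, Over.comp_left]
    obtain ⟨q, hq1⟩ : ∃ q : T'.left ⟶ pullback p g.left,
        q ≫ pullback.fst p g.left = (lift (t ≫ g) a).left :=
      ⟨pullback.lift (lift (t ≫ g) a).left t.left hq, pullback.lift_fst _ _ _⟩
    have h1 : (q ≫ m ≫ pullback.fst y'.left u.left) ≫ y'.left =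
        (lift (t ≫ g) a).left ≫ u.left := by
      rw [Category.assoc, Category.assoc, pullback.condition, ← hj, ← Category.assoc m, hm,
        ← Category.assoc, hq1]
    have h2 : (q ≫ m ≫ pullback.fst y'.left u.left) ≫ Y'.hom = T'.hom := by
      rw [← Over.w y', ← Category.assoc, h1, Category.assoc, Over.w, Over.w]
    refine ⟨Over.homMk (q ≫ m ≫ pullback.fst y'.left u.left) h2, ?_⟩
    ext1
    rw [Over.comp_left, Over.comp_left]
    exact h1.symm
  · intro h
    have hc : pullback.fst p g.left ≫ p = pullback.snd p g.left ≫ g.left := pullback.condition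
    let T' : Over S := Over.mk (pullback.snd p g.left ≫ T.hom)
    let t : T' ⟶ T := Over.homMk (pullback.snd p g.left) rfl
    have hw : pullback.fst p g.left ≫ (G ⊗ Y).hom = pullback.snd p g.left ≫ T.hom := by
      have h1 : (G ⊗ Y).hom = p ≫ G.hom := by rw [hp, Over.w]
      rw [h1, ← Category.assoc, hc, Category.assoc, Over.w]
    let w : T' ⟶ G ⊗ Y := Over.homMk (pullback.fst p g.left) hw
    have hwf : w ≫ fst G Y = t ≫ g := by
      ext1
      rw [Over.comp_left, Over.comp_left, ← hp]
      exact hc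
    have hwl : w = lift (t ≫ g) (w ≫ snd G Y) := by
      apply CartesianMonoidalCategory.hom_ext
      · rw [lift_fst, hwf]
      · rw [lift_snd]
    obtain ⟨a', ha'⟩ := h T' t (w ≫ snd G Y)
    rw [← hwl] at ha'
    have h3 : a'.left ≫ y'.left = pullback.fst p g.left ≫ u.left := by
      have := congrArg (fun m => m.left) ha'
      simp only [Over.comp_left] at this
      exact this.symm
    refine ⟨pullback.lift a'.left (pullback.fst p g.left) h3, ?_⟩
    rw [hj, pullback.lift_snd]

end Groth.Agent.Lib.Helper70.TranspD
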