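import Mathlib
import Groth.Agent.Lib.Helper70.RingAWN

/-!
# Finite extensions of integrally closed domains with purely inseparable fraction field extension are
universal homeomorphisms on spectra (helper70, S17689)
-/

universe u

namespace Groth.Agent.Lib.Helper70

open CategoryTheory AlgebraicGeometry

namespace SpecUH

/-- if `q` is the exponential characteristic of a field `K ⊇ R`, then `q`-power maps are injective on
any field receiving a map from `R`. -/
theorem pow_expChar_pow_inj_of_ringHom {R K K' : Type*} [CommRing R] [Field K] [Field K']
    (i : R →+* K) (hi : Function.Injective i) (g : R →+* K') (q : ℕ) [hq : ExpChar K q] (n : ℕ)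
    {a b : K'} (h : a ^ q ^ n = b ^ q ^ n) : a = b := by
  cases hq with
  | zero => simpa using h
  | prime hprime =>
    have h0 : (q : R) = 0 := by
      apply hi
      rw [map_natCast, map_zero]
      exact CharP.cast_eq_zero K q
    have h1 : (q : K') = 0 := by
      have := congrArg g h0
      rwa [map_natCast, map_zero] at this
    have hdvd : ringChar K' ∣ q := ringChar.dvd h1
    have hne : ringChar K' ≠ 1 := CharP.ringChar_ne_one
    have heq : ringChar K' = q := (Nat.Prime.eq_one_or_self_of_dvd hprime _ hdvd).resolve_left hne
    have : CharP K' q := heq ▸ ringChar.charP K'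
    have : ExpChar K' q := ExpChar.prime hprime
    exact iterateFrobenius_inj K' q n h

/-- S17689 -/
theorem isUnivHomeo_spec_of_finite_dvr_extension_purelyInseparable
    (R S K L : Type u) [CommRing R] [IsDomain R] [IsIntegrallyClosed R]
    [CommRing S] [IsDomain S] [Algebra R S] [Module.Finite R S] [FaithfulSMul R S]
    [Field K] [Field L] [Algebra R K] [IsFractionRing R K] [Algebra S L] [IsFractionRing S L]
    [Algebra K L] [Algebra R L] [IsScalarTower R S L] [IsScalarTower R K L]
    [IsPurelyInseparable K L] :
    FlatMor.IsUnivHomeo (Spec.map (CommRingCat.ofHom (algebraMap R S))) := by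
  rw [isUnivHomeo_SpecMap_iff]
  have hint : Algebra.IsIntegral R S := Algebra.IsIntegral.of_finite R S
  refine ⟨fun x => Algebra.IsIntegral.isIntegral x, ?_, ?_⟩
  · have : RingHom.ker (algebraMap R S) = ⊥ :=
      (RingHom.injective_iff_ker_eq_bot _).mp (FaithfulSMul.algebraMap_injective R S)
    rw [this]; exact bot_le
  · intro K' _ g₁ g₂ hg
    ext x
    obtain ⟨n, y, hy⟩ := IsPurelyInseparable.pow_mem K (ringExpChar K) (algebraMap S L x)
    -- `y` is integral over `R`, hence in `R`
    have hxint : IsIntegral R (x ^ ringExpChar K ^ n) := Algebra.IsIntegral.isIntegral _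
    have hyint : IsIntegral R y := by
      have h1 : IsIntegral R (algebraMap K L y) := by
        rw [hy, ← map_pow]
        exact hxint.algebraMap
      exact (isIntegral_algebraMap_iff (algebraMap K L).injective).mp h1
    obtain ⟨r, hr⟩ := IsIntegrallyClosed.isIntegral_iff.mp hyint
    have hxr : x ^ ringExpChar K ^ n = algebraMap R S r := by
      apply IsFractionRing.injective S L
      rw [map_pow, ← hy, ← hr, ← IsScalarTower.algebraMap_apply, ← IsScalarTower.algebraMap_apply]
    have hpow : g₁ x ^ ringExpChar K ^ n = g₂ x ^ ringExpChar K ^ n := by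
      rw [← map_pow, ← map_pow, hxr]
      exact congrFun (congrArg DFunLike.coe hg) r
    exact pow_expChar_pow_inj_of_ringHom (algebraMap R K) (IsFractionRing.injective R K)
      (g₁.comp (algebraMap R S)) (ringExpChar K) n hpow

end SpecUH

end Groth.Agent.Lib.Helper70
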