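import Mathlib
import Groth.Agent.Lib.Helper70.SpecUnivHomeo

/-!
# Factoring through a universal homeomorphism onto a reduced scheme is local on the target (helper70)
-/

universe u

namespace Groth.Agent.Lib.Helper70

open CategoryTheory AlgebraicGeometry Limits

namespace SpecUH

/-- S13835 -/
theorem exists_factor_of_univHomeo_of_locally_factors {T' T Y : Scheme.{u}} (p : T' ⟶ T)
    (hp : FlatMor.IsUnivHomeo p) [IsReduced T] [Y.IsSeparated] (f' : T' ⟶ Y)
    {ι : Type u} (U : ι → T.affineOpens) (hU : ⨆ i, (U i : T.Opens) = ⊤)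
    (hloc : ∀ i, ∃ fi : ((U i : T.Opens) : Scheme.{u}) ⟶ Y,
      (p ⁻¹ᵁ (U i : T.Opens)).ι ≫ f' = (p ∣_ (U i : T.Opens)) ≫ fi) :
    ∃ f : T ⟶ Y, p ≫ f = f' := by
  obtain ⟨-, -, hsurj⟩ := (isUnivHomeo_iff p).mp hp
  choose fi hfi using hloc
  have hcov : TopologicalSpace.IsOpenCover (fun i => (U i : T.Opens)) := hU
  let 𝒰 : T.OpenCover := T.openCoverOfIsOpenCover (fun i => (U i : T.Opens)) hcov
  have key : ∀ i (W : Scheme.{u}) (a : W ⟶ T') (b : W ⟶ ((U i : T.Opens) : Scheme.{u}))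
      (hab : a ≫ p = b ≫ (U i : T.Opens).ι), b ≫ fi i = a ≫ f' := by
    intro i W a b hab
    have hpb := isPullback_morphismRestrict p (U i : T.Opens)
    have h1 : hpb.lift b a hab.symm ≫ (p ⁻¹ᵁ (U i : T.Opens)).ι = a := hpb.lift_snd b a hab.symm
    have h2 : hpb.lift b a hab.symm ≫ (p ∣_ (U i : T.Opens)) = b := hpb.lift_fst b a hab.symm
    rw [← h2, Category.assoc, ← hfi i, ← Category.assoc, h1]
  have compat : ∀ i j : ι, pullback.fst (𝒰.f i) (𝒰.f j) ≫ fi i = pullback.snd (𝒰.f i) (𝒰.f j) ≫ fi j := by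
    intro i j
    have : IsReduced (pullback (𝒰.f i) (𝒰.f j)) :=
      isReduced_of_isOpenImmersion (pullback.fst (𝒰.f i) (𝒰.f j) ≫ 𝒰.f i)
    let g : pullback (𝒰.f i) (𝒰.f j) ⟶ T := pullback.fst (𝒰.f i) (𝒰.f j) ≫ 𝒰.f i
    have : Surjective (pullback.snd p g) := inferInstance
    apply ext_of_isDominant (pullback.snd p g)
    have e1 : (pullback.snd p g ≫ pullback.fst (𝒰.f i) (𝒰.f j)) ≫ fi i = pullback.fst p g ≫ f' := by
      apply key
      rw [pullback.condition]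
      exact (Category.assoc _ _ _).symm
    have e2 : (pullback.snd p g ≫ pullback.snd (𝒰.f i) (𝒰.f j)) ≫ fi j = pullback.fst p g ≫ f' := by
      apply key
      rw [pullback.condition]
      have hc : pullback.fst (𝒰.f i) (𝒰.f j) ≫ 𝒰.f i = pullback.snd (𝒰.f i) (𝒰.f j) ≫ 𝒰.f j :=
        pullback.condition
      calc pullback.snd p g ≫ g
          = pullback.snd p g ≫ (pullback.snd (𝒰.f i) (𝒰.f j) ≫ 𝒰.f j) := by rw [← hc]
        _ = _ := (Category.assoc _ _ _).symm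
    rw [← Category.assoc, ← Category.assoc, e1, e2]
  refine ⟨𝒰.glueMorphisms fi compat, ?_⟩
  have hcov' : TopologicalSpace.IsOpenCover (fun i => p ⁻¹ᵁ (U i : T.Opens)) := by
    change ⨆ i, p ⁻¹ᵁ (U i : T.Opens) = ⊤
    rw [← Scheme.Hom.preimage_iSup, hU]
    rfl
  apply Scheme.Cover.hom_ext (T'.openCoverOfIsOpenCover _ hcov')
  intro i
  change (p ⁻¹ᵁ (U i : T.Opens)).ι ≫ p ≫ _ = (p ⁻¹ᵁ (U i : T.Opens)).ι ≫ f'
  rw [hfi i, ← morphismRestrict_ι_assoc]
  congr 1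
  exact 𝒰.ι_glueMorphisms fi compat i

end SpecUH

end Groth.Agent.Lib.Helper70
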