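import Mathlib
import Groth.Agent.S1373

/-!
# Universally open from "components dominate" after finite type base change
-/

set_option autoImplicit false

namespace Groth.Agent.Lib.Helper70.UnivOpenComp

universe u

open AlgebraicGeometry CategoryTheory Limits TopologicalSpace

lemma eq_of_closure_eq_univ {T : Type*} [TopologicalSpace T] [T0Space T] {a b : T}
    (ha : closure {a} = Set.univ) (hb : closure {b} = Set.univ) : a = b := by
  have h1 : a ⤳ b := specializes_iff_mem_closure.mpr (ha ▸ Set.mem_univ b)
  have h2 : b ⤳ a := specializes_iff_mem_closure.mpr (hb ▸ Set.mem_univ a)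
  exact (h1.antisymm h2).eq

/-- Lifting a generization through a pullback along a closed immersion onto `closure {y''}`. -/
theorem exists_generalization {X' Y' W P : Scheme.{u}} (f' : X' ⟶ Y') (i : W ⟶ Y')
    (q : P ⟶ X') (s : P ⟶ W) (hP : IsPullback q s f' i) [IsClosedImmersion i]
    (hZ : ∀ Z ∈ irreducibleComponents (P : Type u), Dense (s.base '' Z))
    (x' : X') (y'' : Y') (hy : closure {y''} = Set.range i.base)
    (hx : y'' ⤳ f'.base x') : ∃ x'' : X', x'' ⤳ x' ∧ f'.base x'' = y'' := by
  have h1 : f'.base x' ∈ Set.range i.base := by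
    rw [← hy]; exact specializes_iff_mem_closure.mp hx
  obtain ⟨w0, hw0⟩ := h1
  obtain ⟨z, hz1, hz2⟩ := Groth.Agent.S1373.exists_preimage_of_isPullback hP x' w0 hw0.symm
  obtain ⟨ζ, hζ⟩ := QuasiSober.sober (isIrreducible_irreducibleComponent (x := z))
    isClosed_irreducibleComponent
  have hζz : ζ ⤳ z := by
    rw [specializes_iff_mem_closure, hζ.def]
    exact mem_irreducibleComponent
  have hdense : Dense (s.base '' irreducibleComponent z) :=
    hZ _ (irreducibleComponent_mem_irreducibleComponents z)
  have hsζ : closure {s.base ζ} = Set.univ := by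
    apply Set.eq_univ_of_univ_subset
    rw [← hdense.closure_eq]
    apply closure_minimal _ isClosed_closure
    rw [← hζ.def]
    refine (image_closure_subset_closure_image s.base.hom.2).trans ?_
    rw [Set.image_singleton]
    exact subset_rfl
  have h2 : y'' ∈ Set.range i.base := by
    rw [← hy]; exact subset_closure rfl
  obtain ⟨η, hη⟩ := h2
  have hηcl : closure {η} = Set.univ := by
    rw [i.isClosedEmbedding.isEmbedding.isInducing.closure_eq_preimage_closure_image,
      Set.image_singleton, hη, hy]
    exact Set.preimage_range _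
  have hse : s.base ζ = η := eq_of_closure_eq_univ hsζ hηcl
  refine ⟨q.base ζ, hz1 ▸ hζz.map q.base.hom.2, ?_⟩
  · have : (q ≫ f').base ζ = (s ≫ i).base ζ := by rw [hP.w]
    rw [Scheme.Hom.comp_base, Scheme.Hom.comp_base] at this
    change f'.base (q.base ζ) = i.base (s.base ζ) at this
    rw [this, hse, hη]

theorem universallyOpen_of_components_dominate {X Y : Scheme.{u}} (f : X ⟶ Y)
    [LocallyOfFinitePresentation f]
    (h : ∀ (Y' : Scheme.{u}) (g : Y' ⟶ Y) [IrreducibleSpace Y'] [LocallyOfFiniteType g]
      [QuasiCompact g],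
      ∀ Z ∈ irreducibleComponents (↥(pullback f g) : Type u),
        Dense ((pullback.snd f g).base '' Z)) :
    UniversallyOpen f := by
  rw [Groth.Agent.S1373.result]
  intro n
  have hpb := AffineSpace.isPullback_map (n := ULift.{u} (Fin n)) f
  have hlfp : LocallyOfFinitePresentation (AffineSpace.map (ULift.{u} (Fin n)) f) :=
    MorphismProperty.of_isPullback hpb.flip ‹_›
  apply isOpenMap_of_generalizingMap
  intro x' y'' hx
  let I : (𝔸(ULift.{u} (Fin n); Y)).IdealSheafData :=
    Scheme.IdealSheafData.vanishingIdeal ⟨closure {y''}, isClosed_closure⟩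
  let i : I.subscheme ⟶ 𝔸(ULift.{u} (Fin n); Y) := I.subschemeι
  have hrange : closure {y''} = Set.range i.base := by
    rw [Scheme.IdealSheafData.range_subschemeι, Scheme.IdealSheafData.coe_support_vanishingIdeal]
    rfl
  let g : I.subscheme ⟶ Y := i ≫ 𝔸(ULift.{u} (Fin n); Y) ↘ Y
  have hirr : IrreducibleSpace I.subscheme := by
    have h2 : y'' ∈ Set.range i.base := by
      rw [← hrange]; exact subset_closure rfl
    obtain ⟨η, hη⟩ := h2
    have hηcl : closure {η} = Set.univ := by
      rw [i.isClosedEmbedding.isEmbedding.isInducing.closure_eq_preimage_closure_image,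
        Set.image_singleton, hη, hrange]
      exact Set.preimage_range _
    refine (irreducibleSpace_def _).mpr ?_
    show IsIrreducible (Set.univ : Set I.subscheme)
    rw [← hηcl]
    exact isIrreducible_singleton.closure
  have hg1 : LocallyOfFiniteType g := inferInstance
  have hg2 : QuasiCompact g := inferInstance
  let q : pullback f g ⟶ 𝔸(ULift.{u} (Fin n); X) :=
    hpb.lift (pullback.snd f g ≫ i) (pullback.fst f g) (by
      simp only [Category.assoc]; exact pullback.condition.symm)
  have hq1 : q ≫ AffineSpace.map (ULift.{u} (Fin n)) f = pullback.snd f g ≫ i :=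
    hpb.lift_fst _ _ _
  have hq2 : q ≫ 𝔸(ULift.{u} (Fin n); X) ↘ X = pullback.fst f g := hpb.lift_snd _ _ _
  have hP : IsPullback q (pullback.snd f g) (AffineSpace.map (ULift.{u} (Fin n)) f) i := by
    refine IsPullback.of_right ?_ hq1 hpb.flip
    rw [hq2]
    exact IsPullback.of_hasPullback f g
  exact exists_generalization _ i q _ hP (h _ g) x' y'' hrange hx

end Groth.Agent.Lib.Helper70.UnivOpenComp
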